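import Cfsg.Agent.DS.Nt.JAbs
import Cfsg.Agent.Nodes.RGDFoldSL

/-!
# S3689, S3690, exceptional rows: `SL₂(k)` and its images (helper53)

`ψ : SL₂(k) → Y` has a central kernel; `Inn ψ c j` says that `c` acts on the image as the inner automorphism `j`.
-/

set_option autoImplicit false
set_option linter.unusedVariables false
set_option linter.unusedSimpArgs false

namespace Cfsg.Agent.Cam.Ex.S2

open Matrix Subgroup
open Cfsg.Agent.ChevalleyStructure.SL2Hom (up lo mem_closure_SL2)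
open Cfsg.Agent.Nodes.RGDFoldSL (hS wS coe_hS coe_wS)
open Cfsg.Agent.DS.Nt.JL
open scoped commutatorElement

/-- `SL₂(k)` -/
abbrev SL (k : Type*) [Field k] : Type _ := Matrix.SpecialLinearGroup (Fin 2) k

section mat

variable {k : Type*} [Field k]

theorem ext4 {a b : SL k} (h00 : a.1 0 0 = b.1 0 0) (h01 : a.1 0 1 = b.1 0 1) (h10 : a.1 1 0 = b.1 1 0)
    (h11 : a.1 1 1 = b.1 1 1) : a = b := by
  refine Matrix.SpecialLinearGroup.ext _ _ fun i j => ?_
  fin_cases i <;> fin_cases j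
  exacts [h00, h01, h10, h11]

theorem mul_e (a b : SL k) (i j : Fin 2) : (a * b).1 i j = a.1 i 0 * b.1 0 j + a.1 i 1 * b.1 1 j := by
  show (a.1 * b.1) i j = _
  rw [Matrix.mul_apply, Fin.sum_univ_two]

theorem det_e (a : SL k) : a.1 0 0 * a.1 1 1 - a.1 0 1 * a.1 1 0 = 1 := by
  rw [← Matrix.det_fin_two]; exact a.2

theorem up00 (t : k) : (up t : SL k).1 0 0 = 1 := rfl
theorem up01 (t : k) : (up t : SL k).1 0 1 = t := rfl
theorem up10 (t : k) : (up t : SL k).1 1 0 = 0 := rfl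
theorem up11 (t : k) : (up t : SL k).1 1 1 = 1 := rfl
theorem lo00 (t : k) : (lo t : SL k).1 0 0 = 1 := rfl
theorem lo01 (t : k) : (lo t : SL k).1 0 1 = 0 := rfl
theorem lo10 (t : k) : (lo t : SL k).1 1 0 = t := rfl
theorem lo11 (t : k) : (lo t : SL k).1 1 1 = 1 := rfl
theorem one00 : (1 : SL k).1 0 0 = 1 := rfl
theorem one01 : (1 : SL k).1 0 1 = 0 := rfl
theorem one10 : (1 : SL k).1 1 0 = 0 := rfl
theorem one11 : (1 : SL k).1 1 1 = 1 := rfl

theorem hS00 {t : k} (ht : t ≠ 0) : (hS t : SL k).1 0 0 = t := by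
  have := congrFun (congrFun (coe_hS ht) 0) 0; exact this
theorem hS01 {t : k} (ht : t ≠ 0) : (hS t : SL k).1 0 1 = 0 := by
  have := congrFun (congrFun (coe_hS ht) 0) 1; exact this
theorem hS10 {t : k} (ht : t ≠ 0) : (hS t : SL k).1 1 0 = 0 := by
  have := congrFun (congrFun (coe_hS ht) 1) 0; exact this
theorem hS11 {t : k} (ht : t ≠ 0) : (hS t : SL k).1 1 1 = t⁻¹ := by
  have := congrFun (congrFun (coe_hS ht) 1) 1; exact this
theorem wS00 {t : k} (ht : t ≠ 0) : (wS t : SL k).1 0 0 = 0 := by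
  have := congrFun (congrFun (coe_wS ht) 0) 0; exact this
theorem wS01 {t : k} (ht : t ≠ 0) : (wS t : SL k).1 0 1 = t := by
  have := congrFun (congrFun (coe_wS ht) 0) 1; exact this
theorem wS10 {t : k} (ht : t ≠ 0) : (wS t : SL k).1 1 0 = -t⁻¹ := by
  have := congrFun (congrFun (coe_wS ht) 1) 0; exact this
theorem wS11 {t : k} (ht : t ≠ 0) : (wS t : SL k).1 1 1 = 0 := by
  have := congrFun (congrFun (coe_wS ht) 1) 1; exact this

theorem up_add (s t : k) : (up (s + t) : SL k) = up s * up t := by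
  apply ext4 <;> simp only [mul_e, up00, up01, up10, up11] <;> ring

theorem lo_add (s t : k) : (lo (s + t) : SL k) = lo s * lo t := by
  apply ext4 <;> simp only [mul_e, lo00, lo01, lo10, lo11] <;> ring

theorem up_zero : (up 0 : SL k) = 1 := by
  apply ext4 <;> rfl

theorem lo_zero : (lo 0 : SL k) = 1 := by
  apply ext4 <;> rfl

theorem up_inv (t : k) : (up t : SL k)⁻¹ = up (-t) := by
  rw [inv_eq_iff_mul_eq_one, ← up_add, add_neg_cancel, up_zero]

theorem lo_inv (t : k) : (lo t : SL k)⁻¹ = lo (-t) := by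
  rw [inv_eq_iff_mul_eq_one, ← lo_add, add_neg_cancel, lo_zero]

theorem hS_up {c : k} (hc : c ≠ 0) (t : k) : (hS c : SL k) * up t * (hS c)⁻¹ = up (c ^ 2 * t) := by
  rw [mul_inv_eq_iff_eq_mul]
  apply ext4 <;> simp only [mul_e, up00, up01, up10, up11, hS00 hc, hS01 hc, hS10 hc, hS11 hc] <;> field_simp <;> ring

theorem hS_lo {c : k} (hc : c ≠ 0) (t : k) : (hS c : SL k) * lo t * (hS c)⁻¹ = lo ((c ^ 2)⁻¹ * t) := by
  rw [mul_inv_eq_iff_eq_mul]
  apply ext4 <;> simp only [mul_e, lo00, lo01, lo10, lo11, hS00 hc, hS01 hc, hS10 hc, hS11 hc] <;> field_simp <;> ring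

theorem wS_up (t : k) : (wS 1 : SL k) * up t * (wS 1)⁻¹ = lo (-t) := by
  have h1 : (1 : k) ≠ 0 := one_ne_zero
  rw [mul_inv_eq_iff_eq_mul]
  apply ext4 <;> simp only [mul_e, up00, up01, up10, up11, lo00, lo01, lo10, lo11, wS00 h1, wS01 h1, wS10 h1, wS11 h1] <;>
    simp

theorem wS_lo (t : k) : (wS 1 : SL k) * lo t * (wS 1)⁻¹ = up (-t) := by
  have h1 : (1 : k) ≠ 0 := one_ne_zero
  rw [mul_inv_eq_iff_eq_mul]
  apply ext4 <;> simp only [mul_e, up00, up01, up10, up11, lo00, lo01, lo10, lo11, wS00 h1, wS01 h1, wS10 h1, wS11 h1] <;>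
    simp

theorem mem_center_iff' {a : SL k} : a ∈ center (SL k) ↔ a.1 0 1 = 0 ∧ a.1 1 0 = 0 ∧ a.1 0 0 = a.1 1 1 := by
  constructor
  · intro h
    have h1 := mem_center_iff.1 h (up 1)
    have h2 := mem_center_iff.1 h (lo 1)
    have e1 := congrArg (fun x : SL k => x.1 0 0) h1
    have e2 := congrArg (fun x : SL k => x.1 0 1) h1
    have e3 := congrArg (fun x : SL k => x.1 0 0) h2
    simp only [mul_e, up00, up01, up10, up11, lo00, lo01, lo10, lo11] at e1 e2 e3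
    exact ⟨by linear_combination -e3, by linear_combination e1, by linear_combination -e2⟩
  · rintro ⟨h1, h2, h3⟩
    refine mem_center_iff.2 fun g => ?_
    apply ext4 <;> simp only [mul_e, h1, h2, h3] <;> ring

theorem center_sq {a : SL k} (h : a ∈ center (SL k)) : a.1 0 0 * a.1 0 0 = 1 := by
  obtain ⟨h1, h2, h3⟩ := mem_center_iff'.1 h
  have := det_e a
  rw [h1, ← h3] at this
  linear_combination this

theorem center_mul_self {a : SL k} (h : a ∈ center (SL k)) : a * a = 1 := by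
  obtain ⟨h1, h2, h3⟩ := mem_center_iff'.1 h
  have h4 := center_sq h
  apply ext4 <;> simp only [mul_e, h1, h2, ← h3, one00, one01, one10, one11]
  · linear_combination h4
  · ring
  · ring
  · linear_combination h4

/-- an element commuting with the generators is central -/
theorem center_of_gen {a : SL k} (h1 : ∀ t, a * up t = up t * a) (h2 : ∀ t, a * lo t = lo t * a) :
    a ∈ center (SL k) := by
  have e1 := congrArg (fun x : SL k => x.1 0 0) (h1 1)
  have e2 := congrArg (fun x : SL k => x.1 0 1) (h1 1)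
  have e3 := congrArg (fun x : SL k => x.1 0 0) (h2 1)
  simp only [mul_e, up00, up01, up10, up11, lo00, lo01, lo10, lo11] at e1 e2 e3
  exact mem_center_iff'.2 ⟨by linear_combination e3, by linear_combination -e1, by linear_combination e2⟩

/-- the commutant of a non-central element is commutative -/
theorem comm_of_cen {j a b : SL k} (hj : j ∉ center (SL k)) (ha : j * a = a * j) (hb : j * b = b * j) :
    a * b = b * a := by
  have a1 := congrArg (fun x : SL k => x.1 0 0) ha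
  have a2 := congrArg (fun x : SL k => x.1 0 1) ha
  have a3 := congrArg (fun x : SL k => x.1 1 0) ha
  have b1 := congrArg (fun x : SL k => x.1 0 0) hb
  have b2 := congrArg (fun x : SL k => x.1 0 1) hb
  have b3 := congrArg (fun x : SL k => x.1 1 0) hb
  simp only [mul_e] at a1 a2 a3 b1 b2 b3
  rw [mem_center_iff'] at hj
  have key : a.1 0 1 * b.1 1 0 = a.1 1 0 * b.1 0 1 ∧
      a.1 0 1 * (b.1 0 0 - b.1 1 1) = b.1 0 1 * (a.1 0 0 - a.1 1 1) ∧
      a.1 1 0 * (b.1 0 0 - b.1 1 1) = b.1 1 0 * (a.1 0 0 - a.1 1 1) := by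
    by_cases h1 : j.1 0 1 = 0
    · by_cases h2 : j.1 1 0 = 0
      · have h3 : j.1 0 0 - j.1 1 1 ≠ 0 := fun h => hj ⟨h1, h2, sub_eq_zero.1 h⟩
        refine ⟨mul_left_cancel₀ h3 ?_, mul_left_cancel₀ h3 ?_, mul_left_cancel₀ h3 ?_⟩
        · linear_combination (b.1 1 0) * a2 + (b.1 0 1) * a3 + (a.1 0 0 - a.1 1 1) * b1
        · linear_combination (b.1 0 0 - b.1 1 1) * a2 - (a.1 0 0 - a.1 1 1) * b2
        · linear_combination (-(b.1 0 0 - b.1 1 1)) * a3 + (a.1 0 0 - a.1 1 1) * b3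
      · refine ⟨mul_left_cancel₀ h2 ?_, mul_left_cancel₀ h2 ?_, mul_left_cancel₀ h2 ?_⟩
        · linear_combination (-(b.1 1 0)) * a1 + (a.1 1 0) * b1
        · linear_combination (a.1 0 1) * b3 - (b.1 0 1) * a3 +
            ((j.1 0 0 - j.1 1 1) / j.1 1 0) * ((-(b.1 1 0)) * a1 + (a.1 1 0) * b1) +
            (j.1 0 0 - j.1 1 1) * (a.1 0 1 * b.1 1 0 - a.1 1 0 * b.1 0 1) * (mul_inv_cancel₀ h2).symm
        · linear_combination (a.1 1 0) * b3 - (b.1 1 0) * a3
    · refine ⟨mul_left_cancel₀ h1 ?_, mul_left_cancel₀ h1 ?_, mul_left_cancel₀ h1 ?_⟩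
      · linear_combination (a.1 0 1) * b1 - (b.1 0 1) * a1
      · linear_combination (-(a.1 0 1)) * b2 + (b.1 0 1) * a2
      · linear_combination (b.1 0 0 - b.1 1 1) * a1 + (a.1 0 1) * b3 - (a.1 0 0 - a.1 1 1) * b1 - (b.1 0 1) * a3 +
          ((j.1 0 0 - j.1 1 1) / j.1 0 1) * ((a.1 0 1) * b1 - (b.1 0 1) * a1) +
          (j.1 0 0 - j.1 1 1) * (a.1 0 1 * b.1 1 0 - a.1 1 0 * b.1 0 1) * (mul_inv_cancel₀ h1).symm
  obtain ⟨k1, k2, k3⟩ := key
  apply ext4 <;> simp only [mul_e]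
  · linear_combination k1
  · linear_combination -k2
  · linear_combination k3
  · linear_combination -k1

theorem eq_one_of_center {z : SL k} (hz : z ∈ center (SL k)) (h : z.1 0 0 = 1) : z = 1 := by
  obtain ⟨h1, h2, h3⟩ := mem_center_iff'.1 hz
  exact ext4 h h1 h2 (h3 ▸ h)

/-- the trace -/
def tr (a : SL k) : k := a.1 0 0 + a.1 1 1

theorem tr_comm (a b : SL k) : tr (a * b) = tr (b * a) := by
  simp only [tr, mul_e]; ring

theorem tr_conj (a b : SL k) : tr (a * b * a⁻¹) = tr b := by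
  rw [tr_comm, inv_mul_cancel_left]

theorem tr_center {z : SL k} (hz : z ∈ center (SL k)) (a : SL k) : tr (z * a) = z.1 0 0 * tr a := by
  obtain ⟨h1, h2, h3⟩ := mem_center_iff'.1 hz
  simp only [tr, mul_e, h1, h2, ← h3]; ring

theorem comm_of_tr {x a : SL k} (ha : tr a = 2) (h : ⁅x, a⁆ ∈ center (SL k)) : x * a = a * x := by
  have h1 : x * a * x⁻¹ = ⁅x, a⁆ * a := by rw [commutatorElement_def]; group
  have h2 := congrArg tr h1
  rw [tr_conj, tr_center h, ha] at h2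
  have h3 := center_sq h
  have h4 : (⁅x, a⁆ : SL k).1 0 0 = 1 := by
    have : ((⁅x, a⁆ : SL k).1 0 0 - 1) ^ 2 = 0 := by linear_combination h3 + h2
    exact sub_eq_zero.1 (pow_eq_zero_iff two_ne_zero |>.1 this)
  exact commutatorElement_eq_one_iff_mul_comm.1 (eq_one_of_center h h4)

theorem tr_up (t : k) : tr (up t : SL k) = 2 := by
  simp only [tr, up00, up11]; norm_num

theorem tr_lo (t : k) : tr (lo t : SL k) = 2 := by
  simp only [tr, lo00, lo11]; norm_num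

/-- the second centre is the centre -/
theorem center_of_cmt {x : SL k} (h : ∀ g, ⁅x, g⁆ ∈ center (SL k)) : x ∈ center (SL k) :=
  center_of_gen (fun t => comm_of_tr (tr_up t) (h _)) (fun t => comm_of_tr (tr_lo t) (h _))

theorem exists_sq_ne_one [Infinite k] : ∃ a : k, a ≠ 0 ∧ a ^ 2 ≠ 1 := by
  classical
  obtain ⟨a, ha⟩ := Infinite.exists_notMem_finset ({0, 1, -1} : Finset k)
  simp only [Finset.mem_insert, Finset.mem_singleton, not_or] at ha
  refine ⟨a, ha.1, fun h => ?_⟩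
  have : (a - 1) * (a + 1) = 0 := by linear_combination h
  rcases mul_eq_zero.1 this with h1 | h1
  · exact ha.2.1 (sub_eq_zero.1 h1)
  · exact ha.2.2 (eq_neg_of_add_eq_zero_left h1)

/-- two homomorphisms agreeing on the generators -/
theorem hom_ext {Y : Type*} [Group Y] {f g : SL k →* Y} (h1 : ∀ t, f (up t) = g (up t)) (h2 : ∀ t, f (lo t) = g (lo t)) :
    f = g := by
  refine MonoidHom.eq_of_eqOn_dense (s := Set.range (up (F := k)) ∪ Set.range (lo (F := k))) ?_ ?_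
  · exact eq_top_iff.2 fun x _ => mem_closure_SL2 x
  · rintro _ (⟨t, rfl⟩ | ⟨t, rfl⟩)
    exacts [h1 t, h2 t]

theorem range_le {Y : Type*} [Group Y] {f : SL k →* Y} {K : Subgroup Y} (h1 : ∀ t, f (up t) ∈ K)
    (h2 : ∀ t, f (lo t) ∈ K) (g : SL k) : f g ∈ K := by
  have : closure (Set.range (up (F := k)) ∪ Set.range (lo (F := k))) ≤ K.comap f := by
    rw [closure_le]
    rintro _ (⟨t, rfl⟩ | ⟨t, rfl⟩)
    exacts [h1 t, h2 t]
  exact this (mem_closure_SL2 g)

theorem comm_of_gen {Y : Type*} [Group Y] {f : SL k →* Y} {y : Y} (h1 : ∀ t, y * f (up t) = f (up t) * y)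
    (h2 : ∀ t, y * f (lo t) = f (lo t) * y) (g : SL k) : y * f g = f g * y := by
  have := range_le (f := f) (K := centralizer {y}) (fun t => mem_centralizer_singleton_iff.2 (h1 t).symm)
    (fun t => mem_centralizer_singleton_iff.2 (h2 t).symm) g
  exact (mem_centralizer_singleton_iff.1 this).symm

end mat

section hom

variable {k : Type*} [Field k] {Y : Type*} [Group Y] {ψ : SL k →* Y}

theorem eq_zero_of_up_lo [Infinite k] (hi : ∀ s, ψ (up s) = 1 → s = 0) {s t : k} (h : ψ (up s) = ψ (lo t)) : s = 0 := by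
  obtain ⟨a, ha, ha2⟩ := exists_sq_ne_one (k := k)
  have h1 : ψ (up s) * ψ (hS a) = ψ (hS a) * ψ (up s) := by
    refine comm_of_gen (fun u => ?_) (fun u => ?_) _
    · rw [← map_mul, ← map_mul, ← up_add, ← up_add, add_comm]
    · rw [h, ← map_mul, ← map_mul, ← lo_add, ← lo_add, add_comm]
  have h2 : ψ (up (a ^ 2 * s - s)) = 1 := by
    rw [sub_eq_add_neg, up_add, ← hS_up ha, ← up_inv, map_mul, map_mul, map_mul, map_inv, map_inv, ← h1]
    group
  have h3 := hi _ h2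
  have h4 : (a ^ 2 - 1) * s = 0 := by linear_combination h3
  exact (mul_eq_zero.1 h4).resolve_left (sub_ne_zero.2 ha2)

theorem ker_10 [Infinite k] (hi : ∀ s, ψ (up s) = 1 → s = 0) {g : SL k} (hg : ψ g = 1) : g.1 1 0 = 0 := by
  by_contra hc
  have hd := det_e g
  have h1 : (up (-(g.1 0 0 / g.1 1 0)) * g) * up 1 = lo (-(g.1 1 0) ^ 2) * (up (-(g.1 0 0 / g.1 1 0)) * g) := by
    apply ext4 <;> simp only [mul_e, up00, up01, up10, up11, lo00, lo01, lo10, lo11] <;> field_simp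
    · ring
    · ring
    · ring
    · linear_combination (-(g.1 1 0)) * hd
  have h2 := congrArg ψ h1
  rw [map_mul, map_mul, map_mul, map_mul, hg, mul_one, ← map_mul, ← up_add, add_comm, up_add, map_mul] at h2
  exact one_ne_zero (eq_zero_of_up_lo hi (mul_right_cancel h2))

/-- **The kernel is central.** -/
theorem ker_le [Infinite k] (hi : ∀ s, ψ (up s) = 1 → s = 0) {g : SL k} (hg : ψ g = 1) : g ∈ center (SL k) := by
  have h10 := ker_10 hi hg
  have h1 : (1 : k) ≠ 0 := one_ne_zero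
  have h01 : g.1 0 1 = 0 := by
    have h2 : ψ ((wS 1)⁻¹ * g * wS 1) = 1 := by rw [map_mul, map_mul, hg, mul_one, ← map_mul, inv_mul_cancel, map_one]
    have h3 := ker_10 hi h2
    have h4 : (wS 1 * ((wS 1)⁻¹ * g * wS 1) : SL k) = g * wS 1 := by group
    have h5 := congrArg (fun x : SL k => x.1 0 0) h4
    simp only [mul_e (wS 1 : SL k), mul_e g, h3, wS00 h1, wS01 h1, wS10 h1] at h5
    simpa using h5
  have hd := det_e g
  rw [h10, mul_zero, sub_zero] at hd
  have h2 : g * up 1 = up (g.1 0 0 ^ 2) * g := by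
    apply ext4 <;> simp only [mul_e, up00, up01, up10, up11, h10, h01]
    · ring
    · linear_combination (-(g.1 0 0)) * hd
    · ring
    · ring
  have h3 := congrArg ψ h2
  rw [map_mul, map_mul, hg, one_mul, mul_one] at h3
  have h4 : ψ (up (g.1 0 0 ^ 2 - 1)) = 1 := by
    rw [sub_eq_add_neg, up_add, ← up_inv, map_mul, map_inv, ← h3, mul_inv_cancel]
  have h5 := hi _ h4
  refine mem_center_iff'.2 ⟨h01, h10, ?_⟩
  linear_combination (g.1 1 1) * h5 - (g.1 0 0) * hd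

/-- the kernel is central -/
def CK (ψ : SL k →* Y) : Prop := ∀ g, ψ g = 1 → g ∈ center (SL k)

theorem CK.eq (h : CK ψ) {a b : SL k} (e : ψ a = ψ b) : ∃ z ∈ center (SL k), a = z * b :=
  ⟨a * b⁻¹, h _ (by rw [map_mul, map_inv, e, mul_inv_cancel]), by group⟩

theorem CK.up_inj (h : CK ψ) {s t : k} (e : ψ (up s) = ψ (up t)) : s = t := by
  have h1 : ψ (up (s - t)) = 1 := by rw [sub_eq_add_neg, up_add, ← up_inv, map_mul, map_inv, e, mul_inv_cancel]
  exact sub_eq_zero.1 (mem_center_iff'.1 (h _ h1)).1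

theorem CK.lo_inj (h : CK ψ) {s t : k} (e : ψ (lo s) = ψ (lo t)) : s = t := by
  have h1 : ψ (lo (s - t)) = 1 := by rw [sub_eq_add_neg, lo_add, ← lo_inv, map_mul, map_inv, e, mul_inv_cancel]
  exact sub_eq_zero.1 (mem_center_iff'.1 (h _ h1)).2.1

/-- commuting images -/
theorem CK.cmt (h : CK ψ) {a b : SL k} (e : ψ a * ψ b = ψ b * ψ a) : ⁅a, b⁆ ∈ center (SL k) :=
  h _ (by rw [map_commutatorElement]; exact commutatorElement_eq_one_iff_mul_comm.2 e)

theorem braid0 : (up 1 * lo (-1) * up 1 : SL k) = lo (-1) * up 1 * lo (-1) := by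
  apply ext4 <;> simp only [mul_e, up00, up01, up10, up11, lo00, lo01, lo10, lo11] <;> ring

/-- the braid relation determines the second scalar -/
theorem CK.braid (h : CK ψ) {μ ν : k} (hμ : μ ≠ 0)
    (e : ψ (up μ) * ψ (lo (-ν)) * ψ (up μ) = ψ (lo (-ν)) * ψ (up μ) * ψ (lo (-ν))) : μ * ν = 1 := by
  rw [← map_mul, ← map_mul, ← map_mul, ← map_mul] at e
  obtain ⟨z, hz, e1⟩ := h.eq e
  obtain ⟨h1, h2, h3⟩ := mem_center_iff'.1 hz
  have a1 := congrArg (fun x : SL k => x.1 0 0) e1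
  have a2 := congrArg (fun x : SL k => x.1 0 1) e1
  simp only [mul_e, up00, up01, up10, up11, lo00, lo01, lo10, lo11, h1, h2, ← h3] at a1 a2
  have h4 : 2 - μ * ν = z.1 0 0 := mul_left_cancel₀ hμ (by linear_combination a2)
  have h5 : (μ * ν - 1) ^ 2 = 0 := by linear_combination (-1 : k) * a1 + (μ * ν - 1) * h4 * (-1)
  exact sub_eq_zero.1 (pow_eq_zero_iff two_ne_zero |>.1 h5)

theorem inn_of_gen {c : Y} {j : SL k} (h1 : ∀ t, c * ψ (up t) * c⁻¹ = ψ (j * up t * j⁻¹))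
    (h2 : ∀ t, c * ψ (lo t) * c⁻¹ = ψ (j * lo t * j⁻¹)) : Inn ψ c j := by
  have := hom_ext (f := (MulAut.conj c).toMonoidHom.comp ψ) (g := ψ.comp (MulAut.conj j).toMonoidHom) h1 h2
  exact fun g => DFunLike.congr_fun this g

/-- an element acting linearly on the two root groups -/
theorem CK.inn_of_lin [IsAlgClosed k] (h : CK ψ) {c : Y} {μ ν : k} (hμ : μ ≠ 0)
    (h1 : ∀ t, c * ψ (up t) * c⁻¹ = ψ (up (μ * t))) (h2 : ∀ t, c * ψ (lo t) * c⁻¹ = ψ (lo (ν * t))) :
    ∃ a : k, a ≠ 0 ∧ a ^ 2 = μ ∧ Inn ψ c (hS a) := by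
  have h3 : μ * ν = 1 := by
    refine h.braid hμ ?_
    have e1 := h1 1
    have e2 := h2 (-1)
    rw [mul_one] at e1
    rw [mul_neg, mul_one] at e2
    have e3 := congrArg ψ (braid0 (k := k))
    simp only [map_mul] at e3
    rw [← e1, ← e2]
    calc _ = c * (ψ (up 1) * ψ (lo (-1)) * ψ (up 1)) * c⁻¹ := by group
      _ = c * (ψ (lo (-1)) * ψ (up 1) * ψ (lo (-1))) * c⁻¹ := by rw [e3]
      _ = _ := by group
  obtain ⟨a, ha⟩ := IsAlgClosed.exists_pow_nat_eq μ two_pos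
  have ha0 : a ≠ 0 := by rintro rfl; exact hμ (by rw [← ha]; ring)
  refine ⟨a, ha0, ha, inn_of_gen (fun t => ?_) (fun t => ?_)⟩
  · rw [h1, hS_up ha0, ha]
  · rw [h2, hS_lo ha0, ha, inv_eq_of_mul_eq_one_right h3]

/-- an element interchanging the two root groups linearly -/
theorem CK.inn_of_lin' [IsAlgClosed k] (h : CK ψ) {c : Y} {μ ν : k} (hμ : μ ≠ 0)
    (h1 : ∀ t, c * ψ (up t) * c⁻¹ = ψ (lo (μ * t))) (h2 : ∀ t, c * ψ (lo t) * c⁻¹ = ψ (up (ν * t))) :
    ∃ a : k, a ≠ 0 ∧ Inn ψ c ((wS 1)⁻¹ * hS a) := by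
  obtain ⟨a, ha, -, h3⟩ := h.inn_of_lin (c := ψ (wS 1) * c) (μ := -μ) (ν := -ν) (neg_ne_zero.2 hμ)
    (fun t => by
      rw [neg_mul, ← wS_lo, map_mul, map_mul, map_inv, ← h1]; group)
    (fun t => by
      rw [neg_mul, ← wS_up, map_mul, map_mul, map_inv, ← h2]; group)
  refine ⟨a, ha, ?_⟩
  have h4 := (Inn.self (ψ := ψ) (wS 1)).inv.mul h3
  rwa [inv_mul_cancel_left] at h4

/-- `c` centralizes the image -/
def Cz (ψ : SL k →* Y) (c : Y) : Prop := ∀ g, c * ψ g = ψ g * c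

theorem Cz.inn {c : Y} (h : Cz ψ c) : Inn ψ c 1 := fun g => by
  rw [h g, one_mul, inv_one, mul_one, mul_inv_cancel_right]

theorem cz_of_inn {c : Y} {j : SL k} (h : Inn ψ c j) (hj : j ∈ center (SL k)) : Cz ψ c := fun g => by
  have h1 := h g
  rw [← mem_center_iff.1 hj g, mul_inv_cancel_right] at h1
  rw [← mul_inv_eq_iff_eq_mul, h1]

theorem CK.center_of_cz (h : CK ψ) {c : Y} {j : SL k} (hj : Inn ψ c j) (hc : Cz ψ c) : j ∈ center (SL k) := by
  refine center_of_cmt fun g => h _ ?_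
  rw [commutatorElement_def, map_mul, ← hj g, hc g, map_inv]
  group

theorem inn_cmt {c d : Y} {j j' : SL k} (h : Inn ψ c j) (h' : Inn ψ d j') : Inn ψ ⁅c, d⁆ ⁅j, j'⁆ :=
  ((h.mul h').mul h.inv).mul h'.inv

theorem CK.cmt_center (h : CK ψ) {c d : Y} {j j' : SL k} (hj : Inn ψ c j) (hj' : Inn ψ d j') (hc : c * d = d * c) :
    ⁅j, j'⁆ ∈ center (SL k) := by
  refine h.center_of_cz (inn_cmt hj hj') fun g => ?_
  rw [commutatorElement_eq_one_iff_mul_comm.2 hc, one_mul, mul_one]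

/-- two lifts differ by a central element -/
theorem CK.inn_unique (h : CK ψ) {c : Y} {j j' : SL k} (hj : Inn ψ c j) (hj' : Inn ψ c j') :
    j⁻¹ * j' ∈ center (SL k) := by
  refine h.center_of_cz (hj.inv.mul hj') fun g => ?_
  rw [inv_mul_cancel, one_mul, mul_one]

/-- the elements acting as an inner automorphism induced from `C` -/
def innSub (ψ : SL k →* Y) (C : Subgroup (SL k)) : Subgroup Y where
  carrier := {c | ∃ j ∈ C, Inn ψ c j}
  one_mem' := ⟨1, one_mem _, fun g => by simp⟩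
  mul_mem' := fun ⟨j, hj, h⟩ ⟨j', hj', h'⟩ => ⟨j * j', mul_mem hj hj', h.mul h'⟩
  inv_mem' := fun ⟨j, hj, h⟩ => ⟨j⁻¹, inv_mem hj, h.inv⟩

theorem mem_innSub {C : Subgroup (SL k)} {c : Y} : c ∈ innSub ψ C ↔ ∃ j ∈ C, Inn ψ c j := Iff.rfl

theorem mem_innSub_top {c : Y} : c ∈ innSub ψ ⊤ ↔ ∃ j, Inn ψ c j :=
  ⟨fun ⟨j, _, h⟩ => ⟨j, h⟩, fun ⟨j, h⟩ => ⟨j, mem_top _, h⟩⟩

theorem mem_innSub_bot {c : Y} : c ∈ innSub ψ ⊥ ↔ Cz ψ c :=
  ⟨fun ⟨j, hj, h⟩ => cz_of_inn h (by rw [mem_bot.1 hj]; exact one_mem _), fun h => ⟨1, one_mem _, h.inn⟩⟩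

theorem conj_cmt_of_center {G : Type*} [Group G] {j m m' : G} (h : ⁅j, m⁆ ∈ center G) (h' : ⁅j, m'⁆ ∈ center G) :
    j * ⁅m, m'⁆ = ⁅m, m'⁆ * j := by
  obtain ⟨z, hz, e⟩ : ∃ z ∈ center G, j * m * j⁻¹ = z * m := ⟨_, h, by rw [commutatorElement_def]; group⟩
  obtain ⟨z', hz', e'⟩ : ∃ z ∈ center G, j * m' * j⁻¹ = z * m' := ⟨_, h', by rw [commutatorElement_def]; group⟩
  have c1 := mem_center_iff.1 hz
  have c2 := mem_center_iff.1 hz'
  rw [← mul_inv_eq_iff_eq_mul]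
  calc j * ⁅m, m'⁆ * j⁻¹ = (j * m * j⁻¹) * (j * m' * j⁻¹) * (j * m * j⁻¹)⁻¹ * (j * m' * j⁻¹)⁻¹ := by
        rw [commutatorElement_def]; group
    _ = z * (m * z' * m' * m⁻¹) * z⁻¹ * m'⁻¹ * z'⁻¹ := by rw [e, e']; group
    _ = z' * (m * m' * m⁻¹ * m'⁻¹) * z'⁻¹ := by rw [← c1, c2 m]; group
    _ = _ := by rw [← c2, commutatorElement_def]; group

/-- **The core lemma.**  A perfect group `R` acts on the image by inner automorphisms, non-trivially; an element `n`
commuting with `R` and acting by an inner automorphism centralizes the image. -/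
theorem CK.cz_of_perfect (h : CK ψ) {R : Subgroup Y} (hR : ⁅R, R⁆ = R) (hi : ∀ r ∈ R, ∃ j, Inn ψ r j)
    (hn : ¬ ∀ r ∈ R, Cz ψ r) {n : Y} {j : SL k} (hj : Inn ψ n j) (hc : ∀ r ∈ R, n * r = r * n) : Cz ψ n := by
  by_contra hz
  have hj0 : j ∉ center (SL k) := fun h0 => hz (cz_of_inn hj h0)
  have h1 : R ≤ innSub ψ (centralizer {j}) := by
    rw [← hR, commutator_le]
    intro r hr r' hr'
    obtain ⟨m, hm⟩ := hi r hr
    obtain ⟨m', hm'⟩ := hi r' hr'
    exact ⟨⁅m, m'⁆, mem_centralizer_singleton_iff.2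
      (conj_cmt_of_center (h.cmt_center hj hm (hc r hr)) (h.cmt_center hj hm' (hc r' hr'))).symm, inn_cmt hm hm'⟩
  have h2 : R ≤ innSub ψ ⊥ := by
    rw [← hR, commutator_le]
    intro r hr r' hr'
    obtain ⟨m, hm0, hm⟩ := h1 hr
    obtain ⟨m', hm0', hm'⟩ := h1 hr'
    refine ⟨⁅m, m'⁆, mem_bot.2 (commutatorElement_eq_one_iff_mul_comm.2 ?_), inn_cmt hm hm'⟩
    exact comm_of_cen hj0 (mem_centralizer_singleton_iff.1 hm0).symm (mem_centralizer_singleton_iff.1 hm0').symm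
  exact hn fun r hr => mem_innSub_bot.1 (h2 hr)

end hom

end Cfsg.Agent.Cam.Ex.S2
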