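import Cfsg.Agent.Cam.Ex.ConnTor
import Cfsg.Agent.Cam.Ex.SL2
import Cfsg.Agent.DS.Nt.Base
import Cfsg.Agent.H605.MX.Psi
import Cfsg.Agent.H130.TorOrd

/-!
# S3689, S3690, exceptional rows: the root `SL₂` (helper53)

`sl p hc : SL₂(k) → Y` for a root `c`; the elements that act on its image by inner automorphisms.
-/

set_option autoImplicit false
set_option linter.unusedVariables false
set_option linter.unusedSectionVars false

namespace Cfsg.Agent.Cam.Ex

open CoxeterSystem Cfsg Cfsg.Lie Subgroup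
open Cfsg.Agent.ChevalleyStructure.CoxeterGeom Cfsg.Agent.ChevalleyStructure.CoxeterGeomTypes
open Cfsg.Agent.Tits.Roots Cfsg.Agent.Nodes.BNOf Cfsg.Agent.Nodes.RGDChev Cfsg.Agent.Nodes.Coroot
open Cfsg.Agent.KFacts.RgdChevCoord Cfsg.Agent.BpExc.TorCent Cfsg.Agent.BpExc.LangFr Cfsg.Agent.BpExc.SubBN
open Cfsg.Agent.Cam.Spor Cfsg.Agent.Cam.Ex.S2
open Cfsg.Agent.ChevalleyStructure.SL2Hom (up lo)
open Cfsg.Agent.Nodes.RGDFoldSL (hS wS)
open Cfsg.Agent.DS.Nt (RP)
open Cfsg.Agent.H129.TorusChar (cX isMC_cX cX_root)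
open scoped commutatorElement

/-- `c` acts on the image of `ψ` as the inner automorphism `j` -/
abbrev IA {G Y : Type*} [Group G] [Group Y] (ψ : G →* Y) (c : Y) (j : G) : Prop := DS.Nt.JL.Inn ψ c j

variable {D : ChevalleyDatum} {l : ℕ} {M : CoxeterMatrix (Fin l)} {hp : IsType D l M} {p : ℕ} [Fact p.Prime]

theorem Rt.idx' {c : Lat l} (hc : Rt hp c) : idx D l c < D.nroots ∧ vec D l (idx D l c) = c := by
  obtain ⟨r, hr, rfl⟩ := (isRoot_iff hp M.toCoxeterSystem c).1 hc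
  rw [idx_vec hp hr]
  exact ⟨hr, rfl⟩

theorem Rt.neg' {c : Lat l} (hc : Rt hp c) : Rt hp (-c) := IsRoot.neg hc

theorem cp_self {c : Lat l} (hc : Rt hp c) : cp hp c c = 2 := by
  have := finite_WW hp
  exact cpr_self _ _ hc

theorem cp_add (a b : Lat l) {c : Lat l} (hc : Rt hp c) : cp hp (a + b) c = cp hp a c + cp hp b c := by
  have := finite_WW hp
  exact cpr_add _ _ a b hc

theorem cp_smul (m : ℤ) (a : Lat l) {c : Lat l} (hc : Rt hp c) : cp hp (m • a) c = m * cp hp a c := by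
  have := finite_WW hp
  exact cpr_smul _ _ m a hc

theorem cp_neg (a : Lat l) {c : Lat l} (hc : Rt hp c) : cp hp (-a) c = -cp hp a c := by
  have := finite_WW hp
  exact cpr_neg _ _ a hc

theorem cp_neg_right (a : Lat l) {c : Lat l} (hc : Rt hp c) : cp hp a (-c) = -cp hp a c := by
  have := finite_WW hp
  exact cpr_neg_right _ _ a hc

theorem cp_zero_comm {a c : Lat l} (ha : Rt hp a) (hc : Rt hp c) : cp hp a c = 0 ↔ cp hp c a = 0 := by
  have := finite_WW hp
  exact cpr_zero_comm _ _ ha hc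

theorem Rt.ne_zero' {c : Lat l} (hc : Rt hp c) : c ≠ 0 := by
  intro h
  have h1 := cp_self hc
  have h2 := cp_smul 0 c hc
  rw [zero_smul, zero_mul] at h2
  rw [h] at h1
  rw [h, h1] at h2
  exact two_ne_zero h2

theorem Rt.ne_neg {c : Lat l} (hc : Rt hp c) : c ≠ -c := by
  intro h
  have h1 := cp_neg c hc
  rw [← h, cp_self hc] at h1
  omega

theorem wa_neg (w : M.Group) (a : Lat l) : wa hp w (-a) = -wa hp w a := map_neg _ a

theorem wa_add (w : M.Group) (a b : Lat l) : wa hp w (a + b) = wa hp w a + wa hp w b := map_add _ a b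

theorem ch_eq_cX {a : Lat l} (ha : Rt hp a) {t : YY D p} (ht : t ∈ TT D (kb p)) : ch hp a t = cX hp t a :=
  (cX_root hp M.toCoxeterSystem ht ha).symm

theorem ch_neg {a : Lat l} (ha : Rt hp a) {t : YY D p} (ht : t ∈ TT D (kb p)) : ch hp (-a) t = (ch hp a t)⁻¹ := by
  rw [ch_eq_cX ha.neg' ht, ch_eq_cX ha ht, (isMC_cX hp ht).neg]

theorem mem_XR {a : Lat l} (ha : Rt hp a) {y : YY D p} : y ∈ XR D l p a ↔ ∃ s, xc hp a s = y := DS.Nt.mem_X ha

theorem xc_mem_XR {a : Lat l} (ha : Rt hp a) (s : kb p) : xc hp a s ∈ XR D l p a := DS.Nt.xc_mem ha s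

theorem T_comm {s t : YY D p} (hp : IsType D l M) (hs : s ∈ TT D (kb p)) (ht : t ∈ TT D (kb p)) : s * t = t * s :=
  (RP.of_mem (hp := hp) hs).comm ht fun x => by rw [map_one]; rfl

/-- the `SL₂` of the root `c` -/
noncomputable def sl (p : ℕ) [Fact p.Prime] {c : Lat l} (hc : Rt hp c) : SL (kb p) →* YY D p :=
  H81.TorOrth.ps hp hc.idx'.1

variable {c : Lat l} (hc : Rt hp c)

theorem sl_up (t : kb p) : sl p hc (up t) = xc hp c t := H81.TorOrth.ps_up hp _ t

theorem sl_lo (t : kb p) : sl p hc (lo t) = xc hp (-c) t := by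
  refine (H81.TorOrth.ps_lo hp _ t).trans (Subtype.ext ?_)
  obtain ⟨r, hr, rfl⟩ := (isRoot_iff hp M.toCoxeterSystem c).1 hc
  have h1 : D.neg r < D.nroots := ChevalleyStructure.RootVec.neg_lt hp.checked hr
  rw [idx_vec hp hr, ← vec_neg hp hr, coe_xc hp h1]
  rfl

include hc in
theorem xc_add (s t : kb p) : xc hp c (s + t) = xc hp c s * xc hp c t := by
  rw [← sl_up hc, ← sl_up hc, ← sl_up hc, up_add, map_mul]

include hc in
theorem xc_zero : xc hp c (0 : kb p) = 1 := by rw [← sl_up hc, up_zero, map_one]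

include hc in
theorem xc_neg (s : kb p) : xc hp c (-s) = (xc hp c s)⁻¹ := by rw [← sl_up hc, ← sl_up hc, ← up_inv, map_inv]

include hc in
theorem xc_eq_one {s : kb p} : xc hp c s = 1 ↔ s = 0 :=
  ⟨fun h => xc_injective hc (h.trans (xc_zero hc).symm), fun h => h ▸ xc_zero hc⟩

include hc in
theorem xc_pow (s : kb p) (n : ℕ) : xc hp c s ^ n = xc hp c (n * s) := by
  induction n with
  | zero => rw [pow_zero, Nat.cast_zero, zero_mul, xc_zero hc]
  | succ n ih => rw [pow_succ, ih, ← xc_add hc, Nat.cast_succ, add_mul, one_mul]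

include hc in
theorem xc_pow_p (s : kb p) : xc hp c s ^ p = 1 := by
  rw [xc_pow hc, CharP.cast_eq_zero, zero_mul, xc_zero hc]

theorem sl_ck : CK (sl p hc) := fun g hg =>
  ker_le (fun s h => (xc_eq_one hc).1 (by rwa [sl_up] at h)) hg

theorem sl_mem (g : SL (kb p)) : sl p hc g ∈ MS D l p {c, -c} :=
  range_le (fun t => by
      rw [sl_up]; exact RGD.le_Sup (S := {c, -c}) (Or.inl rfl) (xc_mem_XR hc t))
    (fun t => by
      rw [sl_lo]; exact RGD.le_Sup (S := {c, -c}) (Or.inr rfl) (xc_mem_XR hc.neg' t)) g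

theorem X_le_sl : XR D l p c ≤ (sl p hc).range := fun y hy => by
  obtain ⟨s, rfl⟩ := (mem_XR hc).1 hy
  exact ⟨up s, sl_up hc s⟩

theorem X_neg_le_sl : XR D l p (-c) ≤ (sl p hc).range := fun y hy => by
  obtain ⟨s, rfl⟩ := (mem_XR hc.neg').1 hy
  exact ⟨lo s, sl_lo hc s⟩

theorem sl_range : (sl p hc).range = MS D l p {c, -c} := by
  refine le_antisymm ?_ (RGD.Sup_le ?_)
  · rintro _ ⟨g, rfl⟩
    exact sl_mem hc g
  · rintro a (rfl | rfl)
    exacts [X_le_sl hc, X_neg_le_sl hc]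

theorem sl_hS_mem {t : kb p} (ht : t ≠ 0) : sl p hc (hS t) ∈ TT D (kb p) := H81.TorOrth.ps_hS_mem hp _ ht

theorem cX_sl_hS {t : kb p} (ht : t ≠ 0) (x : Lat l) : cX hp (sl p hc (hS t)) x = t ^ cp hp x c := by
  have := H605.MX.cX_hS hp M.toCoxeterSystem (H469.Exc.locFin p) p hc.idx'.1 ht x
  exact this.trans (by rw [hc.idx'.2])

theorem ch_sl_hS {t : kb p} (ht : t ≠ 0) {a : Lat l} (ha : Rt hp a) : ch hp a (sl p hc (hS t)) = t ^ cp hp a c := by
  rw [ch_eq_cX ha (sl_hS_mem hc ht), cX_sl_hS hc ht]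

theorem cz_iff {y : YY D p} : Cz (sl p hc) y ↔ ∀ a ∈ ({c, -c} : Set (Lat l)), ∀ x ∈ XR D l p a, y * x = x * y := by
  constructor
  · rintro h a (rfl | rfl) x hx
    · obtain ⟨g, rfl⟩ := X_le_sl hc hx
      exact h g
    · obtain ⟨g, rfl⟩ := X_neg_le_sl hc hx
      exact h g
  · intro h
    refine comm_of_gen (fun t => ?_) (fun t => ?_)
    · rw [sl_up]; exact h c (Or.inl rfl) _ (xc_mem_XR hc t)
    · rw [sl_lo]; exact h (-c) (Or.inr rfl) _ (xc_mem_XR hc.neg' t)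

/-- the torus acts by inner automorphisms -/
theorem inn_T {t : YY D p} (ht : t ∈ TT D (kb p)) : ∃ a : kb p, a ≠ 0 ∧ a ^ 2 = ch hp c t ∧ IA (sl p hc) t (hS a) :=
  (sl_ck hc).inn_of_lin (ch_ne_zero hc ht) (fun s => by rw [sl_up, sl_up, ch_act hc ht])
    (fun s => by rw [sl_lo, sl_lo, ch_act hc.neg' ht])

theorem cz_T {t : YY D p} (ht : t ∈ TT D (kb p)) : Cz (sl p hc) t ↔ ch hp c t = 1 := by
  constructor
  · intro h
    have h1 := ch_act hc ht 1
    rw [← sl_up hc, h, mul_inv_cancel_right, sl_up, mul_one] at h1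
    exact (xc_injective hc h1).symm
  · intro h
    refine comm_of_gen (fun s => ?_) (fun s => ?_)
    · rw [← mul_inv_eq_iff_eq_mul, sl_up, ch_act hc ht, h, one_mul]
    · rw [← mul_inv_eq_iff_eq_mul, sl_lo, ch_act hc.neg' ht, ch_neg hc ht, h, inv_one, one_mul]

theorem rp_xc {w : M.Group} {k : YY D p} (h : RP hp p w k) {a : Lat l} (ha : Rt hp a) :
    ∃ μ : kb p, μ ≠ 0 ∧ ∀ s, k * xc hp a s * k⁻¹ = xc hp (wa hp w a) (μ * s) := by
  have := finite_WW hp
  exact H130.TorOrd.rp_xc hp M.toCoxeterSystem (H469.Exc.locFin p) p h.toT ha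

/-- representatives of elements of `W` fixing `± c` act by inner automorphisms -/
theorem inn_rp {w : M.Group} {k : YY D p} (h : RP hp p w k) (hw : wa hp w c = c ∨ wa hp w c = -c) :
    ∃ j, IA (sl p hc) k j := by
  obtain ⟨μ, hμ, h1⟩ := rp_xc h hc
  obtain ⟨ν, hν, h2⟩ := rp_xc h hc.neg'
  rw [wa_neg] at h2
  rcases hw with hw | hw
  · rw [hw] at h1 h2
    obtain ⟨a, -, -, h3⟩ := (sl_ck hc).inn_of_lin (c := k) (ν := ν) hμ (fun s => by rw [sl_up, sl_up, h1])
      (fun s => by rw [sl_lo, sl_lo, h2])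
    exact ⟨_, h3⟩
  · rw [hw] at h1 h2
    rw [neg_neg] at h2
    obtain ⟨a, -, h3⟩ := (sl_ck hc).inn_of_lin' (c := k) (ν := ν) hμ (fun s => by rw [sl_up, sl_lo, h1])
      (fun s => by rw [sl_lo, sl_up, h2])
    exact ⟨_, h3⟩

/-- a root group commuting with the root `SL₂` -/
theorem cz_X {a : Lat l} (ha : Rt hp a) (h0 : cp hp a c = 0)
    (h : ∀ i j : ℤ, 0 < i → j ≠ 0 → ¬ Rt hp (i • a + j • c)) {x : YY D p} (hx : x ∈ XR D l p a) : Cz (sl p hc) x := by
  have n1 : a ≠ c := by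
    rintro rfl
    rw [cp_self hc] at h0
    exact two_ne_zero h0
  have n2 : a ≠ -c := by
    rintro rfl
    rw [cp_neg c hc, cp_self hc] at h0
    omega
  rw [cz_iff]
  rintro b (rfl | rfl) y hy
  · refine H605.MX.XX_comm_of_SO hp M.toCoxeterSystem ha hc n1 n2 (fun i j hi hj => ?_) hx hy
    have := h i j (by exact_mod_cast hi) (by exact_mod_cast hj.ne')
    rwa [natCast_zsmul, natCast_zsmul] at this
  · refine H605.MX.XX_comm_of_SO hp M.toCoxeterSystem ha hc.neg' n2 (by rwa [neg_neg]) (fun i j hi hj => ?_) hx hy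
    have := h i (-(j : ℤ)) (by exact_mod_cast hi) (by omega)
    rwa [natCast_zsmul, neg_smul, natCast_zsmul, ← smul_neg] at this

/-- the elements of `S` other than `± c` -/
def off (S : Set (Lat l)) (c : Lat l) : Set (Lat l) := {a | a ∈ S ∧ a ≠ c ∧ a ≠ -c}

/-- the root groups of `S` other than those of `± c` commute with the root `SL₂` -/
def Spl (p : ℕ) [Fact p.Prime] {c : Lat l} (hc : Rt hp c) (S : Set (Lat l)) : Prop :=
  ∀ a ∈ off S c, ∀ x ∈ XR D l p a, Cz (sl p hc) x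

variable {S : Set (Lat l)}

theorem Spl.cz (h : Spl p hc S) {m : YY D p} (hm : m ∈ MS D l p (off S c)) : Cz (sl p hc) m :=
  mem_innSub_bot.1 (RGD.Sup_le (K := innSub (sl p hc) ⊥) (fun a ha x hx => mem_innSub_bot.2 (h a ha x hx)) hm)

theorem Spl.dec (h : Spl p hc S) {m : YY D p} (hm : m ∈ MS D l p S) :
    ∃ j, ∃ m' ∈ MS D l p (off S c), m = sl p hc j * m' := by
  have h1 : MS D l p S ≤ (sl p hc).range ⊔ MS D l p (off S c) := by
    refine RGD.Sup_le fun a ha => ?_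
    by_cases e1 : a = c
    · rw [e1]; exact (X_le_sl hc).trans le_sup_left
    by_cases e2 : a = -c
    · rw [e2]; exact (X_neg_le_sl hc).trans le_sup_left
    exact (RGD.le_Sup (S := off S c) ⟨ha, e1, e2⟩).trans le_sup_right
  obtain ⟨_, ⟨j, rfl⟩, m', hm', e⟩ := mem_sup_of_comm (X := (sl p hc).range) (A := MS D l p (off S c))
    (by rintro _ ⟨g, rfl⟩ a ha; exact (h.cz hc ha g).symm) (h1 hm)
  exact ⟨j, m', hm', e⟩

theorem Spl.inn (h : Spl p hc S) {m : YY D p} (hm : m ∈ MS D l p S) : ∃ j, IA (sl p hc) m j := by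
  obtain ⟨j, m', hm', rfl⟩ := h.dec hc hm
  exact ⟨_, (DS.Nt.JL.Inn.self j).mul (h.cz hc hm').inn⟩

/-- an `A₁`-component of the set of the roots killed by a character -/
theorem spl_psi {K : Type} [AddCommGroup K] {φ : Lat l →+ K} (h : A1c hp (Psi hp φ) c) : Spl p hc (Psi hp φ) := by
  rintro a ⟨ha, n1, n2⟩ x hx
  have h0 : cp hp a c = 0 := ((h.2 a ha).resolve_left n1).resolve_left n2
  refine cz_X hc ha.1 h0 (fun i j hi hj hr => ?_) hx
  have h1 : i • a + j • c ∈ Psi hp φ := ⟨hr, by rw [map_add, map_zsmul, map_zsmul, ha.2, h.1.2, smul_zero, smul_zero, add_zero]⟩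
  have h2 : cp hp (i • a + j • c) c = 2 * j := by rw [cp_add _ _ hc, cp_smul _ _ hc, cp_smul _ _ hc, h0, cp_self hc]; ring
  have h3 : cp hp (i • a + j • c) a = 2 * i := by
    rw [cp_add _ _ ha.1, cp_smul _ _ ha.1, cp_smul _ _ ha.1, (cp_zero_comm ha.1 hc).1 h0, cp_self ha.1]; ring
  rcases h.2 _ h1 with e | e | e
  · rw [e, (cp_zero_comm ha.1 hc).1 h0] at h3; omega
  · rw [e, cp_neg _ ha.1, (cp_zero_comm ha.1 hc).1 h0] at h3; omega
  · omega

end Cfsg.Agent.Cam.Ex
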