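import Cfsg.Agent.Cam.Ex.PA2
import Cfsg.Agent.BpExc.Orbit

/-!
# Exceptional rows, `BoxP` (helper65)

* `SS.high` : the highest root of a simply laced set of roots;
* `k1` : no root is far from `Ψ`;
* `boxP`.
-/

set_option autoImplicit false
set_option linter.unusedVariables false
set_option linter.unusedSectionVars false

namespace Cfsg.Agent.Cam.Ex.P

open CoxeterSystem Cfsg Cfsg.Lie Subgroup
open Cfsg.Agent.ChevalleyStructure.CoxeterGeom Cfsg.Agent.ChevalleyStructure.CoxeterGeomTypes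
open Cfsg.Agent.Tits.Roots Cfsg.Agent.Nodes.BNOf Cfsg.Agent.Nodes.RGDChev Cfsg.Agent.Nodes.Coroot
open Cfsg.Agent.KFacts.RgdChevCoord Cfsg.Agent.BpExc.TorCent Cfsg.Agent.BpExc.LangFr Cfsg.Agent.BpExc.SubBN
open Cfsg.Agent.Cam.Spor Cfsg.Agent.Cam.Ex.S2
open Cfsg.Agent.Cam.Ex.SL3 (P2 ev mem_A2s ev01)
open Cfsg.Agent.DS.Nt (RP)
open Cfsg.Agent.BpExc.Fr (repAut)
open scoped commutatorElement

variable {D : ChevalleyDatum} {l : ℕ} {M : CoxeterMatrix (Fin l)} {hp : IsType D l M} {p : ℕ} [Fact p.Prime]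
  {a b b' c c' : Lat l} {S Θ : Set (Lat l)}

variable (hp p) in
/-- simply laced sets of roots -/
structure SS (S : Set (Lat l)) : Prop where
  rt : ∀ a ∈ S, Rt hp a
  neg : ∀ a ∈ S, -a ∈ S
  refl : ∀ c ∈ S, ∀ a ∈ S, a - cp hp a c • c ∈ S
  le1 : ∀ a ∈ S, ∀ c ∈ S, a ≠ c → a ≠ -c → -1 ≤ cp hp a c ∧ cp hp a c ≤ 1
  far : ∀ a ∈ S, ∀ c ∈ S, cp hp a c = 0 → Far hp p a c

variable (hp p) in
/-- orthogonal orbits -/
def Orb (g : Lat l ≃+ Lat l) (c : Lat l) : Prop := ∀ i, g^[i] c = c ∨ g^[i] c = -c ∨ Far hp p c (g^[i] c)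

theorem SS.one (h : SS hp p S) (ha : a ∈ S) (hb : b ∈ S) (e : cp hp a b = 1) : cp hp b a = 1 := by
  have h1 := h.le1 b hb a ha (ne_of_cp (h.rt b hb) (by omega)).symm
    (fun e' => ne_neg_of_cp (h.rt b hb) (a := a) (by omega) (by rw [e', neg_neg]))
  have h2 := (cp_pos_comm (h.rt a ha) (h.rt b hb)).1 (by omega)
  omega

theorem SS.neg_one (h : SS hp p S) (ha : a ∈ S) (hb : b ∈ S) (e : cp hp a b = -1) : cp hp b a = -1 := by
  have h1 := h.one (h.neg a ha) hb (by rw [cp_neg _ (h.rt b hb), e, neg_neg])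
  rw [cp_neg_right _ (h.rt a ha)] at h1
  omega

theorem SS.add (h : SS hp p S) (ha : a ∈ S) (hb : b ∈ S) (e : cp hp a b = -1) : a + b ∈ S := by
  have h1 := h.refl b hb a ha
  rwa [e, neg_smul, one_smul, sub_neg_eq_add] at h1

theorem SS.sub (h : SS hp p S) (ha : a ∈ S) (hb : b ∈ S) (e : cp hp a b = 1) : a - b ∈ S := by
  have h1 := h.refl b hb a ha
  rwa [e, one_smul] at h1

theorem SS.a2 (h : SS hp p S) (ha : a ∈ S) (hb : b ∈ S) (e : cp hp a b = -1) : P2 hp a b ∧ A2s a b ⊆ S := by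
  refine ⟨⟨h.rt a ha, h.rt b hb, e, h.neg_one ha hb e⟩, ?_⟩
  rintro _ (rfl | rfl | rfl | rfl | rfl | rfl)
  exacts [ha, hb, h.add ha hb e, h.neg _ ha, h.neg _ hb, h.neg _ (h.add ha hb e)]

theorem SS.cases (h : SS hp p S) (ha : a ∈ S) (hb : b ∈ S) :
    a = b ∨ a = -b ∨ cp hp a b = 0 ∨ cp hp a b = 1 ∨ cp hp a b = -1 := by
  by_cases h1 : a = b
  · exact Or.inl h1
  by_cases h2 : a = -b
  · exact Or.inr (Or.inl h2)
  have := h.le1 a ha b hb h1 h2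
  omega

theorem cp_a2 (h : P2 hp b b') (hc : Rt hp c) (h1 : cp hp b c = 0) (h2 : cp hp b' c = 0) (ha : a ∈ A2s b b') :
    cp hp a c = 0 := by
  rcases ha with rfl | rfl | rfl | rfl | rfl | rfl <;> simp only [cp_neg _ hc, cp_add _ _ hc, h1, h2, add_zero, neg_zero]

/-- **The highest root.** -/
theorem SS.high (h : SS hp p S) {g : Lat l ≃+ Lat l} (hg : ∀ a ∈ S, g a ∈ S)
    (hcp : ∀ a c, Rt hp c → cp hp (g a) (g c) = cp hp a c) {f : Lat l →+ ℤ} (hf : ∀ a ∈ S, f (g a) = f a)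
    (hf0 : ∀ a ∈ S, f a ≠ 0) (hex : ∃ a ∈ S, ∃ b ∈ S, cp hp a b = -1) :
    (∃ c ∈ S, Orb hp p g c) ∧ ((∃ c ∈ S, Orb hp p g c ∧ g c ≠ c ∧ g c ≠ -c) ∨ ∃ b b', P2 hp b b' ∧ A2s b b' ⊆ S ∧
      ((g b = b ∧ g b' = b') ∨ ((∀ a ∈ A2s b b', g a ∈ A2s b b') ∧
        ∀ c ∈ S, ∀ a ∈ A2s b b', a - cp hp a c • c ∈ A2s b b'))) := by
  have hi : ∀ a ∈ S, ∀ i, g^[i] a ∈ S ∧ f (g^[i] a) = f a := fun a ha i => by
    induction i with
    | zero => exact ⟨ha, rfl⟩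
    | succ i ih => rw [Function.iterate_succ_apply', hf _ ih.1]; exact ⟨hg _ ih.1, ih.2⟩
  have L1 : ∀ a ∈ S, ∀ b ∈ S, f a = f b → cp hp a b ≠ 1 := fun a ha b hb e h1 =>
    hf0 _ (h.sub ha hb h1) (by rw [map_sub, e, sub_self])
  have hn : ∀ a ∈ S, ∀ b, f b = f a → b ≠ -a := fun a ha b e h1 => hf0 a ha (by
    rw [h1, map_neg] at e
    omega)
  obtain ⟨θ, ⟨hθ, b₀, hb₀, e₀⟩, hmax⟩ := Set.exists_max_image {a | a ∈ S ∧ ∃ b ∈ S, cp hp a b = -1} f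
    ((finite_Rt hp).subset fun a ha => h.rt a ha.1) (by
      obtain ⟨a, ha, hb⟩ := hex
      exact ⟨a, ha, hb⟩)
  have rθ := h.rt θ hθ
  have hpos : 0 < f θ := by
    have h1 := hmax (-θ) ⟨h.neg θ hθ, -b₀, h.neg _ hb₀, by
      rw [cp_neg_right _ (h.rt _ hb₀), cp_neg _ (h.rt _ hb₀), neg_neg, e₀]⟩
    have h2 := hf0 θ hθ
    rw [map_neg] at h1
    omega
  have hM : ∀ b ∈ S, cp hp θ b = -1 → f b < 0 := fun b hb e => by
    have h1 := hmax (θ + b) ⟨h.add hθ hb e, -θ, h.neg θ hθ, by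
      rw [cp_neg_right _ rθ, cp_add _ _ rθ, cp_self rθ, h.neg_one hθ hb e]; rfl⟩
    have h2 := hf0 b hb
    rw [map_add] at h1
    omega
  have hO : Orb hp p g θ := fun i => by
    obtain ⟨h1, h2⟩ := hi θ hθ i
    rcases h.cases hθ h1 with e | e | e | e | e
    · exact Or.inl e.symm
    · exact Or.inr (Or.inl (by rw [← neg_eq_iff_eq_neg] at e; exact e.symm))
    · exact Or.inr (Or.inr (h.far _ hθ _ h1 e))
    · exact absurd e (L1 _ hθ _ h1 h2.symm)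
    · have := hM _ h1 e
      omega
  refine ⟨⟨θ, hθ, hO⟩, ?_⟩
  by_cases hgθ : g θ = θ
  swap
  · exact Or.inl ⟨θ, hθ, hO, hgθ, hn θ hθ _ (hf θ hθ)⟩
  have s1 : ∀ a ∈ S, cp hp a θ = 1 → θ - a ∈ S ∧ cp hp (θ - a) θ = 1 ∧ cp hp a (θ - a) = -1 := fun a ha e => by
    have h1 := h.one ha hθ e
    have h2 := h.sub hθ ha h1
    refine ⟨h2, by rw [cp_sub _ _ rθ, cp_self rθ, e]; rfl, h.neg_one h2 ha ?_⟩
    rw [cp_sub _ _ (h.rt a ha), h1, cp_self (h.rt a ha)]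
    rfl
  have s2 : ∀ a, cp hp (g a) θ = cp hp a θ := fun a => by
    conv_lhs => rw [← hgθ]
    exact hcp a θ rθ
  have s3 : ∀ a i, cp hp (g^[i] a) θ = cp hp a θ := fun a i => by
    induction i with
    | zero => rfl
    | succ i ih => rw [Function.iterate_succ_apply', s2, ih]
  have K : ∀ a ∈ S, cp hp a θ = 1 → ∀ a' ∈ S, cp hp a' θ = 1 → f a' = f a →
      a' = a ∨ a' = θ - a ∨ cp hp a a' = 0 := fun a ha e a' ha' e' e1 => by
    rcases h.cases ha ha' with e2 | e2 | e2 | e2 | e2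
    · exact Or.inl e2.symm
    · exact absurd e2 (hn a' ha' a e1.symm)
    · exact Or.inr (Or.inr e2)
    · exact absurd e2 (L1 a ha a' ha' e1.symm)
    · refine Or.inr (Or.inl ?_)
      have h1 : cp hp (a + a') θ = 2 := by rw [cp_add _ _ rθ, e, e']; rfl
      rcases h.cases (h.add ha ha' e2) hθ with e3 | e3 | e3 | e3 | e3
      · exact eq_sub_of_add_eq' e3
      · rw [e3, cp_neg _ rθ, cp_self rθ] at h1
        omega
      all_goals omega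
  by_cases c1 : ∃ a ∈ S, cp hp a θ = 1 ∧ g a = a
  · obtain ⟨a, ha, e, e'⟩ := c1
    obtain ⟨h1, -, h2⟩ := s1 a ha e
    exact Or.inr ⟨a, θ - a, (h.a2 ha h1 h2).1, (h.a2 ha h1 h2).2, Or.inl ⟨e', by rw [map_sub, hgθ, e']⟩⟩
  by_cases c2 : ∃ a ∈ S, cp hp a θ = 1 ∧ ∀ i, g^[i] a ≠ θ - a
  · obtain ⟨a, ha, e, e'⟩ := c2
    refine Or.inl ⟨a, ha, fun i => ?_, fun e1 => c1 ⟨a, ha, e, e1⟩, hn a ha _ (hf a ha)⟩
    obtain ⟨h1, h2⟩ := hi a ha i
    rcases K a ha e _ h1 (by rw [s3, e]) h2 with e1 | e1 | e1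
    · exact Or.inl e1
    · exact absurd e1 (e' i)
    · exact Or.inr (Or.inr (h.far _ ha _ h1 e1))
  push Not at c1 c2
  have s4 : ∀ a ∈ S, cp hp a θ = 1 → f θ = 2 * f a := fun a ha e => by
    obtain ⟨i, e1⟩ := c2 a ha e
    have h1 := (hi a ha i).2
    rw [e1, map_sub] at h1
    omega
  have K2 : ∀ a ∈ S, cp hp a θ = 1 → ∀ a' ∈ S, cp hp a' θ = 1 → a' = a ∨ a' = θ - a := fun a ha e a' ha' e' => by
    obtain ⟨h1, h2, -⟩ := s1 a ha e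
    have h3 := s4 a ha e
    have h4 := s4 a' ha' e'
    have h5 := s4 _ h1 h2
    rcases K a ha e a' ha' e' (by omega) with e1 | e1 | e1
    · exact Or.inl e1
    · exact Or.inr e1
    · exact absurd (by rw [cp_sub _ _ (h.rt a' ha'), h.one ha' hθ e', e1, sub_zero]) (L1 _ h1 a' ha' (by omega))
  have ha := h.neg b₀ hb₀
  have e : cp hp (-b₀) θ = 1 := by rw [cp_neg _ rθ, h.neg_one hθ hb₀ e₀, neg_neg]
  generalize -b₀ = a at ha e
  obtain ⟨h1, h2, h3⟩ := s1 a ha e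
  obtain ⟨h4, h5⟩ := h.a2 ha h1 h3
  have h6 : g a = θ - a := (K2 a ha e _ (hg a ha) (by rw [s2, e])).resolve_left (c1 a ha e)
  have h7 : g (θ - a) = a := by rw [map_sub, hgθ, h6, sub_sub_cancel]
  have m1 : ∀ c ∈ S, cp hp c θ = 1 → c ∈ A2s a (θ - a) := fun c hc e' =>
    (K2 a ha e c hc e').elim Or.inl fun e1 => Or.inr (Or.inl e1)
  have m2 : θ ∈ A2s a (θ - a) := Or.inr (Or.inr (Or.inl (add_sub_cancel a θ).symm))
  refine Or.inr ⟨a, θ - a, h4, h5, Or.inr ⟨?_, fun c hc x hx => ?_⟩⟩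
  · have m3 : g a ∈ A2s a (θ - a) := Or.inr (Or.inl h6)
    have m4 : g (θ - a) ∈ A2s a (θ - a) := Or.inl h7
    have m5 : g (a + (θ - a)) ∈ A2s a (θ - a) := by rwa [add_sub_cancel, hgθ]
    rintro _ (rfl | rfl | rfl | rfl | rfl | rfl)
    exacts [m3, m4, m5, map_neg g _ ▸ a2_neg _ m3, map_neg g _ ▸ a2_neg _ m4, map_neg g _ ▸ a2_neg _ m5]
  by_cases hcA : c ∈ A2s a (θ - a)
  · exact a2_refl h4 c hcA x hx
  have rc := h.rt c hc
  have h8 : cp hp c θ = 0 := by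
    rcases h.cases hc hθ with e1 | e1 | e1 | e1 | e1
    · exact absurd (e1 ▸ m2) hcA
    · exact absurd (e1 ▸ a2_neg _ m2) hcA
    · exact e1
    · exact absurd (m1 c hc e1) hcA
    · exact absurd (neg_neg c ▸ a2_neg _ (m1 _ (h.neg c hc) (by rw [cp_neg _ rθ, e1, neg_neg]))) hcA
  have h9 : ∀ y ∈ S, cp hp y θ = 1 → cp hp y c = 0 := fun y hy e1 => by
    have ry := h.rt y hy
    have n1 : y ≠ c := fun e2 => hcA (e2 ▸ m1 y hy e1)
    have n2 : y ≠ -c := fun e2 => hcA (neg_neg c ▸ a2_neg _ (e2 ▸ m1 y hy e1))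
    have b1 := h.le1 y hy c hc n1 n2
    have b2 := h.le1 c hc y hy n1.symm (fun e2 => n2 (by rw [e2, neg_neg]))
    rcases K2 y hy e1 _ (h.refl c hc y hy) (by rw [cp_sub _ _ rθ, cp_smul _ _ rθ, h8, e1, mul_zero, sub_zero]) with e2 | e2
    · exact (smul_eq_zero.1 (sub_eq_self.1 e2)).resolve_right rc.ne_zero'
    · have e3 := congrArg (fun x => cp hp x y) e2
      simp only [cp_sub _ _ ry, cp_smul _ _ ry, cp_self ry, h.one hy hθ e1] at e3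
      nlinarith
  rw [cp_a2 h4 rc (h9 a ha e) (h9 _ h1 h2) hx, zero_smul, sub_zero]
  exact hx

theorem fm_two (ha : Rt hp a) (hc : Rt hp c) (h1 : a ≠ c) (h2 : cp hp a c = 2) : fm hp a a = 2 * fm hp c c := by
  have h3 := cp_lt4 ha hc h1 (ne_neg_of_cp hc (by omega))
  have h4 := (cp_pos_comm ha hc).1 (by omega)
  have h5 := cp_fm ha hc
  rw [h2] at h3 h5
  rw [show cp hp c a = 1 by omega, one_mul] at h5
  exact h5.symm

theorem far_add (ha : Rt hp a) (hb : Rt hp b) (hc : Rt hp c) (h1 : Far hp p a b) (h2 : Far hp p a c)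
    (h0 : cp hp b c = 0) (hbc : Rt hp (b + c)) : Far hp p a (b + c) := by
  have h3 := cp_add_zero ha hb hc hbc h1.1 h2.1
  refine ⟨h3, Or.inr fun hz => ?_⟩
  have h4 := fm_lt ha hbc h3
  have h5 := fm_lt hb hc h0
  have h6 : cp hp (b + c) c = 2 := by rw [cp_add _ _ hc, h0, cp_self hc, zero_add]
  have h7 := fm_two hbc hc (fun e => hb.ne_zero' (add_eq_right.1 e)) h6
  have h8 := fm_two hz hc (fun e => by
    rw [e] at h4
    omega) (by rw [cp_add _ _ hc, h6, h2.1, zero_add])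
  omega

variable (hp) in
/-- symmetries of the root system -/
structure Sym (f : Lat l ≃+ Lat l) : Prop where
  rt : ∀ a, Rt hp (f a) ↔ Rt hp a
  cp : ∀ a c, Rt hp c → cp hp (f a) (f c) = cp hp a c

theorem sym_w (w : M.Group) : Sym hp (repAut M.toCoxeterSystem hp.isCartan w) :=
  ⟨fun a => ⟨fun h => wa_inv_wa (hp := hp) w a ▸ Rt.wa' h w⁻¹, fun h => h.wa' w⟩, fun a c hc => cp_wa w a hc⟩

theorem Sym.far {f : Lat l ≃+ Lat l} (h : Sym hp f) (hc : Rt hp c) : Far hp p (f a) (f c) ↔ Far hp p a c := by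
  unfold Far
  rw [h.cp a c hc, ← map_add, h.rt]

variable (hp p) in
/-- the roots far from `Ψ` -/
def FarS (Ψ : Set (Lat l)) : Set (Lat l) := {c | Rt hp c ∧ ∀ a ∈ Ψ, Far hp p a c}

variable (hp) in
/-- the long roots of `Θ` -/
def LongS (Θ : Set (Lat l)) : Set (Lat l) :=
  {c | c ∈ Θ ∧ ∀ a ∈ Θ, a ≠ c → a ≠ -c → -1 ≤ cp hp a c ∧ cp hp a c ≤ 1}

theorem Sym.farS {f : Lat l ≃+ Lat l} (h : Sym hp f) {Ψ : Set (Lat l)} (hf : ∀ a, f a ∈ Ψ ↔ a ∈ Ψ) (c : Lat l) :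
    f c ∈ FarS hp p Ψ ↔ c ∈ FarS hp p Ψ := by
  refine ⟨fun h1 => ⟨(h.rt c).1 h1.1, fun a ha => (h.far ((h.rt c).1 h1.1)).1 (h1.2 _ ((hf a).2 ha))⟩,
    fun h1 => ⟨(h.rt c).2 h1.1, fun a ha => ?_⟩⟩
  obtain ⟨a, rfl⟩ := f.surjective a
  exact (h.far h1.1).2 (h1.2 a ((hf a).1 ha))

theorem Sym.longS {f : Lat l ≃+ Lat l} (h : Sym hp f) (hΘ : ∀ a ∈ Θ, Rt hp a) (hf : ∀ a, f a ∈ Θ ↔ a ∈ Θ)
    (hc : c ∈ LongS hp Θ) : f c ∈ LongS hp Θ := by
  refine ⟨(hf c).2 hc.1, fun a ha h1 h2 => ?_⟩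
  obtain ⟨a, rfl⟩ := f.surjective a
  rw [h.cp a c (hΘ c hc.1)]
  exact hc.2 a ((hf a).1 ha) (fun e => h1 (by rw [e])) fun e => h2 (by rw [e, map_neg])

theorem farS_w {Ψ : Set (Lat l)} (hc : c ∈ FarS hp p Ψ) {w : M.Group} (e : ∀ a, wa hp w a = a - cp hp a c • c)
    (a : Lat l) : wa hp w a ∈ FarS hp p Ψ ↔ a ∈ FarS hp p Ψ := by
  refine (sym_w w).farS (fun b => ?_) a
  have h1 : ∀ b ∈ Ψ, wa hp w b = b := fun b hb => by rw [e, (hc.2 b hb).1, zero_smul, sub_zero]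
  refine ⟨fun h => ?_, fun h => by show wa hp w b ∈ Ψ; rw [h1 b h]; exact h⟩
  have h2 : wa hp w b = b := by
    have h3 := congrArg (wa hp w⁻¹) (h1 _ h)
    rwa [wa_inv_wa, show repAut M.toCoxeterSystem hp.isCartan w b = wa hp w b from rfl, wa_inv_wa] at h3
  exact h2 ▸ h

theorem ss_long {Ψ : Set (Lat l)} (hΨ : ∀ a ∈ Ψ, Rt hp a) : SS hp p (LongS hp (FarS hp p Ψ)) := by
  have key : ∀ c ∈ LongS hp (FarS hp p Ψ), ∀ a ∈ LongS hp (FarS hp p Ψ),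
      a - cp hp a c • c ∈ LongS hp (FarS hp p Ψ) := fun c hc a ha => by
    obtain ⟨w, -, e⟩ := exists_refl hc.1.1
    rw [← e]
    exact (sym_w w).longS (fun a ha => ha.1) (farS_w hc.1 e) ha
  refine ⟨fun a ha => ha.1.1, fun a ha => refl_self ha.1.1 ▸ key a ha a ha, key,
    fun a ha c hc => hc.2 a ha.1, fun a ha c hc h0 => ⟨h0, Or.inr fun hac => ?_⟩⟩
  have h1 : cp hp (a + c) c = 2 := by rw [cp_add _ _ hc.1.1, h0, cp_self hc.1.1, zero_add]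
  have h2 := hc.2 (a + c) ⟨hac, fun x hx => far_add (hΨ x hx) ha.1.1 hc.1.1 (ha.1.2 x hx) (hc.1.2 x hx) h0 hac⟩
    (fun e => Rt.ne_zero' ha.1.1 (add_eq_right.1 e)) (ne_neg_of_cp hc.1.1 (by omega))
  omega

theorem exists_long (hΘ : ∀ a ∈ Θ, Rt hp a) (hc : c ∈ Θ) : ∃ c, c ∈ LongS hp Θ := by
  obtain ⟨c, h1, h2⟩ := Set.exists_max_image Θ (fun a => fm hp a a) ((finite_Rt hp).subset hΘ) ⟨c, hc⟩
  exact ⟨c, h1, fun a ha n1 n2 => cp_le1 (hΘ a ha) (hΘ c h1) n1 n2 (h2 a ha)⟩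

/-- an invariant positive system -/
theorem SS.adjust (h : SS hp p S) {g : Lat l ≃+ Lat l} (hs : Sym hp g) (hg : ∀ a, g a ∈ S ↔ a ∈ S) :
    ∃ w ∈ WW hp S, ∃ f : Lat l →+ ℤ, (∀ a ∈ S, f (wa hp w (g a)) = f a) ∧ ∀ a ∈ S, f a ≠ 0 := by
  have := finite_WW hp
  obtain ⟨v, hv, h1⟩ := BpExc.Fr.exists_adjust (cs := M.toCoxeterSystem) (h := hp.isCartan) S (WW hp S) (fun a ha => by
    obtain ⟨w, i, e⟩ := h.rt a ha
    exact ⟨w, i, e, subset_closure ⟨w, i, e ▸ ha, rfl⟩⟩) g.symm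
    (fun a ha => (hs.rt _).1 (by rwa [AddEquiv.apply_symm_apply]))
  have h2 := DS.Ex.Tor.pres_symm (cs := M.toCoxeterSystem) (h := hp.isCartan) h.rt h.neg
    (g := (repAut M.toCoxeterSystem hp.isCartan v).trans g.symm) ⟨fun a => by
      rw [← hg, AddEquiv.trans_apply, AddEquiv.apply_symm_apply]
      exact WW_stab h.rt h.refl hv a, h1⟩
  set g' := ((repAut M.toCoxeterSystem hp.isCartan v).trans g.symm).symm with hg'
  have e : ∀ a, g' a = wa hp v⁻¹ (g a) := fun a => rfl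
  obtain ⟨N, hN, h3⟩ := BpExc.Orbit.exists_period (cs := M.toCoxeterSystem) (h := hp.isCartan) (g := g') fun a =>
    ((sym_w v⁻¹).rt (g a)).trans (hs.rt a)
  let f : Lat l →+ ℤ := AddMonoidHom.mk' (fun a => ∑ i ∈ Finset.range N, ht (g'^[i] a)) fun a b => by
    rw [← Finset.sum_add_distrib]
    exact Finset.sum_congr rfl fun i _ => by rw [H123.ExcComb.iter_add, RGD.ht_add]
  have h4 : ∀ a ∈ S, 0 ≤ a → 0 < f a := fun a ha h0 => by
    refine Finset.sum_pos (fun i _ => ?_) ⟨0, Finset.mem_range.2 hN⟩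
    have h5 := H123.ExcComb.iter_S (fun a ha => (h2.1 a).2 ha) h2.2 ha h0 i
    exact RGD.ht_pos (h.rt _ h5.1) h5.2
  refine ⟨v⁻¹, inv_mem hv, f, fun a ha => ?_, fun a ha => ?_⟩
  · have h5 := Finset.sum_range_succ (fun i => ht (g'^[i] a)) N
    rw [Finset.sum_range_succ', h3 a (h.rt a ha)] at h5
    exact add_right_cancel h5
  · rcases (h.rt a ha).pos_or_neg with h0 | h0
    · exact (h4 a ha h0).ne'
    · have h5 := h4 _ (h.neg a ha) (neg_nonneg.2 h0)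
      rw [map_neg] at h5
      omega

variable {d : ℕ} {g0 : Lat l ≃+ Lat l} {L : Type} [Group L] (E : Frame hp p d g0 L)

theorem sym_g : Sym hp E.g := ⟨E.fr.root, E.gcp⟩

theorem hp_a2 (hG : D ≠ chevG2) (h : P2 hp c c') (hA : ∀ a ∈ A2s c c', E.g a ∈ A2s c c') (hq : E.q ≤ 3) :
    HP E (A2s c c') ∨ (E.q = 2 ∧ (E.g^[2] c = c ∨ E.g^[3] c = -c)) := by
  obtain ⟨w, hw, ε, h1, h2⟩ := a2_norm E h hA
  rcases Int.units_eq_one_or ε with rfl | rfl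
  · rw [Units.val_one, one_smul] at h1 h2
    obtain ⟨z, hz, h3⟩ := En.exists_move_MS E (a2_rt h) a2_neg hA hw
    exact Or.inl (HP.of_move hz ((ax_split (E.move z w h3) hG h h1 h2).to_hp h.r1 h1))
  rw [Units.val_neg, Units.val_one, neg_smul, one_smul] at h1 h2
  by_cases h3 : E.q = 3
  · obtain ⟨v, hv, e⟩ := exists_refl h.r1
    obtain ⟨z, hz, h4⟩ := En.exists_move_MS E (a2_rt h) a2_neg hA (mul_mem (hv _ (Or.inl rfl)) hw)
    have h5 := ax_tw (E.move z _ h4) hG h3 (p2_tw h)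
      (by
        rw [E.move_g, wa_mul, map_neg, wa_neg, h2, neg_neg, e, h.c2]
        module)
      (by
        rw [E.move_g, wa_mul, map_add, wa_add, h1, h2, e, cp_add _ _ h.r1, cp_neg _ h.r1, cp_neg _ h.r1, h.c2,
          cp_self h.r1]
        module)
    rw [a2_tw, show -c' + (c + c') = c by abel] at h5
    exact Or.inl (HP.of_move hz (h5.to_hp h.r1 (by rw [E.move_g, wa_mul, h1, e, refl_neg h.r1])))
  have h4 := En.two_le_q E
  refine Or.inr ⟨by omega, ?_⟩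
  obtain ⟨σ, hσ⟩ := h.act_WW (inv_mem hw)
  have h5 : ∀ i j, i ≠ j → E.g (ev c c' i - ev c c' j) = ev c c' (σ j) - ev c c' (σ i) := fun i j hij => by
    have h6 := a2_ind (f := E.g.trans (repAut M.toCoxeterSystem hp.isCartan w)) (ε := -1)
      (by rw [neg_smul, one_smul]; exact h1) (by rw [neg_smul, one_smul]; exact h2) _ (mem_A2s.2 ⟨i, j, hij, rfl⟩)
    rw [← wa_inv_wa (hp := hp) w (E.g _), show wa hp w (E.g _) = _ from h6, neg_smul, one_smul, neg_sub, hσ]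
  have n01 : (0 : Fin 3) ≠ 1 := by decide
  have h6 : (σ (σ 0) = 0 ∧ σ (σ 1) = 1) ∨ (σ (σ (σ 0)) = 0 ∧ σ (σ (σ 1)) = 1) :=
    (by decide : ∀ σ : Equiv.Perm (Fin 3), (σ (σ 0) = 0 ∧ σ (σ 1) = 1) ∨ (σ (σ (σ 0)) = 0 ∧ σ (σ (σ 1)) = 1)) σ
  rw [← ev01 c c']
  refine h6.imp (fun e => ?_) fun e => ?_
  · show E.g (E.g _) = _
    rw [h5 _ _ n01, h5 _ _ (σ.injective.ne n01.symm), e.1, e.2]
  · show E.g (E.g (E.g _)) = _
    rw [h5 _ _ n01, h5 _ _ (σ.injective.ne n01.symm), h5 _ _ (σ.injective.ne (σ.injective.ne n01)), e.1, e.2, neg_sub]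

theorem dvd_of_iter {r : ℕ} (hr : r.Prime) {t : YY D p} (ht : t ∈ TT D (kb p)) (hF : E.F t = t) (htr : t ^ r = 1)
    (hc : Rt hp c) (h1 : ch hp c t ≠ 1) {n : ℕ} :
    (E.g^[n] c = c → (r : ℤ) ∣ E.q ^ n - 1) ∧ (E.g^[n] c = -c → (r : ℤ) ∣ E.q ^ n + 1) := by
  have := Fact.mk hr
  have h2 : IsPrimitiveRoot (ch hp c t) r := by
    have h3 : orderOf (ch hp c t) = r := orderOf_eq_prime (by rw [← ch_pow hc ht, htr, ch_one hc]) h1
    exact h3 ▸ IsPrimitiveRoot.orderOf _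
  have h0 := ch_ne_zero hc ht
  have h3 : ch hp (E.g^[n] c) t = ch hp c t ^ ((E.q : ℤ) ^ n) := by
    induction n with
    | zero => rw [pow_zero, zpow_one]; rfl
    | succ n ih => rw [Function.iterate_succ_apply', ch_g E ht hF (rt_iter E hc n), ih, pow_succ, zpow_mul, zpow_natCast]
  refine ⟨fun e => (h2.zpow_eq_one_iff_dvd _).1 ?_, fun e => (h2.zpow_eq_one_iff_dvd _).1 ?_⟩
  · rw [zpow_sub_one₀ h0, ← h3, e, mul_inv_cancel₀ h0]
  · rw [zpow_add_one₀ h0, ← h3, e, ch_neg hc ht, inv_mul_cancel₀ h0]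

variable [Finite L] {U : Type} [Group U] [Finite U] {τ α β : U →* L} {R R' : Subgroup L}

/-- **`BoxP.k1`.** -/
theorem k1 (big : Big) (co : Core τ α β R R') {r : ℕ} (hr : r.Prime) (h5 : 5 ≤ r) {Q : Set U}
    (hQ : ∀ u ∈ Q, u ^ r = 1 ∧ E.ι (τ u) ∈ TT D (kb p)) : K1 hp p (PsiS hp ((fun u => E.ι (τ u)) '' Q)) := by
  intro c₀ hc₀ hfar
  have hQ1 : ∀ u ∈ Q, E.ι (τ u) ^ r = 1 := fun u hu => by rw [← map_pow, ← map_pow, (hQ u hu).1, map_one, map_one]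
  have hQ' : ∀ u ∈ Q, E.ι (τ u) ∈ TT D (kb p) ∧ ∃ n : ℕ, E.ι (τ u) ^ r ^ n = 1 := fun u hu =>
    ⟨(hQ u hu).2, 1, by rw [pow_one, hQ1 u hu]⟩
  have hgΨ := g_psiS E (Q := (fun u => E.ι (τ u)) '' Q) (by rintro _ ⟨u, hu, rfl⟩; exact ⟨(hQ u hu).2, E.fix _⟩)
  have hR := R_le (hp := hp) co E.inj hr hQ'
  have hdvd : ∀ c ∈ FarS hp p (PsiS hp ((fun u => E.ι (τ u)) '' Q)), ∀ n : ℕ,
      (E.g^[n] c = c → (r : ℤ) ∣ E.q ^ n - 1) ∧ (E.g^[n] c = -c → (r : ℤ) ∣ E.q ^ n + 1) := fun c hc n => by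
    by_contra hcon
    have h1 := (hc.2 c ⟨hc.1, by
      rintro _ ⟨u, hu, rfl⟩
      by_contra h1
      exact hcon (dvd_of_iter E hr (hQ u hu).2 (E.fix _) (hQ1 u hu) hc.1 h1)⟩).1
    rw [cp_self hc.1] at h1
    omega
  suffices H : HP E (FarS hp p (PsiS hp ((fun u => E.ι (τ u)) '' Q))) by
    obtain ⟨X, h0, hX, hle⟩ := H
    exact h0 (fin_perf co E.inj hr hQ' big hX fun x hx => mem_JJ (fun a ha => ha.1)
      (fun a ha h c hc => hc.2 a ⟨ha, by rintro _ ⟨u, hu, rfl⟩; exact h u hu⟩) (hle (mem_map_of_mem _ hx)))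
  have hΨ : ∀ a ∈ PsiS hp ((fun u => E.ι (τ u)) '' Q), Rt hp a := fun a ha => ha.1
  generalize PsiS hp ((fun u => E.ι (τ u)) '' Q) = Ψ at hfar hgΨ hR hdvd hΨ ⊢
  have hS := ss_long (p := p) hΨ
  have hgΘ := (sym_g E).farS (p := p) hgΨ
  have hgS : ∀ a, E.g a ∈ LongS hp (FarS hp p Ψ) ↔ a ∈ LongS hp (FarS hp p Ψ) := fun a =>
    ⟨fun h => E.g.symm_apply_apply a ▸ Sym.longS (f := E.g.symm)
      ⟨fun a => by rw [← (sym_g E).rt, AddEquiv.apply_symm_apply], fun a c hc => by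
        rw [← E.gcp _ _ (((sym_g E).rt _).1 (by rwa [AddEquiv.apply_symm_apply])), AddEquiv.apply_symm_apply,
          AddEquiv.apply_symm_apply]⟩ (fun a ha => ha.1)
      (fun a => by rw [← hgΘ, AddEquiv.apply_symm_apply]) h, (sym_g E).longS (fun a ha => ha.1) hgΘ⟩
  have h2 := En.two_le_q E
  have hnd : ∀ n : ℤ, 0 < n → n ∣ 36 → ¬ (r : ℤ) ∣ n := fun n h0 hn h => by
    have h3 : r ∣ 6 ^ 2 := Int.natCast_dvd_natCast.1 (h.trans hn)
    have h4 := Nat.le_of_dvd (by norm_num) (hr.dvd_of_dvd_pow h3)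
    obtain rfl | rfl : r = 5 ∨ r = 6 := by omega
    · omega
    · exact absurd hr (by decide)
  refine HP.mono (S := LongS hp (FarS hp p Ψ)) ?_ fun a ha => ha.1
  by_cases hex : ∃ a ∈ LongS hp (FarS hp p Ψ), ∃ b ∈ LongS hp (FarS hp p Ψ), cp hp a b = -1
  swap
  · obtain ⟨c, hc⟩ := exists_long (Θ := FarS hp p Ψ) (fun a ha => ha.1) ⟨hc₀, hfar⟩
    refine hp_orb E hS.rt hS.neg (fun a ha => (hgS a).2 ha) hc (fun i => ?_) ?_
    · have h1 := iter_mem E (fun a ha => (hgS a).2 ha) hc i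
      rcases hS.cases hc h1 with e | e | e | e | e
      · exact Or.inl e.symm
      · exact Or.inr (Or.inl (by rw [← neg_eq_iff_eq_neg] at e; exact e.symm))
      · exact Or.inr (Or.inr (hS.far _ hc _ h1 e))
      · exact absurd ⟨_, hS.neg _ hc, _, h1, by rw [cp_neg _ (hS.rt _ h1), e]⟩ hex
      · exact absurd ⟨_, hc, _, h1, e⟩ hex
    · by_cases hq : 4 ≤ E.q
      · exact Or.inl hq
      have h1 := hdvd c hc.1 1
      rw [pow_one] at h1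
      obtain e | e : E.q = 2 ∨ E.q = 3 := by omega
      all_goals
        rw [e] at h1
        exact Or.inr ⟨fun h => hnd _ (by norm_num) (by norm_num) (h1.1 h), fun h => hnd _ (by norm_num) (by norm_num) (h1.2 h)⟩
  have hG : D ≠ chevG2 := by
    intro hG
    obtain ⟨a, ha, b, hb, e⟩ := hex
    obtain ⟨x, hx⟩ : Ψ.Nonempty := by
      rw [Set.nonempty_iff_ne_empty]
      rintro rfl
      obtain ⟨φ, h3, h4⟩ := co.pair.copy
      have h6 : MS D l p ∅ ≤ ⊥ := RGD.Sup_le fun a ha => absurd ha (Set.notMem_empty a)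
      refine co.noncomm ⟨⟨fun u v => h3 (E.inj ?_)⟩⟩
      rw [mem_bot.1 (h6 (hR (mem_map_of_mem _ (h4 _)))), mem_bot.1 (h6 (hR (mem_map_of_mem _ (h4 _))))]
    exact rank_two ((typ_cases hp).2.1 hG) (hΨ x hx) ha.1.1 hb.1.1 (ha.1.2 x hx).1 (hb.1.2 x hx).1 e
      (hS.neg_one ha hb e)
  obtain ⟨w, hw, f, hf, hf0⟩ := hS.adjust (sym_g E) hgS
  obtain ⟨z, hz, h3⟩ := En.exists_move_MS E hS.rt hS.neg (fun a ha => (hgS a).2 ha) hw
  have hg' : ∀ a ∈ LongS hp (FarS hp p Ψ), (E.move z w h3).g a ∈ LongS hp (FarS hp p Ψ) := fun a ha =>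
    (WW_stab hS.rt hS.refl hw _).2 ((hgS a).2 ha)
  obtain ⟨⟨θ, hθ, hO⟩, h4⟩ := hS.high hg' (E.move z w h3).gcp hf hf0 hex
  by_cases hq : 4 ≤ E.q
  · exact HP.of_move hz (hp_orb (E.move z w h3) hS.rt hS.neg hg' hθ hO (Or.inl hq))
  rcases h4 with ⟨c, hc, h4, h6⟩ | ⟨b, b', hb, hA, ⟨h4, h6⟩ | ⟨h4, h6⟩⟩
  · exact HP.of_move hz (hp_orb (E.move z w h3) hS.rt hS.neg hg' hc h4 (Or.inr h6))
  · exact HP.of_move hz (((ax_split _ hG hb h4 h6).to_hp hb.r1 h4).mono hA)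
  rcases hp_a2 E hG hb (fun a ha => (WW_stab hS.rt h6 hw _).1 (h4 a ha)) (by omega) with h7 | ⟨e, h7⟩
  · exact h7.mono hA
  have h8 := hdvd b (hA (Or.inl rfl)).1
  rw [e] at h8
  rcases h7 with h7 | h7
  · exact absurd ((h8 2).1 h7) (hnd _ (by norm_num) (by norm_num))
  · exact absurd ((h8 3).2 h7) (hnd _ (by norm_num) (by norm_num))

/-- **`BoxP`.** -/
theorem boxP (big : Big) : BoxP where
  k1 D l M hp hl hB p _ d g0 L _ _ E U _ _ τ α β R R' co r hr h5 hrp Q hQ := k1 E big co hr h5 hQ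
  a1 D l M hp hl hB p _ d g0 L _ _ E U _ _ τ α β R R' co r hr h5 hrp u hu hT c hc hq := a1 E big hl co hr h5 hu hT hc hq
  a2 D l M hp hl h4 p _ d g0 L _ _ E U _ _ τ α β R R' co c c' hc hc' h1 h2 hA hq := a2 E big h4 co ⟨hc, hc', h1, h2⟩ hA hq
  two D l M hp hl h4 d g0 L _ _ E U _ _ τ α β R R' co c hc hg hq := two h4 E co hc hg hq

end Cfsg.Agent.Cam.Ex.P
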