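import Cfsg.Agent.Cam.Ex.Basic

/-!
# Exceptional rows: the assembly (helper69)

* `exists_dat` : the extremal choice of a toral triangle;
* `Dat.cmb` : the combinatorial data of a toral triangle;
* `boxG2`, `boxF4`, `boxE6`, `box2E6`, `boxE7`, `box3D4` from the boxes of `Cam/Ex/Iface.lean`.
-/

set_option autoImplicit false
set_option linter.unusedVariables false
set_option linter.unusedSectionVars false

namespace Cfsg.Agent.Cam.Ex

open CoxeterSystem Cfsg Cfsg.Lie Subgroup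
open Cfsg.Agent.ChevalleyStructure.CoxeterGeom Cfsg.Agent.ChevalleyStructure.CoxeterGeomTypes
open Cfsg.Agent.Tits.Roots Cfsg.Agent.Nodes.BNOf Cfsg.Agent.Nodes.RGDChev Cfsg.Agent.Nodes.Coroot
open Cfsg.Agent.KFacts.RgdChevCoord Cfsg.Agent.BpExc.TorCent Cfsg.Agent.BpExc.LangFr Cfsg.Agent.BpExc.SubBN
open Cfsg.Agent.Cam.Spor Cfsg.Agent.TwoFusion.PerfCore
open scoped commutatorElement

variable {D : ChevalleyDatum} {l : ℕ} {M : CoxeterMatrix (Fin l)} {hp : IsType D l M} {p : ℕ} [Fact p.Prime]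
  {d : ℕ} {g0 : Lat l ≃+ Lat l} {L : Type} [Group L] [Finite L] {U : Type} [Group U] [Finite U]
  {τ α β : U →* L} {R R' : Subgroup L}

/-- the automorphism of `U` that compares `α` and `θ ∘ τ` -/
theorem exists_cmp (c : Core τ α β R R') : ∃ (θ : MulAut L) (ψ : U →* U), Function.Injective ψ ∧
    ∀ u, θ (τ (ψ u)) = α u := by
  obtain ⟨θ, hθ⟩ := c.aconj
  have h1 : ∀ u, ∃ u', θ (τ u') = α u := by
    intro u
    have h2 : α u ∈ τ.range.map θ.toMonoidHom := by rw [← hθ]; exact ⟨u, rfl⟩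
    obtain ⟨_, ⟨u', rfl⟩, h3⟩ := h2
    exact ⟨u', h3⟩
  choose f hf using h1
  have hinj : Function.Injective fun u => θ (τ u) := θ.injective.comp c.pair.inj
  refine ⟨θ, ⟨⟨f, hinj ?_⟩, fun a b => hinj ?_⟩, fun a b hab => c.pair'.inj ?_, hf⟩
  · show θ (τ (f 1)) = θ (τ 1)
    rw [hf, map_one, map_one, map_one]
  · show θ (τ (f (a * b))) = θ (τ (f a * f b))
    rw [hf, map_mul, map_mul, map_mul, hf, hf]
  · rw [← hf, ← hf]
    exact congrArg (fun u => θ (τ u)) hab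

theorem Frame.q_ne (E : Frame hp p d g0 L) {r : ℕ} (hr : r.Prime) (hne : r ≠ p) : (E.q : ZMod r) ≠ 0 := by
  intro h
  rw [ZMod.natCast_eq_zero_iff] at h
  exact hne ((Nat.prime_dvd_prime_iff_eq hr Fact.out).1 (hr.dvd_of_dvd_pow h))

theorem Frame.two_le (E : Frame hp p d g0 L) : 2 ≤ E.q :=
  Nat.one_lt_pow E.he.ne' (Fact.out : p.Prime).one_lt

/-- **The extremal choice.** -/
theorem exists_dat (chi : BoxChi) (tor : BoxTor) (hl : l ≤ 7) (E : Frame hp p d g0 L) (c : Core τ α β R R') {r : ℕ}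
    (hr : r.Prime) (h5 : 5 ≤ r) (hne : r ≠ p) (hreal : ∃ u v : U, orderOf u = r ∧ v * u * v⁻¹ = u⁻¹) :
    ∃ (E' : Frame hp p d g0 L) (τ' α' β' : U →* L) (Q Q' : Subgroup L) (ζ : kb p) (u v : U)
      (A B : Lat l →+ ZMod r), E'.e = E.e ∧ Dat E' τ' α' β' Q Q' r ζ u v A B := by
  classical
  have : NeZero r := ⟨hr.ne_zero⟩
  obtain ⟨ζ, hζ⟩ := exists_zeta p ((Nat.coprime_primes hr Fact.out).2 hne)
  let P : ℕ → Prop := fun n => ∃ (θ : MulAut L) (u v : U) (z : YY D p), orderOf u = r ∧ v * u * v⁻¹ = u⁻¹ ∧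
    z⁻¹ * E.ι (θ (τ u)) * z ∈ TT D (kb p) ∧ (PsiS hp {z⁻¹ * E.ι (θ (τ u)) * z}).ncard = n
  have hb : ∀ n, P n → n ≤ {a | Rt hp a}.ncard := by
    rintro n ⟨θ, u, v, z, -, -, -, rfl⟩
    exact Set.ncard_le_ncard (fun a ha => ha.1) (finite_Rt hp)
  have hex : ∃ n, P n := by
    obtain ⟨u, v, hu, hv⟩ := hreal
    obtain ⟨E', ⟨-, z, hz⟩, h⟩ := tor D l M hp hl p d g0 L E r hr h5 hne (zpowers (τ u)) (by
      rintro _ ⟨k, rfl⟩
      show (τ u ^ k) ^ r = 1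
      rw [← zpow_natCast, ← zpow_mul, mul_comm, zpow_mul, zpow_natCast, ← map_pow, ← hu, pow_orderOf_eq_one, map_one,
        one_zpow]) (by
      rintro _ ⟨k, rfl⟩ _ ⟨k', rfl⟩
      exact zpow_mul_comm _ _ _)
    refine ⟨_, 1, u, v, z, hu, hv, ?_, rfl⟩
    have h1 := h (τ u) (mem_zpowers _)
    rwa [hz] at h1
  obtain ⟨n0, hn0⟩ := hex
  let n := Nat.findGreatest P ({a | Rt hp a}.ncard)
  have hn : P n := Nat.findGreatest_spec (hb n0 hn0) hn0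
  have hmax : ∀ m, P m → m ≤ n := fun m hm => Nat.le_findGreatest (hb m hm) hm
  obtain ⟨θ, u, v, z, hu, hv, hz, hcard⟩ := hn
  have c' := c.map θ
  set τ' : U →* L := θ.toMonoidHom.comp τ with hτ'
  set α' : U →* L := θ.toMonoidHom.comp α with hα'
  set β' : U →* L := θ.toMonoidHom.comp β with hβ'
  have hur : u ^ r = 1 := by rw [← hu, pow_orderOf_eq_one]
  have hab : Commute (α' u) (β' u) := c'.ab u u
  let Q : Subgroup L :=
    { carrier := {y | ∃ i j : ℤ, y = α' u ^ i * β' u ^ j}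
      one_mem' := ⟨0, 0, by simp⟩
      mul_mem' := by
        rintro _ _ ⟨i, j, rfl⟩ ⟨i', j', rfl⟩
        refine ⟨i + i', j + j', ?_⟩
        rw [zpow_add, zpow_add, (hab.zpow_zpow i' j).symm.mul_mul_mul_comm]
      inv_mem' := by
        rintro _ ⟨i, j, rfl⟩
        refine ⟨-i, -j, ?_⟩
        rw [mul_inv_rev, zpow_neg, zpow_neg, (hab.zpow_zpow i j).inv_inv.eq] }
  have hpw : ∀ (f : U →* L) (i : ℤ), (f u ^ i) ^ r = 1 := fun f i => by
    rw [← zpow_natCast, ← zpow_mul, mul_comm, zpow_mul, zpow_natCast, ← map_pow, hur, map_one, one_zpow]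
  obtain ⟨E', ⟨he, z0, hz0⟩, h⟩ := tor D l M hp hl p d g0 L E r hr h5 hne Q (by
    rintro _ ⟨i, j, rfl⟩
    rw [(hab.zpow_zpow i j).mul_pow, hpw, hpw, mul_one]) (by
    rintro _ ⟨i, j, rfl⟩ _ ⟨i', j', rfl⟩
    rw [(hab.zpow_zpow i' j).symm.mul_mul_mul_comm, (hab.zpow_zpow i j').symm.mul_mul_mul_comm, ← zpow_add,
      ← zpow_add, ← zpow_add, ← zpow_add, add_comm i, add_comm j])
  have ha : E'.ι (α' u) ∈ TT D (kb p) := h _ ⟨1, 0, by simp⟩
  have hb' : E'.ι (β' u) ∈ TT D (kb p) := h _ ⟨0, 1, by simp⟩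
  obtain ⟨A, hA⟩ := chi.ex D l M hp p r ζ hζ hr.pos _ ha (by rw [← map_pow, ← map_pow, hur, map_one, map_one])
  obtain ⟨B, hB⟩ := chi.ex D l M hp p r ζ hζ hr.pos _ hb' (by rw [← map_pow, ← map_pow, hur, map_one, map_one])
  have hX : Chi hp ζ (E'.ι (τ' u)) (A + B) := by
    rw [c'.eq u, map_mul]
    exact hA.mul hζ hB
  refine ⟨E', τ', α', β', _, _, ζ, u, v, A, B, he, c', hr, h5, hne, hζ, hu, hv, hA, hB, hX, ?_⟩
  have hn' : (Psi hp (A + B)).ncard = n := by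
    rw [← hX.psiS hζ, ← hcard]
    have e : E'.ι (τ' u) = (z0⁻¹ * z) * (z⁻¹ * E.ι (θ (τ u)) * z) * (z0⁻¹ * z)⁻¹ := by
      rw [hz0]
      show z0⁻¹ * E.ι (θ (τ u)) * z0 = _
      group
    have h1 := hX.1
    rw [e] at h1 ⊢
    exact ncard_psiS_conj chi hz h1
  intro θ' u' v' hu' hv' z' hz'
  rw [hn']
  have e : z'⁻¹ * E'.ι (θ' (τ' u')) * z' = (z0 * z')⁻¹ * E.ι ((θ' * θ) (τ u')) * (z0 * z') := by
    rw [hz0]
    show z'⁻¹ * (z0⁻¹ * E.ι (θ' (θ (τ u'))) * z0) * z' = (z0 * z')⁻¹ * E.ι (θ' (θ (τ u'))) * (z0 * z')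
    group
  rw [e] at hz' ⊢
  exact hmax _ ⟨θ' * θ, u', v', z0 * z', hu', hv', hz', rfl⟩

/-- `K2` -/
theorem k2_of (chi : BoxChi) (E : Frame hp p d g0 L) {r : ℕ} (hr : r.Prime) {ζ : kb p} (hζ : IsPrimitiveRoot ζ r)
    {a b n : L} {A B : Lat l →+ ZMod r} (hA : Chi hp ζ (E.ι a) A) (hB : Chi hp ζ (E.ι b) B) (har : a ^ r = 1)
    {J : Subgroup L} (hJ : ⁅J, J⁆ = J) (hn : n ∈ J) (hc : ∀ j ∈ J, a * j = j * a) (hnb : n * b * n⁻¹ = b⁻¹) :
    ∃ w ∈ WW hp (Psi hp A), Neg hp w B := by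
  have : NeZero r := ⟨hr.ne_zero⟩
  have hfin : Finite (J.map E.ι) := Finite.of_surjective _ (E.ι.subgroupMap_surjective J)
  have h1 := chi.perf D l M hp p r hr {E.ι a} (fun t ht => by
    rw [Set.mem_singleton_iff.1 ht]
    exact ⟨hA.1, by rw [← map_pow, har, map_one]⟩) (J.map E.ι) (map_perfect hJ E.ι) (by
    rintro _ ⟨j, hj, rfl⟩
    rw [mem_centralizer_iff]
    intro t ht
    rw [Set.mem_singleton_iff.1 ht, ← map_mul, ← map_mul, hc j hj])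
  obtain ⟨w, hw, h2⟩ := chi.conj D l M hp p {E.ι a} (fun t ht => by rw [Set.mem_singleton_iff.1 ht]; exact hA.1)
    (E.ι n) (mem_sup_left (h1 ⟨n, hn, rfl⟩))
  rw [hA.psiS hζ] at hw
  refine ⟨w, hw, fun x => ?_⟩
  have e : E.ι n * E.ι b * (E.ι n)⁻¹ = (E.ι b)⁻¹ := by rw [← map_inv, ← map_mul, ← map_mul, hnb, map_inv]
  have h3 := h2 (E.ι b) hB.1 (by rw [e]; exact inv_mem hB.1)
  rw [e] at h3
  have h4 := hB.of_conj hζ (hB.inv hζ) h3 x
  rw [AddMonoidHom.neg_apply] at h4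
  exact neg_eq_iff_eq_neg.1 h4

/-- **The combinatorial data of a toral triangle.** -/
theorem Dat.cmb (chi : BoxChi) (bp : BoxP) (bk : BoxK) (hl : l ≤ 7) (hB2 : D ≠ chevB2) {E : Frame hp p d g0 L} {r : ℕ}
    {ζ : kb p} {u v : U} {A B : Lat l →+ ZMod r} (h : Dat E τ α β R R' r ζ u v A B) :
    Cmb hp p E.q r g0 E.g A B := by
  have : NeZero r := ⟨h.prime.ne_zero⟩
  have c := h.core
  have hζ := h.prim
  have hur : u ^ r = 1 := by rw [← h.ord, pow_orderOf_eq_one]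
  have hu1 : u ≠ 1 := by
    intro e
    have h1 := h.ord
    rw [e, orderOf_one] at h1
    exact h.prime.one_lt.ne h1
  have hne : ∀ f : U →* L, Function.Injective f → E.ι (f u) ≠ 1 := fun f hf e =>
    hu1 (hf (E.inj (by rw [e, map_one, map_one])))
  obtain ⟨θ, ψ, hψ, hθ⟩ := exists_cmp c
  have himg : ∀ (f : U →* L) (x : U), (fun u => E.ι (f u)) '' {x} = {E.ι (f x)} := fun f x => Set.image_singleton
  refine ⟨h.prime, h.five, E.two_le, E.q_ne h.prime h.ne, E.gr, E.fr.root, E.gcp, h.chiA.ne_zero hζ chi (hne α c.pair'.inj),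
    h.chiB.ne_zero hζ chi (hne β c.binj), h.chiX.ne_zero hζ chi (hne τ c.pair.inj), h.chiA.frob hζ chi E (E.fix _),
    h.chiB.frob hζ chi E (E.fix _), ?_, ?_, ?_, ?_,
    bk.k3 D l M hp hl hB2 p d g0 L E U τ α β R R' r ζ u v A B h, ?_,
    bk.k5 D l M hp hl hB2 p d g0 L E U τ α β R R' r ζ u v A B h⟩
  · exact k2_of chi E h.prime hζ h.chiA h.chiB (by rw [← map_pow, hur, map_one]) c.pair'.perfect (c.bmem v)
      (fun j hj => c.pair'.comm u j hj) (by rw [← map_inv, ← map_mul, ← map_mul, h.inv, map_inv])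
  · refine k2_of chi E h.prime hζ h.chiB h.chiA (by rw [← map_pow, hur, map_one])
      (range_perfect c.simple c.noncomm α) (n := α v) ⟨v, rfl⟩ ?_
      (by rw [← map_inv, ← map_mul, ← map_mul, h.inv, map_inv])
    rintro _ ⟨x, rfl⟩
    exact (c.ab x u).symm
  · have h1 := bp.k1 D l M hp hl hB2 p d g0 L E U τ α β R R' c r h.prime h.five h.ne {u} (fun x hx => by
      rw [Set.mem_singleton_iff.1 hx]
      exact ⟨hur, h.chiX.1⟩)
    rwa [himg, h.chiX.psiS hζ] at h1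
  · have h1 := bp.k1 D l M hp hl hB2 p d g0 L E U _ _ _ _ _ (c.map θ) r h.prime h.five h.ne {ψ u} (fun x hx => by
      rw [Set.mem_singleton_iff.1 hx]
      refine ⟨by rw [← map_pow, hur, map_one], ?_⟩
      show E.ι (θ (τ (ψ u))) ∈ _
      rw [hθ]
      exact h.chiA.1)
    rw [himg] at h1
    have e : E.ι ((θ.toMonoidHom.comp τ) (ψ u)) = E.ι (α u) := by
      show E.ι (θ (τ (ψ u))) = _
      rw [hθ]
    rwa [e, h.chiA.psiS hζ] at h1
  · have h1 := h.ext θ (ψ u) (ψ v) (by rw [orderOf_injective ψ hψ, h.ord])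
      (by rw [← map_inv, ← map_mul, ← map_mul, h.inv, map_inv]) 1
    rw [inv_one, one_mul, mul_one, hθ, h.chiA.psiS hζ] at h1
    exact h1 h.chiA.1

/-- all boxes -/
structure Boxes : Prop where
  frame : BoxFrame
  chi : BoxChi
  tor : BoxTor
  bp : BoxP
  bk : BoxK
  fin : BoxFin
  ends : BoxEnd
  bu : BoxU
  small : BoxSmall

theorem Boxes.tri (b : Boxes) (hl : l ≤ 7) (hB2 : D ≠ chevB2) (E : Frame hp p d g0 L) (c : Core τ α β R R') {r : ℕ}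
    (hr : r.Prime) (h5 : 5 ≤ r) (hne : r ≠ p) (hd : r ∣ Nat.card U) :
    ∃ (E' : Frame hp p d g0 L) (τ' α' β' : U →* L) (Q Q' : Subgroup L) (ζ : kb p) (u v : U)
      (A B : Lat l →+ ZMod r), Dat E' τ' α' β' Q Q' r ζ u v A B ∧ Cmb hp p E'.q r g0 E'.g A B := by
  obtain ⟨E', τ', α', β', Q, Q', ζ, u, v, A, B, -, h⟩ := exists_dat b.chi b.tor hl E c hr h5 hne
    (b.bu.real D l M hp hl hB2 p d g0 L E U τ α β R R' c r hr h5 hne hd)
  exact ⟨E', τ', α', β', Q, Q', ζ, u, v, A, B, h, h.cmb b.chi b.bp b.bk hl hB2⟩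

theorem ne_B2_of_nroots {D : ChevalleyDatum} (h : D.nroots ≠ chevB2.nroots) : D ≠ chevB2 := fun e => h (by rw [e])

theorem g2_ne : chevG2 ≠ chevB2 := ne_B2_of_nroots (by decide +kernel)
theorem d4_ne : chevD4 ≠ chevB2 := ne_B2_of_nroots (by decide +kernel)
theorem f4_ne : chevF4 ≠ chevB2 := ne_B2_of_nroots (by decide +kernel)
theorem e6_ne : chevE6 ≠ chevB2 := ne_B2_of_nroots (by decide +kernel)
theorem e7_ne : chevE7 ≠ chevB2 := ne_B2_of_nroots (by decide +kernel)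

theorem exists_prime {N p m : ℕ} (h : ¬ ∀ r : ℕ, r.Prime → m ≤ r → r ∣ N → r = p) :
    ∃ r : ℕ, r.Prime ∧ m ≤ r ∧ r ≠ p ∧ r ∣ N := by
  by_contra hc
  exact h fun r h1 h2 h3 => by_contra fun h4 => hc ⟨r, h1, h2, h4, h3⟩

theorem five_of {N p : ℕ} (h5 : ¬ ∀ r : ℕ, r.Prime → 5 ≤ r → r ∣ N → r = p)
    (h7 : ∀ r : ℕ, r.Prime → 7 ≤ r → r ∣ N → r = p) : 5 ≠ p ∧ 5 ∣ N := by
  obtain ⟨r, h1, h2, h3, h4⟩ := exists_prime h5
  have h6 : r < 7 := lt_of_not_ge fun h => h3 (h7 r h1 h h4)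
  have h8 : r = 5 := by
    rcases (show r = 5 ∨ r = 6 by omega) with h | h
    · exact h
    · subst h
      exact absurd h1 (by decide)
  subst h8
  exact ⟨h3, h4⟩

theorem Boxes.g2 (b : Boxes) : BoxG2 := fun big red => row_of big red fun L _ _ _ hL => by
  obtain ⟨p, _, ⟨E⟩⟩ := b.frame.g2 L hL
  refine ⟨b.bu.rank _ _ _ tG2 (by norm_num) p _ _ L E, fun U _ _ τ α β R R' c => ?_⟩
  obtain ⟨r, h1, h2, h3, h4⟩ := exists_prime (b.small.g2 p L E U τ α β R R' c)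
  obtain ⟨E', τ', α', β', Q, Q', ζ, u, v, A, B, -, h⟩ := b.tri (by norm_num) g2_ne E c h1 h2 h3 h4
  exact b.fin.g2 _ _ _ _ _ _ _ h

theorem Boxes.td4 (b : Boxes) : Box3D4 := fun big red => row_of big red fun L _ _ _ hL => by
  obtain ⟨p, _, g0, hg0, ⟨E⟩⟩ := b.frame.td4 L hL
  refine ⟨b.bu.rank _ _ _ tD4 (by norm_num) p _ _ L E, fun U _ _ τ α β R R' c => ?_⟩
  obtain ⟨r, h1, h2, h3, h4⟩ := exists_prime (b.small.d4 g0 hg0 p L E U τ α β R R' c)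
  obtain ⟨E', τ', α', β', Q, Q', ζ, u, v, A, B, -, h⟩ := b.tri (by norm_num) d4_ne E c h1 h2 h3 h4
  exact b.fin.d4 _ _ _ _ _ _ _ hg0 h

theorem Boxes.f4 (b : Boxes) : BoxF4 := fun big red => row_of big red fun L _ _ _ hL => by
  obtain ⟨p, _, ⟨E⟩⟩ := b.frame.f4 L hL
  refine ⟨b.bu.rank _ _ _ tF4 (by norm_num) p _ _ L E, fun U _ _ τ α β R R' c => ?_⟩
  obtain ⟨r, h1, h2, h3, h4⟩ := exists_prime (b.small.f4 p L E U τ α β R R' c)
  obtain ⟨E', τ', α', β', Q, Q', ζ, u, v, A, B, h', h⟩ := b.tri (by norm_num) f4_ne E c h1 h2 h3 h4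
  exact b.ends.f4 p L E' U τ' α' β' Q Q' r ζ u v A B h' (b.fin.f4 _ _ _ _ _ _ _ h)

theorem four_ne {r : ℕ} (hr : r.Prime) (h7 : 7 ≤ r) (h : ((4 : ℕ) : ZMod r) = 1 ∨ ((4 : ℕ) : ZMod r) = -1) : False := by
  rcases h with h | h
  · have h1 : ((3 : ℕ) : ZMod r) = 0 := by
      have : ((4 : ℕ) : ZMod r) = (3 : ℕ) + 1 := by norm_num
      rw [this] at h
      exact add_eq_right.1 h
    rw [ZMod.natCast_eq_zero_iff] at h1
    have := Nat.le_of_dvd (by norm_num) h1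
    omega
  · have h1 : ((5 : ℕ) : ZMod r) = 0 := by
      have : ((5 : ℕ) : ZMod r) = (4 : ℕ) + 1 := by norm_num
      rw [this, h, neg_add_cancel]
    rw [ZMod.natCast_eq_zero_iff] at h1
    have := Nat.le_of_dvd (by norm_num) h1
    omega

theorem Boxes.e6' (b : Boxes) {d : ℕ} (hd : d ∣ 3) {ε : ℤˣ} (E : Frame tE6 p d (sg 6 ε) L) : Rank7 L ∧ NoCore L := by
  refine ⟨b.bu.rank _ _ _ tE6 (by norm_num) p _ _ L E, fun U _ _ τ α β R R' c => ?_⟩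
  by_cases h7 : ∀ r : ℕ, r.Prime → 7 ≤ r → r ∣ Nat.card U → r = p
  · obtain ⟨h3, h4⟩ := five_of (b.small.e6 d ε hd p L E U τ α β R R' c) h7
    obtain ⟨E', τ', α', β', Q, Q', ζ, u, v, A, B, h', h⟩ := b.tri (by norm_num) e6_ne E c (by norm_num) le_rfl h3 h4
    exact b.small.e6five d ε hd p L E' U τ' α' β' Q Q' ζ u v A B h' h h7
  · obtain ⟨r, h1, h2, h3, h4⟩ := exists_prime h7
    obtain ⟨E', τ', α', β', Q, Q', ζ, u, v, A, B, h', h⟩ := b.tri (by norm_num) e6_ne E c h1 (by omega) h3 h4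
    have h8 := b.fin.e6 _ _ _ _ _ _ _ h2 h
    refine b.ends.e6 p d hd ε L E' U τ' α' β' Q Q' r ζ u v A B h' (fun h9 => ?_) h8
    have h10 := h8.1
    rw [h9.1] at h10
    exact four_ne h1 h2 h10

theorem Boxes.e6 (b : Boxes) : BoxE6 := fun big red => row_of big red fun L _ _ _ hL => by
  obtain ⟨p, _, d, hd, ⟨E⟩⟩ := b.frame.e6 L hL
  exact b.e6' hd E

theorem Boxes.te6 (b : Boxes) : Box2E6 := fun big red => row_of big red fun L _ _ _ hL => by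
  obtain ⟨p, _, d, hd, ⟨E⟩⟩ := b.frame.te6 L hL
  exact b.e6' hd E

theorem Boxes.e7 (b : Boxes) : BoxE7 := fun big red => row_of big red fun L _ _ _ hL => by
  obtain ⟨p, _, d, hd, ⟨E⟩⟩ := b.frame.e7 L hL
  refine ⟨b.bu.rank _ _ _ tE7 (by norm_num) p _ _ L E, fun U _ _ τ α β R R' c => ?_⟩
  by_cases h7 : ∀ r : ℕ, r.Prime → 7 ≤ r → r ∣ Nat.card U → r = p
  · obtain ⟨h3, h4⟩ := five_of (b.small.e7 d hd p L E U τ α β R R' c) h7
    obtain ⟨E', τ', α', β', Q, Q', ζ, u, v, A, B, h', h⟩ := b.tri (by norm_num) e7_ne E c (by norm_num) le_rfl h3 h4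
    exact b.small.e7five d hd p L E' U τ' α' β' Q Q' ζ u v A B h' h h7
  · obtain ⟨r, h1, h2, h3, h4⟩ := exists_prime h7
    obtain ⟨E', τ', α', β', Q, Q', ζ, u, v, A, B, h', h⟩ := b.tri (by norm_num) e7_ne E c h1 (by omega) h3 h4
    exact b.ends.e7 p d hd L E' U τ' α' β' Q Q' r ζ u v A B h' (b.fin.e7 _ _ _ _ _ _ _ h2 h)

end Cfsg.Agent.Cam.Ex
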