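import Cfsg.Agent.Cam.Ex.Basic

/-!
# Exceptional rows: interface for `r = 5` in characteristic two (helper69)

`BoxFin5` (finite check for `r = 5`), `BoxGrp5` (simple `{2,3,5}`-groups), `BoxOut3` (`Out E₆(4)`), `BoxSL3` (a perfect
group fixed by a graph automorphism of an `A₂` factor in characteristic two is centralized by a torus).
-/

set_option autoImplicit false
set_option linter.unusedVariables false

namespace Cfsg.Agent.Cam.Ex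

open CoxeterSystem Cfsg Cfsg.Lie Subgroup
open Cfsg.Agent.ChevalleyStructure.CoxeterGeom Cfsg.Agent.ChevalleyStructure.CoxeterGeomTypes
open Cfsg.Agent.Tits.Roots Cfsg.Agent.Nodes.BNOf Cfsg.Agent.Nodes.RGDChev Cfsg.Agent.Nodes.Coroot
open Cfsg.Agent.KFacts.RgdChevCoord Cfsg.Agent.BpExc.TorCent Cfsg.Agent.BpExc.LangFr Cfsg.Agent.BpExc.SubBN
open Cfsg.Agent.Cam.Spor
open scoped commutatorElement

section defs

variable {D : ChevalleyDatum} {l : ℕ} {M : CoxeterMatrix (Fin l)} (hp : IsType D l M)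

/-- `A2s c c'` is a component of `S` -/
def A2c (S : Set (Lat l)) (c c' : Lat l) : Prop :=
  c ∈ S ∧ c' ∈ S ∧ cp hp c c' = -1 ∧ cp hp c' c = -1 ∧ ∀ a ∈ S, a ∈ A2s c c' ∨ (cp hp a c = 0 ∧ cp hp a c' = 0)

/-- `f` acts on `A2s c c'` as `ε` times an element of its reflection group -/
def ActA2 (f : Lat l → Lat l) (ε : ℤˣ) (c c' : Lat l) : Prop :=
  ∃ w ∈ WW hp (A2s c c'), ∀ a ∈ A2s c c', f a = (ε : ℤ) • wa hp w a

/-- every character that is fixed by the Frobenius map, inverted together with `A` and kills `Psi A` is a multiple of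
`A` -/
def K5s (q : ℕ) {r : ℕ} (g : Lat l ≃+ Lat l) (A : Lat l →+ ZMod r) : Prop :=
  ∀ Z : Lat l →+ ZMod r, Psi hp A ⊆ Psi hp Z → (∀ a, Z (g a) = (q : ZMod r) * Z a) →
    (∃ w, Neg hp w A ∧ Neg hp w Z) → ∃ c : ZMod r, ∀ a, Z a = c * A a

end defs

/-- [helper12] the finite check for `r = 5` -/
structure BoxFin5 : Prop where
  e6 : ∀ p q ε g A B, Cmb tE6 p q 5 (sg 6 ε) g A B → ((q : ZMod 5) = 1 ∨ (q : ZMod 5) = -1) ∧
    ∃ θ : Lat 6 →+ ℤ, (∃ a, Rt tE6 a ∧ θ a = 1) ∧ Psi tE6 (A + B) ⊆ Psi tE6 θ ∧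
      (∀ w, Neg tE6 w (A + B) → Fixs tE6 w θ) ∧ ∀ a, θ (g a) = (ε : ℤ) * θ a
  e7 : ∀ p q g0 g A B, Cmb tE7 p q 5 g0 g A B → K5s tE7 q g A → EndE7 q g A B ∨
    ∃ c c', A2c tE7 (Psi tE7 A) c c' ∧ (∀ w, Neg tE7 w A → ActA2 tE7 (wa tE7 w) (-1) c c') ∧
      ∃ ε : ℤˣ, (q : ZMod 5) = ((ε : ℤ) : ZMod 5) ∧ ActA2 tE7 g ε c c'

/-- simple groups with all prime divisors at most five (`A₅`, `A₆`, `U₄(2)` by S3719) -/
def BoxGrp5 : Prop := ∀ (U : Type) [Group U] [Finite U], IsSimpleGroup U → ¬ IsMulCommutative U →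
  (∀ r : ℕ, r.Prime → r ∣ Nat.card U → r ≤ 5) →
  (∀ u t : U, orderOf u = 5 → t * u = u * t → t ∈ zpowers u) ∧
    ∀ σ : MulAut U, Odd (orderOf σ) → ∃ t : U, σ = MulAut.conj t

/-- `Out E₆(4)` has only one subgroup of order three -/
def BoxOut3 : Prop := ∀ (d : ℕ) (L : Type) [Group L] [Finite L] (E : Frame tE6 2 d (sg 6 1) L), E.q = 4 →
  ∀ a b : Cfsg.Out L, orderOf a = 3 → orderOf b = 3 → b ∈ zpowers a

/-- a perfect group fixed by a graph automorphism of an `A₂` factor, `E₇`, characteristic two -/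
def BoxSL3 : Prop := ∀ (d : ℕ) (L : Type) [Group L] [Finite L] (E : Frame tE7 2 d (sg 7 1) L) (x n : L)
  (R : Subgroup L) (c c' : Lat 7) (ε : ℤˣ), E.ι x ∈ TT chevE7 (kb 2) → x ^ 5 = 1 → n * x * n⁻¹ = x⁻¹ →
  ⁅R, R⁆ = R → (∀ y ∈ R, x * y = y * x) → (∀ y ∈ R, n * y = y * n) →
  A2c tE7 (PsiS tE7 {E.ι x}) c c' →
  (∀ w, (∀ a, Rt tE7 a → ch tE7 (wa tE7 w a) (E.ι x)⁻¹ = ch tE7 a (E.ι x)) → ActA2 tE7 (wa tE7 w) (-1) c c') →
  (E.q : ZMod 5) = ((ε : ℤ) : ZMod 5) → ActA2 tE7 E.g ε c c' → ¬ Cen E R (A2s c c') →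
  ∃ y ∈ MS chevE7 7 2 (A2s c c'), E.F y = y ∧ y ^ 5 = 1 ∧ (∀ z ∈ R, E.ι z * y = y * E.ι z) ∧
    E.ι n * y * (E.ι n)⁻¹ = y⁻¹ ∧ ¬ ∀ a ∈ A2s c c', ∀ z ∈ XR chevE7 7 2 a, y * z = z * y

end Cfsg.Agent.Cam.Ex
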