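import Cfsg.Agent.Cam.Ex.ConnTor
import Cfsg.Agent.Cam.Ex.IfaceB
import Cfsg.Agent.Cam.Ex.Asm
import Cfsg.Agent.Cam.Red.Comp

/-!
# Exceptional rows, `r = 5`, characteristic two: tools and the case `E₇` (helper33)

* `fix_of_chi`, `mem_range`, `comm_of_psi`, `conj_of_rp` : torus elements;
* `mem_zpowers_of` : an element of order five centralizing `R` and inverted by an element of `T`;
* `e7` : no toral triangle in `E₇`.
-/

set_option autoImplicit false
set_option linter.unusedVariables false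
set_option linter.unusedSectionVars false

namespace Cfsg.Agent.Cam.Ex.Five2

open CoxeterSystem Cfsg Cfsg.Lie Subgroup
open Cfsg.Agent.ChevalleyStructure.CoxeterGeom Cfsg.Agent.ChevalleyStructure.CoxeterGeomTypes
open Cfsg.Agent.Tits.Roots Cfsg.Agent.Nodes.BNOf Cfsg.Agent.Nodes.RGDChev Cfsg.Agent.Nodes.Coroot
open Cfsg.Agent.KFacts.RgdChevCoord Cfsg.Agent.BpExc.TorCent Cfsg.Agent.BpExc.LangFr Cfsg.Agent.BpExc.SubBN
open Cfsg.Agent.Cam.Spor Cfsg.Agent.TwoFusion.PerfCore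
open Cfsg.Agent.DS.Nt (RP)
open scoped commutatorElement

variable {D : ChevalleyDatum} {l : ℕ} {M : CoxeterMatrix (Fin l)} {hp : IsType D l M} {p : ℕ} [Fact p.Prime]
  {d : ℕ} {g0 : Lat l ≃+ Lat l} {L : Type} [Group L] [Finite L] {U : Type} [Group U] [Finite U]
  {τ α β : U →* L} {R R' : Subgroup L}

section torus

theorem tcomm (hp : IsType D l M) {s t : YY D p} (hs : s ∈ TT D (kb p)) (ht : t ∈ TT D (kb p)) : s * t = t * s :=
  BpExc.TorChev.TT_comm hp s hs t ht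

/-- a torus element with `ch (g a) t = ch a t ^ q` is fixed -/
theorem fix_of_ch (E : Frame hp p d g0 L) {t : YY D p} (ht : t ∈ TT D (kb p))
    (h : ∀ a, Rt hp a → ch hp (E.g a) t = ch hp a t ^ E.q) : E.F t = t := by
  refine chi_sep (hp := hp) ((E.fr.tor t).2 ht) ht fun b hb => ?_
  obtain ⟨a, rfl⟩ := E.g.surjective b
  have ha : Rt hp a := (E.fr.root a).1 hb
  rw [boxChi.frob D l M hp p d g0 L E t ht a ha, h a ha]

theorem fix_of_chi (E : Frame hp p d g0 L) {m : ℕ} [NeZero m] {ζ : kb p} (hζ : IsPrimitiveRoot ζ m) {t : YY D p}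
    {φ : Lat l →+ ZMod m} (h : Chi hp ζ t φ) (hφ : ∀ a, φ (E.g a) = (E.q : ZMod m) * φ a) : E.F t = t :=
  fix_of_ch E h.1 fun a ha => by rw [h.2 _ ((E.fr.root a).2 ha), h.2 a ha, hφ, zeta_nsmul hζ]

/-- fixed elements of order five lie in `ι L` -/
theorem mem_range (E : Frame hp p d g0 L) {y : YY D p} (hy : E.F y = y) (h5 : y ^ 5 = 1) : y ∈ E.ι.range := by
  refine DS.Nt.mem_of_pow_coprime (a := d) (b := 5) (E.idx y hy) (by rw [h5]; exact one_mem _) ?_
  rcases E.dle with h | h | h <;> rw [h] <;> norm_num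

/-- a torus element killed by the roots killing `t` commutes with `M_t` -/
theorem comm_of_psi {Q : Set (YY D p)} {y : YY D p} (hy : y ∈ TT D (kb p)) (h : ∀ a ∈ PsiS hp Q, ch hp a y = 1)
    {m : YY D p} (hm : m ∈ MS D l p (PsiS hp Q)) : y * m = m * y :=
  DS.Nt.comm_Mz (hp := hp) hy (fun a ha => (cX_rt hy ha.1).trans (h a ha)) hm

/-- the conjugate of a torus element by a representative -/
theorem conj_of_rp {w : M.Group} {k : YY D p} (hk : RP hp p w k) {s t : YY D p} (hs : s ∈ TT D (kb p))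
    (ht : t ∈ TT D (kb p)) (h : ∀ a, Rt hp a → ch hp (wa hp w a) t = ch hp a s) : k * s * k⁻¹ = t := by
  refine chi_sep (hp := hp) (hk.conj_mem hs) ht fun b hb => ?_
  have h1 := ch_rp hk hs (hb.wa' w⁻¹)
  have h2 := h _ (hb.wa' w⁻¹)
  rw [wa_wa_inv] at h1 h2
  rw [h1, h2]

/-- an element inverting `x` acts on the centre of `M_x T` as any representative inverting `x` -/
theorem conj_eq_of_inv (hl : l ≤ 7) {x n k y : YY D p} (hx : x ∈ TT D (kb p)) (h5 : x ^ 5 = 1)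
    (hn : n * x * n⁻¹ = x⁻¹) (hk : k * x * k⁻¹ = x⁻¹) (hy : k * y * k⁻¹ ∈ TT D (kb p))
    (h : ∀ a ∈ PsiS hp {x}, ch hp a (k * y * k⁻¹) = 1) : n * y * n⁻¹ = k * y * k⁻¹ := by
  have h1 : n * k⁻¹ * x = x * (n * k⁻¹) := by
    have h2 : k⁻¹ * x * k = x⁻¹ := by
      have h3 := congrArg (·⁻¹) hk
      simp only [mul_inv_rev, inv_inv] at h3
      calc k⁻¹ * x * k = k⁻¹ * (k * (x⁻¹ * k⁻¹)) * k := by rw [h3]
        _ = x⁻¹ := by group
    have h4 : n * x⁻¹ * n⁻¹ = x := by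
      have h3 := congrArg (·⁻¹) hn
      simp only [mul_inv_rev, inv_inv] at h3
      rw [mul_assoc, h3]
    calc n * k⁻¹ * x = n * (k⁻¹ * x * k) * n⁻¹ * (n * k⁻¹) := by group
      _ = _ := by rw [h2, h4]
  obtain ⟨m, hm, t, ht, e⟩ := mem_MT_of_comm hp hl (r := 5) (by norm_num) le_rfl (Set.finite_singleton x)
    (fun s hs => by rw [Set.mem_singleton_iff.1 hs]; exact ⟨hx, 1, by rw [pow_one, h5]⟩) (c := n * k⁻¹)
    (fun s hs => by rw [Set.mem_singleton_iff.1 hs]; exact h1)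
  have h2 := comm_of_psi hy h hm
  have h3 := tcomm hp hy ht
  calc n * y * n⁻¹ = (n * k⁻¹) * (k * y * k⁻¹) * (n * k⁻¹)⁻¹ := by group
    _ = m * (t * (k * y * k⁻¹)) * (m * t)⁻¹ := by rw [e, mul_assoc m t]
    _ = (k * y * k⁻¹) * m * t * (m * t)⁻¹ := by rw [← h3, h2, mul_assoc m _ t]
    _ = _ := by group

/-- a perfect subgroup of `L` commuting with a toral element of order five -/
theorem le_MS (E : Frame hp p d g0 L) {x : L} (hx : E.ι x ∈ TT D (kb p)) (h5 : x ^ 5 = 1) {J : Subgroup L}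
    (hJ : ⁅J, J⁆ = J) (hc : ∀ j ∈ J, x * j = j * x) {j : L} (hj : j ∈ J) : E.ι j ∈ MS D l p (PsiS hp {E.ι x}) := by
  refine chi_perf hp (r := 5) (by norm_num) (Q := {E.ι x}) (fun t ht => ?_) (map_perfect hJ E.ι) ?_ ⟨j, hj, rfl⟩
  · rw [Set.mem_singleton_iff.1 ht]
    exact ⟨hx, 1, by rw [pow_one, ← map_pow, h5, map_one]⟩
  · rintro _ ⟨i, hi, rfl⟩
    rw [mem_centralizer_iff]
    intro t ht
    rw [Set.mem_singleton_iff.1 ht, ← map_mul, ← map_mul, hc i hi]

theorem chi_pow {m : ℕ} [NeZero m] {ζ : kb p} (hζ : IsPrimitiveRoot ζ m) {t : YY D p} {φ : Lat l →+ ZMod m}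
    (h : Chi hp ζ t φ) (n : ℕ) : Chi hp ζ (t ^ n) (n • φ) := by
  induction n with
  | zero => rw [pow_zero, zero_smul]; exact chi_one hζ
  | succ n ih => rw [pow_succ, succ_nsmul]; exact ih.mul hζ h

theorem four_le {q : ℕ} (h2 : 2 ≤ q) (h : (q : ZMod 5) = 1 ∨ (q : ZMod 5) = -1) : 4 ≤ q := by
  by_contra h4
  have h5 : q = 2 ∨ q = 3 := by omega
  rcases h5 with rfl | rfl
  · revert h
    decide
  · revert h
    decide

end torus

section grp

/-- an element of order five centralizing `R` and `τ u` and inverted by an element of `T` is a power of `τ u` -/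
theorem mem_zpowers_of (P : Pair τ R) (h5 : ∀ u t : U, orderOf u = 5 → t * u = u * t → t ∈ zpowers u) {u v : U}
    (hu : orderOf u = 5) {y : L} (hy : y ^ 5 = 1) (hR : ∀ r ∈ R, r * y = y * r) (hn : τ v * y * (τ v)⁻¹ = y⁻¹)
    (hc : y * τ u = τ u * y) : ∃ k : ℕ, y = τ u ^ k := by
  have h1 : y ∈ normalizer (τ.range : Set L) := P.cnorm (mem_centralizer_iff.2 hR)
  have h2 : y ^ 2 ∈ τ.range := by
    have h3 : y ^ 2 = y * τ v * y⁻¹ * (τ v)⁻¹ := by
      have h4 := congrArg (·⁻¹) hn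
      simp only [mul_inv_rev, inv_inv] at h4
      calc y ^ 2 = y * (τ v * (y⁻¹ * (τ v)⁻¹)) := by rw [h4, pow_two]
        _ = _ := by group
    rw [h3]
    exact mul_mem (conj_mem_of_norm h1 ⟨v, rfl⟩) (inv_mem ⟨v, rfl⟩)
  obtain ⟨t, ht⟩ : y ∈ τ.range :=
    DS.Nt.mem_of_pow_coprime (a := 2) (b := 5) h2 (by rw [hy]; exact one_mem _) (by norm_num)
  have h3 := h5 u t hu (P.inj (by rw [map_mul, map_mul, ht, hc]))
  obtain ⟨k, hk⟩ := (mem_powers_iff_mem_zpowers.2 h3 : t ∈ Submonoid.powers u)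
  exact ⟨k, by rw [← ht, ← hk, map_pow]⟩

/-- the pair of `α` conjugate to the pair of `τ` -/
theorem exists_pair (c : Core τ α β R R') : ∃ (τ' α' β' : U →* L) (Q Q' : Subgroup L) (ψ : U →* U),
    Core τ' α' β' Q Q' ∧ Function.Injective ψ ∧ (∀ u, τ' (ψ u) = α u) ∧ ∀ u, ∀ r ∈ Q, α u * r = r * α u := by
  obtain ⟨θ, ψ, hψ, hθ⟩ := exists_cmp c
  refine ⟨_, _, _, _, _, ψ, c.map θ, hψ, hθ, fun u r hr => ?_⟩
  rw [← hθ]
  exact (c.map θ).pair.comm (ψ u) r hr

theorem primes_le {N : ℕ} (h : ∀ r : ℕ, r.Prime → 7 ≤ r → r ∣ N → r = 2) : ∀ r : ℕ, r.Prime → r ∣ N → r ≤ 5 := by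
  intro r h1 h2
  by_contra h3
  by_cases h4 : r = 6
  · subst h4
    exact absurd h1 (by decide)
  · have := h r h1 (by omega) h2
    omega

end grp

section a2

theorem rt_A2s {c c' : Lat l} (hc : Rt hp c) (hc' : Rt hp c') (h : cp hp c' c = -1) : ∀ a ∈ A2s c c', Rt hp a := by
  have := finite_WW hp
  have h1 : Rt hp (c + c') := by
    have h2 := isRoot_refl M.toCoxeterSystem hp.isCartan hc' hc
    rwa [show cpr M.toCoxeterSystem hp.isCartan c' c = -1 from h, neg_smul, one_smul, sub_neg_eq_add, add_comm] at h2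
  rintro a (rfl | rfl | rfl | rfl | rfl | rfl)
  exacts [hc, hc', h1, hc.neg, hc'.neg, h1.neg]

theorem psi_A2s {K : Type} [AddCommGroup K] {φ : Lat l →+ K} {c c' : Lat l} (h : A2c hp (Psi hp φ) c c') :
    A2s c c' ⊆ Psi hp φ := by
  intro a ha
  refine ⟨rt_A2s h.1.1 h.2.1.1 h.2.2.2.1 a ha, ?_⟩
  have h1 := h.1.2
  have h2 := h.2.1.2
  rcases ha with rfl | rfl | rfl | rfl | rfl | rfl <;> simp only [map_add, map_neg, h1, h2, add_zero, neg_zero]

theorem neg_A2s {c c' a : Lat l} (ha : a ∈ A2s c c') : -a ∈ A2s c c' := by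
  rcases ha with rfl | rfl | rfl | rfl | rfl | rfl <;> simp [A2s]

theorem refl_A2s {c c' : Lat l} (hc : Rt hp c) (hc' : Rt hp c') (h : cp hp c c' = -1) (h' : cp hp c' c = -1) :
    ∀ b ∈ A2s c c', ∀ a ∈ A2s c c', a - cp hp a b • b ∈ A2s c c' := by
  have := finite_WW hp
  have hs : Rt hp (c + c') := rt_A2s hc hc' h' _ (by simp [A2s])
  have e1 : cp hp c c = 2 := cpr_self _ _ hc
  have e2 : cp hp c' c' = 2 := cpr_self _ _ hc'
  have e3 : cp hp (c + c') (c + c') = 2 := cpr_self _ _ hs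
  have add : ∀ {b}, Rt hp b → ∀ x y, cp hp (x + y) b = cp hp x b + cp hp y b := fun hb x y => cpr_add _ _ x y hb
  have neg : ∀ {b}, Rt hp b → ∀ x, cp hp (-x) b = -cp hp x b := fun hb x => cpr_neg _ _ x hb
  have e4 : cp hp c (c + c') = 1 := by
    obtain ⟨w, i, hw⟩ := hc
    have h1 := cp_wa (hp := hp) (Nodes.SubComb.rfl' M.toCoxeterSystem w i) c hs
    unfold wa at h1
    rw [rep_rfl'_eq, rep_rfl'_eq, ← hw, show cpr M.toCoxeterSystem hp.isCartan c c = 2 from e1,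
      show cpr M.toCoxeterSystem hp.isCartan (c + c') c = 1 from by
        have h2 := add ⟨w, i, hw⟩ c c'
        rw [e1, h'] at h2
        exact h2, show c - (2 : ℤ) • c = -c by module, show c + c' - (1 : ℤ) • c = c' by module, neg hc', h] at h1
    omega
  have e5 : cp hp c' (c + c') = 1 := by
    have h1 := add hs c c'
    omega
  have key : ∀ b, Rt hp b → (∀ a ∈ ({c, c', c + c'} : Set (Lat l)), a - cp hp a b • b ∈ A2s c c') →
      (∀ a ∈ A2s c c', a - cp hp a b • b ∈ A2s c c') ∧ ∀ a ∈ A2s c c', a - cp hp a (-b) • (-b) ∈ A2s c c' := by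
    intro b hb h1
    have h2 : ∀ a ∈ A2s c c', a - cp hp a b • b ∈ A2s c c' := by
      have h3 : ∀ a, a - cp hp a b • b ∈ A2s c c' → -a - cp hp (-a) b • b ∈ A2s c c' := fun a h4 => by
        rw [neg hb, show -a - (-cp hp a b) • b = -(a - cp hp a b • b) by module]
        exact neg_A2s h4
      rintro a (rfl | rfl | rfl | rfl | rfl | rfl)
      · exact h1 _ (by simp)
      · exact h1 _ (by simp)
      · exact h1 _ (by simp)
      · exact h3 _ (h1 _ (by simp))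
      · exact h3 _ (h1 _ (by simp))
      · exact h3 _ (h1 _ (by simp))
    refine ⟨h2, fun a ha => ?_⟩
    rw [show cp hp a (-b) = -cp hp a b from cpr_neg_right _ _ a hb, neg_smul_neg]
    exact h2 a ha
  have k1 := key c hc (by
    rintro a (rfl | rfl | rfl)
    · rw [e1, show a - (2 : ℤ) • a = -a by module]; simp [A2s]
    · rw [h', show a - (-1 : ℤ) • c = c + a by module]; simp [A2s]
    · rw [add hc, e1, h', show c + c' - (2 + -1 : ℤ) • c = c' by module]; simp [A2s])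
  have k2 := key c' hc' (by
    rintro a (rfl | rfl | rfl)
    · rw [h, show a - (-1 : ℤ) • c' = a + c' by module]; simp [A2s]
    · rw [e2, show a - (2 : ℤ) • a = -a by module]; simp [A2s]
    · rw [add hc', e2, h, show c + c' - (-1 + 2 : ℤ) • c' = c by module]; simp [A2s])
  have k3 := key (c + c') hs (by
    rintro a (rfl | rfl | rfl)
    · rw [e4, show a - (1 : ℤ) • (a + c') = -c' by module]; simp [A2s]
    · rw [e5, show a - (1 : ℤ) • (c + a) = -c by module]; simp [A2s]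
    · rw [e3, show c + c' - (2 : ℤ) • (c + c') = -(c + c') by module]; simp [A2s])
  rintro b (rfl | rfl | rfl | rfl | rfl | rfl)
  exacts [k1.1, k2.1, k3.1, k1.2, k2.2, k3.2]

theorem ww_A2s {c c' : Lat l} (hc : Rt hp c) (hc' : Rt hp c') (h : cp hp c c' = -1) (h' : cp hp c' c = -1)
    {w : M.Group} (hw : w ∈ WW hp (A2s c c')) : ∀ a ∈ A2s c c', wa hp w a ∈ A2s c c' := by
  have := finite_WW hp
  have key : (∀ a ∈ A2s c c', wa hp w a ∈ A2s c c') ∧ ∀ a ∈ A2s c c', wa hp w⁻¹ a ∈ A2s c c' := by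
    unfold WW WS at hw
    induction hw using Subgroup.closure_induction with
    | mem x hx =>
      obtain ⟨v, j, h1, rfl⟩ := hx
      have h2 : ∀ a ∈ A2s c c', wa hp (Nodes.SubComb.rfl' M.toCoxeterSystem v j) a ∈ A2s c c' := fun a ha => by
        unfold wa
        rw [rep_rfl'_eq]
        exact refl_A2s hc hc' h h' _ h1 a ha
      refine ⟨h2, ?_⟩
      rw [inv_eq_of_mul_eq_one_left (rfl_mul_self v j)]
      exact h2
    | one => exact ⟨fun a ha => by rwa [wa_one], fun a ha => by rwa [inv_one, wa_one]⟩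
    | mul x y _ _ h1 h2 =>
      exact ⟨fun a ha => by rw [wa_mul]; exact h1.1 _ (h2.1 a ha),
        fun a ha => by rw [mul_inv_rev, wa_mul]; exact h2.2 _ (h1.2 a ha)⟩
    | inv x _ h1 => exact ⟨h1.2, by rw [inv_inv]; exact h1.1⟩
  exact key.1

theorem act_A2s {c c' : Lat l} (hc : Rt hp c) (hc' : Rt hp c') (h : cp hp c c' = -1) (h' : cp hp c' c = -1)
    {f : Lat l → Lat l} {ε : ℤˣ} (hf : ActA2 hp f ε c c') : ∀ a ∈ A2s c c', f a ∈ A2s c c' := by
  obtain ⟨w, hw, h1⟩ := hf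
  intro a ha
  rw [h1 a ha]
  have h2 := ww_A2s hc hc' h h' hw a ha
  rcases Int.units_eq_one_or ε with rfl | rfl
  · rwa [Units.val_one, one_smul]
  · rw [Units.val_neg, Units.val_one, neg_smul, one_smul]
    exact neg_A2s h2

end a2

section five

variable {ζ : kb p} {u v : U} {A B : Lat l →+ ZMod 5}

/-- **`K5s` for `A`.** -/
theorem k5s (hl : l ≤ 7) {E : Frame hp p d g0 L} (h : Dat E τ α β R R' 5 ζ u v A B)
    (h5 : ∀ u t : U, orderOf u = 5 → t * u = u * t → t ∈ zpowers u) : K5s hp E.q E.g A := by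
  intro Z hZ hF ⟨w, hA, hw⟩
  have hζ := h.prim
  obtain ⟨τ', α', β', Q, Q', ψ, c', hψ, hτ, hc⟩ := exists_pair h.core
  obtain ⟨y, hy⟩ := chi_sur hp hζ Z
  have hy5 := hy.pow_eq_one hζ
  obtain ⟨y0, rfl⟩ := mem_range E (fix_of_chi E hζ hy hF) hy5
  have hu5 : α u ^ 5 = 1 := by rw [← map_pow, ← h.ord, pow_orderOf_eq_one, map_one]
  have hk : ∀ a ∈ PsiS hp {E.ι (α u)}, Z a = 0 := fun a ha => by
    rw [h.chiA.psiS hζ] at ha
    exact (hZ ha).2
  obtain ⟨k, hk'⟩ := DS.Nt.exists_RP hp p w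
  have inv : ∀ {t : YY D p} {φ : Lat l →+ ZMod 5}, Chi hp ζ t φ → Neg hp w φ → k * t * k⁻¹ = t⁻¹ := by
    intro t φ h1 h2
    refine conj_of_rp hk' h1.1 (inv_mem h1.1) fun a ha => ?_
    rw [(h1.inv hζ).2 _ (ha.wa' w), h1.2 a ha, AddMonoidHom.neg_apply, h2, neg_neg]
  have hn := conj_eq_of_inv (hp := hp) hl h.chiA.1 (by rw [← map_pow, hu5, map_one]) (n := E.ι (α v))
    (by rw [← map_inv, ← map_mul, ← map_mul, ← map_inv, ← map_mul, ← map_mul, h.inv, map_inv, map_inv])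
    (inv h.chiA hA) (y := E.ι y0) (by rw [inv hy hw]; exact inv_mem hy.1) (fun a ha => by
      rw [inv hy hw, (hy.inv hζ).2 a ha.1, AddMonoidHom.neg_apply, hk a ha, neg_zero, ZMod.val_zero, pow_zero])
  rw [inv hy hw] at hn
  obtain ⟨n, hn'⟩ := mem_zpowers_of c'.pair h5 (u := ψ u) (v := ψ v) (by rw [orderOf_injective ψ hψ, h.ord])
    (y := y0) (E.inj (by rw [map_pow, hy5, map_one])) (fun r hr => E.inj (by
      rw [map_mul, map_mul]
      exact (comm_of_psi hy.1 (fun a ha => by rw [hy.2 a ha.1, hk a ha, ZMod.val_zero, pow_zero])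
        (le_MS E h.chiA.1 hu5 c'.pair.perfect (hc u) hr)).symm))
    (E.inj (by rw [hτ, map_mul, map_mul, map_inv, hn, map_inv])) (E.inj (by
      rw [hτ, map_mul, map_mul]
      exact tcomm hp hy.1 h.chiA.1))
  rw [hn', hτ, map_pow] at hy
  refine ⟨n, fun a => ?_⟩
  rw [hy.unique hζ (chi_pow hζ h.chiA n), AddMonoidHom.nsmul_apply, nsmul_eq_mul]

end five

/-- **`E₇`, characteristic two, `r = 5`.** -/
theorem e7 (bp : BoxP) (be : BoxEnd) (f5 : BoxFin5) (g5 : BoxGrp5) (s3 : BoxSL3) {d : ℕ} (hd : d ∣ 2)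
    (E : Frame tE7 2 d (sg 7 1) L) {ζ : kb 2} {u v : U} {A B : Lat 7 →+ ZMod 5} (h : Dat E τ α β R R' 5 ζ u v A B)
    (hc : Cmb tE7 2 E.q 5 (sg 7 1) E.g A B) : ¬ ∀ r : ℕ, r.Prime → 7 ≤ r → r ∣ Nat.card U → r = 2 := by
  intro h7
  have h5 := (g5 U h.core.simple h.core.noncomm (primes_le h7)).1
  have hζ := h.prim
  rcases f5.e7 _ _ _ _ _ _ hc (k5s (by norm_num) h h5) with h1 | ⟨c, c', h1, h2, ε, h3, h4⟩
  · exact be.e7 2 d hd L E U τ α β R R' 5 ζ u v A B h h1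
  obtain ⟨τ', α', β', Q, Q', ψ, c1, hψ, hτ, hcm⟩ := exists_pair h.core
  have hu5 : α u ^ 5 = 1 := by rw [← map_pow, ← h.ord, pow_orderOf_eq_one, map_one]
  have hq : 4 ≤ E.q := four_le E.two_le (by
    rcases Int.units_eq_one_or ε with rfl | rfl
    · exact Or.inl (by rw [h3]; rfl)
    · exact Or.inr (by rw [h3]; rfl))
  have hsub := psi_A2s h1
  obtain ⟨y, hy, hF, hy5, hR, hn, hne⟩ := s3 d L E (α u) (α v) Q c c' ε h.chiA.1 hu5
    (by rw [← map_inv, ← map_mul, ← map_mul, h.inv, map_inv]) c1.pair.perfect (hcm u) (hcm v)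
    (by rw [h.chiA.psiS hζ]; exact h1) (fun w hw => h2 w fun a => by
      have h6 := h.chiA.of_conj hζ (h.chiA.inv hζ) hw a
      rw [AddMonoidHom.neg_apply] at h6
      exact neg_eq_iff_eq_neg.1 h6) h3 h4
    (bp.a2 _ _ _ tE7 (by norm_num) (by norm_num) 2 d _ L E U τ' α' β' Q Q' c1 c c' h1.1.1 h1.2.1.1 h1.2.2.1 h1.2.2.2.1
      (act_A2s h1.1.1 h1.2.1.1 h1.2.2.1 h1.2.2.2.1 h4) (Or.inl (by omega)))
  obtain ⟨y0, rfl⟩ := mem_range E hF hy5
  have hcx : ∀ m ∈ MS chevE7 7 2 (A2s c c'), E.ι (α u) * m = m * E.ι (α u) := fun m hm =>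
    comm_of_psi (hp := tE7) (Q := {E.ι (α u)}) h.chiA.1 (fun a ha => ha.2 _ rfl)
      (RGD.Sup_mono (by rw [h.chiA.psiS hζ]; exact hsub) hm)
  obtain ⟨n, hn'⟩ := mem_zpowers_of c1.pair h5 (u := ψ u) (v := ψ v) (by rw [orderOf_injective ψ hψ, h.ord])
    (y := y0) (E.inj (by rw [map_pow, hy5, map_one])) (fun r hr => E.inj (by rw [map_mul, map_mul, hR r hr]))
    (E.inj (by rw [hτ, map_mul, map_mul, map_inv, hn, map_inv])) (E.inj (by
      rw [hτ, map_mul, map_mul]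
      exact (hcx _ hy).symm))
  refine hne fun a ha z hz => ?_
  rw [hn', hτ, map_pow]
  exact (Commute.pow_left (hcx z (RGD.le_Sup ha hz)) n).eq

end Cfsg.Agent.Cam.Ex.Five2
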