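import Cfsg.Agent.Cam.Red.Comp
import Cfsg.Agent.Cam.Spor.Lem
import Cfsg.Agent.Cam.Ex.SL2

/-!
# Exceptional rows, `BoxP`: group theory (helper65)

* `perf_le` : a perfect subgroup of `C(R)` lies in `T`;
* `comm_of` : if `J ≤ C(R)` is normalized by `α C_U(Q)`, `Q` commutative, then `J ∩ T` is abelian;
* `sgm`, `fixG` : a twisted Frobenius map of `SL₂(k)` and its fixed points (`fix_mem`, `fixG_perfect`).
-/

set_option autoImplicit false
set_option linter.unusedVariables false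

namespace Cfsg.Agent.Cam.Ex.P

open Subgroup Cfsg.Agent.Cam.Spor Cfsg.Agent.Cam.Ex.S2
open Cfsg.Agent.ChevalleyStructure.SL2Hom (up lo)
open Cfsg.Agent.Nodes.RGDFoldSL (hS wS)
open scoped commutatorElement

section grp

variable {L U : Type} [Group L] [Group U] [Finite L] {τ α β : U →* L} {R R' : Subgroup L}

/-- a perfect subgroup of `C(R)` lies in `T` -/
theorem perf_le (big : Big) (c : Core τ α β R R') {X : Subgroup L} (hX : ⁅X, X⁆ = X)
    (hc : X ≤ centralizer (R : Set L)) : X ≤ τ.range := by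
  intro y hy
  obtain ⟨t, ⟨u, rfl⟩, h⟩ := Rd.inner_of_perfect big (range_simple c.simple c.pair.inj) hX (hc.trans c.pair.cnorm) hy
  have h1 : (τ u)⁻¹ * y = 1 := c.pair.cfaith _ (mul_mem (inv_mem (c.pair.tau_mem_cent u)) (hc hy))
    fun v => (mem_centralizer_iff.1 h _ ⟨v, rfl⟩).symm
  exact ⟨u, inv_mul_eq_one.1 h1⟩

/-- `J ∩ T` centralizes the elements `d` such that `α d` normalizes `J` -/
theorem comm_of_norm (c : Core τ α β R R') {J : Subgroup L} (hJ : J ≤ centralizer (R : Set L)) {d v : U}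
    (hn : ∀ y ∈ J, α d * y * (α d)⁻¹ ∈ J) (hv : τ v ∈ J) : v * d = d * v := by
  refine c.sp (centralizer_le_normalizer _ (hJ ?_))
  have e : τ v * α d * (τ v)⁻¹ * (α d)⁻¹ = τ v * (α d * (τ v)⁻¹ * (α d)⁻¹) := by group
  rw [e]
  exact mul_mem hv (hn _ (inv_mem hv))

/-- **`J ∩ T` is abelian.** -/
theorem comm_of (c : Core τ α β R R') {J : Subgroup L} (hJ : J ≤ centralizer (R : Set L)) {Q : Set U}
    (hQ : ∀ u ∈ Q, ∀ u' ∈ Q, u * u' = u' * u)
    (hn : ∀ d, (∀ u ∈ Q, u * d = d * u) → ∀ y ∈ J, α d * y * (α d)⁻¹ ∈ J) {v v' : U} (hv : τ v ∈ J) (hv' : τ v' ∈ J) :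
    v * v' = v' * v :=
  comm_of_norm c hJ (hn v' fun u hu => (comm_of_norm c hJ (hn u fun u' hu' => hQ u' hu' u hu) hv').symm) hv

/-- a perfect subgroup of `J` is trivial -/
theorem eq_bot_of (big : Big) (c : Core τ α β R R') {J : Subgroup L} (hJ : J ≤ centralizer (R : Set L)) {Q : Set U}
    (hQ : ∀ u ∈ Q, ∀ u' ∈ Q, u * u' = u' * u)
    (hn : ∀ d, (∀ u ∈ Q, u * d = d * u) → ∀ y ∈ J, α d * y * (α d)⁻¹ ∈ J) {X : Subgroup L} (hX : ⁅X, X⁆ = X)
    (hle : X ≤ J) : X = ⊥ := by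
  rw [← hX, commutator_eq_bot_iff_le_centralizer]
  intro x hx
  refine mem_centralizer_iff.2 fun y hy => ?_
  obtain ⟨u, rfl⟩ := perf_le big c hX (hle.trans hJ) hx
  obtain ⟨v, rfl⟩ := perf_le big c hX (hle.trans hJ) hy
  rw [← map_mul, ← map_mul, comm_of c hJ hQ hn (hle hy) (hle hx)]

end grp

section sl

variable {k : Type*} [Field k] (f : k →+* k) {κ : k} (hκ : κ ≠ 0)

/-- the map `f` followed by the conjugation with `diag (κ, 1)` -/
def sgf (f : k →+* k) {κ : k} (hκ : κ ≠ 0) (A : SL k) : SL k :=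
  ⟨!![f (A.1 0 0), κ * f (A.1 0 1); κ⁻¹ * f (A.1 1 0), f (A.1 1 1)], by
    have h := congrArg f (det_e A)
    rw [map_sub, map_mul, map_mul, map_one] at h
    rw [Matrix.det_fin_two_of]
    have h1 := mul_inv_cancel₀ hκ
    linear_combination h - f (A.1 0 1) * f (A.1 1 0) * h1⟩

theorem sgf00 (A : SL k) : (sgf f hκ A).1 0 0 = f (A.1 0 0) := rfl
theorem sgf01 (A : SL k) : (sgf f hκ A).1 0 1 = κ * f (A.1 0 1) := rfl
theorem sgf10 (A : SL k) : (sgf f hκ A).1 1 0 = κ⁻¹ * f (A.1 1 0) := rfl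
theorem sgf11 (A : SL k) : (sgf f hκ A).1 1 1 = f (A.1 1 1) := rfl

/-- `sgf` as a homomorphism -/
def sgm (f : k →+* k) {κ : k} (hκ : κ ≠ 0) : SL k →* SL k :=
  MonoidHom.mk' (sgf f hκ) fun A B => by
    have h1 := mul_inv_cancel₀ hκ
    apply ext4 <;> simp only [mul_e, sgf00, sgf01, sgf10, sgf11, map_add, map_mul]
    · linear_combination (-(f (A.1 0 1) * f (B.1 1 0))) * h1
    · ring
    · ring
    · linear_combination (-(f (A.1 1 0) * f (B.1 0 1))) * h1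

theorem sgm00 (A : SL k) : (sgm f hκ A).1 0 0 = f (A.1 0 0) := rfl
theorem sgm01 (A : SL k) : (sgm f hκ A).1 0 1 = κ * f (A.1 0 1) := rfl
theorem sgm10 (A : SL k) : (sgm f hκ A).1 1 0 = κ⁻¹ * f (A.1 1 0) := rfl
theorem sgm11 (A : SL k) : (sgm f hκ A).1 1 1 = f (A.1 1 1) := rfl

theorem sgm_up (t : k) : sgm f hκ (up t) = up (κ * f t) := by
  apply ext4 <;> simp only [sgm00, sgm01, sgm10, sgm11, up00, up01, up10, up11, map_one, map_zero, mul_zero]

theorem sgm_lo (t : k) : sgm f hκ (lo t) = lo (κ⁻¹ * f t) := by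
  apply ext4 <;> simp only [sgm00, sgm01, sgm10, sgm11, lo00, lo01, lo10, lo11, map_one, map_zero, mul_zero]

theorem sgm_hS {t : k} (ht : t ≠ 0) : sgm f hκ (hS t) = hS (f t) := by
  have h1 : f t ≠ 0 := (map_ne_zero f).2 ht
  apply ext4 <;> simp only [sgm00, sgm01, sgm10, sgm11, hS00 ht, hS01 ht, hS10 ht, hS11 ht, hS00 h1, hS01 h1, hS10 h1,
    hS11 h1, map_zero, mul_zero, map_inv₀]

/-- the fixed points -/
def fixG : Subgroup (SL k) := (sgm f hκ).eqLocus (MonoidHom.id _)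

variable {f hκ}

theorem mem_fixG {A : SL k} : A ∈ fixG f hκ ↔ sgm f hκ A = A := Iff.rfl

theorem up_mem_fixG {t : k} (h : κ * f t = t) : up t ∈ fixG f hκ := by rw [mem_fixG, sgm_up, h]

theorem lo_mem_fixG {t : k} (h : κ⁻¹ * f t = t) : lo t ∈ fixG f hκ := by rw [mem_fixG, sgm_lo, h]

theorem hS_mem_fixG {t : k} (ht : t ≠ 0) (h : f t = t) : hS t ∈ fixG f hκ := by rw [mem_fixG, sgm_hS f hκ ht, h]

/-- the fixed points are generated by the fixed elementary matrices -/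
theorem fix_mem {K : Subgroup (SL k)} {v : k} (hv0 : v ≠ 0) (hv : κ * f v = v) (h1 : ∀ t, κ * f t = t → up t ∈ K)
    (h2 : ∀ t, κ⁻¹ * f t = t → lo t ∈ K) {A : SL k} (hA : A ∈ fixG f hκ) : A ∈ K := by
  have key : ∀ A ∈ fixG f hκ, A.1 1 0 ≠ 0 → A ∈ K := by
    intro A hA hc
    have a00 : f (A.1 0 0) = A.1 0 0 := congrArg (fun x : SL k => x.1 0 0) hA
    have a10 : κ⁻¹ * f (A.1 1 0) = A.1 1 0 := congrArg (fun x : SL k => x.1 1 0) hA
    have a11 : f (A.1 1 1) = A.1 1 1 := congrArg (fun x : SL k => x.1 1 1) hA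
    have a10' : f (A.1 1 0) = κ * A.1 1 0 := by rw [← a10, ← mul_assoc, mul_inv_cancel₀ hκ, one_mul, a10]
    have hd := det_e A
    have e : A = up ((A.1 0 0 - 1) / A.1 1 0) * lo (A.1 1 0) * up ((A.1 1 1 - 1) / A.1 1 0) := by
      apply ext4 <;> simp only [mul_e, up00, up01, up10, up11, lo00, lo01, lo10, lo11] <;> field_simp
      · ring
      · linear_combination (-1 : k) * hd
      · ring
      · ring
    rw [e]
    refine mul_mem (mul_mem (h1 _ ?_) (h2 _ a10)) (h1 _ ?_)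
    · rw [map_div₀, map_sub, map_one, a00, a10']; field_simp
    · rw [map_div₀, map_sub, map_one, a11, a10']; field_simp
  by_cases hc : A.1 1 0 = 0
  · have h3 : κ⁻¹ * f v⁻¹ = v⁻¹ := by rw [map_inv₀, ← mul_inv, hv]
    have h4 : A.1 0 0 ≠ 0 := by
      intro h
      have hd := det_e A
      rw [h, hc, zero_mul, mul_zero, sub_zero] at hd
      exact zero_ne_one hd
    have h5 := key _ (mul_mem (lo_mem_fixG h3) hA) (by
      rw [mul_e, lo10, lo11, hc, mul_zero, add_zero]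
      exact mul_ne_zero (inv_ne_zero hv0) h4)
    exact (K.mul_mem_cancel_left (h2 _ h3)).1 h5
  · exact key A hA hc

theorem fixG_perfect {v : k} (hv0 : v ≠ 0) (hv : κ * f v = v) {a : k} (ha0 : a ≠ 0) (ha : f a = a) (ha2 : a ^ 2 ≠ 1) :
    ⁅fixG f hκ, fixG f hκ⁆ = fixG f hκ := by
  refine le_antisymm (commutator_le_self _) fun A hA => fix_mem hv0 hv (fun t ht => ?_) (fun t ht => ?_) hA
  · have h1 : a ^ 2 - 1 ≠ 0 := sub_ne_zero.2 ha2
    have e : (up t : SL k) = ⁅hS a, up (t / (a ^ 2 - 1))⁆ := by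
      rw [commutatorElement_def, hS_up ha0, up_inv, ← up_add]
      congr 1
      field_simp
      ring
    rw [e]
    refine commutator_mem_commutator (hS_mem_fixG ha0 ha) (up_mem_fixG ?_)
    rw [map_div₀, map_sub, map_pow, map_one, ha, ← mul_div_assoc, ht]
  · have h1 : (a ^ 2)⁻¹ - 1 ≠ 0 := sub_ne_zero.2 fun h => ha2 (inv_eq_one.1 h)
    have e : (lo t : SL k) = ⁅hS a, lo (t / ((a ^ 2)⁻¹ - 1))⁆ := by
      rw [commutatorElement_def, hS_lo ha0, lo_inv, ← lo_add]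
      congr 1
      rw [← sub_eq_add_neg, ← sub_one_mul, mul_div_cancel₀ _ h1]
    rw [e]
    refine commutator_mem_commutator (hS_mem_fixG ha0 ha) (lo_mem_fixG ?_)
    rw [map_div₀, map_sub, map_inv₀, map_pow, map_one, ha, ← mul_div_assoc, ht]

/-- `up s` and `lo t` do not commute modulo the centre -/
theorem not_comm {Y : Type*} [Group Y] {ψ : SL k →* Y} (h : CK ψ) {s t : k} (hs : s ≠ 0) (ht : t ≠ 0) :
    ψ (up s) * ψ (lo t) ≠ ψ (lo t) * ψ (up s) := fun e => by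
  have h1 := comm_of_tr (tr_lo t) (h.cmt e)
  have h2 := congrArg (fun x : SL k => x.1 0 0) h1
  simp only [mul_e, up00, up01, lo00, lo01, lo10, up10] at h2
  exact mul_ne_zero hs ht (by linear_combination h2)

/-- `(x(s) y(-1/s) x(s)) ^ 2 = -1` -/
theorem n_sq {s : k} (hs : s ≠ 0) : (up s * lo (-s⁻¹) * up s : SL k) * (up s * lo (-s⁻¹) * up s) = hS (-1) := by
  have h1 : (-1 : k) ≠ 0 := neg_ne_zero.2 one_ne_zero
  apply ext4 <;> simp only [mul_e, up00, up01, up10, up11, lo00, lo01, lo10, lo11, hS00 h1, hS01 h1, hS10 h1, hS11 h1] <;>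
    field_simp <;> ring

theorem center_cases {z : SL k} (hz : z ∈ center (SL k)) : z = 1 ∨ z = hS (-1) := by
  have h1 : (-1 : k) ≠ 0 := neg_ne_zero.2 one_ne_zero
  obtain ⟨h2, h3, h4⟩ := mem_center_iff'.1 hz
  rcases mul_self_eq_one_iff.1 (center_sq hz) with h | h
  · exact Or.inl (eq_one_of_center hz h)
  · refine Or.inr (ext4 ?_ ?_ ?_ ?_)
    · rw [h, hS00 h1]
    · rw [h2, hS01 h1]
    · rw [h3, hS10 h1]
    · rw [← h4, h, hS11 h1, inv_neg, inv_one]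

theorem hS_one : (hS 1 : SL k) = 1 := by
  have h1 : (1 : k) ≠ 0 := one_ne_zero
  apply ext4
  · rw [hS00 h1]; rfl
  · rw [hS01 h1]; rfl
  · rw [hS10 h1]; rfl
  · rw [hS11 h1, inv_one]; rfl

theorem hS_mul {a b : k} (ha : a ≠ 0) (hb : b ≠ 0) : (hS a * hS b : SL k) = hS (a * b) := by
  have h := mul_ne_zero ha hb
  apply ext4 <;> simp only [mul_e, hS00 ha, hS01 ha, hS10 ha, hS11 ha, hS00 hb, hS01 hb, hS10 hb, hS11 hb, hS00 h, hS01 h,
    hS10 h, hS11 h] <;> ring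

theorem hS_pow {a : k} (ha : a ≠ 0) (n : ℕ) : (hS a : SL k) ^ n = hS (a ^ n) := by
  induction n with
  | zero => rw [pow_zero, pow_zero, hS_one]
  | succ n ih => rw [pow_succ, ih, hS_mul (pow_ne_zero n ha) ha, pow_succ]

theorem exists_fix [IsAlgClosed k] (hκ : κ ≠ 0) {Q : ℕ} (hQ : 2 ≤ Q) : ∃ v : k, v ≠ 0 ∧ κ * v ^ Q = v := by
  obtain ⟨v, hv⟩ := IsAlgClosed.exists_pow_nat_eq κ⁻¹ (n := Q - 1) (by omega)
  have hv0 : v ≠ 0 := by
    rintro rfl
    rw [zero_pow (by omega)] at hv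
    exact inv_ne_zero hκ hv.symm
  refine ⟨v, hv0, ?_⟩
  have e1 : v ^ Q = v ^ (Q - 1) * v := by
    rw [← pow_succ]
    congr 1
    omega
  rw [e1, hv, ← mul_assoc, mul_inv_cancel₀ hκ, one_mul]

end sl

end Cfsg.Agent.Cam.Ex.P
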