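import Cfsg.Agent.Cam.Ex.K
import Cfsg.Agent.Cam.Ex.PGrp
import Cfsg.Agent.H460.OT.BruConc
import Cfsg.Agent.H123.ExcComb
import Cfsg.Agent.Nodes.SimplyLaced

/-!
# Exceptional rows, `BoxP`: roots (helper65)

* `cp_le3`, `cp_le2`, `cp_lt4`, `refl_rt`, `exists_refl` : Cartan numbers and reflections;
* `nm` : the norm of a root; `nm_add`, `nm_le`;
* `so_of`, `far_cz` : far roots give commuting root groups.
-/

set_option autoImplicit false
set_option linter.unusedVariables false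
set_option linter.unusedSectionVars false

namespace Cfsg.Agent.Cam.Ex.P

open CoxeterSystem Cfsg Cfsg.Lie Subgroup
open Cfsg.Agent.ChevalleyStructure.CoxeterGeom Cfsg.Agent.ChevalleyStructure.CoxeterGeomTypes
open Cfsg.Agent.Tits.Roots Cfsg.Agent.Nodes.BNOf Cfsg.Agent.Nodes.RGDChev Cfsg.Agent.Nodes.Coroot
open Cfsg.Agent.KFacts.RgdChevCoord Cfsg.Agent.BpExc.TorCent Cfsg.Agent.BpExc.LangFr Cfsg.Agent.BpExc.SubBN
open Cfsg.Agent.Cam.Spor Cfsg.Agent.Cam.Ex.S2
open Cfsg.Agent.ChevalleyStructure.SL2Hom (up lo)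
open Cfsg.Agent.Nodes.RGDFoldSL (hS wS)
open Cfsg.Agent.DS.Nt (RP)
open scoped commutatorElement

variable {D : ChevalleyDatum} {l : ℕ} {M : CoxeterMatrix (Fin l)} {hp : IsType D l M} {p : ℕ} [Fact p.Prime]
  {a b c : Lat l}

theorem cp_le3 (ha : Rt hp a) (hc : Rt hp c) : -3 ≤ cp hp a c ∧ cp hp a c ≤ 3 := by
  have := finite_WW hp
  exact H123.ExcComb.abs_cpr_le ha hc

theorem cp_lt4 (ha : Rt hp a) (hc : Rt hp c) (h1 : a ≠ c) (h2 : a ≠ -c) : cp hp a c * cp hp c a < 4 := by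
  have := finite_WW hp
  exact KFacts.RgdSL.cpr_mul_lt ha hc h1 h2

theorem cp_pos_comm (ha : Rt hp a) (hc : Rt hp c) : 0 < cp hp a c ↔ 0 < cp hp c a := by
  have := finite_WW hp
  exact H123.ExcComb.cpr_pos_comm ha hc

theorem cp_sub (a b : Lat l) (hc : Rt hp c) : cp hp (a - b) c = cp hp a c - cp hp b c := by
  rw [sub_eq_add_neg, cp_add _ _ hc, cp_neg _ hc, sub_eq_add_neg]

theorem refl_rt (ha : Rt hp a) (hc : Rt hp c) : Rt hp (a - cp hp a c • c) := by
  have := finite_WW hp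
  exact isRoot_refl _ _ ha hc

theorem add_iff_sub (hc : Rt hp c) (h0 : cp hp a c = 0) : Rt hp (a + c) ↔ Rt hp (a - c) := by
  have := finite_WW hp
  exact H123.ExcComb.add_iff_sub hc h0

theorem ne_of_cp (hc : Rt hp c) (h : cp hp a c ≠ 2) : a ≠ c := by
  rintro rfl
  exact h (cp_self hc)

theorem ne_neg_of_cp (hc : Rt hp c) (h : cp hp a c ≠ -2) : a ≠ -c := by
  rintro rfl
  exact h (by rw [cp_neg _ hc, cp_self hc])

/-- the reflection in `c` -/
theorem exists_refl (hc : Rt hp c) :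
    ∃ w : M.Group, (∀ S : Set (Lat l), c ∈ S → w ∈ WW hp S) ∧ ∀ a, wa hp w a = a - cp hp a c • c := by
  have := finite_WW hp
  obtain ⟨v, i, rfl⟩ := hc
  exact ⟨_, fun S h => subset_closure ⟨v, i, h, rfl⟩, fun a => rep_rfl'_eq _ _ v i a⟩

/-- induction over a reflection group -/
theorem WW_ind {S : Set (Lat l)} (hS : ∀ a ∈ S, Rt hp a) {K : Subgroup M.Group}
    (h : ∀ c ∈ S, ∀ w : M.Group, (∀ a, wa hp w a = a - cp hp a c • c) → w ∈ K) : WW hp S ≤ K := by
  have := finite_WW hp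
  refine (closure_le _).2 ?_
  rintro _ ⟨v, i, h1, rfl⟩
  exact h _ h1 _ fun a => rep_rfl'_eq _ _ v i a

/-- the stabilizer of a finite set of roots -/
def stab (hp : IsType D l M) (S : Set (Lat l)) : Subgroup M.Group where
  carrier := {w | ∀ a, wa hp w a ∈ S ↔ a ∈ S}
  one_mem' a := by rw [wa_one]
  mul_mem' {v w} hv hw a := by rw [wa_mul, hv, hw]
  inv_mem' {w} hw a := by rw [← hw, wa_wa_inv]

theorem WW_stab {S S' : Set (Lat l)} (hS : ∀ a ∈ S, Rt hp a) (h : ∀ c ∈ S, ∀ a ∈ S', a - cp hp a c • c ∈ S')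
    {w : M.Group} (hw : w ∈ WW hp S) (a : Lat l) : wa hp w a ∈ S' ↔ a ∈ S' := by
  refine WW_ind (K := stab hp S') hS (fun c hc v hv a => ?_) hw a
  rw [hv]
  refine ⟨fun h1 => ?_, h c hc a⟩
  have h2 := h c hc _ h1
  rw [cp_sub _ _ (hS c hc), cp_smul _ _ (hS c hc), cp_self (hS c hc)] at h2
  have e : a - cp hp a c • c - (cp hp a c - cp hp a c * 2) • c = a := by module
  rwa [e] at h2

/-- the invariant form -/
noncomputable def fm (hp : IsType D l M) (a b : Lat l) : ℤ :=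
  @form _ _ _ _ _ _ M.toCoxeterSystem _ hp.isCartan (@Fintype.ofFinite _ (finite_WW hp)) a b

theorem two_fm (a : Lat l) (hc : Rt hp c) : 2 * fm hp a c = cp hp a c * fm hp c c :=
  @two_form_cpr _ _ _ _ _ _ M.toCoxeterSystem _ hp.isCartan (@Fintype.ofFinite _ (finite_WW hp)) a c hc

theorem fm_pos (hc : Rt hp c) : 0 < fm hp c c :=
  @form_pos _ _ _ _ _ _ M.toCoxeterSystem _ hp.isCartan (@Fintype.ofFinite _ (finite_WW hp)) c hc.ne_zero'

theorem fm_comm (a b : Lat l) : fm hp a b = fm hp b a :=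
  @form_comm _ _ _ _ _ _ M.toCoxeterSystem _ hp.isCartan (@Fintype.ofFinite _ (finite_WW hp)) a b

theorem fm_add (a b c : Lat l) : fm hp a (b + c) = fm hp a b + fm hp a c :=
  @form_add_right _ _ _ _ _ _ M.toCoxeterSystem _ hp.isCartan (@Fintype.ofFinite _ (finite_WW hp)) a b c

theorem cp_fm (ha : Rt hp a) (hc : Rt hp c) : cp hp a c * fm hp c c = cp hp c a * fm hp a a := by
  rw [← two_fm a hc, ← two_fm c ha, fm_comm]

theorem cp_add_zero (hc : Rt hp c) (ha : Rt hp a) (hb : Rt hp b) (hab : Rt hp (a + b)) (h1 : cp hp c a = 0)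
    (h2 : cp hp c b = 0) : cp hp c (a + b) = 0 := by
  rw [cp_zero_comm hc hab, cp_add _ _ hc, (cp_zero_comm hc ha).1 h1, (cp_zero_comm hc hb).1 h2, add_zero]

/-- the sum of two orthogonal roots is longer -/
theorem fm_lt (ha : Rt hp a) (hc : Rt hp c) (h0 : cp hp a c = 0) : fm hp c c < fm hp (a + c) (a + c) := by
  have h1 := two_fm a hc
  have h2 := fm_pos ha
  rw [h0, zero_mul] at h1
  rw [fm_add, fm_comm (a + c) a, fm_comm (a + c) c, fm_add, fm_add, fm_comm c a]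
  omega

/-- a Cartan number `± 1` -/
theorem fm_le (ha : Rt hp a) (hc : Rt hp c) (h : cp hp a c = 1 ∨ cp hp a c = -1) : fm hp a a ≤ fm hp c c := by
  have h1 := cp_fm ha hc
  have h2 := fm_pos ha
  have h3 := fm_pos hc
  have h4 : cp hp c a ≠ 0 := fun e => by
    have := (cp_zero_comm hc ha).1 e
    omega
  rcases h with h | h <;> rw [h] at h1
  · have h5 : 1 ≤ cp hp c a := by
      by_contra h5
      have : cp hp c a * fm hp a a ≤ 0 := mul_nonpos_of_nonpos_of_nonneg (by omega) h2.le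
      omega
    nlinarith
  · have h5 : cp hp c a ≤ -1 := by
      by_contra h5
      have : 0 ≤ cp hp c a * fm hp a a := mul_nonneg (by omega) h2.le
      omega
    nlinarith

/-- the Cartan numbers with a longer root -/
theorem cp_le1 (ha : Rt hp a) (hc : Rt hp c) (h1 : a ≠ c) (h2 : a ≠ -c) (h : fm hp a a ≤ fm hp c c) :
    -1 ≤ cp hp a c ∧ cp hp a c ≤ 1 := by
  have h3 := cp_fm ha hc
  have h4 := fm_pos ha
  have h5 := cp_lt4 ha hc h1 h2
  have h6 : cp hp a c * cp hp a c * fm hp c c = cp hp a c * cp hp c a * fm hp a a := by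
    rw [mul_assoc, h3, mul_assoc]
  have h7 : cp hp a c * cp hp a c < 4 := by
    by_contra h7
    nlinarith
  constructor <;> nlinarith

/-- strong orthogonality -/
theorem so_of (ha : Rt hp a) (hc : Rt hp c) (h0 : cp hp a c = 0) (hn : ¬ Rt hp (a + c)) (i j : ℤ) (hi : i ≠ 0)
    (hj : j ≠ 0) : ¬ Rt hp (i • a + j • c) := by
  intro hz
  have h1 := cp_le3 hz hc
  have h2 := cp_le3 hz ha
  rw [cp_add _ _ hc, cp_smul _ _ hc, cp_smul _ _ hc, h0, cp_self hc] at h1
  rw [cp_add _ _ ha, cp_smul _ _ ha, cp_smul _ _ ha, (cp_zero_comm ha hc).1 h0, cp_self ha] at h2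
  have h3 := add_iff_sub hc h0
  obtain rfl | rfl : i = 1 ∨ i = -1 := by omega
  · obtain rfl | rfl : j = 1 ∨ j = -1 := by omega
    · exact hn (by rwa [one_smul, one_smul] at hz)
    · exact hn (h3.2 (by rwa [one_smul, neg_smul, one_smul, ← sub_eq_add_neg] at hz))
  · obtain rfl | rfl : j = 1 ∨ j = -1 := by omega
    · refine hn (h3.2 ?_)
      have h4 := hz.neg'
      rwa [show -((-1 : ℤ) • a + (1 : ℤ) • c) = a - c by module] at h4
    · refine hn ?_
      have h4 := hz.neg'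
      rwa [show -((-1 : ℤ) • a + (-1 : ℤ) • c) = a + c by module] at h4

/-- the structure constants of a string of length three are even -/
def TabE (D : ChevalleyDatum) : Prop := ∀ r < D.nroots, ∀ s < D.nroots,
  ((D.chainRoot r s 1).isSome && (D.chainRoot (D.neg r) s 1).isSome && (D.chainRoot r s 2).isNone &&
    (D.chainRoot (D.neg r) s 2).isNone) = true → ((D.commTerms r s).all fun x => x.2.1 % 2 == 0) = true

theorem tabE_G2 : TabE chevG2 := by unfold TabE; decide +kernel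

theorem tabE_B2 : TabE chevB2 := by unfold TabE; decide +kernel

theorem tabE_F4 : TabE chevF4 := by unfold TabE; decide +kernel

theorem pair_F4 : ∀ i : Fin 4, ∀ s < chevF4.nroots, |pairing (cartanOf chevF4 4) i (vec chevF4 4 s)| ≤ 2 := by
  decide +kernel

theorem typ_cases (hp : IsType D l M) : (((∀ i j, M i j ≠ 4) ∧ ∀ i j, M i j ≠ 6) ∨ TabE D) ∧ (D = chevG2 → l = 2) ∧
    (4 ≤ l → ∀ a c, Rt hp a → Rt hp c → |cp hp a c| ≤ 2) := by
  have hf := finite_WW hp
  have key : ((∀ i j, M i j ≠ 4) ∧ ∀ i j, M i j ≠ 6) → ∀ a c, Rt hp a → Rt hp c → |cp hp a c| ≤ 2 := by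
    intro h a c ha hc
    by_cases h1 : a = c
    · rw [h1, cp_self hc]; rfl
    by_cases h2 : a = -c
    · rw [h2, cp_neg _ hc, cp_self hc]; rfl
    exact (Nodes.SimplyLaced.abs_cpr_le_one _ _ h.1 h.2 ha hc h1 h2).trans one_le_two
  have hk : ∀ {D' : ChevalleyDatum}, D = D' → D'.rank ≠ 2 → D = chevG2 → l = 2 := fun e h e' =>
    absurd (congrArg ChevalleyDatum.rank (e.symm.trans e')) h
  have hp' := hp
  simp only [IsType, typeList, List.mem_cons, List.not_mem_nil, or_false, Prod.mk.injEq] at hp'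
  rcases hp' with ⟨rfl, h⟩ | ⟨rfl, h⟩ | ⟨rfl, h⟩ | ⟨rfl, h⟩ | ⟨rfl, h⟩ | ⟨rfl, h⟩ | ⟨rfl, h⟩ <;> cases h
  · exact ⟨Or.inr tabE_G2, fun _ => rfl, fun h => absurd h (by decide)⟩
  · exact ⟨Or.inr tabE_B2, fun _ => rfl, fun h => absurd h (by decide)⟩
  · have h : (∀ i j, coxeterD4 i j ≠ 4) ∧ ∀ i j, coxeterD4 i j ≠ 6 := by
      refine ⟨fun i j => ?_, fun i j => ?_⟩ <;> fin_cases i <;> fin_cases j <;> decide
    exact ⟨Or.inl h, hk rfl (by decide), fun _ => key h⟩
  · refine ⟨Or.inr tabE_F4, hk rfl (by decide), fun _ a c ha hc => ?_⟩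
    obtain ⟨w, i, rfl⟩ := hc
    obtain ⟨s, hs, e⟩ := (isRoot_iff hp _ _).1 (ha.wa' w⁻¹)
    have h1 := pair_F4 i s hs
    rw [e] at h1
    rw [show cp hp a _ = _ from cpr_rep_sr _ _ a w i]
    exact h1
  · have h : (∀ i j, CoxeterMatrix.E₆ i j ≠ 4) ∧ ∀ i j, CoxeterMatrix.E₆ i j ≠ 6 := by
      refine ⟨fun i j => ?_, fun i j => ?_⟩ <;> fin_cases i <;> fin_cases j <;> decide
    exact ⟨Or.inl h, hk rfl (by decide), fun _ => key h⟩
  · have h : (∀ i j, CoxeterMatrix.E₇ i j ≠ 4) ∧ ∀ i j, CoxeterMatrix.E₇ i j ≠ 6 := by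
      refine ⟨fun i j => ?_, fun i j => ?_⟩ <;> fin_cases i <;> fin_cases j <;> decide
    exact ⟨Or.inl h, hk rfl (by decide), fun _ => key h⟩
  · have h : (∀ i j, CoxeterMatrix.E₈ i j ≠ 4) ∧ ∀ i j, CoxeterMatrix.E₈ i j ≠ 6 := by
      refine ⟨fun i j => ?_, fun i j => ?_⟩ <;> fin_cases i <;> fin_cases j <;> decide
    exact ⟨Or.inl h, hk rfl (by decide), fun _ => key h⟩

theorem cp_le2 (hl : 4 ≤ l) (ha : Rt hp a) (hc : Rt hp c) : -2 ≤ cp hp a c ∧ cp hp a c ≤ 2 :=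
  abs_le.1 ((typ_cases hp).2.2 hl a c ha hc)

theorem chain_none {r s : ℕ} (hr : r < D.nroots) (hs : s < D.nroots)
    (h0 : cp hp (vec D l s) (vec D l r) = 0) : D.chainRoot r s 2 = none := by
  have hr' : Rt hp (vec D l r) := (isRoot_iff hp _ _).2 ⟨r, hr, rfl⟩
  rcases e : D.chainRoot r s 2 with _ | u
  · rfl
  · obtain ⟨hu, -, -, h1⟩ := ChevalleyStructure.RootVec.chainRoot_rt hp.checked one_le_two e
    have h2 : vec D l u = vec D l s + (2 : ℤ) • vec D l r := funext fun i => h1 i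
    have h3 := cp_le3 ((isRoot_iff hp _ _).2 ⟨u, hu, rfl⟩) hr'
    rw [h2, cp_add _ _ hr', cp_smul _ _ hr', h0, cp_self hr'] at h3
    omega

/-- characteristic two: orthogonal roots -/
theorem comm_two [CharP (kb p) 2] (hT : TabE D) (ha : Rt hp a) (hc : Rt hp c) (h0 : cp hp a c = 0)
    (hac : Rt hp (a + c)) (s t : kb p) : xc hp a s * xc hp c t = xc hp c t * xc hp a s := by
  have h1 := (add_iff_sub hc h0).1 hac
  have n1 := ne_of_cp hc (a := a) (by omega)
  have n2 := ne_neg_of_cp hc (a := a) (by omega)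
  obtain ⟨r, hr, rfl⟩ := (isRoot_iff hp M.toCoxeterSystem c).1 hc
  obtain ⟨s', hs, rfl⟩ := (isRoot_iff hp M.toCoxeterSystem a).1 ha
  obtain ⟨u, hu, e1⟩ := (isRoot_iff hp M.toCoxeterSystem _).1 hac
  obtain ⟨v, hv, e2⟩ := (isRoot_iff hp M.toCoxeterSystem _).1 h1
  have hn : D.neg r < D.nroots := ChevalleyStructure.RootVec.neg_lt hp.checked hr
  have h2 := List.all_eq_true.1 (hT r hr s' hs (by
    rw [H460.OT.chainRoot_of_vec hp hp.inList hr hs hu (by rw [e1, add_comm]),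
      H460.OT.chainRoot_of_vec hp hp.inList hn hs hv (by rw [e2, vec_neg hp hr]; abel), chain_none hr hs h0,
      chain_none (hp := hp) hn hs (by rw [vec_neg hp hr, cp_neg_right _ hc, h0, neg_zero])]
    rfl))
  have h3 := S1025.result D hp.inList r s' hr hs (fun e => n1 (by rw [e])) (fun e => n2 (by rw [e, vec_neg hp hr])) t s
  have h4 : D.wordMat (kb p) (D.commWord (kb p) r s' t s) = 1 := by
    unfold ChevalleyDatum.wordMat ChevalleyDatum.commWord
    refine List.prod_eq_one fun x hx => ?_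
    obtain ⟨y, hy, rfl⟩ := List.mem_map.1 hx
    obtain ⟨z, hz, rfl⟩ := List.mem_map.1 hy
    obtain ⟨n, hn⟩ := Int.dvd_of_emod_eq_zero (beq_iff_eq.1 (h2 z hz))
    have h5 : ((z.2.1 : ℤ) : kb p) = 0 := by
      rw [hn, Int.cast_mul, Int.cast_ofNat, CharTwo.two_eq_zero, zero_mul]
    show D.x (kb p) z.1 (_ * _ * _) = 1
    rw [h5, zero_mul, zero_mul]
    exact ChevalleyStructure.Elts.x_zero hp.inList _
  rw [h4, mul_one] at h3
  refine Subtype.ext (Units.ext ?_)
  show (xc hp _ s).1.1 * (xc hp _ t).1.1 = (xc hp _ t).1.1 * (xc hp _ s).1.1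
  rw [coe_xc hp hr, coe_xc hp hs]
  exact h3

theorem Far.symm' (h : Far hp p a c) (ha : Rt hp a) (hc : Rt hp c) : Far hp p c a :=
  ⟨(cp_zero_comm ha hc).1 h.1, by rw [add_comm]; exact h.2⟩

theorem Far.neg_right (h : Far hp p a c) (hc : Rt hp c) : Far hp p a (-c) :=
  ⟨by rw [cp_neg_right _ hc, h.1, neg_zero], h.2.imp_right fun h1 h2 =>
    h1 ((add_iff_sub hc h.1).2 (by rwa [sub_eq_add_neg]))⟩

theorem far_comm (ha : Rt hp a) (hc : Rt hp c) (h : Far hp p a c) {x y : YY D p} (hx : x ∈ XR D l p a)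
    (hy : y ∈ XR D l p c) : x * y = y * x := by
  have n1 := ne_of_cp hc (a := a) (by rw [h.1]; decide)
  have n2 := ne_neg_of_cp hc (a := a) (by rw [h.1]; decide)
  by_cases hac : Rt hp (a + c)
  · obtain rfl : p = 2 := h.2.resolve_right (not_not.2 hac)
    rcases (typ_cases hp).1 with h1 | h1
    · have := finite_WW hp
      have h2 := Nodes.SimplyLaced.abs_cpr_le_one _ _ h1.1 h1.2 hac hc (fun e => ha.ne_zero' (add_eq_right.1 e))
        (ne_neg_of_cp hc (by rw [cp_add _ _ hc, h.1, cp_self hc]; decide))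
      rw [show cpr _ _ (a + c) c = _ from cp_add _ _ hc, h.1, cp_self hc] at h2
      exact absurd h2 (by decide)
    · obtain ⟨s, rfl⟩ := (mem_XR ha).1 hx
      obtain ⟨t, rfl⟩ := (mem_XR hc).1 hy
      exact comm_two h1 ha hc h.1 hac s t
  · refine H605.MX.XX_comm_of_SO hp M.toCoxeterSystem ha hc n1 n2 (fun i j hi hj => ?_) hx hy
    have := so_of ha hc h.1 hac i j (by exact_mod_cast hi.ne') (by exact_mod_cast hj.ne')
    rwa [natCast_zsmul, natCast_zsmul] at this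

/-- **Far roots.** -/
theorem far_cz (ha : Rt hp a) (hc : Rt hp c) (h : Far hp p a c) {x : YY D p} (hx : x ∈ XR D l p a) :
    Cz (sl p hc) x := by
  rw [cz_iff]
  rintro b (rfl | rfl) y hy
  · exact far_comm ha hc h hx hy
  · exact far_comm ha hc.neg' (Far.neg_right h hc) hx hy

/-- the groups of two sets of roots commute -/
theorem MS_MS {S S' : Set (Lat l)} (h : ∀ a ∈ S, ∀ c ∈ S', ∀ x ∈ XR D l p a, ∀ y ∈ XR D l p c, x * y = y * x)
    {x y : YY D p} (hx : x ∈ MS D l p S) (hy : y ∈ MS D l p S') : x * y = y * x := by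
  have h1 : MS D l p S ≤ centralizer (MS D l p S' : Set (YY D p)) := by
    refine RGD.Sup_le fun a ha x hx => mem_centralizer_iff.2 fun y hy => ?_
    exact mem_centralizer_singleton_iff.1 (RGD.Sup_le (K := centralizer {x})
      (fun c hc y hy => mem_centralizer_singleton_iff.2 (h a ha c hc x hx y hy).symm) hy)
  exact (mem_centralizer_iff.1 (h1 hx) y hy).symm

/-- rank two -/
theorem rank_two (hl : l = 2) {b' : Lat l} (ha : Rt hp a) (hb : Rt hp b) (hb' : Rt hp b') (h1 : cp hp a b = 0)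
    (h2 : cp hp a b' = 0) (h3 : cp hp b b' = -1) (h4 : cp hp b' b = -1) : False := by
  subst hl
  have key : ∀ x y z : ℤ, x • a + y • b + z • b' = 0 → y = 0 ∧ z = 0 ∧ x = 0 := by
    intro x y z e
    have h0 : ∀ c, Rt hp c → x * cp hp a c + y * cp hp b c + z * cp hp b' c = 0 := fun c hc => by
      rw [← cp_smul _ _ hc, ← cp_smul _ _ hc, ← cp_smul _ _ hc, ← cp_add _ _ hc, ← cp_add _ _ hc, e,
        ← zero_smul ℤ (0 : Lat 2), cp_smul _ _ hc, zero_mul]
    have e1 := h0 a ha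
    have e2 := h0 b hb
    have e3 := h0 b' hb'
    rw [cp_self ha, (cp_zero_comm ha hb).1 h1, (cp_zero_comm ha hb').1 h2] at e1
    rw [cp_self hb, h1, h4] at e2
    rw [cp_self hb', h2, h3] at e3
    omega
  have h5 := (key (b 0 * b' 1 - b 1 * b' 0) (a 1 * b' 0 - a 0 * b' 1) (a 0 * b 1 - a 1 * b 0) (by
    funext i
    fin_cases i <;> simp <;> ring)).2.2
  have h6 := (key 0 (b' 0) (-b 0) (by
    funext i
    fin_cases i <;> simp
    · ring
    · linear_combination -h5)).2.1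
  have h7 := (key 0 (b' 1) (-b 1) (by
    funext i
    fin_cases i <;> simp
    · linear_combination h5
    · ring)).2.1
  refine hb.ne_zero' ?_
  funext i
  fin_cases i
  · exact neg_eq_zero.1 h6
  · exact neg_eq_zero.1 h7

end Cfsg.Agent.Cam.Ex.P
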