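import Cfsg.Agent.Cam.Ex.Move
import Cfsg.Agent.DS.Ex.TorFrame

/-!
# Exceptional rows: `BoxChi` (helper70)
-/

set_option autoImplicit false
set_option linter.unusedVariables false
set_option linter.unusedSectionVars false

namespace Cfsg.Agent.Cam.Ex

open CoxeterSystem Cfsg Cfsg.Lie Subgroup
open Cfsg.Agent.ChevalleyStructure.CoxeterGeom Cfsg.Agent.ChevalleyStructure.CoxeterGeomTypes
open Cfsg.Agent.Tits.Roots Cfsg.Agent.Nodes.BNOf Cfsg.Agent.Nodes.RGDChev Cfsg.Agent.Nodes.Coroot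
open Cfsg.Agent.KFacts.RgdChevCoord Cfsg.Agent.BpExc.TorCent Cfsg.Agent.BpExc.LangFr Cfsg.Agent.BpExc.SubBN
open Cfsg.Agent.H129.TorusChar
open scoped commutatorElement

variable {D : ChevalleyDatum} {l : ℕ} {M : CoxeterMatrix (Fin l)} {hp : IsType D l M} {p : ℕ} [Fact p.Prime]

theorem invC_B2' : InvC chevB2 2 2 ![![2, 1], ![2, 2]] ∨ InvC chevB2 2 2 ![![2, 2], ![1, 2]] := by decide +kernel

/-- the Cartan matrix is invertible over the rationals -/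
theorem exists_invC_all (hp : IsType D l M) : ∃ (d : ℕ) (B : Fin l → Fin l → ℤ), InvC D l d B ∧ d ≠ 0 := by
  simp only [IsType, typeList, List.mem_cons, List.not_mem_nil, or_false, Prod.mk.injEq] at hp
  rcases hp with ⟨rfl, h⟩ | ⟨rfl, h⟩ | ⟨rfl, h⟩ | ⟨rfl, h⟩ | ⟨rfl, h⟩ | ⟨rfl, h⟩ | ⟨rfl, h⟩
  · obtain rfl : l = 2 := congrArg Sigma.fst h
    exact ⟨1, _, invC_G2, one_ne_zero⟩
  · obtain rfl : l = 2 := congrArg Sigma.fst h
    rcases invC_B2' with h1 | h1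
    · exact ⟨2, _, h1, two_ne_zero⟩
    · exact ⟨2, _, h1, two_ne_zero⟩
  · obtain rfl : l = 4 := congrArg Sigma.fst h
    exact ⟨2, _, invC_D4, two_ne_zero⟩
  · obtain rfl : l = 4 := congrArg Sigma.fst h
    exact ⟨1, _, invC_F4, one_ne_zero⟩
  · obtain rfl : l = 6 := congrArg Sigma.fst h
    exact ⟨3, _, invC_E6, three_ne_zero⟩
  · obtain rfl : l = 7 := congrArg Sigma.fst h
    exact ⟨2, _, invC_E7, two_ne_zero⟩
  · obtain rfl : l = 8 := congrArg Sigma.fst h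
    exact ⟨1, _, invC_E8, one_ne_zero⟩

/-- every multiplicative function on the lattice is the character of a torus element -/
theorem exists_tor_all (hp : IsType D l M) {φ : Lat l → kb p} (hφ : IsMC φ) :
    ∃ t ∈ TT D (kb p), ∀ x, cX hp t x = φ x := by
  obtain ⟨d, B, hB, hd⟩ := exists_invC_all hp
  exact exists_cX hp hB hd hφ fun i => IsAlgClosed.exists_pow_nat_eq _ (Nat.pos_of_ne_zero hd)

theorem cX_rt {t : YY D p} (ht : t ∈ TT D (kb p)) {a : Lat l} (ha : Rt hp a) : cX hp t a = ch hp a t :=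
  cX_root hp M.toCoxeterSystem ht ha

theorem isMC_zeta {m : ℕ} [NeZero m] {ζ : kb p} (hζ : IsPrimitiveRoot ζ m) (φ : Lat l →+ ZMod m) :
    IsMC fun a => ζ ^ (φ a).val where
  zero := by
    show ζ ^ (φ 0).val = 1
    rw [map_zero, ZMod.val_zero, pow_zero]
  add x y := by
    show ζ ^ (φ (x + y)).val = ζ ^ (φ x).val * ζ ^ (φ y).val
    rw [map_add, zeta_add hζ]

/-- the additive map with given values on the simple roots -/
def ofSr {K : Type} [CommRing K] (n : Fin l → K) : Lat l →+ K :=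
  AddMonoidHom.mk' (fun a => ∑ i, (a i : K) * n i) fun a b => by
    rw [← Finset.sum_add_distrib]
    exact Finset.sum_congr rfl fun i _ => by rw [Pi.add_apply, Int.cast_add, add_mul]

theorem ofSr_sr {K : Type} [CommRing K] (n : Fin l → K) (i : Fin l) : ofSr n (sr i) = n i := by
  show ∑ j, (((sr i : Lat l) j : ℤ) : K) * n j = n i
  rw [Finset.sum_eq_single i]
  · rw [sr_self, Int.cast_one, one_mul]
  · intro j _ hj
    rw [sr_ne hj, Int.cast_zero, zero_mul]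
  · intro hi
    exact absurd (Finset.mem_univ i) hi

theorem chi_ex (hp : IsType D l M) {m : ℕ} {ζ : kb p} (hζ : IsPrimitiveRoot ζ m) (hm : 0 < m) {t : YY D p}
    (ht : t ∈ TT D (kb p)) (htm : t ^ m = 1) : ∃ φ : Lat l →+ ZMod m, Chi hp ζ t φ := by
  have : NeZero m := ⟨hm.ne'⟩
  have h1 : ∀ i, ∃ n < m, ζ ^ n = ch hp (sr i) t := fun i =>
    hζ.eq_pow_of_pow_eq_one (by rw [← ch_pow (rt_sr hp i) ht, htm, ch_one (rt_sr hp i)])
  choose n hn h2 using h1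
  refine ⟨ofSr fun i => (n i : ZMod m), ht, fun a ha => ?_⟩
  rw [← cX_rt ht ha]
  refine (isMC_cX hp ht).ext (isMC_zeta hζ _) (fun i => ?_) a
  show cX hp t (sr i) = ζ ^ (ofSr (fun i => (n i : ZMod m)) (sr i)).val
  rw [ofSr_sr, cX_sr, ZMod.val_natCast_of_lt (hn i), h2]

/-- every additive map to `ZMod m` is the character of a torus element -/
theorem chi_sur (hp : IsType D l M) {m : ℕ} [NeZero m] {ζ : kb p} (hζ : IsPrimitiveRoot ζ m) (φ : Lat l →+ ZMod m) :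
    ∃ t : YY D p, Chi hp ζ t φ := by
  obtain ⟨t, ht, h⟩ := exists_tor_all hp (isMC_zeta hζ φ)
  exact ⟨t, ht, fun a ha => by rw [← cX_rt ht ha, h]⟩

theorem chi_sep {s t : YY D p} (hs : s ∈ TT D (kb p)) (ht : t ∈ TT D (kb p))
    (h : ∀ a, Rt hp a → ch hp a s = ch hp a t) : s = t :=
  cX_inj hp hs ht fun i => by rw [cX_sr, cX_sr, h _ (rt_sr hp i)]

/-- a finite subset killing the same roots -/
theorem exists_finite_psiS (hp : IsType D l M) (Q : Set (YY D p)) :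
    ∃ Z ⊆ Q, Z.Finite ∧ PsiS hp Z = PsiS hp Q := by
  classical
  have h1 : ∀ a : {a : Lat l // Rt hp a ∧ a ∉ PsiS hp Q}, ∃ t ∈ Q, ch hp a.1 t ≠ 1 := by
    rintro ⟨a, ha, hn⟩
    by_contra hc
    push Not at hc
    exact hn ⟨ha, hc⟩
  choose f hf h2 using h1
  have hfin : Finite {a : Lat l // Rt hp a ∧ a ∉ PsiS hp Q} :=
    ((finite_Rt hp).subset (s := {a | Rt hp a}) (t := {a | Rt hp a ∧ a ∉ PsiS hp Q}) fun a ha => ha.1).to_subtype
  refine ⟨Set.range f, by rintro _ ⟨a, rfl⟩; exact hf a, Set.finite_range f, ?_⟩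
  ext a
  constructor
  · rintro ⟨ha, h3⟩
    by_contra hn
    exact h2 ⟨a, ha, hn⟩ (h3 _ ⟨⟨a, ha, hn⟩, rfl⟩)
  · rintro ⟨ha, h3⟩
    refine ⟨ha, ?_⟩
    rintro _ ⟨b, rfl⟩
    exact h3 _ (hf b)

theorem psiS_eq (Q : Set (YY D p)) : PsiS hp Q = DS.Nt.Ps hp p Q := rfl

theorem MS_psiS (Q : Set (YY D p)) : MS D l p (PsiS hp Q) = DS.Nt.Mz hp p Q := rfl

/-- `PsiS` is closed and symmetric -/
theorem cs_psiS {Q : Set (YY D p)} (hQ : ∀ t ∈ Q, t ∈ TT D (kb p)) : DS.Ex.Tor.CS hp (PsiS hp Q) where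
  cl :=
    { root := fun _ ha => ha.1
      btw := by
        rintro x hx y hy z ⟨hz, a, b, -, -, e⟩
        refine ⟨hz, fun t ht => ?_⟩
        have h1 := isMC_cX hp (hQ t ht)
        rw [← cX_rt (hQ t ht) hz, e, h1.add, h1.zsmul, h1.zsmul, cX_rt (hQ t ht) hx.1, cX_rt (hQ t ht) hy.1,
          hx.2 t ht, hy.2 t ht, one_zpow, one_zpow, one_mul] }
  neg a ha := ⟨ha.1.neg, fun t ht => by
    rw [← cX_rt (hQ t ht) ha.1.neg, (isMC_cX hp (hQ t ht)).neg, cX_rt (hQ t ht) ha.1, ha.2 t ht, inv_one]⟩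

/-- perfect subgroups (finite or not) of the centralizer of a set of `r`-elements of the torus -/
theorem chi_perf (hp : IsType D l M) {r : ℕ} (hr : r.Prime) {Q : Set (YY D p)}
    (hQ : ∀ t ∈ Q, t ∈ TT D (kb p) ∧ ∃ n : ℕ, t ^ r ^ n = 1) {J : Subgroup (YY D p)} (hJ : ⁅J, J⁆ = J)
    (hc : J ≤ centralizer Q) : J ≤ MS D l p (PsiS hp Q) := by
  have := finite_WW hp
  obtain ⟨Z, hZ, hfin, e⟩ := exists_finite_psiS hp Q
  have h := H185.EE.perfect_leZ (DS.Nt.tw hp p) (DS.Nt.coW hp p) (DS.Nt.GGW hp p)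
    (by
      rw [DS.Nt.TLe hp p]
      exact BpExc.TorChev.TT_comm hp)
    (DS.Nt.chW hp p) hfin (DS.Nt.sub_TL fun t ht => (hQ t (hZ ht)).1) hr (fun t ht => (hQ t (hZ ht)).2) hJ
    (fun x hx t ht => (mem_centralizer_iff.1 (hc hx) t (hZ ht)).symm)
  rw [DS.Nt.XLe hp p] at h
  rw [← e]
  exact h

/-- an element of `M_S T` acts on the torus elements it keeps in the torus as a representative of an element of
`W(S)` lying in `M_S T` -/
theorem chi_conj (hp : IsType D l M) {Q : Set (YY D p)} (hQ : ∀ t ∈ Q, t ∈ TT D (kb p)) {y : YY D p}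
    (hy : y ∈ MS D l p (PsiS hp Q) ⊔ TT D (kb p)) :
    ∃ w ∈ WW hp (PsiS hp Q), ∀ s ∈ TT D (kb p), y * s * y⁻¹ ∈ TT D (kb p) →
      ∀ a, Rt hp a → ch hp (wa hp w a) (y * s * y⁻¹) = ch hp a s := by
  classical
  have := finite_WW hp
  obtain ⟨Z, hZ, hfin, e⟩ := exists_finite_psiS hp Q
  have hZT : Z ⊆ TT D (kb p) := fun t ht => hQ t (hZ ht)
  have hyZ : ∀ t ∈ Z, y * t = t * y := fun t ht => by
    refine DS.Nt.DZ_comm (hp := hp) hZT ?_ ht
    rw [← e] at hy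
    exact hy
  by_contra hcon
  push Not at hcon
  have h1 : ∀ w : WW hp (PsiS hp Q), ∃ s ∈ TT D (kb p), y * s * y⁻¹ ∈ TT D (kb p) ∧
      ∃ a, Rt hp a ∧ ch hp (wa hp w a) (y * s * y⁻¹) ≠ ch hp a s := fun w => hcon w w.2
  choose f hf hf' h2 using h1
  have hZf := hfin.to_subtype
  obtain ⟨m, hm, w, k, hk, hks, hmk⟩ := DS.Nt.form₂ hp (ι := Z ⊕ WW hp (PsiS hp Q))
    (s := Sum.elim (fun t => t.1) f) (t := Sum.elim (fun t => t.1) fun w => y * f w * y⁻¹)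
    (by
      rintro (t | w)
      · exact hZT t.2
      · exact hf w)
    (by
      rintro (t | w)
      · exact hZT t.2
      · exact hf' w) (c := y)
    (by
      rintro (t | w)
      · exact hyZ t t.2
      · show y * f w = y * f w * y⁻¹ * y
        group)
  have hm' : m ∈ MS D l p (PsiS hp Q) := by
    rw [← e]
    refine RGD.Sup_mono (fun a ha => ?_) hm
    exact ⟨ha.1, fun t ht => ha.2 t ⟨Sum.inl ⟨t, ht⟩, rfl⟩⟩
  have hkD : k ∈ MS D l p (PsiS hp Q) ⊔ TT D (kb p) := by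
    have h3 : k = m⁻¹ * y := by rw [hmk]; group
    rw [h3]
    exact mul_mem (inv_mem (mem_sup_left hm')) hy
  have hw : w ∈ WW hp (PsiS hp Q) := DS.Ex.Tor.mem_WS (cs_psiS hQ) hkD hk
  obtain ⟨a, ha, h3⟩ := h2 ⟨w, hw⟩
  apply h3
  have h4 : k * f ⟨w, hw⟩ = y * f ⟨w, hw⟩ * y⁻¹ * k := hks (Sum.inr ⟨w, hw⟩)
  have h5 : y * f ⟨w, hw⟩ * y⁻¹ = k * f ⟨w, hw⟩ * k⁻¹ := by rw [h4]; group
  rw [h5]
  exact ch_rp hk (hf _) ha

/-- **`BoxChi`.** -/
theorem boxChi : BoxChi where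
  ex D l M hp p _ m ζ hζ hm t ht htm := chi_ex hp hζ hm ht htm
  sur D l M hp p _ c hc := by
    obtain ⟨t, ht, h⟩ := exists_tor_all hp (IsMC.of_prod c hc)
    exact ⟨t, ht, fun a ha => by rw [← cX_rt ht ha, h]⟩
  sep D l M hp p _ s hs t ht h := chi_sep hs ht h
  frob D l M hp p _ d g0 L _ E t ht a ha := ch_sigma hp M.toCoxeterSystem E.frob E.fr ha ht
  perf D l M hp p _ r hr Q hQ J _ hJ hc :=
    chi_perf hp hr (fun t ht => ⟨(hQ t ht).1, 1, by rw [pow_one]; exact (hQ t ht).2⟩) hJ hc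
  conj D l M hp p _ Q hQ y hy := chi_conj hp hQ hy

end Cfsg.Agent.Cam.Ex
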