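import Cfsg.Agent.H428.OT.Coc
import Mathlib.LinearAlgebra.CrossProduct

/-!
# Perfect subgroups of `SL₃(k)` fixed by a graph automorphism, characteristic two (helper60)

* `eq_bot` : a perfect group fixing a vector `v ≠ 0` and a functional `u ≠ 0` with `u v = 0` is trivial;
* `exists_pair` : a fixed vector and a fixed functional;
* `core` : the element `y = λ + (λ³ - λ) e` of order five;
* `lift` : the same for the image of `SL₃(k)` in a group.
-/

set_option autoImplicit false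

namespace Cfsg.Agent.Cam.Ex.SL3

open Matrix Cfsg.Agent.H428.OT.Lin
open scoped commutatorElement

variable {k : Type*} [Field k]

/-- `SL₃(k)` -/
abbrev S3 (k : Type*) [Field k] : Type _ := SpecialLinearGroup (Fin 3) k

/-- matrices -/
abbrev M3 (k : Type*) : Type _ := Matrix (Fin 3) (Fin 3) k

/-- fixed vectors -/
def Fv (R : Subgroup (S3 k)) (v : Fin 3 → k) : Prop := ∀ g ∈ R, (g : M3 k) *ᵥ v = v

/-- fixed functionals -/
def Fw (R : Subgroup (S3 k)) (w : Fin 3 → k) : Prop := ∀ g ∈ R, (g : M3 k)ᵀ *ᵥ w = w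

theorem par {a b : Fin 3 → k} (ha : a ≠ 0) (h : a ⨯₃ b = 0) : ∃ s : k, b = s • a := by
  obtain ⟨i, hi⟩ := Function.ne_iff.1 ha
  have h1 := cross_cross_eq_smul_sub_smul' (Pi.single i (1 : k)) a b
  rw [h, map_zero, single_dotProduct, dotProduct_single, one_mul, mul_one] at h1
  refine ⟨(a i)⁻¹ * b i, ?_⟩
  rw [mul_smul, ← sub_eq_zero.1 h1.symm |>.symm, smul_smul, inv_mul_cancel₀ hi, one_smul]

theorem cross_mulVec (g : M3 k) (a b : Fin 3 → k) : gᵀ *ᵥ ((g *ᵥ a) ⨯₃ (g *ᵥ b)) = g.det • (a ⨯₃ b) := by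
  funext i
  fin_cases i <;> simp [cross_apply, mulVec, dotProduct, Fin.sum_univ_three, det_fin_three] <;> ring

theorem mulVec_inj {g : M3 k} (hg : g.det ≠ 0) {a b : Fin 3 → k} (h : g *ᵥ a = g *ᵥ b) : a = b :=
  mulVec_injective_iff_isUnit.2 ((isUnit_iff_isUnit_det g).2 (IsUnit.mk0 _ hg)) h

theorem dot_mulVec (g : M3 k) (u x : Fin 3 → k) : u ⬝ᵥ (g *ᵥ x) = (gᵀ *ᵥ u) ⬝ᵥ x := by
  rw [dotProduct_mulVec, mulVec_transpose]

variable {R : Subgroup (S3 k)}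

theorem fv_of (hR : R ≤ ⁅R, R⁆) {x : Fin 3 → k} (h : ∀ g ∈ R, Fv R ((g : M3 k) *ᵥ x - x)) : Fv R x := by
  let A : Subgroup (S3 k) :=
    { carrier := {g | (g : M3 k) *ᵥ x = x}
      one_mem' := one_mulVec x
      mul_mem' := fun {a b} ha hb => by
        show ((a : M3 k) * (b : M3 k)) *ᵥ x = x
        rw [← mulVec_mulVec, hb, ha]
      inv_mem' := fun {a} ha => by
        show ((a⁻¹ : S3 k) : M3 k) *ᵥ x = x
        conv_lhs => rw [← show (a : M3 k) *ᵥ x = x from ha]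
        rw [mulVec_mulVec, ← cmul, inv_mul_cancel, cone, one_mulVec] }
  have h1 : ∀ a ∈ R, ∀ b ∈ R, (a : M3 k) *ᵥ ((b : M3 k) *ᵥ x) = (b : M3 k) *ᵥ ((a : M3 k) *ᵥ x) := by
    intro a ha b hb
    have h2 := h b hb a ha
    have h3 := h a ha b hb
    rw [mulVec_sub] at h2 h3
    linear_combination (exp := 1) h2 - h3
  have h2 : ⁅R, R⁆ ≤ A := by
    rw [Subgroup.commutator_le]
    intro a ha b hb
    show ((a * b * a⁻¹ * b⁻¹ : S3 k) : M3 k) *ᵥ x = x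
    rw [cmul, ← mulVec_mulVec, cmul, ← mulVec_mulVec, h1 _ (inv_mem ha) _ (inv_mem hb), mulVec_mulVec, mulVec_mulVec,
      ← cmul, ← cmul, mul_inv_cancel_right, mul_inv_cancel, cone, one_mulVec]
  exact fun g hg => h2 (hR hg)

theorem Fv.smul {v : Fin 3 → k} (h : Fv R v) (s : k) : Fv R (s • v) := fun g hg => by rw [mulVec_smul, h g hg]

theorem Fw.smul {v : Fin 3 → k} (h : Fw R v) (s : k) : Fw R (s • v) := fun g hg => by rw [mulVec_smul, h g hg]

theorem det_ne' (g : S3 k) : (g : M3 k).det ≠ 0 := by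
  rw [g.det_coe]
  exact one_ne_zero

/-- **The degenerate case.** -/
theorem eq_bot (hR : R ≤ ⁅R, R⁆) {v u : Fin 3 → k} (hv : Fv R v) (hv0 : v ≠ 0) (hu : Fw R u) (hu0 : u ≠ 0)
    (h : u ⬝ᵥ v = 0) : R = ⊥ := by
  have h1 : ∀ x, u ⬝ᵥ x = 0 → Fv R x := by
    intro x hx
    refine fv_of hR fun g hg => ?_
    obtain ⟨t, ht⟩ := par hu0 (b := x ⨯₃ v) (by
      rw [cross_cross_eq_smul_sub_smul', h, dotProduct_comm, hx, zero_smul, zero_smul, sub_zero])
    have h2 := cross_mulVec (g : M3 k) x v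
    rw [g.det_coe, one_smul, hv g hg, ht, ← (hu.smul t) g hg, ← ht] at h2
    have h3 := mulVec_inj (by rw [det_transpose]; exact det_ne' g) h2
    obtain ⟨s, hs⟩ := par hv0 (b := (g : M3 k) *ᵥ x - x) (by
      rw [map_sub, ← cross_anticomm, h3, ← cross_anticomm x v, sub_self])
    rw [hs]
    exact hv.smul s
  have h2 : ∀ x, Fv R x := fun x => fv_of hR fun g hg => h1 _ (by
    rw [dotProduct_sub, dot_mulVec, hu g hg, sub_self])
  rw [eq_bot_iff]
  intro g hg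
  rw [Subgroup.mem_bot]
  apply slext
  rw [cone]
  ext i j
  have h3 := congrFun (h2 (Pi.single j 1) g hg) i
  rw [mulVec_single_one] at h3
  rw [one_apply, ← Pi.single_apply, ← h3]
  rfl

section unique

variable (hR : R ≤ ⁅R, R⁆) (h0 : R ≠ ⊥) {v w : Fin 3 → k} (hv : Fv R v) (hw : Fw R w) (h1 : w ⬝ᵥ v = 1)

include hR h0 h1

include hv in
theorem Fv.eq {a : Fin 3 → k} (ha : Fv R a) : a = (w ⬝ᵥ a) • v := by
  have hv0 : v ≠ 0 := by
    rintro rfl
    rw [dotProduct_zero] at h1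
    exact zero_ne_one h1
  have h2 : v ⨯₃ a = 0 := by
    by_contra h2
    refine h0 (eq_bot hR hv hv0 (fun g hg => ?_) h2 (by rw [dotProduct_comm, dot_self_cross]))
    have h3 := cross_mulVec (g : M3 k) v a
    rwa [g.det_coe, one_smul, hv g hg, ha g hg] at h3
  obtain ⟨s, rfl⟩ := par hv0 h2
  rw [dotProduct_smul, h1, smul_eq_mul, mul_one]

include hw in
theorem Fw.eq {b : Fin 3 → k} (hb : Fw R b) : b = (b ⬝ᵥ v) • w := by
  have hw0 : w ≠ 0 := by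
    rintro rfl
    rw [zero_dotProduct] at h1
    exact zero_ne_one h1
  have h2 : w ⨯₃ b = 0 := by
    by_contra h2
    refine h0 (eq_bot hR (fun g hg => ?_) h2 hw hw0 (dot_self_cross _ _))
    have h3 := cross_mulVec (g : M3 k)ᵀ w b
    rwa [det_transpose, g.det_coe, one_smul, hw g hg, hb g hg, transpose_transpose] at h3
  obtain ⟨s, rfl⟩ := par hw0 h2
  rw [smul_dotProduct, h1, smul_eq_mul, mul_one]

end unique

theorem gl_mul_inv (H : GL (Fin 3) k) : (H : M3 k) * ((H⁻¹ : GL (Fin 3) k) : M3 k) = 1 := by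
  rw [← Units.val_mul, mul_inv_cancel, Units.val_one]

theorem gl_inv_mul (H : GL (Fin 3) k) : ((H⁻¹ : GL (Fin 3) k) : M3 k) * (H : M3 k) = 1 := by
  rw [← Units.val_mul, inv_mul_cancel, Units.val_one]

theorem cjS_vec (H : GL (Fin 3) k) {A : S3 k} {a : Fin 3 → k} (h : (A : M3 k) *ᵥ a = a) :
    (cjS H A : M3 k) *ᵥ ((H : M3 k) *ᵥ a) = (H : M3 k) *ᵥ a := by
  rw [coe_cjS, mulVec_mulVec, mul_assoc, gl_inv_mul, mul_one, ← mulVec_mulVec, h]

theorem cjS_fun (H : GL (Fin 3) k) {A : S3 k} {b : Fin 3 → k} (h : (A : M3 k)ᵀ *ᵥ b = b) :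
    (cjS H A : M3 k)ᵀ *ᵥ (((H⁻¹ : GL (Fin 3) k) : M3 k)ᵀ *ᵥ b) = ((H⁻¹ : GL (Fin 3) k) : M3 k)ᵀ *ᵥ b := by
  rw [coe_cjS, mulVec_mulVec, ← transpose_mul, ← mul_assoc, ← mul_assoc, gl_inv_mul, one_mul, transpose_mul,
    ← mulVec_mulVec, h]

/-- the action of a ring homomorphism -/
abbrev mp (f : k →+* k) : S3 k →* S3 k := SpecialLinearGroup.map f

theorem coe_mp (f : k →+* k) (A : S3 k) : (mp f A : M3 k) = (A : M3 k).map f := rfl

theorem mp_vec (f : k →+* k) {A : S3 k} {a : Fin 3 → k} (h : (A : M3 k) *ᵥ a = a) :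
    (mp f A : M3 k) *ᵥ (f ∘ a) = f ∘ a := by
  funext i
  rw [coe_mp, ← RingHom.map_mulVec, h]
  rfl

theorem mp_fun (f : k →+* k) {A : S3 k} {a : Fin 3 → k} (h : (A : M3 k)ᵀ *ᵥ a = a) :
    (mp f A : M3 k)ᵀ *ᵥ (f ∘ a) = f ∘ a := by
  funext i
  rw [coe_mp, ← transpose_map, ← RingHom.map_mulVec, h]
  rfl

/-- the matrices `λ + (λ³ - λ) e` -/
def Ym (v w : Fin 3 → k) (c : k) : M3 k := c • (1 : M3 k) + (c ^ 3 - c) • vecMulVec v w

theorem Ym_mul {v w : Fin 3 → k} (h : w ⬝ᵥ v = 1) (c d : k) : Ym v w c * Ym v w d = Ym v w (c * d) := by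
  have h1 : vecMulVec v w * vecMulVec v w = vecMulVec v w := by
    rw [vecMulVec_mul_vecMulVec, h, one_smul]
  unfold Ym
  simp only [add_mul, mul_add, smul_mul_smul_comm, h1, mul_one, one_mul]
  module

theorem Ym_one (v w : Fin 3 → k) : Ym v w 1 = 1 := by
  unfold Ym
  rw [one_pow, sub_self, zero_smul, add_zero, one_smul]

theorem Ym_det {v w : Fin 3 → k} (h : w ⬝ᵥ v = 1) (c : k) : (Ym v w c).det = c ^ 5 := by
  rw [vec3_dotProduct] at h
  simp only [Ym, det_fin_three, Matrix.add_apply, Matrix.smul_apply, vecMulVec_apply, one_apply, smul_eq_mul]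
  simp
  linear_combination (c ^ 5 - c ^ 3) * h

theorem Ym_transpose (v w : Fin 3 → k) (c : k) : (Ym v w c)ᵀ = Ym w v c := by
  unfold Ym
  rw [transpose_add, transpose_smul, transpose_smul, transpose_one, transpose_vecMulVec]

theorem Ym_map (f : k →+* k) (v w : Fin 3 → k) (c : k) : (Ym v w c).map f = Ym (f ∘ v) (f ∘ w) (f c) := by
  ext i j
  simp only [Ym, map_apply, Matrix.add_apply, Matrix.smul_apply, vecMulVec_apply, one_apply, smul_eq_mul, map_add,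
    map_mul, map_sub, map_pow, Function.comp_apply]
  split_ifs <;> simp

theorem Ym_conj (H : GL (Fin 3) k) (a b : Fin 3 → k) (c : k) : (H : M3 k) * Ym a b c * ((H⁻¹ : GL (Fin 3) k) : M3 k) =
    Ym ((H : M3 k) *ᵥ a) (((H⁻¹ : GL (Fin 3) k) : M3 k)ᵀ *ᵥ b) c := by
  unfold Ym
  rw [mul_add, add_mul, mul_smul_comm, mul_smul_comm, smul_mul_assoc, smul_mul_assoc, mul_one, gl_mul_inv,
    mul_vecMulVec, vecMulVec_mul, mulVec_transpose]

theorem dot_map (f : k →+* k) {v w : Fin 3 → k} (h : w ⬝ᵥ v = 1) : (f ∘ w) ⬝ᵥ (f ∘ v) = 1 := by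
  rw [← RingHom.map_dotProduct, h, map_one]

theorem Ym_conj_eq (hR : R ≤ ⁅R, R⁆) (h0 : R ≠ ⊥) {v w : Fin 3 → k} (hv : Fv R v) (hw : Fw R w) (h1 : w ⬝ᵥ v = 1)
    (H : GL (Fin 3) k) {a b : Fin 3 → k} (h2 : b ⬝ᵥ a = 1) (ha : Fv R ((H : M3 k) *ᵥ a))
    (hb : Fw R (((H⁻¹ : GL (Fin 3) k) : M3 k)ᵀ *ᵥ b)) (c : k) :
    (H : M3 k) * Ym a b c * ((H⁻¹ : GL (Fin 3) k) : M3 k) = Ym v w c := by
  have h3 : (((H⁻¹ : GL (Fin 3) k) : M3 k)ᵀ *ᵥ b) ⬝ᵥ ((H : M3 k) *ᵥ a) = 1 := by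
    rw [← dot_mulVec, mulVec_mulVec, gl_inv_mul, one_mulVec, h2]
  rw [Ym_conj]
  have e1 := Fv.eq hR h0 hv h1 ha
  have e2 := Fw.eq hR h0 hw h1 hb
  generalize (H : M3 k) *ᵥ a = a' at *
  generalize ((H⁻¹ : GL (Fin 3) k) : M3 k)ᵀ *ᵥ b = b' at *
  generalize w ⬝ᵥ a' = s at e1
  generalize b' ⬝ᵥ v = t at e2
  subst e1 e2
  rw [smul_dotProduct, dotProduct_smul, h1, smul_eq_mul, smul_eq_mul, mul_one] at h3
  unfold Ym
  rw [smul_vecMulVec, vecMulVec_smul, smul_smul s t, mul_comm s t, h3, one_smul]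

theorem inv_vec {g : S3 k} {a : Fin 3 → k} (h : ((g⁻¹ : S3 k) : M3 k) *ᵥ a = a) : (ti g : M3 k)ᵀ *ᵥ a = a := by
  rw [coe_ti, transpose_transpose, h]

/-- the alternating matrix of a vector -/
def Xm (v : Fin 3 → k) : M3 k := !![0, v 2, -v 1; -v 2, 0, v 0; v 1, -v 0, 0]

theorem Xm_conj (g : M3 k) (v : Fin 3 → k) : gᵀ * Xm v * g = Xm (adjugate g *ᵥ v) := by
  ext i j
  fin_cases i <;> fin_cases j <;>
    simp [Xm, mul_apply, Fin.sum_univ_three, adjugate_fin_three, mulVec, dotProduct] <;> ring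

theorem Xm_inj {v w : Fin 3 → k} (h : Xm v = Xm w) : v = w := by
  funext i
  fin_cases i
  · exact congrFun (congrFun h 1) 2
  · exact congrFun (congrFun h 2) 0
  · exact congrFun (congrFun h 0) 1

/-- **A fixed vector and a fixed functional.** -/
theorem exists_pair [CharP k 2] [IsAlgClosed k] (hR : R ≤ ⁅R, R⁆) (h0 : R ≠ ⊥) {H : GL (Fin 3) k}
    (hH : ∀ g ∈ R, cjS H (ti g) = g) : ∃ v w, Fv R v ∧ Fw R w ∧ w ⬝ᵥ v = 1 := by
  set G : M3 k := ((H⁻¹ : GL (Fin 3) k) : M3 k) with hG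
  have hGd : G.det ≠ 0 := det_ne H⁻¹
  have h1 : ∀ g ∈ R, (g : M3 k)ᵀ * G * g = G := by
    intro g hg
    have h2 : (g : M3 k) = H * ((g⁻¹ : S3 k) : M3 k)ᵀ * G := (congrArg (fun A : S3 k => (A : M3 k)) (hH g hg)).symm
    conv_lhs => rhs; rw [h2]
    rw [← mul_assoc, ← mul_assoc, mul_assoc _ G, gl_inv_mul, mul_one, ← transpose_mul, ← cmul, inv_mul_cancel, cone,
      transpose_one, one_mul]
  have h2 : ∃ v, v ≠ 0 ∧ Fv R v := by
    by_cases hs : G = Gᵀ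
    · have h3 : ∀ i, ∃ z : k, z ^ 2 = G i i := fun i => IsAlgClosed.exists_pow_nat_eq _ two_pos
      choose z hz using h3
      have h2 : (2 : k) = 0 := CharTwo.two_eq_zero
      have s01 : G 1 0 = G 0 1 := congrFun (congrFun hs 1) 0
      have s02 : G 2 0 = G 0 2 := congrFun (congrFun hs 2) 0
      have s12 : G 2 1 = G 1 2 := congrFun (congrFun hs 2) 1
      have h4 : Fw R z := by
        intro g hg
        funext j
        have h5 := congrFun (congrFun (h1 g hg) j) j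
        simp only [mul_apply, transpose_apply, Fin.sum_univ_three, s01, s02, s12, ← hz] at h5
        have h6 : ((g : M3 k)ᵀ *ᵥ z) j ^ 2 = z j ^ 2 := by
          simp only [mulVec, dotProduct, transpose_apply, Fin.sum_univ_three]
          linear_combination h5 + (g 0 j * g 1 j * (z 0 * z 1 - G 0 1) + g 0 j * g 2 j * (z 0 * z 2 - G 0 2) +
            g 1 j * g 2 j * (z 1 * z 2 - G 1 2)) * h2
        rcases sq_eq_sq_iff_eq_or_eq_neg.1 h6 with h7 | h7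
        · exact h7
        · rw [h7, CharTwo.neg_eq]
      refine ⟨(H : M3 k) *ᵥ z, fun h5 => hGd ?_, fun g hg => ?_⟩
      · have h6 : z = 0 := mulVec_inj (det_ne H) (by rw [h5, mulVec_zero])
        have h7 : ∀ i, G i i = 0 := fun i => by rw [← hz, h6, Pi.zero_apply, zero_pow two_ne_zero]
        rw [det_fin_three, h7, h7, h7, s01, s02, s12]
        linear_combination (G 0 1 * G 1 2 * G 0 2) * h2
      · conv_lhs => rw [← hH g hg]
        exact cjS_vec H (h4 _ (inv_mem hg))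
    · have h3 : G - Gᵀ = Xm ![G 1 2 - G 2 1, G 2 0 - G 0 2, G 0 1 - G 1 0] := by
        ext i j
        fin_cases i <;> fin_cases j <;> simp [Xm]
      refine ⟨![G 1 2 - G 2 1, G 2 0 - G 0 2, G 0 1 - G 1 0], fun h4 => hs ?_, fun g hg => ?_⟩
      · rw [h4] at h3
        refine sub_eq_zero.1 (h3.trans ?_)
        ext i j
        fin_cases i <;> fin_cases j <;> simp [Xm]
      · have h4 : (g : M3 k)ᵀ * (G - Gᵀ) * g = G - Gᵀ := by
          have h5 := congrArg transpose (h1 g hg)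
          rw [transpose_mul, transpose_mul, transpose_transpose, ← mul_assoc] at h5
          rw [mul_sub, sub_mul, h1 g hg, h5]
        rw [h3, Xm_conj] at h4
        conv_lhs => rw [← Xm_inj h4]
        rw [mulVec_mulVec, mul_adjugate, g.det_coe, one_smul, one_mulVec]
  obtain ⟨v, hv0, hv⟩ := h2
  have h3 : Fw R (G *ᵥ v) := fun g hg => by
    conv_lhs => rw [← hv g hg]
    rw [mulVec_mulVec, mulVec_mulVec, h1 g hg]
  have h4 : (G *ᵥ v) ⬝ᵥ v ≠ 0 := fun h5 =>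
    h0 (eq_bot hR hv hv0 h3 (fun h6 => hv0 (mulVec_inj hGd (by rw [h6, mulVec_zero]))) h5)
  exact ⟨v, _, hv, h3.smul ((G *ᵥ v) ⬝ᵥ v)⁻¹, by rw [smul_dotProduct, smul_eq_mul, inv_mul_cancel₀ h4]⟩

/-- **The element of order five.** -/
theorem core [CharP k 2] [IsAlgClosed k] (hR : R ≤ ⁅R, R⁆) (h0 : R ≠ ⊥) {H : GL (Fin 3) k}
    (hH : ∀ g ∈ R, cjS H (ti g) = g) {c : k} (hc : IsPrimitiveRoot c 5) :
    ∃ y : S3 k, y ^ 5 = 1 ∧ y ∉ Subgroup.center (S3 k) ∧ (∀ g ∈ R, g * y = y * g) ∧ cjS H (ti y) = y⁻¹ ∧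
      (∀ (f : k →+* k) (H' : GL (Fin 3) k), (∀ g ∈ R, cjS H' (mp f g) = g) → f c = c → cjS H' (mp f y) = y) ∧
      ∀ (f : k →+* k) (H' : GL (Fin 3) k), (∀ g ∈ R, cjS H' (ti (mp f g)) = g) → f c ^ 4 = c →
        cjS H' (ti (mp f y)) = y := by
  obtain ⟨v, w, hv, hw, h1⟩ := exists_pair hR h0 hH
  have hc5 : c ^ 5 = 1 := hc.pow_eq_one
  let y : S3 k := ⟨Ym v w c, by rw [Ym_det h1, hc5]⟩
  have hy : (y : M3 k) = Ym v w c := rfl
  have hpow : ∀ n : ℕ, ((y ^ n : S3 k) : M3 k) = Ym v w (c ^ n) := by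
    intro n
    induction n with
    | zero => rw [pow_zero, pow_zero, cone, Ym_one]
    | succ n ih => rw [pow_succ, cmul, ih, hy, Ym_mul h1, pow_succ]
  have h5 : y ^ 5 = 1 := slext (by rw [hpow, hc5, Ym_one, cone])
  have hinv : ((y⁻¹ : S3 k) : M3 k) = Ym v w (c ^ 4) := by
    rw [← hpow, inv_eq_of_mul_eq_one_right (show y * y ^ 4 = 1 by rw [← pow_succ', h5])]
  have key : ∀ (f : k →+* k) (H' : GL (Fin 3) k), (∀ g ∈ R, cjS H' (ti (mp f g)) = g) →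
      ((cjS H' (ti (mp f y)) : S3 k) : M3 k) = Ym v w (f c ^ 4) := by
    intro f H' h
    rw [coe_cjS, coe_ti, ← map_inv, coe_mp, hinv, Ym_map, Ym_transpose, map_pow]
    refine Ym_conj_eq hR h0 hv hw h1 H' (by rw [dotProduct_comm]; exact dot_map f h1) (fun g hg => ?_)
      (fun g hg => ?_) _
    · conv_lhs => rw [← h g hg]
      refine cjS_vec H' ?_
      rw [coe_ti, ← map_inv]
      exact mp_fun f (hw _ (inv_mem hg))
    · conv_lhs => rw [← h g hg]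
      refine cjS_fun H' (inv_vec ?_)
      rw [← map_inv]
      exact mp_vec f (hv _ (inv_mem hg))
  refine ⟨y, h5, fun h => ?_, fun g hg => slext ?_, slext ?_, fun f H' h hf => slext ?_,
    fun f H' h hf => slext (by rw [key f H' h, hf, hy])⟩
  · obtain ⟨r, hr, e⟩ := Matrix.SpecialLinearGroup.mem_center_iff.1 h
    have h2 : w ⬝ᵥ ((y : M3 k) *ᵥ v) = c ^ 3 := by
      rw [hy, Ym, add_mulVec, smul_mulVec, smul_mulVec, one_mulVec, vecMulVec_mulVec, h1, MulOpposite.op_one, one_smul,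
        dotProduct_add, dotProduct_smul, dotProduct_smul, h1]
      simp
    rw [← e, scalar_apply, ← smul_one_eq_diagonal, smul_mulVec, one_mulVec, dotProduct_smul, h1, smul_eq_mul,
      mul_one] at h2
    rw [h2, Fintype.card_fin, ← pow_mul, hc.pow_eq_one_iff_dvd] at hr
    omega
  · rw [cmul, cmul, hy, Ym, mul_add, add_mul, mul_smul_comm, mul_smul_comm, smul_mul_assoc, smul_mul_assoc, mul_one,
      one_mul, mul_vecMulVec, vecMulVec_mul, hv g hg, ← mulVec_transpose, hw g hg]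
  · rw [hinv]
    exact key (RingHom.id k) H hH
  · rw [coe_cjS, coe_mp, hy, Ym_map, hf]
    refine Ym_conj_eq hR h0 hv hw h1 H' (dot_map f h1) (fun g hg => ?_) (fun g hg => ?_) _
    · conv_lhs => rw [← h g hg]
      exact cjS_vec H' (mp_vec f (hv g hg))
    · conv_lhs => rw [← h g hg]
      exact cjS_fun H' (mp_fun f (hw g hg))

section lift

variable {Y : Type*} [Group Y] (π : S3 k →* Y)

/-- `r` acts on the image as `g` -/
def Ac (g : S3 k) (r : Y) : Prop := ∀ X, π (g * X * g⁻¹) = r * π X * r⁻¹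

variable {π}

theorem Ac.one : Ac π 1 1 := fun X => by rw [one_mul, one_mul, inv_one, inv_one, mul_one, mul_one]

theorem Ac.self (g : S3 k) : Ac π g (π g) := fun X => by rw [map_mul, map_mul, map_inv]

theorem Ac.mul {g g' : S3 k} {r r' : Y} (h : Ac π g r) (h' : Ac π g' r') : Ac π (g * g') (r * r') := fun X => by
  rw [show g * g' * X * (g * g')⁻¹ = g * (g' * X * g'⁻¹) * g⁻¹ by group, h, h']
  group

theorem Ac.inv {g : S3 k} {r : Y} (h : Ac π g r) : Ac π g⁻¹ r⁻¹ := fun X => by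
  have h1 := h (g⁻¹ * X * g⁻¹⁻¹)
  rw [show g * (g⁻¹ * X * g⁻¹⁻¹) * g⁻¹ = X by group] at h1
  rw [h1]
  group

variable (π) in
/-- the matrices acting as elements of `J` -/
def Hat (J : Subgroup Y) : Subgroup (S3 k) where
  carrier := {g | ∃ r ∈ J, Ac π g r}
  one_mem' := ⟨1, one_mem _, Ac.one⟩
  mul_mem' := fun ⟨r, hr, h⟩ ⟨r', hr', h'⟩ => ⟨r * r', mul_mem hr hr', h.mul h'⟩
  inv_mem' := fun ⟨r, hr, h⟩ => ⟨r⁻¹, inv_mem hr, h.inv⟩

variable {J : Subgroup Y}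

theorem rep_der (hJ : J ≤ ⁅J, J⁆) (h : ∀ r ∈ J, ∃ g, Ac π g r) : ∀ r ∈ J, ∃ g ∈ ⁅Hat π J, Hat π J⁆, Ac π g r := by
  let B : Subgroup Y :=
    { carrier := {r | ∃ g ∈ ⁅Hat π J, Hat π J⁆, Ac π g r}
      one_mem' := ⟨1, one_mem _, Ac.one⟩
      mul_mem' := fun ⟨g, hg, h⟩ ⟨g', hg', h'⟩ => ⟨g * g', mul_mem hg hg', h.mul h'⟩
      inv_mem' := fun ⟨g, hg, h⟩ => ⟨g⁻¹, inv_mem hg, h.inv⟩ }
  have h1 : ⁅J, J⁆ ≤ B := by
    rw [Subgroup.commutator_le]
    intro a ha b hb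
    obtain ⟨g, hg⟩ := h a ha
    obtain ⟨g', hg'⟩ := h b hb
    exact ⟨⁅g, g'⁆, Subgroup.commutator_mem_commutator ⟨a, ha, hg⟩ ⟨b, hb, hg'⟩, ((hg.mul hg').mul hg.inv).mul hg'.inv⟩
  exact fun r hr => h1 (hJ hr)

variable (hker : π.ker ≤ Subgroup.center (S3 k))

include hker

theorem Ac.center {g g' : S3 k} {r : Y} (h : Ac π g r) (h' : Ac π g' r) : g * g'⁻¹ ∈ Subgroup.center (S3 k) := by
  have h1 := h.mul h'.inv
  rw [mul_inv_cancel] at h1
  obtain ⟨μ, hμ⟩ := scalar_of hker (H := toG (g * g'⁻¹)) fun X => by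
    rw [cjS_toG, h1 X, one_mul, inv_one, mul_one]
  rw [coe_toG] at hμ
  rw [Subgroup.mem_center_iff]
  intro X
  apply slext
  rw [cmul X, cmul _ X, hμ]
  exact ((scalar_commute μ (fun _ => Commute.all _ _) _).eq).symm

theorem fix_der {σ : Y →* Y} {τ : S3 k →* S3 k} (hτ : Function.Surjective τ) (h : ∀ X, σ (π X) = π (τ X))
    (hσ : ∀ r ∈ J, σ r = r) : ∀ g ∈ ⁅Hat π J, Hat π J⁆, τ g = g := by
  have h1 : ∀ g ∈ Hat π J, τ g * g⁻¹ ∈ Subgroup.center (S3 k) := by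
    rintro g ⟨r, hr, hg⟩
    refine Ac.center hker (fun X => ?_) hg
    obtain ⟨X, rfl⟩ := hτ X
    rw [← map_inv, ← map_mul, ← map_mul, ← h, hg X, map_mul, map_mul, map_inv, hσ r hr, h]
  have h2 : ⁅Hat π J, Hat π J⁆ ≤ τ.eqLocus (MonoidHom.id _) := by
    rw [Subgroup.commutator_le]
    intro a ha b hb
    show τ ⁅a, b⁆ = ⁅a, b⁆
    rw [map_commutatorElement]
    exact comm_eq_of_center (h1 a ha) (h1 b hb)
  exact fun g hg => h2 hg

theorem perf_der (hJ : J ≤ ⁅J, J⁆) (h : ∀ r ∈ J, ∃ g, Ac π g r) :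
    ⁅Hat π J, Hat π J⁆ ≤ ⁅⁅Hat π J, Hat π J⁆, ⁅Hat π J, Hat π J⁆⁆ := by
  refine Subgroup.commutator_le.2 ?_
  rintro a ⟨r, hr, ha⟩ b ⟨s, hs, hb⟩
  obtain ⟨a', ha', h1⟩ := rep_der hJ h r hr
  obtain ⟨b', hb', h2⟩ := rep_der hJ h s hs
  rw [comm_eq_of_center (Ac.center hker ha h1) (Ac.center hker hb h2)]
  exact Subgroup.commutator_mem_commutator ha' hb'

omit hker in
theorem cjS_surj (H : GL (Fin 3) k) : Function.Surjective (cjS H) := fun X =>
  ⟨cjS H⁻¹ X, by rw [← cjS_mul, mul_inv_cancel, cjS_one]⟩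

omit hker in
theorem ti_surj : Function.Surjective (ti (K := k)) := fun X => ⟨ti X, ti_ti X⟩

omit hker in
theorem mp_mp (f : k ≃+* k) (X : S3 k) : mp (f : k →+* k) (mp (f.symm : k →+* k) X) = X := by
  apply slext
  ext i j
  exact f.apply_symm_apply _

omit hker in
theorem mp_surj (f : k ≃+* k) : Function.Surjective (mp (f : k →+* k)) := fun X => ⟨_, mp_mp f X⟩

/-- **The element of order five in the image.** -/
theorem lift [CharP k 2] [IsAlgClosed k] (hJ : J ≤ ⁅J, J⁆) (h1 : ∀ r ∈ J, ∃ g, Ac π g r)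
    (h2 : ¬ ∀ r ∈ J, ∀ X, r * π X = π X * r) {n : Y} {H : GL (Fin 3) k} (hn : ActT π n H)
    (hnJ : ∀ r ∈ J, n * r = r * n) {σ : Y →* Y} (hσ : ∀ r ∈ J, σ r = r) {f : k ≃+* k} {H' : GL (Fin 3) k} {c : k}
    (hc : IsPrimitiveRoot c 5) (hF : (f c = c ∧ ∀ X, σ (π X) = π (cjS H' (mp (f : k →+* k) X))) ∨
      (f c ^ 4 = c ∧ ∀ X, σ (π X) = π (cjS H' (ti (mp (f : k →+* k) X))))) :
    ∃ y : S3 k, y ^ 5 = 1 ∧ σ (π y) = π y ∧ (∀ r ∈ J, r * π y = π y * r) ∧ n * π y * n⁻¹ = (π y)⁻¹ ∧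
      ¬ ∀ X, π y * π X = π X * π y := by
  have h0 : ⁅Hat π J, Hat π J⁆ ≠ ⊥ := by
    intro h
    refine h2 fun r hr X => ?_
    obtain ⟨g, hg, h3⟩ := rep_der hJ h1 r hr
    rw [h, Subgroup.mem_bot] at hg
    have h4 := h3 X
    rw [hg, one_mul, inv_one, mul_one, eq_mul_inv_iff_mul_eq] at h4
    exact h4.symm
  obtain ⟨y, h3, h4, h5, h6, h7, h8⟩ := core (perf_der hker hJ h1) h0 (H := H)
    (fix_der hker (σ := (MulAut.conj n).toMonoidHom) (τ := (cjS H).comp ti) ((cjS_surj H).comp ti_surj) hn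
      fun r hr => by
        show n * r * n⁻¹ = r
        rw [hnJ r hr, mul_inv_cancel_right]) hc
  refine ⟨y, h3, ?_, fun r hr => ?_, by rw [hn y, h6, map_inv], fun h => h4 ?_⟩
  · rcases hF with ⟨e, h⟩ | ⟨e, h⟩
    · rw [h, h7 f H' (fix_der hker (τ := (cjS H').comp (mp (f : k →+* k))) ((cjS_surj H').comp (mp_surj f)) h hσ) e]
    · rw [h, h8 f H' (fix_der hker (τ := (cjS H').comp (ti.comp (mp (f : k →+* k))))
        ((cjS_surj H').comp (ti_surj.comp (mp_surj f))) h hσ) e]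
  · obtain ⟨g, hg, h9⟩ := rep_der hJ h1 r hr
    have h10 := h9 y
    rw [h5 g hg, mul_inv_cancel_right, eq_mul_inv_iff_mul_eq] at h10
    exact h10.symm
  · have h9 := Ac.center hker (g := y) (g' := 1) (r := 1) (fun X => by
      rw [map_mul, map_mul, map_inv, h X, mul_inv_cancel_right, one_mul, inv_one, mul_one]) Ac.one
    rwa [inv_one, mul_one] at h9

end lift

end Cfsg.Agent.Cam.Ex.SL3
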