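import Cfsg.Agent.Cam.Ex.IfaceB
import Cfsg.Agent.Cam.Ex.Chi
import Cfsg.Agent.Cam.Ex.SL3Lin
import Cfsg.Agent.H46.Gen.PairW
import Cfsg.Agent.H130.TorOrd
import Cfsg.Agent.DS.Ex.TorCE

/-!
# Exceptional rows: `BoxSL3` (helper60)

* `act_WW` : the reflection group of `A2s c c'` acts as `S₃`;
* `exists_pi` : the homomorphism `π : SL₃(k) →* Y` with image `MS (A2s c c')`;
* `act_pi` : automorphisms permuting the root groups of `A2s c c'`;
* `boxSL3 : BoxSL3`.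
-/

set_option autoImplicit false
set_option linter.unusedVariables false
set_option linter.unusedSectionVars false

namespace Cfsg.Agent.Cam.Ex.SL3

open CoxeterSystem Cfsg Cfsg.Lie Subgroup
open Cfsg.Agent.ChevalleyStructure.CoxeterGeom Cfsg.Agent.ChevalleyStructure.CoxeterGeomTypes
open Cfsg.Agent.Tits.Roots Cfsg.Agent.Nodes.BNOf Cfsg.Agent.Nodes.RGDChev Cfsg.Agent.Nodes.Coroot
open Cfsg.Agent.KFacts.RgdChevCoord Cfsg.Agent.BpExc.TorCent Cfsg.Agent.BpExc.LangFr Cfsg.Agent.BpExc.SubBN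
open Cfsg.Agent.H428.OT.Lin
open scoped commutatorElement

variable {D : ChevalleyDatum} {l : ℕ} {M : CoxeterMatrix (Fin l)} {hp : IsType D l M} {p : ℕ} [Fact p.Prime]

/-- the frame of the pair -/
def ev (c c' : Lat l) : Fin 3 → Lat l := ![c + c', c', 0]

theorem ev01 (c c' : Lat l) : ev c c' 0 - ev c c' 1 = c := add_sub_cancel_right c c'
theorem ev12 (c c' : Lat l) : ev c c' 1 - ev c c' 2 = c' := sub_zero c'
theorem ev02 (c c' : Lat l) : ev c c' 0 - ev c c' 2 = c + c' := sub_zero (c + c')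
theorem ev10 (c c' : Lat l) : ev c c' 1 - ev c c' 0 = -c := by rw [← neg_sub, ev01]
theorem ev21 (c c' : Lat l) : ev c c' 2 - ev c c' 1 = -c' := by rw [← neg_sub, ev12]
theorem ev20 (c c' : Lat l) : ev c c' 2 - ev c c' 0 = -(c + c') := by rw [← neg_sub, ev02]

theorem six : ∀ i j : Fin 3, i ≠ j → (i = 0 ∧ j = 1) ∨ (i = 1 ∧ j = 2) ∨ (i = 0 ∧ j = 2) ∨ (i = 1 ∧ j = 0) ∨
    (i = 2 ∧ j = 1) ∨ (i = 2 ∧ j = 0) := by decide

theorem mem_A2s {c c' a : Lat l} : a ∈ A2s c c' ↔ ∃ i j, i ≠ j ∧ a = ev c c' i - ev c c' j := by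
  simp only [A2s, Set.mem_insert_iff, Set.mem_singleton_iff]
  constructor
  · rintro (h | h | h | h | h | h)
    · exact ⟨0, 1, by decide, h.trans (ev01 c c').symm⟩
    · exact ⟨1, 2, by decide, h.trans (ev12 c c').symm⟩
    · exact ⟨0, 2, by decide, h.trans (ev02 c c').symm⟩
    · exact ⟨1, 0, by decide, h.trans (ev10 c c').symm⟩
    · exact ⟨2, 1, by decide, h.trans (ev21 c c').symm⟩
    · exact ⟨2, 0, by decide, h.trans (ev20 c c').symm⟩
  · rintro ⟨i, j, hij, rfl⟩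
    rcases six i j hij with ⟨rfl, rfl⟩ | ⟨rfl, rfl⟩ | ⟨rfl, rfl⟩ | ⟨rfl, rfl⟩ | ⟨rfl, rfl⟩ | ⟨rfl, rfl⟩
    · exact Or.inl (ev01 c c')
    · exact Or.inr (Or.inl (ev12 c c'))
    · exact Or.inr (Or.inr (Or.inl (ev02 c c')))
    · exact Or.inr (Or.inr (Or.inr (Or.inl (ev10 c c'))))
    · exact Or.inr (Or.inr (Or.inr (Or.inr (Or.inl (ev21 c c')))))
    · exact Or.inr (Or.inr (Or.inr (Or.inr (Or.inr (ev20 c c')))))

variable (hp) in
/-- a pair of type `A₂` -/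
structure P2 (c c' : Lat l) : Prop where
  r1 : Rt hp c
  r2 : Rt hp c'
  c1 : cp hp c c' = -1
  c2 : cp hp c' c = -1

variable (hp) in
/-- the coroots of the frame -/
noncomputable def Bv (c c' x : Lat l) : Fin 3 → ℤ := ![cp hp x c + cp hp x c', cp hp x c', 0]

/-- the values of `Bv` on the frame -/
def Nn : Fin 3 → Fin 3 → ℤ := ![![2, 1, 0], ![1, 2, 0], ![0, 0, 0]]

/-- the Kronecker symbol -/
def dl (i j : Fin 3) : ℤ := if i = j then 1 else 0

theorem Nn_dl : ∀ i j m n : Fin 3, Nn i m - Nn i n - (Nn j m - Nn j n) = dl i m - dl i n - (dl j m - dl j n) := by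
  decide

theorem ev_swap (e : Fin 3 → Lat l) {m n : Fin 3} (hmn : m ≠ n) (i : Fin 3) :
    e (Equiv.swap m n i) = e i - (dl i m - dl i n) • (e m - e n) := by
  unfold dl
  by_cases h1 : i = m
  · subst h1
    rw [Equiv.swap_apply_left, if_pos rfl, if_neg hmn, sub_zero, one_smul, sub_sub_cancel]
  · by_cases h2 : i = n
    · subst h2
      rw [Equiv.swap_apply_right, if_neg h1, if_pos rfl, zero_sub, neg_smul, one_smul, sub_neg_eq_add, add_sub_cancel]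
    · rw [Equiv.swap_apply_of_ne_of_ne h1 h2, if_neg h1, if_neg h2, sub_zero, zero_smul, sub_zero]

variable {c c' : Lat l} (h : P2 hp c c')

include h

theorem P2.sum (x : Lat l) : Rt hp (c + c') ∧ cp hp x (c + c') = cp hp x c + cp hp x c' := by
  have := finite_WW hp
  have h1 := Nodes.KindBase.cpr_diff M.toCoxeterSystem hp.isCartan h.r1 h.r2.neg
    (by rw [cpr_neg_right _ _ _ h.r2, show cpr _ _ c c' = -1 from h.c1, neg_neg])
    (by rw [cpr_neg _ _ _ h.r1, show cpr _ _ c' c = -1 from h.c2, neg_neg]) x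
  rwa [sub_neg_eq_add, cpr_neg_right _ _ _ h.r2, sub_neg_eq_add] at h1

theorem P2.right {m n : Fin 3} (hmn : m ≠ n) (x : Lat l) : Rt hp (ev c c' m - ev c c' n) ∧
    cp hp x (ev c c' m - ev c c' n) = Bv hp c c' x m - Bv hp c c' x n := by
  have := finite_WW hp
  have h3 := h.sum x
  rcases six m n hmn with ⟨rfl, rfl⟩ | ⟨rfl, rfl⟩ | ⟨rfl, rfl⟩ | ⟨rfl, rfl⟩ | ⟨rfl, rfl⟩ | ⟨rfl, rfl⟩
  · rw [ev01]
    exact ⟨h.r1, (add_sub_cancel_right _ _).symm⟩
  · rw [ev12]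
    exact ⟨h.r2, (sub_zero _).symm⟩
  · rw [ev02]
    exact ⟨h3.1, h3.2.trans (sub_zero _).symm⟩
  · rw [ev10]
    refine ⟨h.r1.neg, (cpr_neg_right _ _ _ h.r1).trans ?_⟩
    show -cp hp x c = cp hp x c' - (cp hp x c + cp hp x c')
    ring
  · rw [ev21]
    exact ⟨h.r2.neg, (cpr_neg_right _ _ _ h.r2).trans (zero_sub _).symm⟩
  · rw [ev20]
    refine ⟨h3.1.neg, (cpr_neg_right _ _ _ h3.1).trans ?_⟩
    rw [show cpr _ _ x (c + c') = _ from h3.2]
    exact (zero_sub _).symm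

theorem P2.Bv_ev (i m : Fin 3) : Bv hp c c' (ev c c' i) m = Nn i m := by
  have := finite_WW hp
  have a1 : cp hp c c = 2 := cpr_self _ _ h.r1
  have a2 : cp hp c' c' = 2 := cpr_self _ _ h.r2
  have a3 : cp hp (c + c') c = 1 := by
    rw [show cp hp (c + c') c = cp hp c c + cp hp c' c from cpr_add _ _ _ _ h.r1, a1, h.c2]
    rfl
  have a4 : cp hp (c + c') c' = 1 := by
    rw [show cp hp (c + c') c' = cp hp c c' + cp hp c' c' from cpr_add _ _ _ _ h.r2, a2, h.c1]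
    rfl
  have a5 : ∀ y, Rt hp y → cp hp 0 y = 0 := fun y hy => by
    have h1 := cpr_smul M.toCoxeterSystem hp.isCartan 0 y hy
    rwa [zero_smul, zero_mul] at h1
  fin_cases i
  · show Bv hp c c' (c + c') m = _
    unfold Bv
    rw [a3, a4]
    rfl
  · show Bv hp c c' c' m = _
    unfold Bv
    rw [a2, h.c2]
    rfl
  · show Bv hp c c' 0 m = _
    unfold Bv
    rw [a5 c h.r1, a5 c' h.r2]
    rfl

/-- **The reflection group of the pair acts as `S₃`.** -/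
theorem P2.act_WW {w : M.Group} (hw : w ∈ WW hp (A2s c c')) : ∃ τ : Equiv.Perm (Fin 3), ∀ i j,
    wa hp w (ev c c' i - ev c c' j) = ev c c' (τ i) - ev c c' (τ j) := by
  have := finite_WW hp
  induction hw using Subgroup.closure_induction with
  | mem r hr =>
    obtain ⟨v, j0, h1, rfl⟩ := hr
    obtain ⟨m, n, hmn, e⟩ := mem_A2s.1 h1
    refine ⟨Equiv.swap m n, fun i j => ?_⟩
    have h2 := rep_rfl'_eq M.toCoxeterSystem hp.isCartan v j0 (ev c c' i - ev c c' j)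
    rw [e, Nodes.KindBase.cpr_sub _ _ _ _ (h.right hmn 0).1, show cpr _ _ (ev c c' i) _ = _ from (h.right hmn _).2,
      show cpr _ _ (ev c c' j) _ = _ from (h.right hmn _).2, h.Bv_ev, h.Bv_ev, h.Bv_ev, h.Bv_ev, Nn_dl] at h2
    rw [ev_swap (ev c c') hmn i, ev_swap (ev c c') hmn j]
    refine h2.trans ?_
    module
  | one => exact ⟨1, fun i j => wa_one _⟩
  | mul a b _ _ ha hb =>
    obtain ⟨τ, h1⟩ := ha
    obtain ⟨τ', h2⟩ := hb
    exact ⟨τ * τ', fun i j => by rw [wa_mul, h2, h1]; rfl⟩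
  | inv a _ ha =>
    obtain ⟨τ, h1⟩ := ha
    refine ⟨τ⁻¹, fun i j => ?_⟩
    have h2 := h1 (τ.symm i) (τ.symm j)
    rw [Equiv.apply_symm_apply, Equiv.apply_symm_apply] at h2
    rw [← h2, wa_inv_wa]
    rfl

omit h in
variable (hp c c') in
/-- the homomorphism of the pair -/
structure Pi3 (π : S3 (kb p) →* YY D p) (s : Fin 3 → Fin 3 → ℤ) : Prop where
  tv : ∀ i j (hij : i ≠ j) u, π (tv hij u) = xc hp (ev c c' i - ev c c' j) ((s i j : kb p) * u)
  sq : ∀ i j, i ≠ j → (s i j : kb p) * s i j = 1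
  ker : π.ker ≤ center (S3 (kb p))

variable (p) in
theorem P2.exists_pi (hG : D ≠ chevG2) : ∃ (π : S3 (kb p) →* YY D p) (s : Fin 3 → Fin 3 → ℤ), Pi3 hp c c' π s := by
  have := finite_WW hp
  have h1 : H46.Gen.AFr D l (ev c c') := H46.Gen.afr_of_pair hp (by
    rw [ev01, ev12]
    exact H46.Gen.pr_of_cpr hp M.toCoxeterSystem hG h.r1 h.r2 h.c1 h.c2)
  obtain ⟨π, h2, h3⟩ := H46.Gen.exists_hom_afr (k := kb p) hp h1 le_rfl (H469.Exc.locFin p)
  exact ⟨π, H46.Gen.sgn D l (ev c c'), h2, fun i j hij => by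
    rw [← Int.cast_mul, H46.Gen.sgn_sq hp h1 hij, Int.cast_one], h3⟩

variable {π : S3 (kb p) →* YY D p} {s : Fin 3 → Fin 3 → ℤ} (P : Pi3 hp c c' π s)

include P

omit h in
theorem Pi3.xc_eq {i j : Fin 3} (hij : i ≠ j) (u : kb p) :
    xc hp (ev c c' i - ev c c' j) u = π (H428.OT.Lin.tv hij ((s i j : kb p) * u)) := by
  rw [P.tv, ← mul_assoc, P.sq i j hij, one_mul]

omit h in
theorem Pi3.ne {i j : Fin 3} (hij : i ≠ j) : (s i j : kb p) ≠ 0 := left_ne_zero_of_mul_eq_one (P.sq i j hij)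

theorem P2.mem_range {a : Lat l} (ha : a ∈ A2s c c') {y : YY D p} (hy : y ∈ XR D l p a) : ∃ X, π X = y := by
  obtain ⟨i, j, hij, rfl⟩ := mem_A2s.1 ha
  obtain ⟨u, rfl⟩ := (DS.Nt.mem_X (hp := hp) (h.right hij 0).1).1 hy
  exact ⟨_, (P.xc_eq hij u).symm⟩

theorem P2.pi_mem {K : Subgroup (YY D p)} (hK : ∀ a ∈ A2s c c', XR D l p a ≤ K) (X : S3 (kb p)) : π X ∈ K := by
  refine LieClassical.SLGen.transvection_induction (fun X => π X ∈ K) (fun i j hij u => ?_) (fun A B hA hB => ?_) X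
  · rw [show π _ = _ from P.tv i j hij u]
    exact hK _ (mem_A2s.2 ⟨i, j, hij, rfl⟩) (DS.Nt.xc_mem (hp := hp) (h.right hij 0).1 _)
  · rw [map_mul]
    exact mul_mem hA hB

/-- **Automorphisms permuting the root groups of the pair.** -/
theorem P2.act_pi (σ : YY D p →* YY D p) (f : kb p ≃+* kb p) {g : Lat l → Lat l} {ε : ℤˣ} (hA : ActA2 hp g ε c c')
    (hσ : ∀ a, Rt hp a → ∃ κ : kb p, κ ≠ 0 ∧ ∀ u, σ (xc hp a u) = xc hp (g a) (κ * f u)) :
    ∃ H : GL (Fin 3) (kb p), (ε = 1 ∧ ∀ X, σ (π X) = π (cjS H (mp (f : kb p →+* kb p) X))) ∨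
      (ε = -1 ∧ ∀ X, σ (π X) = π (cjS H (ti (mp (f : kb p →+* kb p) X)))) := by
  obtain ⟨w, hw, h1⟩ := hA
  obtain ⟨τ, h2⟩ := h.act_WW hw
  have h3 : ∀ i j : Fin 3, ∃ κ : kb p, i ≠ j → κ ≠ 0 ∧ ∀ u, σ (xc hp (ev c c' i - ev c c' j) u) =
      xc hp ((ε : ℤ) • (ev c c' (τ i) - ev c c' (τ j))) (κ * f u) := by
    intro i j
    by_cases hij : i = j
    · exact ⟨1, fun h => absurd hij h⟩
    · obtain ⟨κ, h4, h5⟩ := hσ _ (h.right hij 0).1
      refine ⟨κ, fun _ => ⟨h4, fun u => ?_⟩⟩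
      rw [h5, h1 _ (mem_A2s.2 ⟨i, j, hij, rfl⟩), h2]
  choose κ hκ using h3
  have h4 : ∀ {i j : Fin 3} (hij : i ≠ j) (u : kb p), σ (π (mp (f.symm : kb p →+* kb p) (tv hij u))) =
      xc hp ((ε : ℤ) • (ev c c' (τ i) - ev c c' (τ j))) (κ i j * (s i j * u)) := by
    intro i j hij u
    rw [show mp (f.symm : kb p →+* kb p) (tv hij u) = tv hij (f.symm u) from H46.Gen.map_transvection' _ hij u,
      P.tv, (hκ i j hij).2, map_mul, map_intCast, f.apply_symm_apply]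
  have h5 : ∀ X, mp (f.symm : kb p →+* kb p) (mp (f : kb p →+* kb p) X) = X := mp_mp f.symm
  rcases Int.units_eq_one_or ε with rfl | rfl
  · obtain ⟨δ, hδ, h6⟩ := exists_mono (φ := σ.comp (π.comp (mp (f.symm : kb p →+* kb p)))) P.ker τ
      (fun i j => s (τ i) (τ j) * (κ i j * s i j))
      (fun i j hij => mul_ne_zero (P.ne (τ.injective.ne hij)) (mul_ne_zero (hκ i j hij).1 (P.ne hij)))
      fun i j hij u => by
        refine (h4 hij u).trans ?_
        rw [Units.val_one, one_smul, P.xc_eq (τ.injective.ne hij)]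
        simp only [mul_assoc]
    refine ⟨mono τ δ hδ, Or.inl ⟨rfl, fun X => ?_⟩⟩
    rw [← h6]
    show _ = σ (π (mp (f.symm : kb p →+* kb p) (mp (f : kb p →+* kb p) X)))
    rw [h5]
  · obtain ⟨δ, hδ, h6⟩ := exists_mono (φ := σ.comp (π.comp ((mp (f.symm : kb p →+* kb p)).comp ti))) P.ker τ
      (fun i j => s (τ i) (τ j) * (κ j i * -s j i))
      (fun i j hij => mul_ne_zero (P.ne (τ.injective.ne hij))
        (mul_ne_zero (hκ j i hij.symm).1 (neg_ne_zero.2 (P.ne hij.symm))))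
      fun i j hij u => by
        show σ (π (mp (f.symm : kb p →+* kb p) (ti (tv hij u)))) = _
        rw [ti_tv, h4, Units.val_neg, Units.val_one, neg_smul, one_smul, neg_sub, P.xc_eq (τ.injective.ne hij)]
        simp only [mul_assoc, mul_neg, neg_mul]
    refine ⟨mono τ δ hδ, Or.inr ⟨rfl, fun X => ?_⟩⟩
    rw [← h6]
    show _ = σ (π (mp (f.symm : kb p →+* kb p) (ti (ti (mp (f : kb p →+* kb p) X)))))
    rw [ti_ti, h5]

/-- **The group of `S` acts on the component by inner automorphisms.** -/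
theorem P2.exists_ac (h4 : ∀ i j, M i j ≠ 4) (h6 : ∀ i j, M i j ≠ 6) {S : Set (Lat l)} (hS : ∀ a ∈ S, Rt hp a)
    (hc : ∀ a ∈ S, a ∈ A2s c c' ∨ (cp hp a c = 0 ∧ cp hp a c' = 0)) {m : YY D p} (hm : m ∈ MS D l p S) :
    ∃ g, Ac π g m := by
  have := finite_WW hp
  let B : Subgroup (YY D p) :=
    { carrier := {r | ∃ g, Ac π g r}
      one_mem' := ⟨1, Ac.one⟩
      mul_mem' := fun ⟨g, h⟩ ⟨g', h'⟩ => ⟨g * g', h.mul h'⟩
      inv_mem' := fun ⟨g, h⟩ => ⟨g⁻¹, h.inv⟩ }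
  have h1 : MS D l p S ≤ B := by
    refine RGD.Sup_le fun a ha x hx => ?_
    rcases hc a ha with h2 | ⟨h2, h3⟩
    · obtain ⟨X, rfl⟩ := h.mem_range P h2 hx
      exact ⟨X, Ac.self X⟩
    · refine ⟨1, fun X => ?_⟩
      have h5 : π X ∈ centralizer {x} := by
        refine h.pi_mem P (fun b hb y hy => ?_) X
        obtain ⟨i, j, hij, rfl⟩ := mem_A2s.1 hb
        obtain ⟨h7, h8⟩ := h.right hij a
        have h9 : cp hp a (ev c c' i - ev c c' j) = 0 := by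
          have h10 : ∀ m, Bv hp c c' a m = 0 := fun m => by
            unfold Bv
            rw [h2, h3]
            fin_cases m <;> rfl
          rw [h8, h10, h10, sub_zero]
        have h11 := DS.Ex.Tor.commZ hp p _ a h7 (hS a ha) (fun e => by
            rw [e, show cp hp a a = 2 from cpr_self _ _ (hS a ha)] at h9
            omega) (fun e => by
            rw [e, show cp hp a (-a) = -cp hp a a from cpr_neg_right _ _ _ (hS a ha),
              show cp hp a a = 2 from cpr_self _ _ (hS a ha)] at h9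
            omega) y hy x hx
        have h12 : RGD.Sup (XX D l (kb p)) {z | BpExc.Zc.ZB M.toCoxeterSystem hp.isCartan (ev c c' i - ev c c' j) a z} ≤
            ⊥ := RGD.Sup_le fun z hz => absurd hz (DS.Ex.TorCE.not_ZB h4 h6 h7 (hS a ha) h9 z)
        rw [mem_centralizer_singleton_iff]
        exact commutatorElement_eq_one_iff_mul_comm.1 (mem_bot.1 (h12 h11))
      rw [one_mul, inv_one, mul_one, ← mem_centralizer_singleton_iff.1 h5, mul_inv_cancel_right]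
  exact h1 hm

omit h P in
/-- **The main theorem**, simply laced types. -/
theorem main (hp : IsType D l M) (hG : D ≠ chevG2) (h4 : ∀ i j, M i j ≠ 4) (h6 : ∀ i j, M i j ≠ 6) {d : ℕ}
    {g0 : Lat l ≃+ Lat l} {L : Type} [Group L] (E : Frame hp 2 d g0 L) {x n : L} {R : Subgroup L} {c c' : Lat l} {ε : ℤˣ}
    (hx : E.ι x ∈ TT D (kb 2)) (hx5 : x ^ 5 = 1) (hn : n * x * n⁻¹ = x⁻¹) (hR : ⁅R, R⁆ = R)
    (hxR : ∀ y ∈ R, x * y = y * x) (hnR : ∀ y ∈ R, n * y = y * n) (hc : A2c hp (PsiS hp {E.ι x}) c c')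
    (hw : ∀ w, (∀ a, Rt hp a → ch hp (wa hp w a) (E.ι x)⁻¹ = ch hp a (E.ι x)) → ActA2 hp (wa hp w) (-1) c c')
    (hq : (E.q : ZMod 5) = ((ε : ℤ) : ZMod 5)) (hg : ActA2 hp E.g ε c c') (hC : ¬ Cen E R (A2s c c')) :
    ∃ y ∈ MS D l 2 (A2s c c'), E.F y = y ∧ y ^ 5 = 1 ∧ (∀ z ∈ R, E.ι z * y = y * E.ι z) ∧
      E.ι n * y * (E.ι n)⁻¹ = y⁻¹ ∧ ¬ ∀ a ∈ A2s c c', ∀ z ∈ XR D l 2 a, y * z = z * y := by
  have := finite_WW hp
  have h : P2 hp c c' := ⟨hc.1.1, hc.2.1.1, hc.2.2.1, hc.2.2.2.1⟩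
  obtain ⟨π, s, P⟩ := h.exists_pi 2 hG
  have hac : ∀ m ∈ MS D l 2 (PsiS hp {E.ι x}), ∃ g, Ac π g m := fun m hm =>
    h.exists_ac P h4 h6 (fun a ha => ha.1) hc.2.2.2.2 hm
  have hJ : ⁅R.map E.ι, R.map E.ι⁆ = R.map E.ι := by rw [← Subgroup.map_commutator, hR]
  have h1 : R.map E.ι ≤ MS D l 2 (PsiS hp {E.ι x}) := by
    refine chi_perf hp Nat.prime_five (fun t ht => ?_) hJ ?_
    · rw [Set.mem_singleton_iff.1 ht]
      exact ⟨hx, 1, by rw [pow_one, ← map_pow, hx5, map_one]⟩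
    · rintro _ ⟨y, hy, rfl⟩
      rw [mem_centralizer_singleton_iff, ← map_mul, ← map_mul, hxR y hy]
  obtain ⟨m, hm, w, k, hk, hks, e⟩ := DS.Nt.form₂ hp (ι := Unit) (s := fun _ => E.ι x) (t := fun _ => (E.ι x)⁻¹)
    (fun _ => hx) (fun _ => inv_mem hx) (c := E.ι n) fun _ => by
      rw [← map_inv, ← map_mul, ← map_mul, ← hn, inv_mul_cancel_right]
  have hm' : m ∈ MS D l 2 (PsiS hp {E.ι x}) := by
    refine RGD.Sup_mono (S := PsiS hp (Set.range fun _ : Unit => (E.ι x)⁻¹)) (S' := PsiS hp {E.ι x})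
      (fun a ha => ⟨ha.1, fun t ht => ?_⟩) hm
    have h2 := ha.2 _ ⟨(), rfl⟩
    rw [Set.mem_singleton_iff.1 ht]
    rwa [show ch hp a (E.ι x)⁻¹ = _ from ch_inv ha.1 hx, inv_eq_one] at h2
  obtain ⟨H, h2⟩ := h.act_pi P (MulAut.conj k).toMonoidHom (RingEquiv.refl _) (hw w fun a ha => by
    have h2 := ch_rp hk hx ha
    rwa [hks (), mul_inv_cancel_right] at h2)
    fun a ha => H130.TorOrd.rp_xc hp M.toCoxeterSystem (H469.Exc.locFin 2) 2 hk.toT ha
  obtain ⟨g, h3⟩ := hac m hm'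
  have h5 : ActT π (E.ι n) (toG g * H) := by
    rw [e]
    exact ActA.mulT (fun X => by rw [cjS_toG, h3 X]) (h2.resolve_left fun h => absurd h.1 (by decide)).2
  obtain ⟨H', h7⟩ := h.act_pi P E.F.toMonoidHom (iterateFrobeniusEquiv (kb 2) 2 E.e) hg E.pw
  obtain ⟨ζ, hζ⟩ := exists_zeta 2 (m := 5) (by decide)
  have h8 : iterateFrobeniusEquiv (kb 2) 2 E.e ζ = ζ ^ (E.q % 5) := pow_eq_pow_mod E.q hζ.pow_eq_one
  obtain ⟨y, y1, y2, y3, y4, y5⟩ := lift P.ker hJ.ge (fun r hr => hac r (h1 hr)) (fun h9 => hC fun a ha y hy z hz => by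
      obtain ⟨X, rfl⟩ := h.mem_range P ha hy
      exact h9 _ ⟨z, hz, rfl⟩ X) h5 (by
      rintro _ ⟨z, hz, rfl⟩
      rw [← map_mul, ← map_mul, hnR z hz]) (σ := E.F.toMonoidHom) (by
      rintro _ ⟨z, hz, rfl⟩
      exact E.fix z) hζ (h7.imp (fun h9 => ⟨by
      rw [h9.1] at hq
      rw [h8, (ZMod.natCast_eq_natCast_iff' E.q 1 5).1 hq, pow_one], h9.2⟩) fun h9 => ⟨by
      rw [h9.1] at hq
      rw [h8, (ZMod.natCast_eq_natCast_iff' E.q 4 5).1 hq, ← pow_mul, pow_eq_pow_mod _ hζ.pow_eq_one, pow_one], h9.2⟩)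
  refine ⟨π y, h.pi_mem P (fun a ha => RGD.le_Sup ha) y, y2, by rw [← map_pow, y1, map_one],
    fun z hz => y3 _ ⟨z, hz, rfl⟩, y4, fun h9 => y5 fun X => ?_⟩
  exact (mem_centralizer_singleton_iff.1 (h.pi_mem P (K := centralizer {π y})
    (fun a ha z hz => mem_centralizer_singleton_iff.2 (h9 a ha z hz).symm) X)).symm

omit h P in
/-- **`BoxSL3`.** -/
theorem boxSL3 : BoxSL3 := by
  intro d L _ _ E x n R c c' ε
  obtain ⟨h4, h6, -⟩ := DS.Ex.TorCE.typE_facts tE7 (Or.inr (Or.inl rfl))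
  exact main tE7 (fun e => absurd (congrArg ChevalleyDatum.rank e) (by decide)) h4 h6 E

end Cfsg.Agent.Cam.Ex.SL3
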