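import Cfsg.Agent.Cam.Ex.U2
import Cfsg.Agent.Cam.Ex.SL3
import Cfsg.Agent.Cam.Ex.PRoot

/-!
# Exceptional rows, `BoxU`: the type `A₂ A₁ A₁ A₁` in `E₇` (helper53)

`T7 φ c c'` : the roots killed by `φ` are `A2s c c'` and isolated roots, and rotations act on `A2s c c'` as elements of
its reflection group.
-/

set_option autoImplicit false
set_option linter.unusedVariables false
set_option linter.unusedSectionVars false
set_option maxRecDepth 100000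

namespace Cfsg.Agent.Cam.Ex.Cb.Ub

open CoxeterSystem Cfsg Cfsg.Lie
open Cfsg.Agent.ChevalleyStructure.CoxeterGeom Cfsg.Agent.ChevalleyStructure.CoxeterGeomTypes
open Cfsg.Agent.Tits.Roots Cfsg.Agent.Nodes.RGDChev Cfsg.Agent.Nodes.Coroot Cfsg.Agent.Nodes.SubComb
open Cfsg.Agent.H931.KC (hr psi psi_apply psi_sr eq_psi)
open Cfsg.Agent.BpExc.Fr (repAut)
open Cfsg.Agent.Cam.Ex.SL3 (ev P2 Bv dl Nn_dl mem_A2s ev01 ev12 ev_swap)

variable {D : ChevalleyDatum} {l : ℕ} {M : CoxeterMatrix (Fin l)} {hp : IsType D l M} {K : Type} [Field K]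

theorem tri3 : ∀ i j k m : Fin 3, i ≠ j → k ≠ m → dl i k - dl i m - (dl j k - dl j m) = -1 →
    (k = j ∧ m ≠ i) ∨ (m = i ∧ k ≠ j) := by decide

theorem nb3 : ∀ i j : Fin 3, i ≠ j → ∃ k, j ≠ k ∧ dl j i - dl j j - (dl k i - dl k j) = -1 := by decide

theorem cov3 : ∀ i j k : Fin 3, i ≠ j → j ≠ k → i ≠ k → ∀ m, m = i ∨ m = j ∨ m = k := by decide

theorem sum3 {A : Type} [AddCommMonoid A] (f : Fin 3 → A) {i j k : Fin 3} (hij : i ≠ j) (hjk : j ≠ k) (hik : i ≠ k) :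
    ∑ m, f m = f i + f j + f k := by
  obtain ⟨σ, rfl, rfl, rfl⟩ := H428.OT.Lin.exists_perm hij hjk hik
  rw [← Equiv.sum_comp σ f, Fin.sum_univ_three]

theorem fix3 : ∀ (τ : Equiv.Perm (Fin 3)) (m : Fin 3), τ m = m → ∀ i, τ (τ i) = i := by decide

theorem cyc3 : ∀ τ : Equiv.Perm (Fin 3), (∀ i, τ i ≠ i) → (∀ i j, i ≠ j → j = τ i ∨ i = τ j) ∧
    ∀ i, i ≠ τ (τ i) ∧ τ (τ (τ i)) = i := by decide

theorem perm3 (h3 : (3 : K) ≠ 0) {e : K} (he : e ^ 2 + e + 1 = 0) {f : Fin 3 → K} {τ : Equiv.Perm (Fin 3)}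
    (h : ∀ i j, f (τ i) - f (τ j) = e * (f i - f j)) (h0 : ¬ ∀ i j, f i = f j) :
    (∀ i, τ i ≠ i) ∧ ∀ i j, i ≠ j → f i ≠ f j := by
  have h1 : ∀ i, τ i ≠ i := by
    intro m hm
    have h4 : ∀ i, f i = f m := by
      intro i
      have h5 := h i m
      have h6 := h (τ i) m
      rw [hm] at h5 h6
      rw [fix3 τ m hm] at h6
      exact sub_eq_zero.1 ((mul_eq_zero.1 (by linear_combination -h6 - e * h5)).resolve_left
        (mul_ne_zero (ne_one h3 he) (ne_neg_one he)))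
    exact h0 fun i j => (h4 i).trans (h4 j).symm
  have h4 : ∀ i, f i ≠ f (τ i) := by
    intro i h5
    have h6 : f (τ i) = f (τ (τ i)) := by
      have := h i (τ i)
      rw [← h5, sub_self, mul_zero, h5] at this
      exact sub_eq_zero.1 this
    have h7 : ∀ m, f m = f i := fun m => by
      rcases cov3 i (τ i) (τ (τ i)) (h1 i).symm (h1 _).symm ((cyc3 τ h1).2 i).1 m with rfl | rfl | rfl
      exacts [rfl, h5.symm, (h5.trans h6).symm]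
    exact h0 fun a b => (h7 a).trans (h7 b).symm
  refine ⟨h1, fun i j hij => ?_⟩
  rcases (cyc3 τ h1).1 i j hij with rfl | rfl
  · exact h4 i
  · exact (h4 j).symm

section p2

variable {c c' : Lat l} (h : P2 hp c c')

include h

theorem cp_ev (i j : Fin 3) {m n : Fin 3} (hmn : m ≠ n) :
    cp hp (ev c c' i - ev c c' j) (ev c c' m - ev c c' n) = dl i m - dl i n - (dl j m - dl j n) := by
  rw [P.cp_sub _ _ (h.right hmn 0).1, (h.right hmn _).2, (h.right hmn _).2, h.Bv_ev, h.Bv_ev, h.Bv_ev, h.Bv_ev, Nn_dl]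

theorem exists_WW (τ : Equiv.Perm (Fin 3)) : ∃ w ∈ WW hp (A2s c c'), ∀ i j,
    wa hp w (ev c c' i - ev c c' j) = ev c c' (τ i) - ev c c' (τ j) := by
  induction τ using Equiv.Perm.swap_induction_on with
  | one => exact ⟨1, one_mem _, fun i j => wa_one hp _⟩
  | swap_mul τ m n hmn ih =>
    obtain ⟨w, hw, h1⟩ := ih
    obtain ⟨v, hv, h2⟩ := P.exists_refl (h.right hmn 0).1
    refine ⟨v * w, mul_mem (hv _ (mem_A2s.2 ⟨m, n, hmn, rfl⟩)) hw, fun i j => ?_⟩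
    rw [wa_mul, h1, h2, cp_ev h _ _ hmn, Equiv.Perm.mul_apply, Equiv.Perm.mul_apply, ev_swap (ev c c') hmn (τ i),
      ev_swap (ev c c') hmn (τ j)]
    module

/-- an automorphism of the pair that preserves the class modulo three is a permutation -/
theorem act_perm {f : Lat l ≃+ Lat l} (h1 : f c ∈ A2s c c') (h2 : f c' ∈ A2s c c')
    (hcp : ∀ a b, Rt hp b → cp hp (f a) (f b) = cp hp a b) {b : Lat l} (hb : ¬ 3 ∣ cp hp b c - cp hp b c')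
    (hb' : 3 ∣ cp hp (f b) c - cp hp (f b) c' - (cp hp b c - cp hp b c')) :
    ∃ τ : Equiv.Perm (Fin 3), ∀ i j, f (ev c c' i - ev c c' j) = ev c c' (τ i) - ev c c' (τ j) := by
  obtain ⟨i, j, hij, e1⟩ := mem_A2s.1 h1
  obtain ⟨k, m, hkm, e2⟩ := mem_A2s.1 h2
  have h4 := hcp c c' h.r2
  rw [e1, e2, cp_ev h _ _ hkm, h.c1] at h4
  rcases tri3 i j k m hij hkm h4 with ⟨rfl, h5⟩ | ⟨rfl, h5⟩
  · obtain ⟨τ, rfl, rfl, rfl⟩ := H428.OT.Lin.exists_perm hij hkm h5.symm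
    have h6 : ∀ n, f (ev c c' n) = ev c c' (τ n) - ev c c' (τ 2) := by
      intro n
      fin_cases n
      · show f (c + c') = ev c c' (τ 0) - _
        rw [map_add, e1, e2, sub_add_sub_cancel]
      · exact e2
      · exact (map_zero f).trans (sub_self _).symm
    exact ⟨τ, fun i j => by rw [map_sub, h6, h6, sub_sub_sub_cancel_right]⟩
  · exfalso
    have h6 := hcp b c h.r1
    have h7 := hcp b c' h.r2
    rw [e1, (h.right hij _).2] at h6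
    rw [e2, (h.right hkm _).2] at h7
    have h8 := sum3 (Bv hp c c' (f b)) hij h5.symm hkm.symm
    rw [Fin.sum_univ_three] at h8
    change cp hp (f b) c + cp hp (f b) c' + cp hp (f b) c' + 0 = _ at h8
    omega

end p2

theorem wa_ev (w : M.Group) (c c' : Lat l) (i : Fin 3) : wa hp w (ev c c' i) = ev (wa hp w c) (wa hp w c') i := by
  fin_cases i
  · exact wa_add hp w c c'
  · rfl
  · exact map_zero _

theorem A1c.neg' {φ : Lat l →+ K} {c : Lat l} (h : A1c hp (Psi hp φ) c) : A1c hp (Psi hp φ) (-c) := by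
  refine ⟨neg_mem_Psi hp h.1, fun a ha => ?_⟩
  rcases h.2 a ha with h1 | h1 | h1
  · exact Or.inr (Or.inl (by rw [neg_neg, h1]))
  · exact Or.inl h1
  · exact Or.inr (Or.inr (by rw [cp_neg_right hp _ h.1.1, h1, neg_zero]))

variable (hp) in
/-- the type `A₂ A₁ A₁ A₁` -/
structure T7 (φ : Lat l →+ K) (c c' : Lat l) : Prop where
  p2 : P2 hp c c'
  k1 : φ c = 0
  k2 : φ c' = 0
  a1 : ∀ a ∈ Psi hp φ, a ∈ A2s c c' ∨ A1c hp (Psi hp φ) a
  cls : ∀ h : Lat l ≃+ Lat l, (∀ a, Rt hp (h a) ↔ Rt hp a) → ∀ e : K, (∀ a, φ (h a) = e * φ a) →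
    (e ^ 2 + e + 1 = 0 ∨ e = 2) → ∃ b, ¬ 3 ∣ cp hp b c - cp hp b c' ∧
      3 ∣ cp hp (h b) c - cp hp (h b) c' - (cp hp b c - cp hp b c')

theorem kill_ev {φ : Lat l →+ K} {c c' : Lat l} (h1 : φ c = 0) (h2 : φ c' = 0) (i : Fin 3) : φ (ev c c' i) = 0 := by
  fin_cases i
  · show φ (c + c') = 0
    rw [map_add, h1, h2, add_zero]
  · exact h2
  · exact map_zero φ

variable {φ : Lat l →+ K} {c c' : Lat l}

theorem T7.mem (T : T7 hp φ c c') {a : Lat l} (ha : a ∈ A2s c c') : a ∈ Psi hp φ := by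
  obtain ⟨i, j, hij, rfl⟩ := mem_A2s.1 ha
  exact ⟨(T.p2.right hij 0).1, by rw [map_sub, kill_ev T.k1 T.k2, kill_ev T.k1 T.k2, sub_self]⟩

theorem T7.nb (T : T7 hp φ c c') {a a' : Lat l} (ha : a ∈ Psi hp φ) (ha' : a' ∈ Psi hp φ) (h : cp hp a' a = -1) :
    a ∈ A2s c c' := by
  refine (T.a1 a ha).resolve_right fun h1 => ?_
  rcases h1.2 a' ha' with h2 | h2 | h2
  · rw [h2, cp_self hp ha.1] at h
    omega
  · rw [h2, cp_neg hp _ ha.1, cp_self hp ha.1] at h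
    omega
  · omega

theorem T7.orth (T : T7 hp φ c c') {a : Lat l} (ha : a ∈ Psi hp φ) :
    a ∈ A2s c c' ∨ (cp hp a c = 0 ∧ cp hp a c' = 0) := by
  by_cases h : a ∈ A2s c c'
  · exact Or.inl h
  have h1 := (T.a1 a ha).resolve_left h
  have h2 : ∀ b ∈ A2s c c', cp hp a b = 0 := by
    intro b hb
    rcases h1.2 b (T.mem hb) with h3 | h3 | h3
    · exact absurd (h3 ▸ hb) h
    · obtain ⟨i, j, hij, e⟩ := mem_A2s.1 hb
      exact absurd (mem_A2s.2 ⟨j, i, hij.symm, by rw [← neg_sub, ← e, h3, neg_neg]⟩) h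
    · exact (cp_zero_comm hp ha.1 (T.mem hb).1).2 h3
  exact Or.inr ⟨h2 c (Or.inl rfl), h2 c' (Or.inr (Or.inl rfl))⟩

theorem T7.stab (T : T7 hp φ c c') {h : Lat l ≃+ Lat l} (hr : ∀ a, Rt hp (h a) ↔ Rt hp a)
    (hcp : ∀ a b, Rt hp b → cp hp (h a) (h b) = cp hp a b) {e : K} (he : ∀ a, φ (h a) = e * φ a) {a : Lat l}
    (ha : a ∈ A2s c c') : h a ∈ A2s c c' := by
  have h1 : ∀ a ∈ A2s c c', h a ∈ Psi hp φ := fun a ha =>
    ⟨(hr a).2 (T.mem ha).1, by rw [he, (T.mem ha).2, mul_zero]⟩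
  obtain ⟨i, j, hij, rfl⟩ := mem_A2s.1 ha
  obtain ⟨k, hk, h2⟩ := nb3 i j hij
  exact T.nb (h1 _ ha) (h1 _ (mem_A2s.2 ⟨j, k, hk, rfl⟩)) (by rw [hcp _ _ (T.mem ha).1, cp_ev T.p2 _ _ hij, h2])

theorem T7.perm (T : T7 hp φ c c') {h : Lat l ≃+ Lat l} (hr : ∀ a, Rt hp (h a) ↔ Rt hp a)
    (hcp : ∀ a b, Rt hp b → cp hp (h a) (h b) = cp hp a b) {e : K} (he : ∀ a, φ (h a) = e * φ a)
    (h1 : e ^ 2 + e + 1 = 0 ∨ e = 2) :
    ∃ τ : Equiv.Perm (Fin 3), ∀ i j, h (ev c c' i - ev c c' j) = ev c c' (τ i) - ev c c' (τ j) := by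
  obtain ⟨b, h2, h3⟩ := T.cls h hr e he h1
  exact act_perm T.p2 (T.stab hr hcp he (Or.inl rfl)) (T.stab hr hcp he (Or.inr (Or.inl rfl))) hcp h2 h3

theorem T7.act {w : M.Group} (T : T7 hp (cw hp φ w) c c') : T7 hp φ (wa hp w c) (wa hp w c') where
  p2 := ⟨T.p2.r1.act w, T.p2.r2.act w, (cp_wa hp w _ T.p2.r2).trans T.p2.c1, (cp_wa hp w _ T.p2.r1).trans T.p2.c2⟩
  k1 := T.k1
  k2 := T.k2
  a1 a ha := by
    have h0 : ∀ a ∈ Psi hp φ, wa hp w⁻¹ a ∈ Psi hp (cw hp φ w) := fun a ha => by rw [mem_cw, wa_inv']; exact ha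
    rcases T.a1 _ (h0 a ha) with h1 | h1
    · obtain ⟨i, j, hij, e⟩ := mem_A2s.1 h1
      exact Or.inl (mem_A2s.2 ⟨i, j, hij, by rw [← wa_ev, ← wa_ev, ← wa_sub, ← e, wa_inv']⟩)
    · refine Or.inr ⟨ha, fun b hb => ?_⟩
      rcases h1.2 _ (h0 b hb) with h2 | h2 | h2
      · exact Or.inl (wa_inj hp h2)
      · exact Or.inr (Or.inl (wa_inj hp (h2.trans (wa_neg hp _ _).symm)))
      · exact Or.inr (Or.inr ((cp_wa hp _ _ ha.1).symm.trans h2))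
  cls h hr e he h1 := by
    obtain ⟨b, h2, h3⟩ := T.cls (gw hp h w) (fun a => by rw [gw_apply, rt_wa, hr, rt_wa]) e
      (fun a => by rw [cw_apply, cw_apply, gw_apply, wa_inv', he]) h1
    refine ⟨wa hp w b, by rwa [cp_wa hp _ _ T.p2.r1, cp_wa hp _ _ T.p2.r2], ?_⟩
    rw [cp_wa hp _ _ T.p2.r1, cp_wa hp _ _ T.p2.r2, ← wa_inv' hp w (h (wa hp w b)), cp_wa hp _ _ T.p2.r1,
      cp_wa hp _ _ T.p2.r2]
    exact h3

/-- **An eigenvector for the reflection group does not kill the pair.** -/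
theorem T7.not_kill (h3 : (3 : K) ≠ 0) (T : T7 hp φ c c') {ψ : Lat l →+ K} {w : M.Group} (hw : w ∈ WW hp (Psi hp φ))
    {e : K} (he : e ^ 2 + e + 1 = 0) (hψ : Eig hp w ψ e) (h0 : ψ ≠ 0) {x y : Lat l} (hxy : P2 hp x y) (hx : φ x = 0)
    (hy : φ y = 0) (hx' : ψ x = 0) (hy' : ψ y = 0) : False := by
  obtain ⟨i, j, hij, rfl⟩ := mem_A2s.1 (T.nb ⟨hxy.r1, hx⟩ ⟨hxy.r2, hy⟩ hxy.c2)
  obtain ⟨k, m, hkm, rfl⟩ := mem_A2s.1 (T.nb ⟨hxy.r2, hy⟩ ⟨hxy.r1, hx⟩ hxy.c1)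
  have h4 := hxy.c1
  rw [cp_ev T.p2 _ _ hkm] at h4
  rw [map_sub, sub_eq_zero] at hx' hy'
  have h5 : ∀ n, ψ (ev c c' n) = ψ (ev c c' i) := by
    intro n
    rcases tri3 i j k m hij hkm h4 with ⟨rfl, h6⟩ | ⟨rfl, h6⟩
    · rcases cov3 i k m hij hkm h6.symm n with rfl | rfl | rfl
      exacts [rfl, hx'.symm, (hx'.trans hy').symm]
    · rcases cov3 m j k hij h6.symm hkm.symm n with rfl | rfl | rfl
      exacts [rfl, hx'.symm, hy']
  refine hψ.not_kill h3 he h0 hw fun a ha => ?_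
  rcases T.a1 a ha with h6 | h6
  · obtain ⟨i', j', -, rfl⟩ := mem_A2s.1 h6
    rw [map_sub, h5, h5 j', sub_self]
  · refine hψ.eq_zero h3 he ((a1c_fix hp (fun a ha => ha.1) h6 hw).imp (congrArg ψ) fun h7 => ?_)
    rw [h7, map_neg]

theorem cls7 (b : Lat 7) : cp tE7 b (sr 0) - cp tE7 b (sr 2) = 3 * (b 0 - b 2) + b 3 := by
  rw [cp_sr, cp_sr, ← tabE7.car, ← tabE7.car, psi_apply, psi_apply, Fin.sum_univ_seven, Fin.sum_univ_seven]
  change b 0 * 2 + b 1 * 0 + b 2 * (-1) + b 3 * 0 + b 4 * 0 + b 5 * 0 + b 6 * 0 -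
    (b 0 * (-1) + b 1 * 0 + b 2 * 2 + b 3 * (-1) + b 4 * 0 + b 5 * 0 + b 6 * 0) = _
  ring

theorem t7_std (h2 : (2 : K) ≠ 0) (h3 : (3 : K) ≠ 0) {φ : Lat 7 →+ K} (hκ : Exa tE7 φ [0, 0, 0, 1, 0, 1, 0]) :
    T7 tE7 φ (sr 0) (sr 2) where
  p2 := ⟨rt_sr tE7 0, rt_sr tE7 2, by rw [cp_sr, psi_sr]; decide +kernel, by rw [cp_sr, psi_sr]; decide +kernel⟩
  k1 := (hκ.ex2 k35 _ (rt_sr tE7 0)).2 (by decide)
  k2 := (hκ.ex2 k35 _ (rt_sr tE7 2)).2 (by decide)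
  a1 a ha := by
    have h1 : ∀ e ∈ dE7.T, φ (toF 7 e.b) = 0 → toF 7 e.b = sr 0 ∨ toF 7 e.b = sr 2 ∨ toF 7 e.b = sr 0 + sr 2 ∨
        A1c tE7 (Psi tE7 φ) (toF 7 e.b) := by
      intro e he h4
      rw [hκ _ (tabE7.rt e he), tabE7.psi_b he] at h4
      rcases (by decide +kernel : ∀ e ∈ dE7.T, dot e.b [0, 0, 0, 1, 0, 1, 0] = 0 → toF 7 e.b = sr 0 ∨
        toF 7 e.b = sr 2 ∨ toF 7 e.b = sr 0 + sr 2 ∨ e.b ∈ g35) e he h4 with h5 | h5 | h5 | h5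
      · exact Or.inl h5
      · exact Or.inr (Or.inl h5)
      · exact Or.inr (Or.inr (Or.inl h5))
      · exact Or.inr (Or.inr (Or.inr (tabE7.gchk_spec hκ (G := g35) (by decide +kernel) h5).2.1))
    obtain ⟨e, he, rfl | rfl⟩ := tabE7.sur a ha.1
    · rcases h1 e he ha.2 with h4 | h4 | h4 | h4
      · exact Or.inl (Or.inl h4)
      · exact Or.inl (Or.inr (Or.inl h4))
      · exact Or.inl (Or.inr (Or.inr (Or.inl h4)))
      · exact Or.inr h4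
    · rcases h1 e he (neg_eq_zero.1 ((map_neg φ _).symm.trans ha.2)) with h4 | h4 | h4 | h4
      · exact Or.inl (Or.inr (Or.inr (Or.inr (Or.inl (congrArg Neg.neg h4)))))
      · exact Or.inl (Or.inr (Or.inr (Or.inr (Or.inr (Or.inl (congrArg Neg.neg h4))))))
      · exact Or.inl (Or.inr (Or.inr (Or.inr (Or.inr (Or.inr (congrArg Neg.neg h4))))))
      · exact Or.inr (A1c.neg' h4)
  cls h hr e he h1 := by
    obtain ⟨p, q, h4, h5⟩ : ∃ p q : ℤ × ℤ, zr 3 (p.1 - 1) = true ∧ Mx h 3 5 p q := by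
      rcases h1 with h1 | rfl
      · exact rot tabE7 h2 h3 R35 (N := N3) (P := fun p q => zr 3 (p.1 - 1)) (by decide +kernel) (hκ.ex2 k35) h hr he
          (hN3 h1)
      · exact rot tabE7 h2 h3 R35 (N := N2) (P := fun p q => zr 3 (p.1 - 1)) (by decide +kernel) (hκ.ex2 k35) h hr he
          hN2
    have h6 : h (sr 3) 3 = 1 * p.1 + 0 * q.1 := (h5 (sr 3)).1
    have h7 : (3 : ℤ) * ((sr 3 : Lat 7) 0 - (sr 3 : Lat 7) 2) + (sr 3 : Lat 7) 3 = 1 := by decide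
    rw [zr_iff] at h4
    refine ⟨sr 3, ?_, ?_⟩
    · rw [cls7, h7]
      decide
    · rw [cls7, cls7, h7]
      omega

theorem exists_t7 (h2 : (2 : K) ≠ 0) (h3 : (3 : K) ≠ 0) {φ : Lat 7 →+ K} {v : CoxeterMatrix.E₇.Group} {e : K}
    (h : Eig tE7 v φ e) (he : e ^ 2 + e + 1 = 0) (hty : Ty tE7 wtE7 φ) : ∃ c c', T7 tE7 φ c c' := by
  obtain ⟨w, h1⟩ := tyE7r h2 h3 h he hty
  exact ⟨_, _, (t7_std h2 h3 h1).act⟩

/-- **The lattice part for `E₇`.** -/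
theorem e7_lat (h2 : (2 : K) ≠ 0) (h3 : (3 : K) ≠ 0) {A B : Lat 7 →+ K} {v w : CoxeterMatrix.E₇.Group} {e : K}
    (he : e ^ 2 + e + 1 = 0) (hA : Eig tE7 v A e) (hX : Eig tE7 v (A + B) e) (tA : Ty tE7 wtE7 A)
    (tX : Ty tE7 wtE7 (A + B)) (hw : w ∈ WW tE7 (Psi tE7 A)) (hB : Eig tE7 w B e) (h0 : B ≠ 0) :
    ∃ c c', T7 tE7 (A + B) c c' ∧ (∀ a ∈ A2s c c', A a ≠ 0) ∧ ∃ τ : Equiv.Perm (Fin 3), (∀ i, τ i ≠ i) ∧
      ∀ i j, wa tE7 v (ev c c' i - ev c c' j) = ev c c' (τ i) - ev c c' (τ j) := by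
  obtain ⟨a, a', TA⟩ := exists_t7 h2 h3 hA he tA
  obtain ⟨c, c', T⟩ := exists_t7 h2 h3 hX he tX
  obtain ⟨τ, hτ⟩ := T.perm (h := repAut _ tE7.isCartan v) (rt_wa tE7 v) (fun a b hb => cp_wa tE7 v a hb) hX (Or.inl he)
  obtain ⟨h4, h5⟩ := perm3 h3 he (f := fun i => A (ev c c' i)) (τ := τ) (fun i j => by
    rw [← map_sub, ← map_sub, ← hτ]
    exact hA _) fun h4 => by
    have h5 : A c = 0 := by rw [← ev01 c c', map_sub, h4 0 1, sub_self]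
    have h6 : A c' = 0 := by rw [← ev12 c c', map_sub, h4 1 2, sub_self]
    exact TA.not_kill h3 hw he hB h0 T.p2 h5 h6 (by have := T.k1; rwa [AddMonoidHom.add_apply, h5, zero_add] at this)
      (by have := T.k2; rwa [AddMonoidHom.add_apply, h6, zero_add] at this)
  refine ⟨c, c', T, fun x hx => ?_, τ, h4, hτ⟩
  obtain ⟨i, j, hij, rfl⟩ := mem_A2s.1 hx
  rw [map_sub]
  exact sub_ne_zero.2 (h5 i j hij)

end Cfsg.Agent.Cam.Ex.Cb.Ub
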