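import Cfsg.Agent.Cam.Ex.U1
import Cfsg.Agent.Cam.Ex.U3
import Cfsg.Agent.Cam.Ex.Five2A

/-!
# Exceptional rows: `BoxU` (helper53)

An abelian `r`-subgroup of `U` has an induced automorphism of prime order `l`; `l ≥ 5` is excluded by the order of the
Weyl group, `l = 3` by the types (`no_three`), and `l = 2` gives a real element.
-/

set_option autoImplicit false
set_option linter.unusedVariables false
set_option linter.unusedSectionVars false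

namespace Cfsg.Agent.Cam.Ex.Ub

open CoxeterSystem Cfsg Cfsg.Lie Subgroup
open Cfsg.Agent.ChevalleyStructure.CoxeterGeom Cfsg.Agent.ChevalleyStructure.CoxeterGeomTypes
open Cfsg.Agent.Tits.Roots Cfsg.Agent.Nodes.BNOf Cfsg.Agent.Nodes.RGDChev Cfsg.Agent.Nodes.Coroot
open Cfsg.Agent.KFacts.RgdChevCoord Cfsg.Agent.BpExc.TorCent Cfsg.Agent.BpExc.SubBN
open Cfsg.Agent.Cam.Spor Cfsg.Agent.TwoFusion.PerfCore
open Cfsg.Agent.DS.Nt (RP)
open Cfsg.Agent.H428.OT.Lin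
open Cfsg.Agent.Cam.Ex.SL3
open Cfsg.Agent.Cam.Ex.Cb (Dt Tab V al tchk pats gt)
open Cfsg.Agent.Cam.Ex.Cb.Ub
open scoped commutatorElement

variable {D : ChevalleyDatum} {l : ℕ} {M : CoxeterMatrix (Fin l)} {hp : IsType D l M} {p : ℕ} [Fact p.Prime]

/-! ### cyclic monomial matrices -/

section lin

variable {k : Type} [Field k] {τ : Equiv.Perm (Fin 3)} {δ : Fin 3 → k} (hδ : ∀ i, δ i ≠ 0)

theorem rel_of {g : S3 k} (h : cjS (mono τ δ hδ) g = g) (i j : Fin 3) :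
    δ i * (g : M3 k) i j = (g : M3 k) (τ i) (τ j) * δ j := by
  have h1 : (mono τ δ hδ : M3 k) * (g : M3 k) = (g : M3 k) * (mono τ δ hδ : M3 k) := by
    conv_rhs => rw [← h, coe_cjS, mul_assoc, gl_inv_mul, mul_one]
  have h2 := congrFun (congrFun h1 (τ i)) j
  rw [Matrix.mul_apply, Matrix.mul_apply, Finset.sum_eq_single i, Finset.sum_eq_single (τ j), mono_coe, mono_coe,
    if_pos rfl, if_pos rfl] at h2
  · exact h2
  · intro m _ hm
    rw [mono_coe, if_neg hm, mul_zero]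
  · exact fun h => absurd (Finset.mem_univ _) h
  · intro m _ hm
    rw [mono_coe, if_neg fun e => hm (τ.injective e).symm, zero_mul]
  · exact fun h => absurd (Finset.mem_univ _) h

theorem entries {g : S3 k} (h : cjS (mono τ δ hδ) g = g) {i j m : Fin 3} (hi : τ i = j) (hj : τ j = m) (hm : τ m = i) :
    (g : M3 k) j j = (g : M3 k) i i ∧ (g : M3 k) m m = (g : M3 k) i i ∧
    (g : M3 k) j m = δ i * (g : M3 k) i j / δ j ∧ (g : M3 k) m i = δ i * (g : M3 k) i j / δ m ∧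
    (g : M3 k) j i = δ i * (g : M3 k) i m / δ m ∧ (g : M3 k) m j = δ j * (g : M3 k) i m / δ m := by
  have r1 := rel_of hδ h i i
  have r2 := rel_of hδ h m m
  have r3 := rel_of hδ h i j
  have r4 := rel_of hδ h j m
  have r5 := rel_of hδ h i m
  have r6 := rel_of hδ h m j
  simp only [hi, hj, hm] at r1 r2 r3 r4 r5 r6
  refine ⟨mul_right_cancel₀ (hδ i) (by linear_combination -r1), mul_left_cancel₀ (hδ m) (by linear_combination r2),
    (eq_div_iff (hδ j)).2 r3.symm, (eq_div_iff (hδ m)).2 (by linear_combination -r3 - r4),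
    (eq_div_iff (hδ m)).2 r5.symm, (eq_div_iff (hδ m)).2 (by linear_combination r6)⟩

theorem cyc_comm (hτ : ∀ i, τ i ≠ i) {g g' : S3 k} (h : cjS (mono τ δ hδ) g = g) (h' : cjS (mono τ δ hδ) g' = g') :
    g * g' = g' * g := by
  obtain ⟨i, j, m, hi, hj, hm, hij, hjm, him⟩ : ∃ i j m, τ i = j ∧ τ j = m ∧ τ m = i ∧ i ≠ j ∧ j ≠ m ∧ i ≠ m :=
    ⟨0, _, _, rfl, rfl, ((cyc3 τ hτ).2 0).2, (hτ _).symm, (hτ _).symm, ((cyc3 τ hτ).2 0).1⟩
  obtain ⟨e1, e2, e3, e4, e5, e6⟩ := entries hδ h hi hj hm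
  obtain ⟨f1, f2, f3, f4, f5, f6⟩ := entries hδ h' hi hj hm
  have := hδ i
  have := hδ j
  have := hδ m
  apply slext
  rw [cmul, cmul]
  ext a b
  rcases cov3 i j m hij hjm him a with rfl | rfl | rfl <;> rcases cov3 _ _ _ hij hjm him b with rfl | rfl | rfl <;>
    simp only [Matrix.mul_apply, sum3 _ hij hjm him, e1, e2, e3, e4, e5, e6, f1, f2, f3, f4, f5, f6] <;>
    field_simp <;> ring

end lin

/-! ### the `A₂` factor -/

section a2

variable {c c' : Lat l} (h : P2 hp c c') {π : S3 (kb p) →* YY D p} {s : Fin 3 → Fin 3 → ℤ} (P : Pi3 hp c c' π s)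

include h P

theorem comm_orth (h4 : ∀ i j, M i j ≠ 4) (h6 : ∀ i j, M i j ≠ 6) {S : Set (Lat l)}
    (hS : ∀ a ∈ S, Rt hp a ∧ cp hp a c = 0 ∧ cp hp a c' = 0) {m : YY D p} (hm : m ∈ MS D l p S) (X : S3 (kb p)) :
    m * π X = π X * m := by
  have := finite_WW hp
  have h1 : MS D l p S ≤ centralizer {π X} := by
    refine RGD.Sup_le fun a ha x hx => ?_
    obtain ⟨h0, h2, h3⟩ := hS a ha
    have h5 : π X ∈ centralizer {x} := by
      refine h.pi_mem P (fun b hb y hy => ?_) X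
      obtain ⟨i, j, hij, rfl⟩ := mem_A2s.1 hb
      obtain ⟨h7, h8⟩ := h.right hij a
      have h9 : cp hp a (ev c c' i - ev c c' j) = 0 := by
        have h10 : ∀ m, Bv hp c c' a m = 0 := fun m => by
          unfold Bv
          rw [h2, h3]
          fin_cases m <;> rfl
        rw [h8, h10, h10, sub_zero]
      have h11 := DS.Ex.Tor.commZ hp p _ a h7 h0 (fun e => by
          rw [e, cp_self h0] at h9
          omega) (fun e => by
          rw [e, cp_neg_right _ h0, cp_self h0] at h9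
          omega) y hy x hx
      have h12 : RGD.Sup (XX D l (kb p)) {z | BpExc.Zc.ZB M.toCoxeterSystem hp.isCartan (ev c c' i - ev c c' j) a z} ≤
          ⊥ := RGD.Sup_le fun z hz => absurd hz (DS.Ex.TorCE.not_ZB h4 h6 h7 h0 h9 z)
      rw [mem_centralizer_singleton_iff]
      exact commutatorElement_eq_one_iff_mul_comm.1 (mem_bot.1 (h12 h11))
    exact mem_centralizer_singleton_iff.2 (mem_centralizer_singleton_iff.1 h5).symm
  exact mem_centralizer_singleton_iff.1 (h1 hm)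

theorem act_mono {w : M.Group} {k : YY D p} (hk : RP hp p w k) {τ : Equiv.Perm (Fin 3)}
    (hτ : ∀ i j, wa hp w (ev c c' i - ev c c' j) = ev c c' (τ i) - ev c c' (τ j)) :
    ∃ (δ : Fin 3 → kb p) (hδ : ∀ i, δ i ≠ 0), ∀ X, k * π X * k⁻¹ = π (cjS (mono τ δ hδ) X) := by
  have h3 : ∀ i j : Fin 3, ∃ κ : kb p, i ≠ j → κ ≠ 0 ∧ ∀ u, k * xc hp (ev c c' i - ev c c' j) u * k⁻¹ =
      xc hp (ev c c' (τ i) - ev c c' (τ j)) (κ * u) := by
    intro i j
    by_cases hij : i = j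
    · exact ⟨1, fun h => absurd hij h⟩
    · obtain ⟨κ, h4, h5⟩ := rp_xc hk (h.right hij 0).1
      exact ⟨κ, fun _ => ⟨h4, fun u => by rw [h5, hτ]⟩⟩
  choose κ hκ using h3
  exact exists_mono (φ := (MulAut.conj k).toMonoidHom.comp π) P.ker τ (fun i j => s (τ i) (τ j) * (κ i j * s i j))
    (fun i j hij => mul_ne_zero (P.ne (τ.injective.ne hij)) (mul_ne_zero (hκ i j hij).1 (P.ne hij)))
    fun i j hij u => by
      show k * π (tv hij u) * k⁻¹ = _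
      rw [P.tv, (hκ i j hij).2, P.xc_eq (τ.injective.ne hij)]
      simp only [mul_assoc]

omit P in
/-- a perfect group centralizing a representative of a rotation centralizes the factor -/
theorem cen_a2 (hG : D ≠ chevG2) (h4 : ∀ i j, M i j ≠ 4) (h6 : ∀ i j, M i j ≠ 6) {S S' : Set (Lat l)}
    (hS : ∀ a ∈ S, Rt hp a) (hc : ∀ a ∈ S, a ∈ A2s c c' ∨ (cp hp a c = 0 ∧ cp hp a c' = 0))
    (hS' : ∀ a ∈ S', Rt hp a ∧ cp hp a c = 0 ∧ cp hp a c' = 0) {J : Subgroup (YY D p)} (hJ : ⁅J, J⁆ = J)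
    (hJS : J ≤ MS D l p S) {m k : YY D p} (hm : m ∈ MS D l p S') {w : M.Group} (hk : RP hp p w k)
    {τ : Equiv.Perm (Fin 3)} (h0 : ∀ i, τ i ≠ i)
    (hτ : ∀ i j, wa hp w (ev c c' i - ev c c' j) = ev c c' (τ i) - ev c c' (τ j))
    (hn : ∀ r ∈ J, m * k * r = r * (m * k)) {a : Lat l} (ha : a ∈ A2s c c') {y : YY D p} (hy : y ∈ XR D l p a)
    {r : YY D p} (hr : r ∈ J) : r * y = y * r := by
  obtain ⟨π, s, P⟩ := h.exists_pi p hG
  obtain ⟨δ, hδ, h1⟩ := act_mono h P hk hτ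
  have h2 : ∀ r ∈ J, ∃ g, Ac π g r := fun r hr => h.exists_ac P h4 h6 hS hc (hJS hr)
  have h3 := fix_der P.ker (σ := (MulAut.conj (m * k)).toMonoidHom) (J := J) (cjS_surj (mono τ δ hδ)) (fun X => by
    show m * k * π X * (m * k)⁻¹ = _
    rw [show m * k * π X * (m * k)⁻¹ = m * (k * π X * k⁻¹) * m⁻¹ by group, h1, comm_orth h P h4 h6 hS' hm,
      mul_inv_cancel_right]) fun r hr => by
    show m * k * r * (m * k)⁻¹ = r
    rw [hn r hr, mul_inv_cancel_right]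
  have h5 : ⁅Hat π J, Hat π J⁆ ≤ ⊥ := (perf_der P.ker hJ.ge h2).trans (commutator_le.2 fun g hg g' hg' =>
    mem_bot.2 (commutatorElement_eq_one_iff_mul_comm.2 (cyc_comm hδ h0 (h3 g hg) (h3 g' hg'))))
  obtain ⟨g, hg, h7⟩ := rep_der hJ.ge h2 r hr
  obtain ⟨X, rfl⟩ := h.mem_range P ha hy
  have h8 := h7 X
  rw [mem_bot.1 (h5 hg), one_mul, inv_one, mul_one, eq_mul_inv_iff_mul_eq] at h8
  exact h8.symm

end a2

/-! ### the lattice part -/

theorem lat_cases (hp : IsType D l M) (hl : l ≤ 7) (hB2 : D ≠ chevB2) {K : Type} [Field K] (h2 : (2 : K) ≠ 0)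
    (h3 : (3 : K) ≠ 0) {A B : Lat l →+ K} {v w : M.Group} {e : K} (he : e ^ 2 + e + 1 = 0) (hA : Eig hp v A e)
    (hX : Eig hp v (A + B) e) (hT : ∀ d : Dt, Tab hp d → ∀ WT : List (V × List ℕ × V),
      al (fun P => tchk l d WT 0 P && tchk l d WT 1 P) (pats [0, 1] l) = true → (∀ t ∈ WT, ∀ i : Fin l, 0 ≤ gt t.2.2 i) →
      Ty hp WT A ∧ Ty hp WT (A + B)) (hw : w ∈ WW hp (Psi hp A)) (hB : Eig hp w B e) (h0 : B ≠ 0) :
    (D ≠ chevG2 ∧ (∀ i j, M i j ≠ 4) ∧ (∀ i j, M i j ≠ 6) ∧ 4 ≤ l) ∧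
    ∃ c c', T7 hp (A + B) c c' ∧ (∀ a ∈ A2s c c', A a ≠ 0) ∧ ∃ τ : Equiv.Perm (Fin 3), (∀ i, τ i ≠ i) ∧
      ∀ i j, wa hp v (ev c c' i - ev c c' j) = ev c c' (τ i) - ev c c' (τ j) := by
  have hp' := hp
  simp only [IsType, typeList, List.mem_cons, List.not_mem_nil, or_false, Prod.mk.injEq] at hp'
  rcases hp' with ⟨rfl, h⟩ | ⟨rfl, h⟩ | ⟨rfl, h⟩ | ⟨rfl, h⟩ | ⟨rfl, h⟩ | ⟨rfl, h⟩ | ⟨rfl, h⟩
  · cases h
    exact absurd (hT _ Cb.tabG2 _ Cb.tyG2 (by decide +kernel)).1 noG2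
  · exact absurd rfl hB2
  · cases h
    exact absurd (hT _ Cb.tabD4 _ Cb.tyD4 (by decide +kernel)).1 (noD4 h2 h3 hA he)
  · cases h
    exact absurd (hT _ Cb.tabF4 _ Cb.tyF4 (by decide +kernel)).1 (noF4 h2 h3 hA he)
  · cases h
    obtain ⟨t1, t2⟩ := hT _ Cb.tabE6 _ Cb.tyE6 (by decide +kernel)
    exact (noE6 h2 h3 he hA hX t1 t2 hw hB h0).elim
  · cases h
    obtain ⟨t1, t2⟩ := hT _ Cb.tabE7 _ Cb.tyE7 (by decide +kernel)
    obtain ⟨h4, h6, -⟩ := DS.Ex.TorCE.typE_facts tE7 (Or.inr (Or.inl rfl))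
    exact ⟨⟨fun e => absurd (congrArg ChevalleyDatum.rank e) (by decide), h4, h6, by norm_num⟩,
      e7_lat h2 h3 he hA hX t1 t2 hw hB h0⟩
  · cases h
    omega

/-! ### eigenvectors -/

section fn

variable {r : ℕ} [hr : Fact r.Prime]

/-- `X - ω Y` -/
noncomputable def fn (ω : kb r) (X Y : Lat l →+ ZMod r) : Lat l →+ kb r :=
  AddMonoidHom.mk' (fun a => algebraMap (ZMod r) (kb r) (X a) - ω * algebraMap (ZMod r) (kb r) (Y a)) fun a b => by
    rw [map_add, map_add, map_add, map_add]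
    ring

theorem fn_apply (ω : kb r) (X Y : Lat l →+ ZMod r) (a : Lat l) :
    fn ω X Y a = algebraMap (ZMod r) (kb r) (X a) - ω * algebraMap (ZMod r) (kb r) (Y a) := rfl

theorem fn_add (ω : kb r) (X Y X' Y' : Lat l →+ ZMod r) : fn ω X Y + fn ω X' Y' = fn ω (X + X') (Y + Y') :=
  AddMonoidHom.ext fun a => by
    rw [AddMonoidHom.add_apply, fn_apply, fn_apply, fn_apply, AddMonoidHom.add_apply, AddMonoidHom.add_apply, map_add,
      map_add]
    ring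

/-- `ω` is not in the prime field, or `y` is the corresponding power of `x` -/
def Gd (ω : kb r) {U : Type} [Group U] (x y : U) : Prop :=
  (∀ a b : ZMod r, algebraMap (ZMod r) (kb r) a = ω * algebraMap (ZMod r) (kb r) b → a = 0 ∧ b = 0) ∨
    ∃ k : ℕ, y = x ^ k ∧ (k : kb r) = ω

theorem Gd.map {ω : kb r} {U U' : Type} [Group U] [Group U'] {x y : U} (h : Gd ω x y) (f : U →* U') :
    Gd ω (f x) (f y) := h.imp id fun ⟨k, h1, h2⟩ => ⟨k, by rw [h1, map_pow], h2⟩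

theorem kb_ne (h5 : 5 ≤ r) : (2 : kb r) ≠ 0 ∧ (3 : kb r) ≠ 0 := by
  have h : ∀ n : ℕ, 0 < n → n ≤ 3 → (n : kb r) ≠ 0 := fun n h1 h2 h3 => by
    have := Nat.le_of_dvd h1 ((CharP.cast_eq_zero_iff (kb r) r n).1 h3)
    omega
  exact ⟨by exact_mod_cast h 2 (by norm_num) (by norm_num), by exact_mod_cast h 3 (by norm_num) le_rfl⟩

theorem exists_gd (h5 : 5 ≤ r) {A : Type} [CommGroup A] (σ : MulAut A) {u : A} (hu : orderOf u = r)
    (hn : u * σ u * σ (σ u) = 1) : ∃ (ω : kb r) (x : A), ω ^ 2 + ω + 1 = 0 ∧ orderOf x = r ∧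
      x * σ x * σ (σ x) = 1 ∧ Gd ω x (σ x) := by
  obtain ⟨ω, hω⟩ := exists_zeta r (m := 3) ((Nat.coprime_primes Nat.prime_three hr.out).2 (by omega))
  have h1 : ω ^ 2 + ω + 1 = 0 := by
    have := hω.geom_sum_eq_zero (by norm_num)
    simp only [Finset.sum_range_succ, Finset.sum_range_zero] at this
    linear_combination this
  by_cases h : ∀ a b : ZMod r, algebraMap (ZMod r) (kb r) a = ω * algebraMap (ZMod r) (kb r) b → a = 0 ∧ b = 0
  · exact ⟨ω, u, h1, hu, hn, Or.inl h⟩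
  obtain ⟨k, hk⟩ : ∃ k : ℕ, (k : kb r) = ω := by
    push Not at h
    obtain ⟨a, b, h2, h3⟩ := h
    have h4 : b ≠ 0 := fun e => h3 (by
      rw [e, map_zero, mul_zero] at h2
      exact (map_eq_zero _).1 h2) e
    refine ⟨(a / b).val, ?_⟩
    rw [← map_natCast (algebraMap (ZMod r) (kb r)), ZMod.natCast_zmod_val, map_div₀, h2,
      mul_div_cancel_right₀ _ ((map_ne_zero _).2 h4)]
  have h2 : ∀ x : A, x ^ r = 1 → x ^ (k ^ 2 + k + 1) = 1 := by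
    intro x hx
    obtain ⟨m, hm⟩ := (CharP.cast_eq_zero_iff (kb r) r (k ^ 2 + k + 1)).1 (by push_cast; rw [hk, h1])
    rw [hm, pow_mul, hx, one_pow]
  have h3 : u ^ r = 1 := by rw [← hu, pow_orderOf_eq_one]
  have h4 : σ u ^ r = 1 := by rw [← map_pow, h3, map_one]
  by_cases h6 : σ u * (u ^ k ^ 2)⁻¹ = 1
  · refine ⟨ω ^ 2, u, by linear_combination (ω ^ 2 - ω + 1) * h1, hu, hn, Or.inr ⟨k ^ 2, mul_inv_eq_one.1 h6, ?_⟩⟩
    rw [Nat.cast_pow, hk]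
  have h7 : (σ u * (u ^ k ^ 2)⁻¹) ^ r = 1 := by
    rw [mul_pow, h4, inv_pow, ← pow_mul, mul_comm (k ^ 2), pow_mul, h3, one_pow, inv_one, mul_one]
  have h8 : σ (σ u * (u ^ k ^ 2)⁻¹) = (σ u * (u ^ k ^ 2)⁻¹) ^ k := by
    have e1 : (u ^ k ^ 2) ^ k = u := by
      have e : (u ^ k ^ 2) ^ k * u ^ (k ^ 2 + k + 1) = (u ^ (k ^ 2 + k + 1)) ^ k * u := by
        rw [← pow_mul, ← pow_mul, ← pow_add, ← pow_succ u ((k ^ 2 + k + 1) * k)]
        congr 1
        ring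
      rwa [h2 u h3, one_pow, mul_one, one_mul] at e
    have e2 := h2 _ h4
    rw [pow_succ, pow_add, mul_assoc] at e2
    rw [map_mul, map_inv, map_pow, mul_pow, inv_pow, e1, eq_inv_of_mul_eq_one_right hn, eq_inv_of_mul_eq_one_left e2,
      inv_inv, mul_inv_rev, mul_comm, mul_assoc, mul_inv_cancel_left]
  refine ⟨ω, _, h1, orderOf_eq_prime h7 h6, ?_, Or.inr ⟨k, h8, hk⟩⟩
  rw [h8, map_pow, h8, ← h2 _ h7, ← pow_succ', ← pow_mul, ← pow_add]
  congr 1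
  ring

variable {ζ : kb p} (hζ : IsPrimitiveRoot ζ r) {s t : YY D p} {X Y : Lat l →+ ZMod r} (hX : Chi hp ζ s X)
  (hY : Chi hp ζ t Y) {ω : kb r}

include hζ hX hY

theorem psiS_pair : PsiS hp {s, t} = Psi hp (X.prod Y) := by
  ext a
  constructor
  · rintro ⟨ha, h⟩
    exact ⟨ha, Prod.ext ((zeta_eq_one hζ).1 ((hX.2 a ha).symm.trans (h s (Or.inl rfl))))
      ((zeta_eq_one hζ).1 ((hY.2 a ha).symm.trans (h t (Or.inr rfl))))⟩
  · rintro ⟨ha, h⟩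
    refine ⟨ha, ?_⟩
    rintro _ (rfl | rfl)
    · exact (hX.2 a ha).trans ((zeta_eq_one hζ).2 (congrArg Prod.fst h))
    · exact (hY.2 a ha).trans ((zeta_eq_one hζ).2 (congrArg Prod.snd h))

theorem fn_zero (h5 : 5 ≤ r) (hω : ω ^ 2 + ω + 1 = 0) (gd : Gd ω s t) (a : Lat l) :
    fn ω X Y a = 0 ↔ X.prod Y a = 0 := by
  rw [fn_apply, sub_eq_zero]
  constructor
  · intro h
    rcases gd with h1 | ⟨k, h1, h2⟩
    · exact Prod.ext (h1 _ _ h).1 (h1 _ _ h).2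
    · have h3 : Y a = k * X a := by
        rw [hY.unique hζ (h1 ▸ Five2.chi_pow hζ hX k), AddMonoidHom.nsmul_apply, nsmul_eq_mul]
      rw [h3, map_mul, map_natCast, h2] at h
      have h4 : X a = 0 := (map_eq_zero (algebraMap (ZMod r) (kb r))).1 ((mul_eq_zero.1 (by
        linear_combination -h)).resolve_left (mul_ne_zero (ne_one (kb_ne h5).2 hω) (ne_neg_one hω)))
      exact Prod.ext h4 (h3.trans (by rw [h4, mul_zero]; rfl))
  · intro h
    rw [show X a = 0 from congrArg Prod.fst h, show Y a = 0 from congrArg Prod.snd h, map_zero, mul_zero]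

theorem psiS_fn (h5 : 5 ≤ r) (hω : ω ^ 2 + ω + 1 = 0) (gd : Gd ω s t) : PsiS hp {s, t} = Psi hp (fn ω X Y) := by
  rw [psiS_pair hζ hX hY]
  exact Set.ext fun a => and_congr_right fun _ => (fn_zero hζ hX hY h5 hω gd a).symm

theorem eig_of (hω : ω ^ 2 + ω + 1 = 0) {w : M.Group} (h1 : ∀ a, Rt hp a → ch hp (wa hp w a) t = ch hp a s)
    (h2 : ∀ a, Rt hp a → ch hp (wa hp w a) (s * t)⁻¹ = ch hp a t) : Eig hp w (fn ω X Y) (ω ^ 2) := by
  intro a
  have e1 := hX.of_conj hζ hY h1 a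
  have e2 := hY.of_conj hζ ((hX.mul hζ hY).inv hζ) h2 a
  rw [AddMonoidHom.neg_apply, AddMonoidHom.add_apply, e1] at e2
  rw [fn_apply, fn_apply, e1, show X (wa hp w a) = -X a - Y a by linear_combination -e2, map_sub, map_neg]
  linear_combination (-algebraMap (ZMod r) (kb r) (X a) + (ω - 1) * algebraMap (ZMod r) (kb r) (Y a)) * hω

theorem ty_of (h5 : 5 ≤ r) (hω : ω ^ 2 + ω + 1 = 0) (gd : Gd ω s t) (hs : s ≠ 1) (hK : K1 hp p (PsiS hp {s, t}))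
    {d : Dt} (hT : Tab hp d) {WT : List (V × List ℕ × V)}
    (hc : al (fun P => tchk l d WT 0 P && tchk l d WT 1 P) (pats [0, 1] l) = true)
    (h01 : ∀ t ∈ WT, ∀ i : Fin l, 0 ≤ gt t.2.2 i) : Ty hp WT (fn ω X Y) := by
  rw [psiS_pair hζ hX hY] at hK
  exact (types_pair hT hc h01 hr.out h5 (hX.ne_zero hζ boxChi hs) hK).of (fn_zero hζ hX hY h5 hω gd)

end fn

variable {d : ℕ} {g0 : Lat l ≃+ Lat l} {L : Type} [Group L] [Finite L] {U : Type} [Group U] [Finite U]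
  {τ α β : U →* L} {R R' : Subgroup L}

/-- **No automorphism of order three.** -/
theorem no_three (bp : BoxP) (hl : l ≤ 7) (hB2 : D ≠ chevB2) (E : Frame hp p d g0 L) (c : Core τ α β R R') {r : ℕ}
    [hr : Fact r.Prime] (h5 : 5 ≤ r) (hne : r ≠ p) {ω : kb r} (hω : ω ^ 2 + ω + 1 = 0) {x y v : U} (hx : orderOf x = r)
    (h1 : v * x * v⁻¹ = y) (h2 : v * y * v⁻¹ = (x * y)⁻¹) (gd : Gd ω x y) (ax : E.ι (α x) ∈ TT D (kb p))
    (ay : E.ι (α y) ∈ TT D (kb p)) (bx : E.ι (β x) ∈ TT D (kb p)) (by' : E.ι (β y) ∈ TT D (kb p)) : False := by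
  obtain ⟨ζ, hζ⟩ := exists_zeta p ((Nat.coprime_primes hr.out Fact.out).2 hne)
  obtain ⟨k2, k3⟩ := kb_ne h5
  have hxr : x ^ r = 1 := by rw [← hx, pow_orderOf_eq_one]
  have hyr : y ^ r = 1 := by rw [← h1, conj_pow, hxr, mul_one, mul_inv_cancel]
  have hpw : ∀ (f : U →* L) {u : U}, u ^ r = 1 → E.ι (f u) ^ r = 1 := fun f u hu => by
    rw [← map_pow, ← map_pow, hu, map_one, map_one]
  have hne1 : ∀ f : U →* L, Function.Injective f → E.ι (f x) ≠ 1 := fun f hf e => by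
    have h3 : x = 1 := hf (E.inj (by rw [e, map_one, map_one]))
    rw [h3, orderOf_one] at hx
    omega
  obtain ⟨A₁, hA₁⟩ := chi_ex hp hζ hr.out.pos ax (hpw α hxr)
  obtain ⟨A₂, hA₂⟩ := chi_ex hp hζ hr.out.pos ay (hpw α hyr)
  obtain ⟨B₁, hB₁⟩ := chi_ex hp hζ hr.out.pos bx (hpw β hxr)
  obtain ⟨B₂, hB₂⟩ := chi_ex hp hζ hr.out.pos by' (hpw β hyr)
  have hX₁ : Chi hp ζ (E.ι (τ x)) (A₁ + B₁) := by
    rw [c.eq x, map_mul]
    exact hA₁.mul hζ hB₁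
  have hX₂ : Chi hp ζ (E.ι (τ y)) (A₂ + B₂) := by
    rw [c.eq y, map_mul]
    exact hA₂.mul hζ hB₂
  have gA : Gd ω (E.ι (α x)) (E.ι (α y)) := (gd.map α).map E.ι
  have gB : Gd ω (E.ι (β x)) (E.ι (β y)) := (gd.map β).map E.ι
  have gX : Gd ω (E.ι (τ x)) (E.ι (τ y)) := (gd.map τ).map E.ι
  have he : (ω ^ 2) ^ 2 + ω ^ 2 + 1 = 0 := by linear_combination (ω ^ 2 - ω + 1) * hω
  have hcj : ∀ {n : L} {f : U →* L}, (∀ u, n * f u * n⁻¹ = f (v * u * v⁻¹)) →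
      E.ι n * E.ι (f x) * (E.ι n)⁻¹ = E.ι (f y) ∧ E.ι n * E.ι (f y) * (E.ι n)⁻¹ = (E.ι (f x) * E.ι (f y))⁻¹ := by
    intro n f h
    constructor
    · rw [← map_inv, ← map_mul, ← map_mul, h, h1]
    · rw [← map_inv, ← map_mul, ← map_mul, h, h2, map_inv, map_inv, map_mul, map_mul]
  -- the element of `W` induced by `β v`
  obtain ⟨w, hw, h3⟩ := chi_conj hp (Q := {E.ι (α x), E.ι (α y)}) (by rintro _ (rfl | rfl); exacts [ax, ay])
    (y := E.ι (β v)) (mem_sup_left (chi_perf hp hr.out (by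
      rintro _ (rfl | rfl)
      exacts [⟨ax, 1, by rw [pow_one]; exact hpw α hxr⟩, ⟨ay, 1, by rw [pow_one]; exact hpw α hyr⟩])
      (range_perfect c.simple c.noncomm (E.ι.comp β)) (by
      rintro _ ⟨u, rfl⟩ _ (rfl | rfl) <;> exact (map_mul _ _ _).symm.trans ((congrArg _ (c.ab _ u)).trans (map_mul _ _ _)))
      ⟨v, rfl⟩))
  rw [psiS_fn hζ hA₁ hA₂ h5 hω gA] at hw
  obtain ⟨b1, b2⟩ := hcj (n := β v) (f := β) fun u => by rw [map_mul, map_mul, map_inv]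
  have hB : Eig hp w (fn ω B₁ B₂) (ω ^ 2) := eig_of hζ hB₁ hB₂ hω
    (by have := h3 _ bx (b1 ▸ by'); rwa [b1] at this)
    (by have := h3 _ by' (b2 ▸ inv_mem (mul_mem bx by')); rwa [b2] at this)
  have hB0 : fn ω B₁ B₂ ≠ 0 := fun h => hB₁.ne_zero hζ boxChi (hne1 β c.binj) (AddMonoidHom.ext fun a =>
    congrArg Prod.fst ((fn_zero hζ hB₁ hB₂ h5 hω gB a).1 (by rw [h]; rfl)))
  -- the element of `W` induced by `τ v`
  obtain ⟨x1, x2⟩ := hcj (n := τ v) (f := τ) fun u => by rw [map_mul, map_mul, map_inv]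
  obtain ⟨a1, a2⟩ := hcj (n := τ v) (f := α) fun u => c.conj_alpha u v
  have hs : ∀ i, ![E.ι (τ x), E.ι (τ y), E.ι (α x), E.ι (α y)] i ∈ TT D (kb p) := by
    intro i
    fin_cases i
    exacts [hX₁.1, hX₂.1, ax, ay]
  obtain ⟨m, hm, w', k, hk, hks, e⟩ := DS.Nt.form₂ hp hs
    (t := ![E.ι (τ y), (E.ι (τ x) * E.ι (τ y))⁻¹, E.ι (α y), (E.ι (α x) * E.ι (α y))⁻¹]) (c := E.ι (τ v)) (by
      intro i
      fin_cases i
      exacts [hX₂.1, inv_mem (mul_mem hX₁.1 hX₂.1), ay, inv_mem (mul_mem ax ay)]) (by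
      intro i
      fin_cases i
      exacts [mul_inv_eq_iff_eq_mul.1 x1, mul_inv_eq_iff_eq_mul.1 x2, mul_inv_eq_iff_eq_mul.1 a1,
        mul_inv_eq_iff_eq_mul.1 a2])
  have h4 := fun i a (ha : Rt hp a) => (congrArg (ch hp (wa hp w' a)) (mul_inv_eq_iff_eq_mul.2 (hks i))).symm.trans
    (ch_rp hk (hs i) ha)
  have hX : Eig hp w' (fn ω (A₁ + B₁) (A₂ + B₂)) (ω ^ 2) := eig_of hζ hX₁ hX₂ hω (h4 0) (h4 1)
  have hA : Eig hp w' (fn ω A₁ A₂) (ω ^ 2) := eig_of hζ hA₁ hA₂ hω (h4 2) (h4 3)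
  -- `K1`
  have kX : K1 hp p (PsiS hp {E.ι (τ x), E.ι (τ y)}) := by
    have h6 := bp.k1 D l M hp hl hB2 p d g0 L E U τ α β R R' c r hr.out h5 hne {x, y} (by
      rintro _ (rfl | rfl)
      exacts [⟨hxr, hX₁.1⟩, ⟨hyr, hX₂.1⟩])
    rwa [Set.image_pair] at h6
  have kA : K1 hp p (PsiS hp {E.ι (α x), E.ι (α y)}) := by
    obtain ⟨τ', α', β', Q, Q', ψ, c', -, hψ, -⟩ := Five2.exists_pair c
    have h6 := bp.k1 D l M hp hl hB2 p d g0 L E U τ' α' β' Q Q' c' r hr.out h5 hne {ψ x, ψ y} (by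
      rintro _ (rfl | rfl)
      · exact ⟨by rw [← map_pow, hxr, map_one], by rw [hψ]; exact ax⟩
      · exact ⟨by rw [← map_pow, hyr, map_one], by rw [hψ]; exact ay⟩)
    rwa [Set.image_pair, hψ, hψ] at h6
  rw [← fn_add] at hX
  obtain ⟨⟨hG, m4, m6, h4l⟩, γ, γ', T, hAγ, σ, hσ, hσ'⟩ := lat_cases hp hl hB2 k2 k3 he hA hX (fun d hT WT hc h01 =>
    ⟨ty_of hζ hA₁ hA₂ h5 hω gA (hne1 α c.pair'.inj) kA hT hc h01,
      fn_add ω A₁ A₂ B₁ B₂ ▸ ty_of hζ hX₁ hX₂ h5 hω gX (hne1 τ c.pair.inj) kX hT hc h01⟩) hw hB hB0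
  rw [fn_add] at T
  have pX := psiS_fn hζ hX₁ hX₂ h5 hω gX
  have hg : ∀ a, fn ω (A₁ + B₁) (A₂ + B₂) (E.g a) = (E.q : kb r) * fn ω (A₁ + B₁) (A₂ + B₂) a := fun a => by
    rw [fn_apply, fn_apply, hX₁.frob hζ boxChi E (E.fix _), hX₂.frob hζ boxChi E (E.fix _), map_mul, map_mul,
      map_natCast]
    ring
  refine bp.a2 D l M hp hl h4l p d g0 L E U τ α β R R' c γ γ' T.p2.r1 T.p2.r2 T.p2.c1 T.p2.c2
    (fun a ha => T.stab E.fr.root E.gcp hg ha) ?_ fun a ha z hz ρ hρ => ?_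
  · by_cases hq : 3 ≤ E.q
    · exact Or.inl hq
    have h6 : E.q = 2 := by have := E.two_le; omega
    obtain ⟨σ', h7⟩ := T.perm E.fr.root E.gcp hg (Or.inr (by rw [h6, Nat.cast_ofNat]))
    obtain ⟨u, hu, h8⟩ := exists_WW T.p2 σ'
    refine Or.inr ⟨u, hu, fun a ha => ?_⟩
    obtain ⟨i, j, -, rfl⟩ := mem_A2s.1 ha
    rw [h7, h8]
  · have hinv : ∀ {s t : YY D p} {a : Lat l}, Rt hp a → s ∈ TT D (kb p) → t ∈ TT D (kb p) → ch hp a t = 1 →
        ch hp a (s * t)⁻¹ = 1 → a ∈ PsiS hp {s, t} := by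
      intro s t a ha hs ht h6 h7
      rw [ch_inv ha (mul_mem hs ht), inv_eq_one, ch_mul ha hs ht, h6, mul_one] at h7
      refine ⟨ha, ?_⟩
      rintro _ (rfl | rfl)
      exacts [h7, h6]
    refine cen_a2 T.p2 hG m4 m6 (S := PsiS hp {E.ι (τ x), E.ι (τ y)}) (fun a ha => ha.1)
      (fun a ha => T.orth (pX ▸ ha)) (fun a ha => ⟨ha.1, ?_⟩) (map_perfect c.pair.perfect E.ι)
      (chi_perf hp hr.out ?_ (map_perfect c.pair.perfect E.ι) ?_) hm hk hσ hσ' ?_ ha hz ⟨ρ, hρ, rfl⟩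
    · refine (T.orth (pX ▸ hinv ha.1 hX₁.1 hX₂.1 (ha.2 _ ⟨0, rfl⟩) (ha.2 _ ⟨1, rfl⟩))).resolve_left fun h6 =>
        hAγ a h6 ?_
      have h7 := hinv ha.1 ax ay (ha.2 _ ⟨2, rfl⟩) (ha.2 _ ⟨3, rfl⟩)
      rw [psiS_fn hζ hA₁ hA₂ h5 hω gA] at h7
      exact h7.2
    · rintro _ (rfl | rfl)
      exacts [⟨hX₁.1, 1, by rw [pow_one]; exact hpw τ hxr⟩, ⟨hX₂.1, 1, by rw [pow_one]; exact hpw τ hyr⟩]
    · rintro _ ⟨u, hu, rfl⟩ _ (rfl | rfl) <;>
        exact (map_mul _ _ _).symm.trans ((congrArg _ (c.pair.comm _ u hu)).trans (map_mul _ _ _))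
    · rintro _ ⟨u, hu, rfl⟩
      rw [← e, ← map_mul, ← map_mul, c.pair.comm v u hu]

/-- **Real elements.** -/
theorem real (bp : BoxP) (hl : l ≤ 7) (hB2 : D ≠ chevB2) (E : Frame hp p d g0 L) (c : Core τ α β R R') {r : ℕ}
    (hr : r.Prime) (h5 : 5 ≤ r) (hne : r ≠ p) (hd : r ∣ Nat.card U) :
    ∃ u v : U, orderOf u = r ∧ v * u * v⁻¹ = u⁻¹ := by
  have : Fact r.Prime := ⟨hr⟩
  obtain ⟨A, hA, hab, v, σ, hσ, hv⟩ := exists_aut c.simple c.noncomm hr hd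
  have h1 : ∀ a ∈ α '' A ∪ β '' A, ∀ b ∈ α '' A ∪ β '' A, a * b = b * a := by
    rintro _ (⟨a, ha, rfl⟩ | ⟨a, ha, rfl⟩) _ (⟨b, hb, rfl⟩ | ⟨b, hb, rfl⟩)
    · rw [← map_mul, ← map_mul, hab a ha b hb]
    · exact c.ab a b
    · exact (c.ab b a).symm
    · rw [← map_mul, ← map_mul, hab a ha b hb]
  have h2 : ∀ (f : U →* L), ∀ a ∈ A, ∃ n : ℕ, f a ^ r ^ n = 1 := fun f a ha => by
    obtain ⟨n, hn⟩ := hA ⟨a, ha⟩
    exact ⟨n, by rw [← map_pow, show a ^ r ^ n = 1 from congrArg Subtype.val hn, map_one]⟩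
  obtain ⟨E', -, hE⟩ := E.exists_tor hl hr h5 hne (Q := closure (α '' A ∪ β '' A)) (DS.Nt.isPGroup_of_comm h1 (by
    rintro _ (⟨a, ha, rfl⟩ | ⟨a, ha, rfl⟩)
    exacts [h2 α a ha, h2 β a ha])) fun a ha b hb => by
    have := Subgroup.isMulCommutative_closure h1
    exact setLike_mul_comm ha hb
  have ha : ∀ a : A, E'.ι (α a) ∈ TT D (kb p) := fun a => hE _ (subset_closure (Or.inl ⟨a, a.2, rfl⟩))
  have hb : ∀ a : A, E'.ι (β a) ∈ TT D (kb p) := fun a => hE _ (subset_closure (Or.inr ⟨a, a.2, rfl⟩))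
  have h3 : ¬ 5 ≤ orderOf σ := fun h => (tors_all hp hl hσ h).1 (sq_dvd hp (f := E'.ι.comp (α.comp A.subtype))
    (g := E'.ι.comp (β.comp A.subtype)) (E'.inj.comp (c.pair'.inj.comp Subtype.val_injective))
    (E'.inj.comp (c.binj.comp Subtype.val_injective)) ha hb σ (x := E'.ι (α v)) (y := E'.ι (β v)) (fun a => by
      show _ * E'.ι (α a) * _ = E'.ι (α (σ a))
      rw [hv, map_mul, map_mul, map_mul, map_mul, map_inv, map_inv]) (fun a => by
      show _ * E'.ι (β a) * _ = E'.ι (β a)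
      rw [← map_mul, c.ab, map_mul, mul_inv_cancel_right]) (fun a => by
      show _ * E'.ι (α a) * _ = E'.ι (α a)
      rw [← map_mul, ← c.ab, map_mul, mul_inv_cancel_right]) fun a => by
      show _ * E'.ι (β a) * _ = E'.ι (β (σ a))
      rw [hv, map_mul, map_mul, map_mul, map_mul, map_inv, map_inv])
  let _ : CommGroup A := { (inferInstance : Group A) with mul_comm := fun a b => Subtype.ext (hab a a.2 b b.2) }
  obtain ⟨u, hu, hn⟩ := exists_norm hr hA (σ := σ) (m := orderOf σ) (fun e => by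
    rw [e, orderOf_one] at hσ
    exact Nat.not_prime_one hσ) (pow_orderOf_eq_one σ)
  have h4 : orderOf σ = 2 ∨ orderOf σ = 3 := by
    have h6 := hσ.two_le
    have h7 : orderOf σ ≠ 4 := fun e => by rw [e] at hσ; exact absurd hσ (by decide)
    omega
  rcases h4 with h4 | h4 <;> rw [h4] at hn <;>
    simp only [Finset.prod_range_succ, Finset.prod_range_zero, one_mul, pow_zero, pow_one, sq, MulAut.one_apply,
      MulAut.mul_apply] at hn
  · refine ⟨u, v, by rw [Subgroup.orderOf_coe, hu], ?_⟩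
    rw [← hv, eq_inv_of_mul_eq_one_right hn, Subgroup.coe_inv]
  · obtain ⟨ω, x, hω, hx, h6, gd⟩ := exists_gd h5 σ hu hn
    exact (no_three bp hl hB2 E' c h5 hne hω (x := x) (y := σ x) (v := v) (by rw [Subgroup.orderOf_coe, hx])
      (hv x).symm (by rw [← hv, eq_inv_of_mul_eq_one_right h6, Subgroup.coe_inv, Subgroup.coe_mul])
      (gd.map A.subtype) (ha _) (ha _) (hb _) (hb _)).elim

/-- **`BoxU`.** -/
theorem boxU (bp : BoxP) : BoxU where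
  real D l M hp hl hB2 p _ d g0 L _ _ E U _ _ τ α β R R' c r hr h5 hne hd := real bp hl hB2 E c hr h5 hne hd
  rank D l M hp hl p _ d g0 L _ _ E U _ _ _ hn f hf := by
    have := rank_le hp hn (E.ι.comp f) (E.inj.comp hf)
    omega

end Cfsg.Agent.Cam.Ex.Ub
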