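import Cfsg.Agent.Cam.Ex.Iface
import Cfsg.Agent.H28.GenF.Std
import Cfsg.Agent.H900.Fra.Wey
import Cfsg.Agent.H123.ExcComb
import Cfsg.Agent.S1054
import Cfsg.Agent.S1055
import Cfsg.Agent.S1070
import Cfsg.Agent.S1071

/-!
# Exceptional rows: the frames (helper94)

`boxFrame : BoxFrame`, from the models `H316.U6.MData`.
-/

set_option autoImplicit false
set_option linter.unusedSectionVars false

namespace Cfsg.Agent.Cam.Ex.Frm

open CoxeterSystem Cfsg Cfsg.Lie Cfsg.Lie.ChevalleyDatum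
open Cfsg.Agent.ChevalleyStructure Cfsg.Agent.ChevalleyStructure.Elts Cfsg.Agent.ChevalleyStructure.CoxeterGeom
  Cfsg.Agent.ChevalleyStructure.CoxeterGeomTypes
open Cfsg.Agent.Tits.Roots Cfsg.Agent.Nodes Cfsg.Agent.Nodes.BNOf Cfsg.Agent.Nodes.RGDChev Cfsg.Agent.Nodes.Coroot
open Cfsg.Agent.KFacts.RgdChevCoord
open Cfsg.Agent.BpExc Cfsg.Agent.BpExc.FamField Cfsg.Agent.BpExc.TorChev Cfsg.Agent.BpExc.LangFr Cfsg.Agent.GpExc.Field
  Cfsg.Agent.BpExc.FamUntw Cfsg.Agent.BpExc.FamInst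
open Cfsg.Agent.H469.Exc Cfsg.Agent.H469.Exc.SigFr
open Cfsg.Agent.ChevalleyStructure.SignedSymm Cfsg.Agent.ChevalleyStructure.GraphSymm
open Cfsg.Agent.H316.U6
open scoped commutatorElement

variable {D : ChevalleyDatum} {l : ℕ} {M : CoxeterMatrix (Fin l)} {hp : IsType D l M} {r q : ℕ} [hr : Fact r.Prime]

/-- the fixed points are products of elements of the finite group and of the torus -/
def Spl {K : Type} [Group K] (m : MData hp r q K) : Prop :=
  ∀ y, m.σ y = y → ∃ a t, t ∈ TT D (KK r) ∧ y = m.ι a * t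

theorem cp_g {g : Lat l ≃+ Lat l} (hg : ∀ a, Rt hp (g a) ↔ Rt hp a) (a c : Lat l) (hc : Rt hp c) :
    cp hp (g a) (g c) = cp hp a c := by
  have := finite_W hp M.toCoxeterSystem
  have hgc := (hg c).2 hc
  have e : a = ∑ k, a k • (sr k : Lat l) := by
    funext j
    simp [Finset.sum_apply, sr, Pi.single_apply]
  have h0 : ∀ {y : Lat l}, Rt hp y → cp hp 0 y = 0 := fun {y} hy => by
    have h1 := cpr_smul M.toCoxeterSystem hp.isCartan 0 0 hy
    rwa [zero_smul, zero_mul] at h1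
  rw [e]
  refine Finset.sum_induction _ (fun x => cp hp (g x) (g c) = cp hp x c) (fun x y h1 h2 => ?_) ?_ fun k _ => ?_
  · unfold cp at h1 h2 ⊢
    rw [map_add, cpr_add _ _ _ _ hgc, cpr_add _ _ _ _ hc, h1, h2]
  · rw [map_zero, h0 hgc, h0 hc]
  · unfold cp
    rw [map_zsmul, cpr_smul _ _ _ _ hgc, cpr_smul _ _ _ _ hc,
      H123.ExcComb.cpr_g (cs := M.toCoxeterSystem) (h := hp.isCartan) hg (isRoot_sr _ _ k) hc]

theorem xc_vec {k : Type} [Field k] {s : ℕ} (hs : s < D.nroots) (t : k) : xc hp (vec D l s) t = xs hp.inList s t :=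
  Subtype.ext (coe_xc hp hs t)

theorem der_of_spl {K : Type} [Group K] {m : MData hp r q K} (h : Spl m) {y z : YY D r} (hy : m.σ y = y) (hz : m.σ z = z) :
    ⁅y, z⁆ ∈ m.ι.range := by
  obtain ⟨a, s, hs, rfl⟩ := h y hy
  obtain ⟨b, t, ht, rfl⟩ := h z hz
  have h1 : m.σ s = s := by
    rw [map_mul, m.fix] at hy
    exact mul_left_cancel hy
  have h2 : m.σ t = t := by
    rw [map_mul, m.fix] at hz
    exact mul_left_cancel hz
  obtain ⟨b', hb'⟩ := m.norm s h1 b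
  obtain ⟨a', ha'⟩ := m.norm t h2 a⁻¹
  refine ⟨a * b' * a' * b⁻¹, ?_⟩
  rw [map_mul, map_mul, map_mul, hb', ha', map_inv, map_inv, commutatorElement_def]
  have h3 : s⁻¹ * t = t * s⁻¹ := TT_comm hp _ (inv_mem hs) _ ht
  calc m.ι a * (s * m.ι b * s⁻¹) * (t * (m.ι a)⁻¹ * t⁻¹) * (m.ι b)⁻¹
      = m.ι a * s * m.ι b * (s⁻¹ * t) * (m.ι a)⁻¹ * t⁻¹ * (m.ι b)⁻¹ := by group
    _ = _ := by rw [h3]; group

/-- **The frame of a model.** -/
theorem frame_of {K L : Type} [Group K] [Group L] (m : MData hp r q K) (e : L ≃* K)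
    (hK : IsSimpleGroup K ∧ ¬ IsMulCommutative K) {g0 : Lat l ≃+ Lat l} (hg : ∃ w, ∀ a, m.g a = wa hp w (g0 a))
    (hd : m.dd = 1 ∨ Spl m) (hc : m.dd.Coprime r) (hl : m.dd = 1 ∨ m.dd = 2 ∨ m.dd = 3) :
    Nonempty (Frame hp r m.dd g0 L) := by
  have hrange : ∀ y : YY D r, y ∈ m.ι.range → y ∈ (m.ι.comp e.toMonoidHom).range := by
    rintro _ ⟨a, rfl⟩
    exact ⟨e.symm a, congrArg m.ι (e.apply_symm_apply a)⟩
  have := hK.1
  refine ⟨{
    e := m.e
    ι := m.ι.comp e.toMonoidHom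
    F := m.σ
    g := m.g
    he := m.he
    frob := m.frob
    fr := m.fr
    pw := ?_
    gr := hg
    gcp := cp_g m.fr.root
    inj := m.inj.comp e.injective
    fix := fun _ => m.fix _
    der := fun y z hy hz => hrange _ ?_
    idx := fun y hy => hrange _ (m.pow_dd y hy)
    cop := hc
    dle := hl
    simple := e.isSimpleGroup
    noncomm := fun h => hK.2 ⟨⟨fun a b => e.symm.injective (by rw [map_mul, map_mul]; exact h.is_comm.comm _ _)⟩⟩ }⟩
  · intro a ha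
    obtain ⟨s, hs, rfl⟩ := (isRoot_iff hp M.toCoxeterSystem a).1 ha
    obtain ⟨s', h1, h2, c, hc0, h3, -⟩ := m.act s hs
    refine ⟨c, hc0, fun t => ?_⟩
    rw [← h1, xc_vec hs, xc_vec h2, h3, m.hq]
  · rcases hd with h | h
    · have h1 := m.pow_dd ⁅y, z⁆ (by rw [map_commutatorElement, hy, hz])
      rwa [h, pow_one] at h1
    · exact der_of_spl h hy hz

theorem gr_refl {g : Lat l ≃+ Lat l} (h : g = AddEquiv.refl _) : ∃ w, ∀ a, g a = wa hp w (sg l 1 a) :=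
  ⟨1, fun a => by
    unfold wa
    rw [h, map_one, sg_apply, Units.val_one, one_smul]
    rfl⟩

theorem cop_sub {n d : ℕ} (hn : 0 < n) : (Nat.gcd d (r ^ n - 1)).Coprime r := by
  refine Nat.Coprime.coprime_dvd_left (Nat.gcd_dvd_right _ _) ?_
  have h1 : 1 ≤ r ^ n := Nat.one_le_pow _ _ hr.out.pos
  refine Nat.Coprime.coprime_dvd_right (dvd_pow_self r hn.ne') ?_
  exact (Nat.coprime_self_sub_left h1).2 (Nat.coprime_one_left _)

theorem cop_add {n d : ℕ} (hn : 0 < n) : (Nat.gcd d (r ^ n + 1)).Coprime r := by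
  refine Nat.Coprime.coprime_dvd_left (Nat.gcd_dvd_right _ _) ?_
  refine Nat.Coprime.coprime_dvd_right (dvd_pow_self r hn.ne') ?_
  exact (Nat.coprime_self_add_left).2 (Nat.coprime_one_left _)

/-- **Untwisted groups.** -/
theorem untw (hp : IsType D l M) {d : ℕ} {B : Fin l → Fin l → ℤ} (hB : H129.TorusChar.InvC D l d B)
    (hd : d = 1 ∨ d = 2 ∨ d = 3) {F : Type} [Field F] [Fintype F]
    (hK : IsSimpleGroup ↥(D.group F) ∧ ¬ IsMulCommutative ↥(D.group F)) {L : Type} [Group L] (e : L ≃* ↥(D.group F)) :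
    ∃ (p : ℕ) (_ : Fact p.Prime) (d' : ℕ), d' ∣ d ∧ Nonempty (Frame hp p d' (sg l 1) L) := by
  obtain ⟨r, hr, _⟩ := RowsUntw.exists_char F
  have : Fact r.Prime := ⟨hr⟩
  obtain ⟨f⟩ := RowsUntw.exists_emb r F
  obtain ⟨n, hn0, hn⟩ := exists_card (F := F) r
  have hq : Fintype.card F = r ^ n := by rw [← hn, Nat.card_eq_fintype_card]
  have hd1 : d = 1 ∨ d.Prime := by
    rcases hd with rfl | rfl | rfl
    · exact Or.inl rfl
    · exact Or.inr Nat.prime_two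
    · exact Or.inr Nat.prime_three
  obtain ⟨m, h1, h2, h3, h4⟩ := H28.GenF.mdata_std' (r := r) hp F hB (by omega) hd1 f hn0 hn
  have h5 : m.dd ∣ d := h4 ▸ Nat.gcd_dvd_left _ _
  refine ⟨r, inferInstance, m.dd, h5, frame_of m e hK (gr_refl h3) (Or.inr fun y hy => ?_) ?_ ?_⟩
  · rw [h1]
    refine H129.TorusUntw.fix_split hp f hq ?_
    apply Subtype.ext
    rw [H129.TorusUntw.coe_phi]
    rw [h2] at hy
    refine Eq.trans ?_ (congrArg Subtype.val hy)
    apply Units.ext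
    ext i j
    exact (iterateFrobenius_def r n _).trans (frb_apply _ r n _).symm
  · rw [h4, hq]
    exact cop_sub hn0
  · rcases hd1 with h6 | h6
    · exact Or.inl (Nat.dvd_one.1 (h6 ▸ h5))
    · rcases (Nat.dvd_prime h6).1 h5 with h7 | h7
      · exact Or.inl h7
      · rw [h7]
        exact hd

theorem untw1 (hp : IsType D l M) {B : Fin l → Fin l → ℤ} (hB : H129.TorusChar.InvC D l 1 B) {F : Type} [Field F] [Fintype F]
    (hK : IsSimpleGroup ↥(D.group F) ∧ ¬ IsMulCommutative ↥(D.group F)) {L : Type} [Group L] (e : L ≃* ↥(D.group F)) :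
    ∃ (p : ℕ) (_ : Fact p.Prime), Nonempty (Frame hp p 1 (sg l 1) L) := by
  obtain ⟨p, _, d, hd, h⟩ := untw hp hB (Or.inl rfl) hK e
  obtain rfl := Nat.dvd_one.1 hd
  exact ⟨p, inferInstance, h⟩

open Cfsg.Agent.ChevalleyStructure.TwE6Basic (hE6)
open Cfsg.Agent.CpAut.RgdUntw (fld)
open Cfsg.Agent.BpExc.FamTw.Gr Cfsg.Agent.BpExc.FamTw.Six

/-- the model of `²E₆(q)` (as `H316.U6.mdata_twE6'`) with the splitting -/
theorem mdata_six {K : Type} [Field K] [Fintype K] [CharP K r] {q : ℕ} (hq : IsPrimePow q)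
    (hK : Fintype.card K = q ^ 2) :
    ∃ m : MData Nodes.RGDTwE6.hp r q ↥(twistedE6 K q), m.dd = Nat.gcd 3 (q + 1) ∧
      m.g = H720.TwFr.permE H720.TwFr.rho6 ∧ Spl m := by
  obtain ⟨f⟩ := RowsUntw.exists_emb r K
  obtain ⟨m, hm0, hm⟩ := exists_eq_pow (r := r) hq hK
  have hk := locFin r
  obtain ⟨Φ, hΦe⟩ : ∃ Φ : KK r ≃+* KK r, Φ = frb (KK r) r m := ⟨_, rfl⟩
  have hΦ : ∀ a, Φ a = a ^ r ^ m := by
    intro a
    rw [hΦe]
    exact frb_apply _ r m a
  have hφ : ∀ a, (Φ : KK r →+* KK r) a = a ^ q := by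
    intro a
    rw [hm]
    exact hΦ a
  have hγ := coe_gr (L := KK r) hE6 symmE6
  have hσ := SigFr.isFrob_symm_fld (p := r) symmE6 hγ hΦ
  have Fσ := (SigFr.fr_E6 hγ CoxeterMatrix.E₆.toCoxeterSystem).mul
    (SigFr.fr_fld Nodes.RGDTwE6.hp CoxeterMatrix.E₆.toCoxeterSystem Φ)
  have hfin := Sig.finite_fixed hk hm0 hσ
  have hsg : ∀ y : ↥(chevE6.group (KK r)),
      (((gr hE6 symmE6 * fld chevE6 Φ : MulAut ↥(chevE6.group (KK r))) y :
        ↥(chevE6.group (KK r))) : GL chevE6.Idx (KK r)) =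
      TwE6Basic.sg (Φ : KK r →+* KK r) (y : GL chevE6.Idx (KK r)) := by
    intro y
    rfl
  have hfix : ∀ a, (gr hE6 symmE6 * fld chevE6 Φ : MulAut ↥(chevE6.group (KK r))) (em q f a) = em q f a := by
    intro a
    apply Subtype.ext
    rw [hsg, coe_em]
    exact (EmbInst.twE6_fix (f := f) hq hK hφ a.2).2
  have hnorm : ∀ y, (gr hE6 symmE6 * fld chevE6 Φ : MulAut ↥(chevE6.group (KK r))) y = y → ∀ x, ∃ x',
      em q f x' = y * em q f x * y⁻¹ := by
    intro y hy x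
    have h1 : TwE6Basic.sg (Φ : KK r →+* KK r) (y : GL chevE6.Idx (KK r)) = y := by rw [← hsg, hy]
    have hn := EmbInst.twE6_normalizer (f := f) hq hK hφ y.2 h1
    obtain ⟨b, hb, hb'⟩ := (Subgroup.mem_normalizer_iff.1 hn (glMap chevE6 f x)).1 ⟨x, x.2, rfl⟩
    exact ⟨⟨b, hb⟩, Subtype.ext hb'⟩
  have hpow : ∀ y, (gr hE6 symmE6 * fld chevE6 Φ : MulAut ↥(chevE6.group (KK r))) y = y →
      y ^ Nat.gcd 3 (q + 1) ∈ (em q f).range := by
    intro y hy
    have h1 : TwE6Basic.sg (Φ : KK r →+* KK r) (y : GL chevE6.Idx (KK r)) = y := by rw [← hsg, hy]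
    have h2 : iterateFrobenius (KK r) r m = (Φ : KK r →+* KK r) := by
      ext t
      rw [iterateFrobenius_def, ← hm, hφ]
    have h3 := H720.TwFr.coe_sig6 (k := KK r) r m y
    rw [h2, h1] at h3
    exact H720.TwFr.desc6 f r hk hm0 hm hK (Subtype.ext h3)
  have hspl : ∀ y, (gr hE6 symmE6 * fld chevE6 Φ : MulAut ↥(chevE6.group (KK r))) y = y →
      ∃ a t, t ∈ TT chevE6 (KK r) ∧ y = em q f a * t := by
    intro y hy
    have h1 : TwE6Basic.sg (Φ : KK r →+* KK r) (y : GL chevE6.Idx (KK r)) = y := by rw [← hsg, hy]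
    obtain ⟨g, hg, t, ht, e⟩ := EmbInst.twE6_split (f := f) hq hK hφ y.2 h1
    exact ⟨⟨g, hg⟩, ⟨t, diagonal_le_group hE6 _ ht⟩, ht, Subtype.ext e⟩
  refine ⟨{
    σ := _
    π := symmE6.σ₀.symm
    dd := Nat.gcd 3 (q + 1)
    norm := hnorm
    pow_dd := hpow
    g := _
    e := m
    ι := em q f
    he := hm0
    hq := hm.symm
    frob := hσ
    fr := Fσ
    fin := hfin
    inj := em_injective f
    fix := hfix
    idx := ?_
    act := ?_
    perm := fun v i => rfl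
    top := topE6
    gen := gen_of_words Nodes.RGDTwE6.hp f (fun _ => rfl) (wordsE6 q) }, rfl, g_eq_six, hspl⟩
  · intro y hy
    refine ⟨_, ?_, hpow y hy⟩
    rw [hm]
    exact cop_add hm0
  · intro s hs
    refine ⟨symmE6.σ ⟨s, hs⟩, ?_, actF_symm_fld symmE6 _ hγ (fun a => (hφ a)) ⟨s, hs⟩⟩
    funext i
    exact piE6 ⟨s, hs⟩ i

theorem isTri : IsTri (H720.TwFr.permE H720.TwFr.rho4) := by
  refine ⟨H720.TwFr.rho4, orderOf_eq_prime (by decide) (by decide), by decide +kernel, fun i => ?_⟩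
  funext j
  show sr i (H720.TwFr.rho4.symm j) = sr (H720.TwFr.rho4 i) j
  simp only [sr, Pi.single_apply, Equiv.symm_apply_eq]

/-- **The frames.** -/
theorem boxFrame : BoxFrame where
  g2 := by
    rintro L _ _ ⟨F, _, _, h3, ⟨e⟩⟩
    exact untw1 tG2 H129.TorusChar.invC_G2 (S1055.result (RowsUntw.exists_ne h3)) e
  f4 := by
    rintro L _ _ ⟨F, _, _, ⟨e⟩⟩
    exact untw1 tF4 H129.TorusChar.invC_F4 (S1054.result _ (by simp)) e
  e6 := by
    rintro L _ _ ⟨F, _, _, ⟨e⟩⟩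
    exact untw tE6 H129.TorusChar.invC_E6 (Or.inr (Or.inr rfl)) (S1054.result _ (by simp)) e
  te6 := by
    rintro L _ _ ⟨K, _, _, q, hq, hK, ⟨e⟩⟩
    obtain ⟨r, hr, _⟩ := RowsUntw.exists_char K
    have : Fact r.Prime := ⟨hr⟩
    obtain ⟨m, h1, h2, h3⟩ := mdata_six (r := r) hq hK
    have h5 : m.dd ∣ 3 := h1 ▸ Nat.gcd_dvd_left _ _
    refine ⟨r, inferInstance, m.dd, h5, frame_of m e (S1070.result hq hK) ?_ (Or.inr h3) ?_ ?_⟩
    · obtain ⟨w, hw⟩ := H900.Fra.negRho_E6 tE6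
      refine ⟨w, fun a => ?_⟩
      unfold wa
      rw [hw, h2, sg_apply, Units.val_neg, Units.val_one, neg_one_smul, map_neg, neg_neg]
    · rw [h1, ← m.hq]
      exact cop_add m.he
    · rcases (Nat.dvd_prime Nat.prime_three).1 h5 with h | h
      · exact Or.inl h
      · exact Or.inr (Or.inr h)
  e7 := by
    rintro L _ _ ⟨F, _, _, ⟨e⟩⟩
    exact untw tE7 H129.TorusChar.invC_E7 (Or.inr (Or.inl rfl)) (S1054.result _ (by simp)) e
  e8 := by
    rintro L _ _ ⟨F, _, _, ⟨e⟩⟩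
    exact untw1 tE8 H129.TorusChar.invC_E8 (S1054.result _ (by simp)) e
  td4 := by
    rintro L _ _ ⟨K, _, _, q, hq, hK, ⟨e⟩⟩
    obtain ⟨r, hr, _⟩ := RowsUntw.exists_char K
    have : Fact r.Prime := ⟨hr⟩
    obtain ⟨m, h1, h2⟩ := mdata_twD4' (r := r) hq hK
    refine ⟨r, inferInstance, _, isTri, ?_⟩
    have h3 := frame_of (g0 := H720.TwFr.permE H720.TwFr.rho4) m e (S1071.result hq hK) ⟨1, fun a => by
      unfold wa
      rw [h2, map_one]
      rfl⟩ (Or.inl h1) (by rw [h1]; exact Nat.coprime_one_left r) (Or.inl h1)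
    rwa [h1] at h3

end Cfsg.Agent.Cam.Ex.Frm
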