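import Cfsg.Agent.Cam.Ex.Iface

/-!
# Exceptional rows: interface for the end of `E₇` in characteristic two (helper53)
-/

set_option autoImplicit false
set_option linter.unusedVariables false

namespace Cfsg.Agent.Cam.Ex

open CoxeterSystem Cfsg Cfsg.Lie Subgroup
open Cfsg.Agent.ChevalleyStructure.CoxeterGeom Cfsg.Agent.ChevalleyStructure.CoxeterGeomTypes
open Cfsg.Agent.Tits.Roots Cfsg.Agent.Nodes.BNOf Cfsg.Agent.Nodes.RGDChev Cfsg.Agent.Nodes.Coroot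
open Cfsg.Agent.KFacts.RgdChevCoord Cfsg.Agent.BpExc.TorCent Cfsg.Agent.BpExc.LangFr Cfsg.Agent.BpExc.SubBN
open Cfsg.Agent.Cam.Spor

/-- every automorphism of `L` is induced by an inner automorphism times a frame automorphism of the ambient group -/
def BoxFExt : Prop := ∀ (L : Type) [Group L] [Finite L] (E : Frame tE7 2 1 (sg 7 1) L) (θ : MulAut L),
  ∃ (y : YY chevE7 2) (β : MulAut (YY chevE7 2)) (γ : Lat 7 ≃+ Lat 7),
    BpExc.Fr.Fr CoxeterMatrix.E₇.toCoxeterSystem tE7.isCartan (TT chevE7 (kb 2)) (XX chevE7 7 (kb 2)) β γ ∧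
    ∀ x, E.ι (θ x) = y * β (E.ι x) * y⁻¹

/-- pairs of root groups -/
structure BoxRE : Prop where
  /-- two conjugate root groups generate a `2`-group or are opposite -/
  pair : ∀ a : Lat 7, Rt tE7 a → ∀ y : YY chevE7 2,
    IsPGroup 2 ↥(XR chevE7 7 2 a ⊔ (XR chevE7 7 2 a).map (MulAut.conj y).toMonoidHom) ∨
    ∃ (z : YY chevE7 2) (b : Lat 7), Rt tE7 b ∧ (∀ x ∈ XR chevE7 7 2 a, z * x * z⁻¹ ∈ XR chevE7 7 2 b) ∧
      ∀ x ∈ XR chevE7 7 2 a, z * (y * x * y⁻¹) * z⁻¹ ∈ XR chevE7 7 2 (-b)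
  /-- the non-trivial elements of a root group have the same centralizer -/
  cent : ∀ a : Lat 7, Rt tE7 a → ∀ u ∈ XR chevE7 7 2 a, u ≠ 1 → ∀ y : YY chevE7 2, y * u = u * y →
    ∀ x ∈ XR chevE7 7 2 a, y * x = x * y
  /-- a root orthogonal to all the roots orthogonal to `c` -/
  perp : ∀ c : Lat 7, Rt tE7 c → ∀ b : Lat 7, Rt tE7 b → (∀ a, Rt tE7 a → cp tE7 a c = 0 → cp tE7 a b = 0) →
    b = c ∨ b = -c

/-- the core of `P8` for one root -/
def BoxP1 : Prop := ∀ (L : Type) [Group L] [Finite L] (E : Frame tE7 2 1 (sg 7 1) L)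
  (U : Type) [Group U] [Finite U] (τ α β : U →* L) (R R' : Subgroup L), Core τ α β R R' →
  ∀ c, Rt tE7 c → (E.g c = c ∨ E.g c = -c) → 4 ≤ E.q → ¬ Cen E R {c, -c}

end Cfsg.Agent.Cam.Ex
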