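import Cfsg.Agent.Cam.Ex.Root
import Cfsg.Agent.Cam.Ex.IfaceE
import Cfsg.Agent.Nodes.SimplyLaced
import Cfsg.Agent.Nodes.OppDec

/-!
# Exceptional rows: pairs of root groups in a simply laced group (helper33)

`boxRE : BoxRE`.  A dominant root `θ` is centralized by the positive unipotent group; the Bruhat decomposition moves
a pair of conjugate root groups to a pair of root groups.
-/

set_option autoImplicit false
set_option linter.unusedVariables false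
set_option linter.unusedSectionVars false

namespace Cfsg.Agent.Cam.Ex.RE

open CoxeterSystem Cfsg Cfsg.Lie Subgroup
open Cfsg.Agent.ChevalleyStructure.CoxeterGeom Cfsg.Agent.ChevalleyStructure.CoxeterGeomTypes
open Cfsg.Agent.Tits.Roots Cfsg.Agent.Nodes.BNOf Cfsg.Agent.Nodes.RGDChev Cfsg.Agent.Nodes.Coroot
open Cfsg.Agent.KFacts.RgdChevCoord Cfsg.Agent.BpExc.TorCent Cfsg.Agent.BpExc.LangFr Cfsg.Agent.BpExc.SubBN
open Cfsg.Agent.Nodes.SimplyLaced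
open Cfsg.Agent.DS.Nt (RP)
open scoped commutatorElement

variable {D : ChevalleyDatum} {l : ℕ} {M : CoxeterMatrix (Fin l)} {hp : IsType D l M} {p : ℕ} [Fact p.Prime]

section comb

/-- every vector is conjugate to a dominant one -/
theorem exists_dom (hp : IsType D l M) (v : Lat l) : ∃ w, ∀ b, Rt hp b → 0 ≤ b → 0 ≤ cp hp (wa hp w v) b := by
  have := finite_WW hp
  obtain ⟨w, hw⟩ := Finite.exists_max fun w : M.Group => ht (wa hp w v)
  refine ⟨w, fun b hb h0 => ?_⟩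
  have h1 := RGD.ht_pos hb h0
  obtain ⟨u, j, rfl⟩ := hb
  have h2 := hw (Nodes.SubComb.rfl' M.toCoxeterSystem u j * w)
  rw [wa_mul] at h2
  unfold wa at h2
  rw [rep_rfl'_eq, sub_eq_add_neg, ← neg_smul, RGD.ht_add, RGD.ht_smul] at h2
  exact nonneg_of_mul_nonneg_left (by linarith) h1

variable (h4 : ∀ i j, M i j ≠ 4) (h6 : ∀ i j, M i j ≠ 6)
include h4 h6

theorem cp_cases {x y : Lat l} (hx : Rt hp x) (hy : Rt hp y) :
    x = y ∨ x = -y ∨ cp hp x y = -1 ∨ cp hp x y = 0 ∨ cp hp x y = 1 := by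
  have := finite_WW hp
  by_cases h1 : x = y
  · exact Or.inl h1
  by_cases h2 : x = -y
  · exact Or.inr (Or.inl h2)
  have h3 : |cp hp x y| ≤ 1 := abs_cpr_le_one _ _ h4 h6 hx hy h1 h2
  rw [abs_le] at h3
  omega

theorem cp_symm {x y : Lat l} (hx : Rt hp x) (hy : Rt hp y) : cp hp x y = cp hp y x := by
  have := finite_WW hp
  exact cpr_symm _ _ h4 h6 hx hy

theorem not_btwn {x y z : Lat l} (hx : Rt hp x) (hy : Rt hp y) (h1 : x ≠ y) (h2 : x ≠ -y) (h0 : 0 ≤ cp hp x y) :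
    ¬ Nodes.Reps.Btwn M.toCoxeterSystem hp.isCartan x y z := by
  rintro ⟨hz, m, a, b, hm, ha, hb, e⟩
  have key : ∀ {c}, Rt hp c → m * cp hp z c = a * cp hp x c + b * cp hp y c := fun {c} hc => by
    rw [← cp_smul m z hc, e, cp_add _ _ hc, cp_smul _ _ hc, cp_smul _ _ hc]
  have e1 := key hz
  have e2 := key hx
  have e3 := key hy
  rw [cp_self hz, cp_symm h4 h6 hx hz, cp_symm h4 h6 hy hz] at e1
  rw [cp_self hx, cp_symm h4 h6 hy hx] at e2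
  rw [cp_self hy] at e3
  have hn : cp hp x y = 0 ∨ cp hp x y = 1 := by
    rcases cp_cases h4 h6 hx hy with h | h | h
    exacts [absurd h h1, absurd h h2, by omega]
  rcases cp_cases h4 h6 hz hx with rfl | rfl | hs
  · rw [cp_self hz] at e2
    rcases hn with h | h <;> rw [h] at e2 e3 <;> omega
  · rw [cp_neg _ hx, cp_self hx] at e2
    rcases hn with h | h <;> rw [h] at e2 <;> omega
  rcases cp_cases h4 h6 hz hy with rfl | rfl | ht
  · rw [cp_self hz] at e3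
    rw [cp_symm h4 h6 hz hx] at e2
    rcases hn with h | h <;> rw [h] at e2 e3 <;> omega
  · rw [cp_neg _ hy, cp_self hy] at e3
    rcases hn with h | h <;> rw [h] at e3 <;> omega
  rcases hn with h | h <;> rcases hs with h' | h' | h' <;> rcases ht with h'' | h'' | h'' <;>
    rw [h', h''] at e1 <;> rw [h, h'] at e2 <;> rw [h, h''] at e3 <;> omega

/-- two roots which are not opposite can be made positive -/
theorem exists_pos {x y : Lat l} (hx : Rt hp x) (hy : Rt hp y) (h : x ≠ -y) :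
    ∃ w, 0 ≤ wa hp w x ∧ 0 ≤ wa hp w y := by
  obtain ⟨w, hw⟩ := exists_dom hp (x + y)
  have key : ∀ {a b}, Rt hp a → Rt hp b → a ≠ -b → x + y = a + b → 0 ≤ wa hp w a := by
    intro a b ha hb h1 h2
    refine (ha.wa' w).pos_or_neg.resolve_right fun h3 => ?_
    have h5 := hw _ (ha.wa' w).neg (neg_nonneg.2 h3)
    rw [cp_neg_right _ (ha.wa' w), cp_wa w _ ha, h2, cp_add _ _ ha, cp_self ha] at h5
    rcases cp_cases h4 h6 hb ha with rfl | rfl | h7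
    · rw [cp_self ha] at h5
      omega
    · exact h1 (neg_neg a).symm
    · omega
  exact ⟨w, key hx hy h rfl, key hy hx (fun e => h (by rw [e, neg_neg])) (add_comm x y)⟩

end comb

section grp

/-- the positive unipotent group -/
noncomputable abbrev UU (hp : IsType D l M) (p : ℕ) [Fact p.Prime] : Subgroup (YY D p) :=
  MS D l p (RGD.Pos M.toCoxeterSystem hp.isCartan)

theorem exists_lev2 (hp : IsType D l M) {a b : Lat l} {x y : YY D p} (hx : x ∈ XR D l p a) (hy : y ∈ XR D l p b) :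
    ∃ j, x ∈ BpExc.TowChev.Xj hp j a ∧ y ∈ BpExc.TowChev.Xj hp j b := by
  have H := DS.Nt.tw hp p
  unfold XR at hx hy
  rw [← DS.Nt.XLe hp p] at hx hy
  obtain ⟨i, hi⟩ := H.mem_XL.1 hx
  obtain ⟨j, hj⟩ := H.mem_XL.1 hy
  obtain ⟨k, h1, h2⟩ := H.dir i j
  exact ⟨k, H.monoX a h1 hi, H.monoX b h2 hj⟩

theorem eq_one_of_mem {a b : Lat l} (ha : Rt hp a) (hb : Rt hp b) (h : a ≠ b) {x : YY D p} (hx : x ∈ XR D l p a)
    (hx' : x ∈ XR D l p b) : x = 1 := by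
  have := finite_WW hp
  obtain ⟨j, h1, h2⟩ := exists_lev2 hp hx hx'
  rw [← mem_bot, ← Nodes.OppDec.X_inf_X ((DS.Nt.tw hp p).rgd j) ha hb h]
  exact ⟨h1, h2⟩

theorem pgrp_UU (hp : IsType D l M) : IsPGroup p (UU hp p) := by
  have := finite_WW hp
  have H := DS.Nt.tw hp p
  rintro ⟨g, hg⟩
  have h1 := hg
  unfold UU MS at h1
  rw [← DS.Nt.XLe hp p] at h1
  obtain ⟨j, hj⟩ := H.mem_Sup.1 h1
  obtain ⟨k, hk⟩ := (H.rgd j).isPGroup_Upos ⟨g, hj⟩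
  have h2 : g ^ p ^ k = 1 := congrArg Subtype.val hk
  exact ⟨k, Subtype.ext h2⟩

theorem bruhat (hp : IsType D l M) (y : YY D p) :
    ∃ w, ∃ u ∈ UU hp p, ∃ k, RP hp p w k ∧ ∃ v ∈ UU hp p, y = u * k * v := by
  have := finite_WW hp
  obtain ⟨w, u, hu, k, hk, v, hv, e⟩ := (DS.Nt.tw hp p).exists_normal_form (g := y)
    (by rw [DS.Nt.GGW hp p]; exact mem_top y)
  rw [DS.Nt.XLe hp p] at hu hv
  exact ⟨w, u, hu, k, hk, v, RGD.Sup_mono (S' := RGD.Pos _ _) (fun x hx => ⟨hx.1, hx.2.1⟩) hv, e⟩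

theorem rp_mem {w : M.Group} {k : YY D p} (h : RP hp p w k) {a : Lat l} (ha : Rt hp a) {x : YY D p}
    (hx : x ∈ XR D l p a) : k * x * k⁻¹ ∈ XR D l p (wa hp w a) := by
  obtain ⟨s, rfl⟩ := (mem_XR ha).1 hx
  obtain ⟨μ, -, e⟩ := rp_xc h ha
  rw [e]
  exact xc_mem_XR (ha.wa' w) _

variable (h4 : ∀ i j, M i j ≠ 4) (h6 : ∀ i j, M i j ≠ 6)
include h4 h6

theorem comm_X {a b : Lat l} (ha : Rt hp a) (hb : Rt hp b) (h0 : 0 ≤ cp hp a b) {x y : YY D p}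
    (hx : x ∈ XR D l p a) (hy : y ∈ XR D l p b) : x * y = y * x := by
  by_cases h1 : a = b
  · subst h1
    obtain ⟨s, rfl⟩ := (mem_XR ha).1 hx
    obtain ⟨t, rfl⟩ := (mem_XR ha).1 hy
    rw [← xc_add ha, ← xc_add ha, add_comm]
  have h2 : a ≠ -b := by
    rintro rfl
    rw [cp_neg _ hb, cp_self hb] at h0
    omega
  obtain ⟨j, h3, h5⟩ := exists_lev2 hp hx hy
  have h7 := ((DS.Nt.tw hp p).rgd j).comm a b ha hb h1 h2 x h3 y h5
  have h8 : Nodes.Reps.btw M.toCoxeterSystem hp.isCartan (BpExc.TowChev.Xj hp j) a b ≤ ⊥ :=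
    iSup_le fun z => absurd z.2 (not_btwn h4 h6 ha hb h1 h2 h0)
  exact commutatorElement_eq_one_iff_mul_comm.1 (mem_bot.1 (h8 h7))

/-- the root group of a dominant root is centralized by `U` -/
theorem comm_UU {θ : Lat l} (hθ : Rt hp θ) (hd : ∀ b, Rt hp b → 0 ≤ b → 0 ≤ cp hp θ b) {x u : YY D p}
    (hx : x ∈ XR D l p θ) (hu : u ∈ UU hp p) : u * x = x * u := by
  have h1 : UU hp p ≤ centralizer {x} := RGD.Sup_le fun b hb y hy =>
    mem_centralizer_singleton_iff.2 (comm_X h4 h6 hθ hb.1 (hd b hb.1 hb.2) hx hy).symm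
  exact mem_centralizer_singleton_iff.1 (h1 hu)

/-- a pair of conjugate root groups is conjugate to a pair of root groups -/
theorem exists_pair {a : Lat l} (ha : Rt hp a) (y : YY D p) : ∃ (w0 w : M.Group) (k0 k z : YY D p),
    RP hp p w0 k0 ∧ RP hp p w k ∧ ∀ x ∈ XR D l p a, z * x * z⁻¹ = k0 * x * k0⁻¹ ∧
      z * (y * x * y⁻¹) * z⁻¹ = k * (k0 * x * k0⁻¹) * k⁻¹ := by
  obtain ⟨w0, hd⟩ := exists_dom hp a
  obtain ⟨k0, hk0⟩ := DS.Nt.exists_RP hp p w0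
  obtain ⟨w, u, hu, k, hk, v, hv, e⟩ := bruhat hp (k0 * y * k0⁻¹)
  refine ⟨w0, w, k0, k, u⁻¹ * k0, hk0, hk, fun x hx => ?_⟩
  have h1 := comm_UU h4 h6 (ha.wa' w0) hd (rp_mem hk0 ha hx) hu
  have h2 := comm_UU h4 h6 (ha.wa' w0) hd (rp_mem hk0 ha hx) hv
  constructor
  · calc u⁻¹ * k0 * x * (u⁻¹ * k0)⁻¹ = u⁻¹ * (k0 * x * k0⁻¹ * u) := by group
      _ = _ := by rw [← h1, inv_mul_cancel_left]
  · calc u⁻¹ * k0 * (y * x * y⁻¹) * (u⁻¹ * k0)⁻¹
        = u⁻¹ * (k0 * y * k0⁻¹) * (k0 * x * k0⁻¹) * (k0 * y * k0⁻¹)⁻¹ * u := by group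
      _ = k * (v * (k0 * x * k0⁻¹)) * v⁻¹ * k⁻¹ := by rw [e]; group
      _ = _ := by rw [h2]; group

theorem pair {a : Lat l} (ha : Rt hp a) (y : YY D p) :
    IsPGroup p ↥(XR D l p a ⊔ (XR D l p a).map (MulAut.conj y).toMonoidHom) ∨
    ∃ (z : YY D p) (b : Lat l), Rt hp b ∧ (∀ x ∈ XR D l p a, z * x * z⁻¹ ∈ XR D l p b) ∧
      ∀ x ∈ XR D l p a, z * (y * x * y⁻¹) * z⁻¹ ∈ XR D l p (-b) := by
  obtain ⟨w0, w, k0, k, z, hk0, hk, h⟩ := exists_pair h4 h6 ha y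
  have hθ := ha.wa' w0
  have h1 : ∀ x ∈ XR D l p a, z * x * z⁻¹ ∈ XR D l p (wa hp w0 a) := fun x hx => by
    rw [(h x hx).1]
    exact rp_mem hk0 ha hx
  have h2 : ∀ x ∈ XR D l p a, z * (y * x * y⁻¹) * z⁻¹ ∈ XR D l p (wa hp w (wa hp w0 a)) := fun x hx => by
    rw [(h x hx).2]
    exact rp_mem hk hθ (rp_mem hk0 ha hx)
  by_cases hw : wa hp w (wa hp w0 a) = -wa hp w0 a
  · exact Or.inr ⟨z, _, hθ, h1, hw ▸ h2⟩
  left
  obtain ⟨w1, h3, h5⟩ := exists_pos h4 h6 (hθ.wa' w) hθ hw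
  obtain ⟨k1, hk1⟩ := DS.Nt.exists_RP hp p w1
  refine ((pgrp_UU hp).comap_of_injective (MulAut.conj (k1 * z)).toMonoidHom (MulAut.conj (k1 * z)).injective).to_le
    (sup_le (fun x hx => ?_) ?_)
  · show k1 * z * x * (k1 * z)⁻¹ ∈ UU hp p
    rw [show k1 * z * x * (k1 * z)⁻¹ = k1 * (z * x * z⁻¹) * k1⁻¹ by group]
    exact RGD.le_Sup (S := RGD.Pos _ _) ⟨hθ.wa' w1, h5⟩ (rp_mem hk1 hθ (h1 x hx))
  · rintro _ ⟨x, hx, rfl⟩
    show k1 * z * (y * x * y⁻¹) * (k1 * z)⁻¹ ∈ UU hp p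
    rw [show k1 * z * (y * x * y⁻¹) * (k1 * z)⁻¹ = k1 * (z * (y * x * y⁻¹) * z⁻¹) * k1⁻¹ by group]
    exact RGD.le_Sup (S := RGD.Pos _ _) ⟨(hθ.wa' w).wa' w1, h3⟩ (rp_mem hk1 (hθ.wa' w) (h2 x hx))

theorem cent {a : Lat l} (ha : Rt hp a) {u : YY D p} (hu : u ∈ XR D l p a) (hu1 : u ≠ 1) {y : YY D p}
    (hy : y * u = u * y) {x : YY D p} (hx : x ∈ XR D l p a) : y * x = x * y := by
  obtain ⟨w0, w, k0, k, z, hk0, hk, h⟩ := exists_pair h4 h6 ha y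
  have hθ := ha.wa' w0
  have h1 : k * (k0 * u * k0⁻¹) * k⁻¹ = k0 * u * k0⁻¹ := by
    rw [← (h u hu).2, hy, mul_inv_cancel_right, (h u hu).1]
  have h2 : k0 * u * k0⁻¹ ≠ 1 := fun e => hu1 (by
    calc u = k0⁻¹ * (k0 * u * k0⁻¹) * k0 := by group
      _ = 1 := by rw [e]; group)
  have h3 : wa hp w (wa hp w0 a) = wa hp w0 a := by
    by_contra h3
    exact h2 (eq_one_of_mem (hθ.wa' w) hθ h3 (h1 ▸ rp_mem hk hθ (rp_mem hk0 ha hu)) (rp_mem hk0 ha hu))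
  obtain ⟨μ, -, e⟩ := rp_xc hk hθ
  obtain ⟨s, hs⟩ := (mem_XR hθ).1 (rp_mem hk0 ha hu)
  obtain ⟨t, ht⟩ := (mem_XR hθ).1 (rp_mem hk0 ha hx)
  have hs0 : s ≠ 0 := by
    rintro rfl
    exact h2 (by rw [← hs, xc_zero hθ])
  rw [← hs, e, h3] at h1
  have h5 : μ = 1 := mul_right_cancel₀ hs0 ((xc_injective hθ h1).trans (one_mul s).symm)
  have h7 : z * (y * x * y⁻¹) * z⁻¹ = z * x * z⁻¹ := by
    rw [(h x hx).2, (h x hx).1, ← ht, e, h3, h5, one_mul]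
  exact mul_inv_eq_iff_eq_mul.1 (mul_left_cancel (mul_right_cancel h7))

end grp

set_option backward.isDefEq.respectTransparency false in
theorem e7_ne4 : ∀ i j, CoxeterMatrix.E₇ i j ≠ 4 := by decide +kernel

set_option backward.isDefEq.respectTransparency false in
theorem e7_ne6 : ∀ i j, CoxeterMatrix.E₇ i j ≠ 6 := by decide +kernel

theorem perp_tab : ∀ i : Fin 7, ∀ r < chevE7.nroots, vec chevE7 7 r = sr i ∨ vec chevE7 7 r = -sr i ∨
    ∃ s < chevE7.nroots, pairing (cartanOf chevE7 7) i (vec chevE7 7 s) = 0 ∧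
      ∑ k, vec chevE7 7 s k * pairing (cartanOf chevE7 7) k (vec chevE7 7 r) ≠ 0 := by decide +kernel

theorem perp {c : Lat 7} (hc : Rt tE7 c) {b : Lat 7} (hb : Rt tE7 b)
    (h : ∀ a, Rt tE7 a → cp tE7 a c = 0 → cp tE7 a b = 0) : b = c ∨ b = -c := by
  have := finite_WW tE7
  obtain ⟨w, i, rfl⟩ := hc
  obtain ⟨r, hr, e⟩ := (isRoot_iff tE7 _ _).1 (hb.wa' w⁻¹)
  have e' : b = wa tE7 w (vec chevE7 7 r) := by rw [e, wa_wa_inv]
  rcases perp_tab i r hr with h1 | h1 | ⟨s, hs, h1, h2⟩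
  · exact Or.inl (by rw [e', h1])
  · exact Or.inr (by rw [e', h1, wa_neg])
  · have hs' : Rt tE7 (vec chevE7 7 s) := (isRoot_iff tE7 _ _).2 ⟨s, hs, rfl⟩
    have hr' : Rt tE7 (vec chevE7 7 r) := (isRoot_iff tE7 _ _).2 ⟨r, hr, rfl⟩
    have h3 := h _ (hs'.wa' w) ((cp_wa w _ (rt_sr tE7 i)).trans ((cpr_sr _ _ _ i).trans h1))
    rw [e', cp_wa w _ hr'] at h3
    exact absurd ((cpr_eq_sum _ _ e7_ne4 e7_ne6 _ hr').symm.trans h3) h2

/-- **`BoxRE`.** -/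
theorem boxRE : BoxRE where
  pair a ha y := pair e7_ne4 e7_ne6 ha y
  cent a ha u hu hu1 y hy x hx := cent e7_ne4 e7_ne6 ha hu hu1 hy hx
  perp c hc b hb h := perp hc hb h

end Cfsg.Agent.Cam.Ex.RE
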