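import Cfsg.Agent.Cam.Ex.Out3A
import Cfsg.Agent.Cam.Ex.IfaceE
import Cfsg.Agent.DS.Ex.ExtU

/-!
# Exceptional rows: automorphisms of `L` extend to the ambient group (helper33)

`boxFExt : BoxFExt`, from the factorisation inner · diagonal · graph · field.
-/

set_option autoImplicit false
set_option linter.unusedVariables false
set_option linter.unusedSectionVars false

namespace Cfsg.Agent.Cam.Ex.FExt

open CoxeterSystem Cfsg Cfsg.Lie Subgroup
open Cfsg.Agent.ChevalleyStructure.CoxeterGeom Cfsg.Agent.ChevalleyStructure.CoxeterGeomTypes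
open Cfsg.Agent.Tits.Roots Cfsg.Agent.Nodes.BNOf Cfsg.Agent.Nodes.RGDChev Cfsg.Agent.Nodes.Coroot
open Cfsg.Agent.KFacts.RgdChevCoord Cfsg.Agent.BpExc.TorCent Cfsg.Agent.BpExc.LangFr Cfsg.Agent.BpExc.SubBN
open Cfsg.Agent.BpExc Cfsg.Agent.Cam.Ex.Out3
open Cfsg.Agent.GpExc.Field (emb emb_injective)

variable {D : ChevalleyDatum} {l : ℕ} {M : CoxeterMatrix (Fin l)} {hp : IsType D l M} {p : ℕ} [Fact p.Prime]
  {d : ℕ} {L : Type} [Group L]

/-- every untwisted frame is conjugate to a standard one -/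
theorem exists_std' (E : Frame hp p d (sg l 1) L) :
    ∃ E' : Frame hp p d (sg l 1) L, E.Cj E' ∧ E'.F = FamUntw.phi D (kb p) p E.e := by
  obtain ⟨w, hw⟩ := E.gr
  obtain ⟨n, hn⟩ := DS.Nt.exists_RP hp p w⁻¹
  obtain ⟨z, hz⟩ := E.exists_move n
  rw [← hz] at hn
  obtain ⟨t, ht, hF⟩ := exists_tor_phi (E.move z w⁻¹ hn) fun a => by
    rw [Frame.move_g, hw, wa_inv_wa, sg_apply, Units.val_one, one_smul]
  obtain ⟨z', hz'⟩ := (E.move z w⁻¹ hn).exists_move t⁻¹
  have hn' : DS.Nt.RP hp p 1 (z'⁻¹ * (E.move z w⁻¹ hn).F z') := by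
    rw [hz']
    exact DS.Nt.RP.of_mem (inv_mem ht)
  refine ⟨(E.move z w⁻¹ hn).move z' 1 hn', ⟨rfl, z * z', fun x => ?_⟩, ?_⟩
  · rw [Frame.move_ι, Frame.move_ι]
    group
  · rw [Frame.move_F, hz', hF, ← mul_assoc, ← map_mul, inv_mul_cancel, map_one, one_mul]
    rfl

/-- the group of an untwisted frame, with its embedding -/
theorem exists_iso (E : Frame hp p d (sg l 1) L) {d' : ℕ} {B : Fin l → Fin l → ℤ}
    (hB : H129.TorusChar.InvC D l d' B) (hd : d' ≠ 0) (hd1 : d' = 1 ∨ d'.Prime) (F : Type) [Field F] [Fintype F]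
    [CharP F p] (hF : Nat.card F = p ^ E.e) (hK : IsSimpleGroup ↥(D.group F) ∧ ¬ IsMulCommutative ↥(D.group F))
    (f : F →+* kb p) : ∃ (e : L ≃* ↥(D.group F)) (z : YY D p), ∀ x, emb hp.inList f (e x) = z⁻¹ * E.ι x * z := by
  obtain ⟨E', ⟨-, z, hz⟩, hE'⟩ := exists_std' E
  have hq : Fintype.card F = p ^ E.e := by rw [← hF, Nat.card_eq_fintype_card]
  obtain ⟨m, h1, h2, -, -⟩ := H28.GenF.mdata_std' (r := p) hp F hB hd hd1 f E.he hF
  have hspl : Frm.Spl m := by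
    intro y hy
    rw [h1]
    refine H129.TorusUntw.fix_split hp f hq ?_
    apply Subtype.ext
    rw [H129.TorusUntw.coe_phi]
    rw [h2] at hy
    refine Eq.trans ?_ (congrArg Subtype.val hy)
    apply Units.ext
    ext i j
    exact (iterateFrobenius_def p E.e _).trans (FamField.frb_apply _ p E.e _).symm
  have hσ : m.σ = E'.F := h2.trans hE'.symm
  have h3 : E'.ι.range = m.ι.range := by
    apply le_antisymm
    · exact range_le E'.simple E'.noncomm fun x y =>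
        Frm.der_of_spl hspl (by rw [hσ, E'.fix]) (by rw [hσ, E'.fix])
    · exact range_le hK.1 hK.2 fun x y => E'.der _ _ (by rw [← hσ, m.fix]) (by rw [← hσ, m.fix])
  refine ⟨(MonoidHom.ofInjective E'.inj).trans ((MulEquiv.subgroupCongr h3).trans
    (MonoidHom.ofInjective m.inj).symm), z, fun x => ?_⟩
  rw [← hz, ← h1]
  exact MonoidHom.apply_ofInjective_symm m.inj _

/-- **The extension**, for the types without graph automorphisms. -/
theorem exists_ext (E : Frame hp p d (sg l 1) L) {d' : ℕ} {B : Fin l → Fin l → ℤ}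
    (hB : H129.TorusChar.InvC D l d' B) (hB' : FamExt.InvC D l d' B) (hd : d' ≠ 0) (hd1 : d' = 1 ∨ d'.Prime)
    (hK : ∀ (F : Type) [Field F], IsSimpleGroup ↥(D.group F) ∧ ¬ IsMulCommutative ↥(D.group F))
    (hs : ∀ π : Equiv.Perm (Fin D.rank), D.IsDiagramSymmetry π → π = 1) (θ : MulAut L) :
    ∃ (y : YY D p) (j : ℕ), ∀ x, E.ι (θ x) = y * FamUntw.phi D (kb p) p j (E.ι x) * y⁻¹ := by
  have := Fintype.ofFinite (GaloisField p E.e)
  obtain ⟨f⟩ := RowsUntw.exists_emb p (GaloisField p E.e)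
  obtain ⟨e, z, he⟩ := exists_iso E hB hd hd1 (GaloisField p E.e) (GaloisField.card p E.e E.he.ne') (hK _) f
  obtain ⟨x0, δ, g, φ, h1, h2, h3, h4⟩ := H79.Steinberg.exists_fac hp.inList ((e.symm.trans θ).trans e)
  obtain ⟨τ, rfl⟩ := H296.ESixGF.eq_fld hp h3
  obtain ⟨j, hj⟩ := FamField.exists_pow_eq p τ
  obtain ⟨t, -, ht⟩ := H296.Core.diag_ext hp f hB' hd
    (fun c _ => IsAlgClosed.exists_pow_nat_eq (f c) (Nat.pos_of_ne_zero hd)) h1
  have h5 : ∀ a, emb hp.inList f (CpAut.RgdUntw.fld D τ a) = FamUntw.phi D (kb p) p j (emb hp.inList f a) := fun a =>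
    (FamExt.fld_emb hp f (fun a => by rw [FamField.frb_apply, hj, map_pow]) a).symm
  refine ⟨z * (emb hp.inList f x0 * t) * (FamUntw.phi D (kb p) p j z)⁻¹, j, fun x => ?_⟩
  have h6 := congrArg (emb hp.inList f) (h4 (e x))
  rw [MulEquiv.trans_apply, MulEquiv.trans_apply, MulEquiv.symm_apply_apply, he, map_mul, map_mul, map_inv, ht,
    DS.Ex.Untw.eq_one_of_symm hp.inList hs h2, MulAut.one_apply, h5, he, map_mul, map_mul, map_inv] at h6
  calc E.ι (θ x) = z * (z⁻¹ * E.ι (θ x) * z) * z⁻¹ := by group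
    _ = _ := by rw [h6]; group

/-- **`BoxFExt`.** -/
theorem boxFExt : BoxFExt := by
  intro L _ _ E θ
  obtain ⟨y, j, h⟩ := exists_ext E H129.TorusChar.invC_E7 FamInst.inv_E7 (by norm_num) (Or.inr Nat.prime_two)
    (fun F _ => S1054.result _ (by simp)) (fun _ => H79.DiagSymm.eq_one_E7) θ
  exact ⟨y, _, _, FamInst.phi_fr tE7 _ 2 (H469.Exc.locFin 2) j, h⟩

end Cfsg.Agent.Cam.Ex.FExt
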