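import Cfsg.Agent.Cam.Ex.IfaceB
import Cfsg.Agent.OrdDiv.Table
import Cfsg.Agent.H436.Core3719
import Cfsg.Agent.H809.SelfCentPSU
import Cfsg.Agent.H171.AltGoal
import Cfsg.Agent.H528.PDAlt.Main
import Cfsg.Agent.J2Type.A5Facts
import Cfsg.Agent.H55.OutGen
import Cfsg.Agent.H183.OutPSU
import Cfsg.Agent.S0243
import Cfsg.Agent.SmallSimple.S1000.PSLFacts
import Cfsg.Agent.SolvableStructure.HallConverse

/-!
# The simple groups with all prime divisors at most five (helper86, task 267)

`boxGrp5 : Big → BoxGrp5`.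
-/

set_option autoImplicit false

namespace Cfsg.Agent.Cam.Ex.Grp5

open Cfsg Subgroup

/-- the elements of order five are centralized by their powers only -/
def SC5 (U : Type) [Group U] : Prop := ∀ u t : U, orderOf u = 5 → t * u = u * t → t ∈ zpowers u

theorem sc5_congr {U V : Type} [Group U] [Group V] (e : U ≃* V) (h : SC5 V) : SC5 U := by
  intro u t hu ht
  have h1 := h (e u) (e t) (by rw [e.orderOf_eq, hu]) (by rw [← map_mul, ← map_mul, ht])
  obtain ⟨k, hk⟩ := mem_zpowers_iff.1 h1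
  refine mem_zpowers_iff.2 ⟨k, e.injective ?_⟩
  rw [map_zpow, hk]

/-- a self-centralizing subgroup of order five is a Sylow subgroup -/
theorem sc5_of_self {U : Type} [Group U] [Finite U] {R : Subgroup U} (hR : Nat.card R = 5)
    (hC : centralizer (R : Set U) = R) : SC5 U := by
  have : Fact (Nat.Prime 5) := ⟨by norm_num⟩
  have hRp : IsPGroup 5 R := IsPGroup.of_card (n := 1) (by rw [hR]; rfl)
  obtain ⟨P, hP⟩ := hRp.exists_le_sylow
  have hRne : R ≠ ⊥ := by
    intro h
    rw [h, card_bot] at hR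
    omega
  have : Nontrivial (P : Subgroup U) := by
    rw [Subgroup.nontrivial_iff_ne_bot]
    intro h
    exact hRne (le_bot_iff.1 (h ▸ hP))
  have hnt := P.isPGroup'.center_nontrivial
  obtain ⟨⟨z, hz⟩, hz1⟩ := exists_ne (1 : center (P : Subgroup U))
  have hz1' : (z : U) ≠ 1 := fun h => hz1 (Subtype.ext (Subtype.ext h))
  have hzc : ∀ y ∈ (P : Subgroup U), y * (z : U) = z * y := fun y hy =>
    congrArg Subtype.val (mem_center_iff.1 hz ⟨y, hy⟩)
  have hzR : (z : U) ∈ R := by
    rw [← hC, mem_centralizer_iff]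
    exact fun y hy => hzc y (hP hy)
  have hzz : zpowers (z : U) = R := by
    have hle : zpowers (z : U) ≤ R := (zpowers_le).2 hzR
    have hd : Nat.card (zpowers (z : U)) ∣ 5 := (card_dvd_of_le hle).trans (dvd_of_eq hR)
    rcases (Nat.dvd_prime (by norm_num)).1 hd with h | h
    · rw [Nat.card_zpowers, orderOf_eq_one_iff] at h
      exact absurd h hz1'
    · exact eq_of_le_of_card_ge hle (by rw [h, hR])
  have hPR : (P : Subgroup U) = R := by
    refine le_antisymm (fun y hy => ?_) hP
    rw [← hC, mem_centralizer_iff]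
    intro x hx
    rw [SetLike.mem_coe, ← hzz] at hx
    obtain ⟨k, rfl⟩ := mem_zpowers_iff.1 hx
    exact ((show Commute y (z : U) from hzc y hy).zpow_right k).eq.symm
  intro u t hu ht
  have hup : IsPGroup 5 (zpowers u) := IsPGroup.of_card (n := 1) (by rw [Nat.card_zpowers, hu]; rfl)
  obtain ⟨Q, hQ⟩ := hup.exists_le_sylow
  obtain ⟨g, hg⟩ := MulAction.exists_smul_eq U Q P
  have hmem : g * u * g⁻¹ ∈ R := by
    rw [← hPR, ← hg, Sylow.coe_subgroup_smul]
    exact Subgroup.smul_mem_pointwise_smul u (MulAut.conj g) _ (hQ (mem_zpowers u))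
  have hord : orderOf (g * u * g⁻¹) = 5 := by
    rw [← hu]
    exact (MulAut.conj g).orderOf_eq u
  have hzz' : zpowers (g * u * g⁻¹) = R :=
    eq_of_le_of_card_ge (zpowers_le.2 hmem) (by rw [Nat.card_zpowers, hord, hR])
  have ht' : g * t * g⁻¹ ∈ R := by
    rw [← hC, mem_centralizer_iff]
    intro x hx
    rw [SetLike.mem_coe, ← hzz'] at hx
    obtain ⟨k, rfl⟩ := mem_zpowers_iff.1 hx
    have hc : Commute (g * t * g⁻¹) (g * u * g⁻¹) := by
      show g * t * g⁻¹ * (g * u * g⁻¹) = g * u * g⁻¹ * (g * t * g⁻¹)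
      calc g * t * g⁻¹ * (g * u * g⁻¹) = g * (t * u) * g⁻¹ := by group
        _ = g * (u * t) * g⁻¹ := by rw [ht]
        _ = _ := by group
    exact (hc.zpow_right k).eq.symm
  rw [← hzz'] at ht'
  obtain ⟨k, hk⟩ := mem_zpowers_iff.1 ht'
  refine mem_zpowers_iff.2 ⟨k, ?_⟩
  rw [conj_zpow] at hk
  exact mul_left_cancel (mul_right_cancel hk)

theorem sc5_five : SC5 (alternatingGroup (Fin 5)) := fun _ _ hu ht =>
  J2Type.A5Facts.mem_zpowers_of_comm (MulEquiv.refl _) hu ht

theorem sc5_six : SC5 (alternatingGroup (Fin 6)) := by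
  intro u t hu ht
  have h1 := H528.PDAlt.cent6_five hu
  have hle : zpowers u ≤ centralizer ({u} : Set (alternatingGroup (Fin 6))) :=
    zpowers_le.2 (mem_centralizer_singleton_iff.2 rfl)
  have h2 : zpowers u = centralizer ({u} : Set (alternatingGroup (Fin 6))) :=
    eq_of_le_of_card_ge hle (by rw [Nat.card_zpowers, hu]; exact Nat.le_of_dvd (by norm_num) h1)
  rw [h2]
  exact mem_centralizer_singleton_iff.2 ht

/-- if the outer automorphism group is a `2`-group then the automorphisms of odd order are inner -/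
theorem inner_of_out {U : Type} [Group U] [Finite U]
    (h : ∀ p : ℕ, p.Prime → p ∣ Nat.card (Cfsg.Out U) → p = 2) (σ : MulAut U) (hσ : Odd (orderOf σ)) :
    ∃ t : U, σ = MulAut.conj t := by
  have h1 : orderOf (QuotientGroup.mk' (Cfsg.Inn U) σ) = 1 := by
    by_contra hne
    obtain ⟨p, hp, hd⟩ := Nat.exists_prime_and_dvd hne
    have h2 : p = 2 := h p hp (hd.trans (orderOf_dvd_natCard _))
    subst h2
    exact (Nat.not_even_iff_odd.2 hσ) (even_iff_two_dvd.2 (hd.trans (orderOf_map_dvd _ σ)))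
  rw [orderOf_eq_one_iff, QuotientGroup.mk'_apply, QuotientGroup.eq_one_iff] at h1
  obtain ⟨t, ht⟩ := h1
  exact ⟨t, ht.symm⟩

theorem card_out_u42 {F : Type} [Field F] [Fintype F] (hF : Fintype.card F = 4) :
    Nat.card (Cfsg.Out (PSU 4 F 2)) = 2 := by
  have : Fact (Nat.Prime 2) := ⟨Nat.prime_two⟩
  obtain ⟨φ, hs, -, hk⟩ := H183.OutPSU.out_psu (K := F) (p := 2) (f := 1) (q := 2) (n := 4) le_rfl (by norm_num)
    (by rw [hF]; norm_num) (by norm_num) (by norm_num)
  have hk' : φ.ker = ⊥ := by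
    rw [← Subgroup.card_eq_one, hk]
    norm_num
  have hb : Function.Bijective φ := ⟨(MonoidHom.ker_eq_bot_iff φ).1 hk', hs⟩
  rw [Nat.card_eq_of_bijective φ hb]
  simp

theorem three_primes {U : Type} [Group U] [Finite U] [IsSimpleGroup U] (hU : ¬ IsMulCommutative U)
    (h5 : ∀ r : ℕ, r.Prime → r ∣ Nat.card U → r ≤ 5) : (Nat.card U).primeFactors.card = 3 := by
  have hle : (Nat.card U).primeFactors ⊆ {2, 3, 5} := by
    intro r hr
    have hp := Nat.prime_of_mem_primeFactors hr
    have h1 := h5 r hp (Nat.dvd_of_mem_primeFactors hr)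
    have h2 := hp.two_le
    have h4 : r ≠ 4 := by
      rintro rfl
      norm_num at hp
    simp only [Finset.mem_insert, Finset.mem_singleton]
    omega
  have h3 : (Nat.card U).primeFactors.card ≤ 3 := (Finset.card_le_card hle).trans (by decide)
  by_contra hne
  have := SolvableStructure.HallConverse.isSolvable_of_no_three_primes (G := U) (by omega)
  exact hU ⟨⟨IsSimpleGroup.comm_iff_isSolvable.2 ‹_›⟩⟩

/-- **The simple groups whose order has no prime divisor above five.** -/
theorem list5 (big : Big) {U : Type} [Group U] [Finite U] [IsSimpleGroup U] (hU : ¬ IsMulCommutative U)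
    (h5 : ∀ r : ℕ, r.Prime → r ∣ Nat.card U → r ≤ 5) :
    Nonempty (U ≃* alternatingGroup (Fin 5)) ∨ Nonempty (U ≃* alternatingGroup (Fin 6)) ∨
      ∃ (F : Type) (_ : Field F) (_ : Fintype F), Fintype.card F = 4 ∧ Nonempty (U ≃* PSU 4 F 2) := by
  obtain ⟨g, hg⟩ := H436.exists_named OrdDiv.table (big.cf U) fun h => hU ⟨⟨h⟩⟩
  have no : ∀ r n : ℕ, r.Prime → 5 < r → r ∣ n → Nat.card U ≠ n := fun r n hr h1 h2 h3 =>
    absurd (h5 r hr (h3 ▸ h2)) (by omega)
  rcases H436.Core3719.core hg (three_primes hU h5) with h | h | ⟨F, _, _, hF, ⟨e⟩⟩ | ⟨F, _, _, hF, ⟨e⟩⟩ |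
    ⟨F, _, _, hF, ⟨e⟩⟩ | h
  · exact Or.inl h
  · exact Or.inr (Or.inl h)
  · exfalso
    have hc := Nat.card_congr e.toEquiv
    rcases hF with hF | hF | hF
    · have h := S0243.result hF 2 le_rfl
      rw [← hc] at h
      simp only [Fin.prod_univ_two] at h
      norm_num at h
      exact no 7 168 (by norm_num) (by norm_num) (by norm_num) (by omega)
    · have h := S0243.result hF 2 le_rfl
      rw [← hc] at h
      simp only [Fin.prod_univ_two] at h
      norm_num at h
      exact no 7 504 (by norm_num) (by norm_num) (by norm_num) (by omega)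
    · have h := S0243.result hF 2 le_rfl
      rw [← hc] at h
      simp only [Fin.prod_univ_two] at h
      norm_num at h
      exact no 17 2448 (by norm_num) (by norm_num) (by norm_num) (by omega)
  · exfalso
    have hc := Nat.card_congr e.toEquiv
    have h := S0243.result hF 3 (by norm_num)
    rw [← hc] at h
    simp only [Fin.prod_univ_three] at h
    norm_num at h
    exact no 13 5616 (by norm_num) (by norm_num) (by norm_num) (by omega)
  · exfalso
    have hc := Nat.card_congr e.toEquiv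
    rw [SmallSimple.PSLFacts.card_psu_three_three hF] at hc
    exact no 7 6048 (by norm_num) (by norm_num) (by norm_num) hc
  · exact Or.inr (Or.inr h)

/-- **Task 267.** -/
theorem boxGrp5 (big : Big) : BoxGrp5 := by
  intro U _ _ hs hU h5
  rcases list5 big hU h5 with ⟨⟨e⟩⟩ | ⟨⟨e⟩⟩ | ⟨F, _, _, hF, ⟨e⟩⟩
  · refine ⟨sc5_congr e sc5_five, inner_of_out fun p hp hd => ?_⟩
    rw [H55.OutGen.card_out_congr e] at hd
    exact H171.AltGoal.prime_out le_rfl hp hd
  · refine ⟨sc5_congr e sc5_six, inner_of_out fun p hp hd => ?_⟩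
    rw [H55.OutGen.card_out_congr e] at hd
    exact H171.AltGoal.prime_out (by norm_num) hp hd
  · obtain ⟨R, hR, hC⟩ := H809.SelfCent.psu_four_two (F := F) (by rw [hF]; norm_num)
    refine ⟨sc5_congr e (sc5_of_self hR hC), inner_of_out fun p hp hd => ?_⟩
    rw [H55.OutGen.card_out_congr e, card_out_u42 hF] at hd
    exact (Nat.prime_dvd_prime_iff_eq hp Nat.prime_two).1 hd

end Cfsg.Agent.Cam.Ex.Grp5
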