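import Cfsg.Agent.Cam.Ex.K
import Cfsg.Agent.Nodes.SimplyLaced

/-!
# S3689, S3690, exceptional rows: `K4` for `F₄`, `E₆`, and `E₇` in odd characteristic (helper53)
-/

set_option autoImplicit false
set_option linter.unusedVariables false
set_option linter.unusedSectionVars false

namespace Cfsg.Agent.Cam.Ex.En

open CoxeterSystem Cfsg Cfsg.Lie Subgroup
open Cfsg.Agent.ChevalleyStructure.CoxeterGeom Cfsg.Agent.ChevalleyStructure.CoxeterGeomTypes
open Cfsg.Agent.Tits.Roots Cfsg.Agent.Nodes.BNOf Cfsg.Agent.Nodes.RGDChev Cfsg.Agent.Nodes.Coroot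
open Cfsg.Agent.KFacts.RgdChevCoord Cfsg.Agent.BpExc.TorCent Cfsg.Agent.BpExc.LangFr Cfsg.Agent.BpExc.SubBN
open Cfsg.Agent.Cam.Spor Cfsg.Agent.Cam.Ex.S2
open Cfsg.Agent.ChevalleyStructure.SL2Hom (up lo)
open Cfsg.Agent.Nodes.RGDFoldSL (hS wS)
open Cfsg.Agent.DS.Nt (RP)
open Cfsg.Agent.H129.TorusChar (cX isMC_cX cX_root)
open scoped commutatorElement

variable {D : ChevalleyDatum} {l : ℕ} {M : CoxeterMatrix (Fin l)} {hp : IsType D l M} {p : ℕ} [Fact p.Prime]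

/-- the reflection in a root -/
theorem exists_refl {c : Lat l} (hc : Rt hp c) {S : Set (Lat l)} (hS : c ∈ S) :
    ∃ v ∈ WW hp S, ∀ x, wa hp v x = x - cp hp x c • c := by
  have := finite_WW hp
  obtain ⟨w, i, rfl⟩ := hc
  exact ⟨_, subset_closure ⟨w, i, hS, rfl⟩, rep_rfl'_eq _ _ w i⟩

/-- a torus element killed by the roots of `S` centralizes `M_S` -/
theorem comm_MS {S : Set (Lat l)} (hS : ∀ a ∈ S, Rt hp a) {t : YY D p} (ht : t ∈ TT D (kb p))
    (h : ∀ a ∈ S, ch hp a t = 1) {m : YY D p} (hm : m ∈ MS D l p S) : m * t = t * m := by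
  refine MS_comm (hp := hp) (Q := {t}) (by rintro _ rfl; exact ht) (RGD.Sup_mono ?_ hm) rfl
  exact fun a ha => ⟨hS a ha, by rintro _ rfl; exact h a ha⟩

theorem exists_fix_pow {μ : kb p} (hμ : μ ≠ 0) {q : ℕ} (hq : 2 ≤ q) : ∃ s : kb p, s ≠ 0 ∧ μ * s ^ q = s := by
  obtain ⟨s, hs⟩ := IsAlgClosed.exists_pow_nat_eq μ⁻¹ (n := q - 1) (by omega)
  refine ⟨s, ?_, ?_⟩
  · rintro rfl
    rw [zero_pow (by omega)] at hs
    exact inv_ne_zero hμ hs.symm
  · rw [show q = q - 1 + 1 by omega, pow_succ, hs, ← mul_assoc, mul_inv_cancel₀ hμ, one_mul]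

variable {d : ℕ} {g0 : Lat l ≃+ Lat l} {L : Type} [Group L]

theorem two_le_q (E : Frame hp p d g0 L) : 2 ≤ E.q :=
  le_trans (Fact.out : p.Prime).two_le (Nat.le_self_pow E.he.ne' p)

theorem neg_one_pow_q (E : Frame hp p d g0 L) : (-1 : kb p) ^ E.q = -1 := neg_one_pow_char_pow (kb p) p E.e

/-- the Frobenius map on the root `SL₂` of a fixed root -/
theorem sl_frob (E : Frame hp p d g0 L) {c : Lat l} (hc : Rt hp c) (hg : E.g c = c) : ∃ μ : kb p, μ ≠ 0 ∧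
    (∀ s, E.F (xc hp c s) = xc hp c (μ * s ^ E.q)) ∧ ∀ s, E.F (xc hp (-c) s) = xc hp (-c) (μ⁻¹ * s ^ E.q) := by
  obtain ⟨μ, hμ, h1⟩ := E.pw c hc
  obtain ⟨ν, hν, h2⟩ := E.pw (-c) hc.neg'
  rw [hg] at h1
  rw [map_neg, hg] at h2
  have h3 : μ * ν = 1 := by
    refine (sl_ck hc).braid hμ ?_
    have e1 := h1 1
    have e2 := h2 (-1)
    rw [one_pow, mul_one] at e1
    rw [show (-1 : kb p) ^ p ^ E.e = -1 from neg_one_pow_q E, mul_neg, mul_one] at e2
    have e3 := congrArg (fun x => E.F (sl p hc x)) (braid0 (k := kb p))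
    simp only [map_mul, sl_up, sl_lo, e1, e2] at e3
    simpa only [sl_up, sl_lo] using e3
  exact ⟨μ, hμ, h1, by rw [inv_eq_of_mul_eq_one_right h3]; exact h2⟩

theorem xc_mem_range (E : Frame hp p d g0 L) {c : Lat l} (hc : Rt hp c) {s : kb p} (h : E.F (xc hp c s) = xc hp c s) :
    xc hp c s ∈ E.ι.range := E.mem_range h E.cop (xc_pow_p hc s)

/-- moving the frame inside `M_S` -/
theorem exists_move_MS (E : Frame hp p d g0 L) {S : Set (Lat l)} (hS : ∀ a ∈ S, Rt hp a) (hn : ∀ a ∈ S, -a ∈ S)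
    (hg : ∀ a ∈ S, E.g a ∈ S) {v : M.Group} (hv : v ∈ WW hp S) :
    ∃ z ∈ MS D l p S, RP hp p v (z⁻¹ * E.F z) := by
  obtain ⟨m, hm, hr⟩ := DS.Ex.Tor.exists_rp_MS (p := p) hS hn hv
  obtain ⟨z, hz, e⟩ := lang_fr hp M.toCoxeterSystem E.he E.frob E.fr hS hg hm
  exact ⟨z, hz, e ▸ hr⟩

theorem exists_move_fix (E : Frame hp p d g0 L) {c : Lat l} (hc : Rt hp c) (hg : E.g c = c ∨ E.g c = -c) :
    ∃ E' : Frame hp p d g0 L, E'.e = E.e ∧ E'.g c = c ∧ ∃ z ∈ MS D l p {c, -c}, ∀ x, E'.ι x = z⁻¹ * E.ι x * z := by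
  rcases hg with hg | hg
  · exact ⟨E, rfl, hg, 1, one_mem _, fun x => by rw [inv_one, one_mul, mul_one]⟩
  obtain ⟨v, hv, e⟩ := exists_refl hc (S := {c, -c}) (Or.inl rfl)
  obtain ⟨z, hz, h⟩ := exists_move_MS E (S := {c, -c}) (by rintro _ (rfl | rfl); exacts [hc, hc.neg'])
    (by rintro _ (rfl | rfl); exacts [Or.inr rfl, Or.inl (neg_neg _)])
    (by rintro _ (rfl | rfl); exacts [Or.inr hg, Or.inl (by rw [map_neg, hg, neg_neg])]) hv
  refine ⟨E.move z v h, rfl, ?_, z, hz, E.move_ι z v h⟩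
  rw [E.move_g, hg, e, cp_neg c hc, cp_self hc, neg_smul, two_smul]
  abel

variable [Finite L] {U : Type} [Group U] [Finite U] {τ α β : U →* L} {R R' : Subgroup L} {E : Frame hp p d g0 L}
  {r : ℕ} {ζ : kb p} {u v : U} {A B : Lat l →+ ZMod r}

theorem sup_le_MS (h : Dat E τ α β R R' r ζ u v A B) :
    (α.range ⊔ R').map E.ι ≤ MS D l p (Psi hp A ∪ Psi hp B) := by
  have : NeZero r := ⟨h.prime.ne_zero⟩
  rw [Subgroup.map_sup, sup_le_iff]
  constructor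
  · refine le_trans (E.perf_le (Q := {E.ι (β u)}) h.prime ?_ (range_perfect h.core.simple h.core.noncomm α) ?_) ?_
    · rintro _ rfl
      exact ⟨h.chiB.1, h.chiB.pow_eq_one h.prim⟩
    · rintro _ rfl _ ⟨y, rfl⟩
      rw [← map_mul, ← h.core.ab, map_mul]
    · rw [h.chiB.psiS h.prim]
      exact RGD.Sup_mono Set.subset_union_right
  · refine le_trans (E.perf_le (Q := {E.ι (α u)}) h.prime ?_ h.core.pair'.perfect ?_) ?_
    · rintro _ rfl
      exact ⟨h.chiA.1, h.chiA.pow_eq_one h.prim⟩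
    · rintro _ rfl y hy
      rw [← map_mul, h.core.pair'.comm u y hy, map_mul]
    · rw [h.chiA.psiS h.prim]
      exact RGD.Sup_mono Set.subset_union_left

theorem eq_one_of_cent (pr : Pair α R') {x : L} (h : ∀ y ∈ α.range ⊔ R', x * y = y * x) : x = 1 :=
  pr.cfaith x (mem_centralizer_iff.2 fun y hy => (h y (mem_sup_right hy)).symm)
    fun u => h _ (mem_sup_left ⟨u, rfl⟩)

/-- no non-trivial toral element of `L` is killed by the roots of `S` when `α U R' ≤ M_S` -/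
theorem eq_one_of_tor (pr : Pair α R') {S : Set (Lat l)} (hS : ∀ a ∈ S, Rt hp a)
    (hle : (α.range ⊔ R').map E.ι ≤ MS D l p S) {t : YY D p} (ht : t ∈ TT D (kb p)) (hL : t ∈ E.ι.range)
    (h : ∀ a ∈ S, ch hp a t = 1) : t = 1 := by
  obtain ⟨x, rfl⟩ := hL
  rw [eq_one_of_cent pr (x := x) fun y hy => E.inj ?_, map_one]
  rw [map_mul, map_mul]
  exact (comm_MS hS ht h (hle (mem_map_of_mem _ hy))).symm

theorem rt_union {a : Lat l} (ha : a ∈ Psi hp A ∪ Psi hp B) : Rt hp a := ha.elim (fun h => h.1) fun h => h.1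

/-- `F₄` -/
theorem end_f4 {E : Frame tF4 p 1 (sg 4 1) L} {A B : Lat 4 →+ ZMod r} (h : Dat E τ α β R R' r ζ u v A B) :
    ¬ EndF4 p E.g A B := by
  rintro ⟨hp2, θ, hθ, hg, hsub⟩
  have hpp : p.Prime := Fact.out
  obtain ⟨η, hη⟩ := exists_zeta p (m := 2) ((Nat.coprime_primes Nat.prime_two hpp).2 hp2.symm)
  obtain ⟨t, ht⟩ := chi_sur tF4 hη θ
  have hq : (E.q : ZMod 2) = 1 := by
    rw [Frame.q, Nat.cast_pow, (ZMod.natCast_eq_one_iff_odd).2 (hpp.odd_of_ne_two hp2), one_pow]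
  have hF := E.fix_of_chi hη ht fun a => by rw [hq, one_mul, hg]
  have h1 := eq_one_of_tor h.core.pair' (fun a ha => rt_union ha) (sup_le_MS h) ht.1 (by simpa using E.idx t hF)
    fun a ha => by rw [ht.2 a (rt_union ha), (hsub ha).2, ZMod.val_zero, pow_zero]
  rw [h1] at ht
  exact hθ (ht.unique hη (chi_one hη))

theorem q_ne_two {q : ℕ} (hr : r.Prime) (h5 : 5 ≤ r) (h : (q : ZMod r) = 1 ∨ (q : ZMod r) = -1) : q ≠ 2 ∧ q ≠ 3 := by
  have key : ∀ n : ℕ, 0 < n → n < 5 → (n : ZMod r) ≠ 0 := fun n h0 h1 h2 => by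
    have := Nat.le_of_dvd h0 ((ZMod.natCast_eq_zero_iff n r).1 h2)
    omega
  constructor <;> rintro rfl <;> rcases h with h | h
  · exact key 1 (by omega) (by omega) (by push_cast at h ⊢; linear_combination h)
  · exact key 3 (by omega) (by omega) (by push_cast at h ⊢; linear_combination h)
  · exact key 2 (by omega) (by omega) (by push_cast at h ⊢; linear_combination h)
  · exact key 4 (by omega) (by omega) (by push_cast at h ⊢; linear_combination h)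

/-- `E₆` -/
theorem end_e6 (hd : d ∣ 3) {ε : ℤˣ} {E : Frame tE6 p d (sg 6 ε) L} {A B : Lat 6 →+ ZMod r}
    (h : Dat E τ α β R R' r ζ u v A B) (h4 : ¬ (E.q = 4 ∧ ε = 1)) : ¬ EndE6 E.q ε E.g A B := by
  rintro ⟨hq, θ, ⟨a₀, ha₀, hθ₀⟩, -, hg, -, hsub⟩
  have hpp : p.Prime := Fact.out
  have h2 := two_le_q E
  have h3 := (q_ne_two h.prime h.five hq).1
  have hpq : p ∣ E.q := dvd_pow_self p E.he.ne'
  obtain ⟨m, hm, hm3, hmp⟩ : ∃ m : ℕ, (m : ℤ) = E.q - ε ∧ ¬ m ∣ 3 ∧ m.Coprime p := by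
    rcases Int.units_eq_one_or ε with rfl | rfl
    · refine ⟨E.q - 1, by rw [Nat.cast_sub (by omega)]; rfl, fun h5 => ?_, ?_⟩
      · rcases (Nat.dvd_prime Nat.prime_three).1 h5 with h6 | h6
        · omega
        · exact h4 ⟨by omega, rfl⟩
      · refine ((Nat.Prime.coprime_iff_not_dvd hpp).2 fun h5 => ?_).symm
        have h6 := Nat.dvd_sub hpq h5
        rw [show E.q - (E.q - 1) = 1 by omega] at h6
        exact hpp.one_lt.ne' (Nat.dvd_one.1 h6)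
    · refine ⟨E.q + 1, by push_cast; ring, fun h5 => ?_, ?_⟩
      · have := Nat.le_of_dvd (by omega) h5
        omega
      · refine ((Nat.Prime.coprime_iff_not_dvd hpp).2 fun h5 => ?_).symm
        exact hpp.one_lt.ne' (Nat.dvd_one.1 ((Nat.dvd_add_right hpq).1 h5))
  obtain ⟨η, hη⟩ := exists_zeta p hmp
  have hm0 : m ≠ 0 := by
    rintro rfl
    exact hpp.one_lt.ne' (Nat.coprime_zero_left p |>.1 hmp)
  have hη0 : η ≠ 0 := hη.ne_zero hm0
  obtain ⟨t, ht, hc⟩ := exists_tor_all tE6 (DS.Nt.isMC_zpow hη0 θ)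
  have hch : ∀ a, Rt tE6 a → ch tE6 a t = η ^ θ a := fun a ha => by rw [ch_eq_cX ha ht, hc]
  have hF : E.F t = t := by
    refine E.fix_of_ch ht fun a ha => ?_
    rw [hch _ ((E.fr.root a).2 ha), hch a ha, hg, ← zpow_natCast, ← zpow_mul,
      show θ a * (E.q : ℤ) = (ε : ℤ) * θ a + m * θ a by rw [hm]; ring, zpow_add₀ hη0, zpow_mul η m, zpow_natCast,
      hη.pow_eq_one, one_zpow, mul_one]
  have h1 := eq_one_of_tor h.core.pair' (fun a ha => rt_union ha) (sup_le_MS h) (pow_mem ht d) (E.idx t hF)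
    fun a ha => by rw [ch_pow (rt_union ha) ht, hch a (rt_union ha), (hsub ha).2, zpow_zero, one_pow]
  have h5 := ch_pow ha₀ ht d
  rw [h1, ch_one ha₀, hch a₀ ha₀, hθ₀, zpow_one] at h5
  exact hm3 (((hη.pow_eq_one_iff_dvd d).1 h5.symm).trans hd)

/-! ### `E₇` -/

theorem n7 : ∀ i j : Fin 7, CoxeterMatrix.E₇ i j ≠ 4 ∧ CoxeterMatrix.E₇ i j ≠ 6 := fun i j => by
  fin_cases i <;> fin_cases j <;> decide

theorem abs_cp {a b : Lat 7} (ha : Rt tE7 a) (hb : Rt tE7 b) (h1 : a ≠ b) (h2 : a ≠ -b) : |cp tE7 a b| ≤ 1 := by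
  have := finite_WW tE7
  exact Nodes.SimplyLaced.abs_cpr_le_one _ _ (fun i j => (n7 i j).1) (fun i j => (n7 i j).2) ha hb h1 h2

theorem cp_symm {a b : Lat 7} (ha : Rt tE7 a) (hb : Rt tE7 b) : cp tE7 a b = cp tE7 b a := by
  have := finite_WW tE7
  exact Nodes.SimplyLaced.cpr_symm _ _ (fun i j => (n7 i j).1) (fun i j => (n7 i j).2) ha hb

theorem cart7 : ∀ i : Fin 7, ∃ j : Fin 7, cartanOf chevE7 7 i j = -1 := by decide +kernel

theorem exists_cp_neg_one {c : Lat 7} (hc : Rt tE7 c) : ∃ a, Rt tE7 a ∧ cp tE7 a c = -1 := by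
  have := finite_WW tE7
  obtain ⟨w, i, rfl⟩ := hc
  obtain ⟨j, hj⟩ := cart7 i
  refine ⟨wa tE7 w (sr j), (rt_sr tE7 j).wa' w, (cp_wa w _ (rt_sr tE7 i)).trans ?_⟩
  refine (cpr_sr _ _ _ i).trans ?_
  rw [sr, pairing_single, hj, mul_one]

/-- the roots orthogonal to `c` -/
def Ort (c : Lat 7) : Set (Lat 7) := {a | Rt tE7 a ∧ cp tE7 a c = 0}

/-- the subsystem `D₆ A₁` -/
def Lam (c : Lat 7) : Set (Lat 7) := {a | Rt tE7 a ∧ (a = c ∨ a = -c ∨ cp tE7 a c = 0)}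

theorem cz_ort {c : Lat 7} (hc : Rt tE7 c) {a : Lat 7} (ha : a ∈ Ort c) {x : YY chevE7 p} (hx : x ∈ XR chevE7 7 p a) :
    Cz (sl p hc) x := by
  refine cz_X hc ha.1 ha.2 (fun i j hi hj hr => ?_) hx
  have h0 := (cp_zero_comm ha.1 hc).1 ha.2
  have h2 : cp tE7 (i • a + j • c) c = 2 * j := by
    rw [cp_add _ _ hc, cp_smul _ _ hc, cp_smul _ _ hc, ha.2, cp_self hc]; ring
  have h3 : cp tE7 (i • a + j • c) a = 2 * i := by
    rw [cp_add _ _ ha.1, cp_smul _ _ ha.1, cp_smul _ _ ha.1, h0, cp_self ha.1]; ring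
  by_cases e1 : i • a + j • c = c
  · rw [e1, h0] at h3; omega
  by_cases e2 : i • a + j • c = -c
  · rw [e2, cp_neg _ ha.1, h0] at h3; omega
  have := abs_cp hr hc e1 e2
  rw [h2, abs_le] at this
  omega

theorem off_lam {c : Lat 7} (hc : Rt tE7 c) : off (Lam c) c = Ort c := by
  ext a
  constructor
  · rintro ⟨⟨h1, h2⟩, h3, h4⟩
    exact ⟨h1, (h2.resolve_left h3).resolve_left h4⟩
  · rintro ⟨h1, h2⟩
    refine ⟨⟨h1, Or.inr (Or.inr h2)⟩, ?_, ?_⟩
    · rintro rfl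
      rw [cp_self hc] at h2
      omega
    · rintro rfl
      rw [cp_neg _ hc, cp_self hc] at h2
      omega

theorem spl_lam {c : Lat 7} (hc : Rt tE7 c) : Spl p hc (Lam c) := fun a ha x hx =>
  cz_ort hc (off_lam hc ▸ ha) hx

theorem cz_MS_ort {c : Lat 7} (hc : Rt tE7 c) {m : YY chevE7 p} (hm : m ∈ MS chevE7 7 p (Ort c)) : Cz (sl p hc) m :=
  (spl_lam hc).cz hc (by rwa [off_lam hc])

theorem wS_sq {k : Type*} [Field k] {s : k} (hs : s ≠ 0) : (wS s * wS s : SL k) = hS (-1) := by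
  have h1 : (-1 : k) ≠ 0 := neg_ne_zero.2 one_ne_zero
  apply ext4 <;> simp only [mul_e, wS00 hs, wS01 hs, wS10 hs, wS11 hs, hS00 h1, hS01 h1, hS10 h1, hS11 h1] <;>
    field_simp <;> ring

/-- the central involution of the root `SL₂` lies in `L` -/
theorem neg_one_mem (E : Frame hp p d g0 L) {c : Lat l} (hc : Rt hp c) (hg : E.g c = c) :
    sl p hc (hS (-1)) ∈ E.ι.range := by
  obtain ⟨μ, hμ, h1, h2⟩ := sl_frob E hc hg
  obtain ⟨s, hs, e⟩ := exists_fix_pow hμ (two_le_q E)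
  have m1 : xc hp c s ∈ E.ι.range := xc_mem_range E hc (by rw [h1, e])
  have m2 : xc hp (-c) (-s⁻¹) ∈ E.ι.range := xc_mem_range E hc.neg' (by
    rw [h2, neg_pow, neg_one_pow_q, inv_pow, neg_one_mul, mul_neg, ← mul_inv, e])
  have m3 : sl p hc (wS s) ∈ E.ι.range := by
    rw [Nodes.RGDFoldSL.wS, map_mul, map_mul, sl_up, sl_lo]
    exact mul_mem m1 (mul_mem m2 m1)
  rw [← wS_sq hs, map_mul]
  exact mul_mem m3 m3

/-- `E₇`, odd characteristic -/
theorem e7_odd (hp2 : p ≠ 2) {g0 : Lat 7 ≃+ Lat 7} (E : Frame tE7 p d g0 L) (pr : Pair α R') {c : Lat 7}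
    (hc : Rt tE7 c) (hg : E.g c = c) (hle : (α.range ⊔ R').map E.ι ≤ MS chevE7 7 p (Lam c)) : False := by
  have h1 : (-1 : kb p) ≠ 0 := neg_ne_zero.2 one_ne_zero
  have h2 := eq_one_of_tor pr (fun a ha => ha.1) hle (sl_hS_mem hc h1) (neg_one_mem E hc hg) fun a ha => by
    rw [ch_sl_hS hc h1 ha.1]
    rcases ha.2 with rfl | rfl | e
    · rw [cp_self hc]; norm_num
    · rw [cp_neg _ hc, cp_self hc]; norm_num
    · rw [e, zpow_zero]
  obtain ⟨a, ha, e⟩ := exists_cp_neg_one hc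
  have h3 := ch_sl_hS hc h1 ha
  rw [h2, ch_one ha, e] at h3
  have h4 : (2 : kb p) = 0 := by
    have : (1 : kb p) = -1 := by simpa using h3
    linear_combination this
  have h5 := (CharP.cast_eq_zero_iff (kb p) p 2).1 (by exact_mod_cast h4)
  exact hp2 ((Nat.prime_dvd_prime_iff_eq Fact.out Nat.prime_two).1 h5)

/-- the statement for `E₇` in characteristic two -/
def E7Two : Prop := ∀ (L : Type) [Group L] [Finite L] (E : Frame tE7 2 1 (sg 7 1) L)
  (U : Type) [Group U] [Finite U] (τ α β : U →* L) (R R' : Subgroup L), Core τ α β R R' →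
  ∀ c, Rt tE7 c → E.g c = c → 4 ≤ E.q → ¬ (α.range ⊔ R').map E.ι ≤ MS chevE7 7 2 (Lam c)

theorem end_e7 (two : E7Two) (hd : d ∣ 2) {E : Frame tE7 p d (sg 7 1) L} {A B : Lat 7 →+ ZMod r}
    (h : Dat E τ α β R R' r ζ u v A B) : ¬ EndE7 E.q E.g A B := by
  rintro ⟨hq, c, hc, hg, hsub⟩
  have h1 : (α.range ⊔ R').map E.ι ≤ MS chevE7 7 p (Lam c) :=
    (sup_le_MS h).trans (RGD.Sup_mono fun a ha => ⟨rt_union ha, hsub a ha⟩)
  obtain ⟨E', he, hg', z, hz, hι⟩ := exists_move_fix E hc hg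
  have hz' : z ∈ MS chevE7 7 p (Lam c) :=
    RGD.Sup_mono (S := {c, -c}) (by rintro _ (rfl | rfl); exacts [⟨hc, Or.inl rfl⟩, ⟨hc.neg', Or.inr (Or.inl rfl)⟩]) hz
  have h2 : (α.range ⊔ R').map E'.ι ≤ MS chevE7 7 p (Lam c) := by
    rintro _ ⟨x, hx, rfl⟩
    rw [hι]
    exact mul_mem (mul_mem (inv_mem hz') (h1 (mem_map_of_mem _ hx))) hz'
  by_cases hp2 : p = 2
  · subst hp2
    have hd1 : d = 1 := by
      rcases (Nat.dvd_prime Nat.prime_two).1 hd with h3 | h3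
      · exact h3
      · have := E.cop
        rw [h3] at this
        exact absurd this (by norm_num)
    subst hd1
    refine two L E' U τ α β R R' h.core c hc hg' ?_ h2
    have h3 := q_ne_two h.prime h.five hq
    have h4 := two_le_q E
    have h5 : E'.q = E.q := by rw [Frame.q, Frame.q, he]
    omega
  · exact e7_odd hp2 E' h.core.pair' hc hg' h2

/-- **`BoxEnd`** from the case of `E₇` in characteristic two -/
theorem boxEnd_of (two : E7Two) : BoxEnd where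
  f4 p _ L _ _ E U _ _ τ α β R R' r ζ u v A B h := end_f4 h
  e6 p _ d hd ε L _ _ E U _ _ τ α β R R' r ζ u v A B h h4 := end_e6 hd h h4
  e7 p _ d hd L _ _ E U _ _ τ α β R R' r ζ u v A B h := end_e7 two hd h

end Cfsg.Agent.Cam.Ex.En
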