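import Cfsg.Agent.Cam.Ex.PRoot
import Cfsg.Agent.Cam.Ex.End1

/-!
# Exceptional rows, `BoxP`: orbits of orthogonal roots (helper65)

* `HP E S` : `M_S` contains the image of a non-trivial perfect subgroup; `hp_orb` : orthogonal orbits;
* `fin_comm`, `fin_perf` : the centralizer of `M_Ψ`;
* `a1_gen`, `one_inv`, `two`.
-/

set_option autoImplicit false
set_option linter.unusedVariables false
set_option linter.unusedSectionVars false

namespace Cfsg.Agent.Cam.Ex.P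

open CoxeterSystem Cfsg Cfsg.Lie Subgroup
open Cfsg.Agent.ChevalleyStructure.CoxeterGeom Cfsg.Agent.ChevalleyStructure.CoxeterGeomTypes
open Cfsg.Agent.Tits.Roots Cfsg.Agent.Nodes.BNOf Cfsg.Agent.Nodes.RGDChev Cfsg.Agent.Nodes.Coroot
open Cfsg.Agent.KFacts.RgdChevCoord Cfsg.Agent.BpExc.TorCent Cfsg.Agent.BpExc.LangFr Cfsg.Agent.BpExc.SubBN
open Cfsg.Agent.Cam.Spor Cfsg.Agent.Cam.Ex.S2
open Cfsg.Agent.ChevalleyStructure.SL2Hom (up lo)
open Cfsg.Agent.Nodes.RGDFoldSL (hS wS)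
open Cfsg.Agent.DS.Nt (RP)
open Cfsg.Agent.H129.TorusChar (cX isMC_cX cX_root)
open Cfsg.Agent.H605.MX (dl dlHom dl_succ dl_zero dl_mem alpha_dl)
open scoped commutatorElement

variable {D : ChevalleyDatum} {l : ℕ} {M : CoxeterMatrix (Fin l)} {hp : IsType D l M} {p : ℕ} [Fact p.Prime]
  {a b c c' : Lat l} {S : Set (Lat l)}

/-- the Frobenius map of the field -/
noncomputable abbrev fb (p : ℕ) [Fact p.Prime] (n : ℕ) : kb p →+* kb p := iterateFrobenius (kb p) p n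

theorem fb_apply (n : ℕ) (t : kb p) : fb p n t = t ^ p ^ n := iterateFrobenius_def _ _ _

/-- a frame automorphism on the root `SL₂` -/
theorem act_sl {σ : MulAut (YY D p)} {e : ℕ} {g : Lat l ≃+ Lat l} (hσ : IsFrob p e σ)
    (F : BpExc.Fr.Fr M.toCoxeterSystem hp.isCartan (TT D (kb p)) (XX D l (kb p)) σ g) (hc : Rt hp c) (hc' : Rt hp c')
    (h : g c = c') : ∃ κ : kb p, ∃ hκ : κ ≠ 0, ∀ A, σ (sl p hc A) = sl p hc' (sgm (fb p e) hκ A) := by
  obtain ⟨μ, hμ, h1⟩ := BpExc.HX.fr_xc hp M.toCoxeterSystem hσ F hc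
  obtain ⟨ν, hν, h2⟩ := BpExc.HX.fr_xc hp M.toCoxeterSystem hσ F hc.neg'
  rw [h] at h1
  rw [map_neg, h] at h2
  have h3 : μ * ν = 1 := by
    refine (sl_ck hc').braid hμ ?_
    have e1 := h1 1
    have e2 := h2 (-1)
    rw [one_pow, mul_one] at e1
    rw [neg_one_pow_char_pow (kb p) p e, mul_neg, mul_one] at e2
    have e3 := congrArg (fun x => σ (sl p hc x)) (braid0 (k := kb p))
    simp only [map_mul, sl_up, sl_lo, e1, e2] at e3
    simpa only [sl_up, sl_lo] using e3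
  refine ⟨μ, hμ, DFunLike.congr_fun (hom_ext (f := σ.toMonoidHom.comp (sl p hc))
    (g := (sl p hc').comp (sgm (fb p e) hμ)) (fun t => ?_) fun t => ?_)⟩
  · show σ (sl p hc (up t)) = sl p hc' (sgm _ hμ (up t))
    rw [sgm_up, sl_up, sl_up, h1, fb_apply]
  · show σ (sl p hc (lo t)) = sl p hc' (sgm _ hμ (lo t))
    rw [sgm_lo, sl_lo, sl_lo, h2, fb_apply, inv_eq_of_mul_eq_one_right h3]

theorem sl_comm (hc : Rt hp c) (hc' : Rt hp c') (h : Far hp p c c') (A B : SL (kb p)) :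
    sl p hc A * sl p hc' B = sl p hc' B * sl p hc A := by
  refine (comm_of_gen (f := sl p hc) (fun t => ?_) (fun t => ?_) A).symm
  · rw [sl_up]
    exact (far_cz hc hc' h (xc_mem_XR hc t) B).symm
  · rw [sl_lo]
    exact (far_cz hc.neg' hc' (Far.symm' (Far.neg_right (Far.symm' h hc hc') hc) hc' hc.neg') (xc_mem_XR hc.neg' t) B).symm

theorem pm_rt (hc : Rt hp c) : ∀ a ∈ ({c, -c} : Set (Lat l)), Rt hp a := by
  rintro _ (rfl | rfl)
  exacts [hc, hc.neg']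

theorem pm_neg : ∀ a ∈ ({c, -c} : Set (Lat l)), -a ∈ ({c, -c} : Set (Lat l)) := by
  rintro _ (rfl | rfl)
  exacts [Or.inr rfl, Or.inl (neg_neg _)]

theorem pm_le (hn : ∀ a ∈ S, -a ∈ S) (h : c ∈ S) : MS D l p {c, -c} ≤ MS D l p S := by
  refine RGD.Sup_mono ?_
  rintro _ (rfl | rfl)
  exacts [h, hn _ h]

theorem sl_inj (hc : Rt hp c) (h : p = 2 ∨ ∃ a, Rt hp a ∧ Odd (cp hp a c)) : Function.Injective (sl p hc) := by
  rw [injective_iff_map_eq_one]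
  intro z hz
  have h1 : (-1 : kb p) ≠ 0 := neg_ne_zero.2 one_ne_zero
  rcases center_cases (sl_ck hc z hz) with e | e
  · exact e
  have h2 : (-1 : kb p) = 1 := by
    rcases h with rfl | ⟨a, ha, ho⟩
    · exact CharTwo.neg_eq 1
    · have h3 := ch_sl_hS hc h1 ha
      rw [← e, hz, ch_one ha, ho.neg_one_zpow] at h3
      exact h3.symm
  rw [e, h2, hS_one]

theorem exists_unit {n : ℕ} (h : 4 ≤ p ^ n) : ∃ a : kb p, a ≠ 0 ∧ fb p n a = a ∧ a ^ 2 ≠ 1 := by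
  have hn : n ≠ 0 := by
    rintro rfl
    rw [pow_zero] at h
    omega
  obtain ⟨ζ, hζ⟩ := exists_zeta p (m := p ^ n - 1) (by
    refine Nat.Coprime.coprime_dvd_right (dvd_pow_self p hn) ?_
    obtain ⟨k, hk⟩ : ∃ k, p ^ n = k + 1 := ⟨p ^ n - 1, by omega⟩
    rw [hk, Nat.add_sub_cancel]
    simp)
  refine ⟨ζ, hζ.ne_zero (by omega), ?_, hζ.pow_ne_one_of_pos_of_lt two_ne_zero (by omega)⟩
  rw [fb_apply, show p ^ n = p ^ n - 1 + 1 by omega, pow_succ, hζ.pow_eq_one, one_mul]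

theorem psiS_add {Q : Set (YY D p)} (hQ : ∀ t ∈ Q, t ∈ TT D (kb p)) (ha : a ∈ PsiS hp Q) (hb : b ∈ PsiS hp Q)
    (h : Rt hp (a + b)) : a + b ∈ PsiS hp Q :=
  ⟨h, fun t ht => by
    rw [ch_eq_cX h (hQ t ht), (isMC_cX hp (hQ t ht)).add, ← ch_eq_cX ha.1 (hQ t ht), ← ch_eq_cX hb.1 (hQ t ht),
      ha.2 t ht, hb.2 t ht, one_mul]⟩

theorem T_norm (hS : ∀ a ∈ S, Rt hp a) : TT D (kb p) ≤ normalizer (MS D l p S : Set (YY D p)) := by
  intro t ht
  refine mem_normalizer_iff.2 fun y => ⟨DS.Ex.Tor.T_conj_MS (hp := hp) hS ht, fun h => ?_⟩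
  have h1 := DS.Ex.Tor.T_conj_MS (hp := hp) hS (inv_mem ht) h
  rwa [show t⁻¹ * (t * y * t⁻¹) * t⁻¹⁻¹ = y by group] at h1

variable {d : ℕ} {g0 : Lat l ≃+ Lat l} {L : Type} [Group L] (E : Frame hp p d g0 L)

theorem rt_g (ha : Rt hp a) : Rt hp (E.g a) := (E.fr.root a).2 ha

theorem rt_iter (ha : Rt hp a) (i : ℕ) : Rt hp (E.g^[i] a) := by
  have := finite_WW hp
  exact (H123.ExcComb.iter_root E.fr.root i).2 ha

theorem ch_g {t : YY D p} (ht : t ∈ TT D (kb p)) (h : E.F t = t) (ha : Rt hp a) :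
    ch hp (E.g a) t = ch hp a t ^ E.q := by
  have h1 := boxChi.frob D l M hp p d g0 L E t ht a ha
  rwa [h] at h1

theorem g_psiS {Q : Set (YY D p)} (hQ : ∀ t ∈ Q, t ∈ TT D (kb p) ∧ E.F t = t) (a : Lat l) :
    E.g a ∈ PsiS hp Q ↔ a ∈ PsiS hp Q := by
  refine ⟨fun h => ⟨(E.fr.root a).1 h.1, fun t ht => ?_⟩, fun h => ⟨(E.fr.root a).2 h.1, fun t ht => ?_⟩⟩
  · have h1 := ch_g E (hQ t ht).1 (hQ t ht).2 ((E.fr.root a).1 h.1)
    rw [h.2 t ht, Frame.q, ← fb_apply, ← map_one (fb p E.e)] at h1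
    exact ((fb p E.e).injective h1).symm
  · rw [ch_g E (hQ t ht).1 (hQ t ht).2 h.1, h.2 t ht, one_pow]

theorem act_pow (i : ℕ) (hc : Rt hp c) (hc' : Rt hp c') (h : E.g^[i] c = c') :
    ∃ κ : kb p, ∃ hκ : κ ≠ 0, ∀ A, (E.F ^ i) (sl p hc A) = sl p hc' (sgm (fb p (i * E.e)) hκ A) := by
  obtain ⟨g', F', h1⟩ := E.fr.pow i
  exact act_sl (E.frob.pow i) F' hc hc' (by rw [h1, h])

/-- perfect groups of fixed points come from `L` -/
theorem pull {X : Subgroup (YY D p)} (hX : ⁅X, X⁆ = X) (hF : ∀ y ∈ X, E.F y = y) :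
    ∃ X' : Subgroup L, ⁅X', X'⁆ = X' ∧ X'.map E.ι = X := by
  have h1 : X ≤ E.ι.range := by
    rw [← hX, commutator_le]
    exact fun y hy z hz => E.der y z (hF y hy) (hF z hz)
  have h2 : (X.comap E.ι).map E.ι = X := map_comap_eq_self h1
  exact ⟨X.comap E.ι, map_injective E.inj (by rw [map_commutator, h2, hX]), h2⟩

/-- `M_S` contains the image of a non-trivial perfect subgroup -/
def HP (E : Frame hp p d g0 L) (S : Set (Lat l)) : Prop :=
  ∃ X : Subgroup L, X ≠ ⊥ ∧ ⁅X, X⁆ = X ∧ X.map E.ι ≤ MS D l p S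

theorem hp_of {X : Subgroup (YY D p)} (h0 : X ≠ ⊥) (hX : ⁅X, X⁆ = X) (hF : ∀ y ∈ X, E.F y = y) (hle : X ≤ MS D l p S) :
    HP E S := by
  obtain ⟨X', h1, rfl⟩ := pull E hX hF
  exact ⟨X', fun h => h0 (by rw [h, Subgroup.map_bot]), h1, hle⟩

theorem HP.mono {E : Frame hp p d g0 L} {S' : Set (Lat l)} (h : HP E S) (hS : S ⊆ S') : HP E S' := by
  obtain ⟨X, h1, h2, h3⟩ := h
  exact ⟨X, h1, h2, h3.trans (RGD.Sup_mono hS)⟩

theorem le_of_move {z : YY D p} {w : M.Group} {h : RP hp p w (z⁻¹ * E.F z)} {K : Subgroup (YY D p)} (hz : z ∈ K)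
    {X : Subgroup L} : X.map (E.move z w h).ι ≤ K ↔ X.map E.ι ≤ K := by
  rw [map_le_iff_le_comap, map_le_iff_le_comap]
  refine forall₂_congr fun x hx => ?_
  rw [mem_comap, mem_comap, E.move_ι, K.mul_mem_cancel_right hz, K.mul_mem_cancel_left (inv_mem hz)]

theorem HP.of_move {E : Frame hp p d g0 L} {z : YY D p} {w : M.Group} {h : RP hp p w (z⁻¹ * E.F z)}
    (hz : z ∈ MS D l p S) (H : HP (E.move z w h) S) : HP E S := by
  obtain ⟨X, h1, h2, h3⟩ := H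
  exact ⟨X, h1, h2, (le_of_move E hz).1 h3⟩

theorem iter_mem (hg : ∀ a ∈ S, E.g a ∈ S) (h : c ∈ S) (i : ℕ) : E.g^[i] c ∈ S := by
  induction i with
  | zero => exact h
  | succ i ih => rw [Function.iterate_succ_apply']; exact hg _ ih

theorem hp_orb0 (hS : ∀ a ∈ S, Rt hp a) (hn : ∀ a ∈ S, -a ∈ S) (hc : c ∈ S) {j : ℕ} (hj : 0 < j) (h1 : E.g^[j] c = c)
    (h2 : ∀ i, 0 < i → i < j → E.g^[i] c ∈ S ∧ Far hp p c (E.g^[i] c)) (hq : 4 ≤ E.q ^ j) : HP E S := by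
  have hr := hS c hc
  have H : ∀ i, 0 < i → i < j → ∀ A B, sl p hr A * (E.F ^ i) (sl p hr B) = (E.F ^ i) (sl p hr B) * sl p hr A := by
    intro i hi hij A B
    obtain ⟨κ, hκ, e⟩ := act_pow E i hr (rt_iter E hr i) rfl
    rw [e]
    exact sl_comm hr _ (h2 i hi hij).2 _ _
  obtain ⟨κ, hκ, e⟩ := act_pow E j hr hr h1
  rw [Frame.q, ← pow_mul, mul_comm] at hq
  obtain ⟨v, hv0, hv⟩ := exists_fix hκ (Q := p ^ (j * E.e)) (by omega)
  rw [← fb_apply] at hv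
  obtain ⟨u, hu0, hu, hu2⟩ := exists_unit hq
  refine hp_of E (X := (fixG (fb p (j * E.e)) hκ).map (dlHom H)) (fun h0 => ?_)
    (map_perf _ (fixG_perfect hv0 hv hu0 hu hu2)) ?_ ?_
  · have h3 : ∀ n, n < j → ∃ y, Cz (sl p hr) y ∧ dl E.F (sl p hr) (n + 1) (up v) = sl p hr (up v) * y := by
      intro n
      induction n with
      | zero => exact fun _ => ⟨1, fun B => by rw [one_mul, mul_one], by
          rw [dl_succ, dl_zero, one_mul, pow_zero, MulAut.one_apply, mul_one]⟩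
      | succ n ih =>
        intro hn
        obtain ⟨y, h4, h5⟩ := ih (by omega)
        refine ⟨y * (E.F ^ (n + 1)) (sl p hr (up v)), fun B => ?_, by rw [dl_succ, h5, mul_assoc]⟩
        rw [mul_assoc, ← H _ (Nat.succ_pos n) hn, ← mul_assoc, h4 B, mul_assoc]
    obtain ⟨y, h4, h5⟩ := h3 (j - 1) (by omega)
    have h6 : dl E.F (sl p hr) j (up v) = 1 := mem_bot.1 (h0 ▸ mem_map_of_mem (dlHom H) (up_mem_fixG hv))
    rw [Nat.sub_add_cancel hj, h6, eq_comm, mul_eq_one_iff_eq_inv] at h5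
    refine not_comm (sl_ck hr) hv0 one_ne_zero ?_
    rw [h5, inv_mul_eq_iff_eq_mul, ← mul_assoc, h4, mul_inv_cancel_right]
  · rintro _ ⟨A, hA, rfl⟩
    exact alpha_dl H hj (by rw [e, mem_fixG.1 hA])
  · rintro _ ⟨A, hA, rfl⟩
    refine dl_mem fun i hi => ?_
    obtain ⟨κ', hκ', e'⟩ := act_pow E i hr (rt_iter E hr i) rfl
    rw [e']
    refine pm_le hn ?_ (sl_mem _ _)
    rcases Nat.eq_zero_or_pos i with rfl | hi0
    · exact hc
    · exact (h2 i hi0 hi).1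

/-- **Orthogonal orbits.** -/
theorem hp_orb (hS : ∀ a ∈ S, Rt hp a) (hn : ∀ a ∈ S, -a ∈ S) (hg : ∀ a ∈ S, E.g a ∈ S) (hc : c ∈ S)
    (ho : ∀ i, E.g^[i] c = c ∨ E.g^[i] c = -c ∨ Far hp p c (E.g^[i] c)) (hq : 4 ≤ E.q ∨ (E.g c ≠ c ∧ E.g c ≠ -c)) :
    HP E S := by
  classical
  have hr := hS c hc
  have := finite_WW hp
  have hex : ∃ j, 0 < j ∧ (E.g^[j] c = c ∨ E.g^[j] c = -c) :=
    ⟨_, H123.ExcComb.period_pos E.fr.root hr, Or.inl Function.iterate_minimalPeriod⟩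
  obtain ⟨hj, h1⟩ := Nat.find_spec hex
  have h2 : ∀ i, 0 < i → i < Nat.find hex → Far hp p c (E.g^[i] c) := fun i hi hij => by
    have h3 := Nat.find_min hex hij
    rcases ho i with h | h | h
    · exact absurd ⟨hi, Or.inl h⟩ h3
    · exact absurd ⟨hi, Or.inr h⟩ h3
    · exact h
  generalize Nat.find hex = j at hj h1 h2
  have h3 : 4 ≤ E.q ^ j := by
    have h4 := En.two_le_q E
    rcases hq with h | h
    · exact h.trans (Nat.le_self_pow hj.ne' _)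
    · have h5 : j ≠ 1 := by
        rintro rfl
        exact h1.elim h.1 h.2
      calc 4 = 2 ^ 2 := rfl
        _ ≤ E.q ^ 2 := Nat.pow_le_pow_left h4 2
        _ ≤ E.q ^ j := Nat.pow_le_pow_right (by omega) (by omega)
  rcases h1 with h1 | h1
  · exact hp_orb0 E hS hn hc hj h1 (fun i hi hij => ⟨iter_mem E hg hc i, h2 i hi hij⟩) h3
  obtain ⟨w, hw, e⟩ := exists_refl hr
  obtain ⟨z, hz, h⟩ := En.exists_move_MS E hS hn hg (hw S hc)
  have h4 : ∀ i, i < j → (E.move z w h).g^[i] c = E.g^[i] c := by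
    intro i
    induction i with
    | zero => exact fun _ => rfl
    | succ i ih =>
      intro hi
      rw [Function.iterate_succ_apply', ih (by omega), E.move_g, ← Function.iterate_succ_apply' E.g, e,
        (cp_zero_comm hr (rt_iter E hr _)).1 (h2 _ (Nat.succ_pos i) hi).1, zero_smul, sub_zero]
  refine HP.of_move hz (hp_orb0 (E.move z w h) hS hn hc hj ?_ (fun i hi hij => ?_) h3)
  · obtain ⟨i, rfl⟩ : ∃ i, j = i + 1 := ⟨j - 1, by omega⟩
    rw [Function.iterate_succ_apply', h4 i (by omega), E.move_g, ← Function.iterate_succ_apply' E.g, h1, e,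
      cp_neg c hr, cp_self hr]
    module
  · rw [h4 i hij]
    exact ⟨iter_mem E hg hc i, h2 i hi hij⟩

variable [Finite L] {U : Type} [Group U] [Finite U] {τ α β : U →* L} {R R' : Subgroup L}

section fin

variable (co : Core τ α β R R') {ι : L →* YY D p} (hι : Function.Injective ι) {r : ℕ} (hr : r.Prime) {Q : Set U}
  (hQ : ∀ u ∈ Q, ι (τ u) ∈ TT D (kb p) ∧ ∃ n : ℕ, ι (τ u) ^ r ^ n = 1)

variable (hp) in
/-- the centralizer of `M_Ψ` -/
noncomputable def JJ (ι : L →* YY D p) (τ : U →* L) (Q : Set U) : Subgroup L :=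
  (centralizer (MS D l p (PsiS hp ((fun u => ι (τ u)) '' Q)) : Set (YY D p))).comap ι

include co hι hr hQ

theorem R_le : R.map ι ≤ MS D l p (PsiS hp ((fun u => ι (τ u)) '' Q)) := by
  refine chi_perf hp hr ?_ (map_perf _ co.pair.perfect) ?_
  · rintro _ ⟨u, hu, rfl⟩
    exact hQ u hu
  · rintro _ ⟨y, hy, rfl⟩
    refine mem_centralizer_iff.2 ?_
    rintro _ ⟨u, hu, rfl⟩
    rw [← map_mul, co.pair.comm u y hy, map_mul]

theorem JJ_le : JJ hp ι τ Q ≤ centralizer (R : Set L) := fun x hx => mem_centralizer_iff.2 fun y hy => hι (by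
  rw [map_mul, map_mul]
  exact mem_centralizer_iff.1 hx _ (R_le co hι hr hQ (mem_map_of_mem _ hy)))

include hp in
theorem Q_comm : ∀ u ∈ Q, ∀ u' ∈ Q, u * u' = u' * u := fun u hu u' hu' => co.pair.inj (hι (by
  rw [map_mul, map_mul, map_mul, map_mul]
  exact T_comm hp (hQ u hu).1 (hQ u' hu').1))

theorem JJ_norm : ∀ d, (∀ u ∈ Q, u * d = d * u) → ∀ y ∈ JJ hp ι τ Q, α d * y * (α d)⁻¹ ∈ JJ hp ι τ Q := by
  intro d hd y hy
  refine mem_centralizer_iff.2 fun m hm => ?_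
  have h4 := DS.Nt.conj_mem_Mz (hp := hp) ((Set.toFinite Q).image _) (by rintro _ ⟨u, hu, rfl⟩; exact (hQ u hu).1)
    (c := ι (α d)⁻¹) (by
      rintro _ ⟨u, hu, rfl⟩
      rw [← map_mul, mem_centralizer_singleton_iff.1 (inv_mem (co.alpha_mem_cent (hd u hu))), map_mul]) hm
  have h5 := mem_centralizer_iff.1 hy _ h4
  rw [map_inv, inv_inv] at h5
  rw [map_mul, map_mul, map_inv]
  calc m * (ι (α d) * ι y * (ι (α d))⁻¹) = ι (α d) * ((ι (α d))⁻¹ * m * ι (α d) * ι y) * (ι (α d))⁻¹ := by group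
    _ = _ := by rw [h5]; group

theorem fin_comm {v v' : U} (hv : τ v ∈ JJ hp ι τ Q) (hv' : τ v' ∈ JJ hp ι τ Q) : v * v' = v' * v :=
  comm_of co (JJ_le co hι hr hQ) (Q_comm (hp := hp) co hι hr hQ) (JJ_norm co hι hr hQ) hv hv'

theorem fin_perf (big : Big) {X : Subgroup L} (hX : ⁅X, X⁆ = X) (h : X ≤ JJ hp ι τ Q) : X = ⊥ :=
  eq_bot_of big co (JJ_le co hι hr hQ) (Q_comm (hp := hp) co hι hr hQ) (JJ_norm co hι hr hQ) hX h

omit co hι hr hQ in
theorem mem_JJ (hS : ∀ a ∈ S, Rt hp a) (h : ∀ a, Rt hp a → (∀ u ∈ Q, ch hp a (ι (τ u)) = 1) → ∀ c ∈ S, Far hp p a c)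
    {x : L} (hx : ι x ∈ MS D l p S) : x ∈ JJ hp ι τ Q :=
  mem_centralizer_iff.2 fun m hm => MS_MS (fun a ha c hc x hx y hy =>
    far_comm ha.1 (hS c hc) (h a ha.1 (fun u hu => ha.2 _ ⟨u, hu, rfl⟩) c hc) hx hy) hm hx

end fin

theorem cen_MS (h : Cen E R S) {y : YY D p} (hy : y ∈ MS D l p S) {x : L} (hx : x ∈ R) : E.ι x * y = y * E.ι x :=
  (mem_centralizer_singleton_iff.1 (RGD.Sup_le (K := centralizer {E.ι x})
    (fun a ha y hy => mem_centralizer_singleton_iff.2 (h a ha y hy x hx).symm) hy)).symm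

theorem cen_le (h : Cen E R S) : (MS D l p S).comap E.ι ≤ centralizer (R : Set L) := fun y hy =>
  mem_centralizer_iff.2 fun x hx => E.inj (by rw [map_mul, map_mul, cen_MS E h hy hx])

theorem cen_move {z : YY D p} {w : M.Group} {h : RP hp p w (z⁻¹ * E.F z)} (H : Cen E R S) (hz : z ∈ MS D l p S) :
    Cen (E.move z w h) R S := fun a ha y hy x hx => by
  rw [E.move_ι, mul_assoc z⁻¹, cen_MS E H hz hx, inv_mul_cancel_left]
  exact H a ha y hy x hx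

theorem cen_g (hS : ∀ a ∈ S, Rt hp a) (H : Cen E R S) : Cen E R (E.g '' S) := by
  rintro _ ⟨a, ha, rfl⟩ y hy x hx
  obtain ⟨y, rfl⟩ := E.F.surjective y
  rw [← E.fix x, ← map_mul, H a ha y ((E.fr.map a (hS a ha) y).1 hy) x hx, map_mul]

theorem a1c_far {Q : Set (YY D p)} (hQ : ∀ t ∈ Q, t ∈ TT D (kb p)) (h : A1c hp (PsiS hp Q) c) (ha : a ∈ PsiS hp Q) :
    a = c ∨ a = -c ∨ Far hp p a c := by
  refine (h.2 a ha).imp_right (Or.imp_right fun h0 => ⟨h0, Or.inr fun h1 => ?_⟩)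
  have h2 : cp hp (a + c) c = 2 := by rw [cp_add _ _ h.1.1, h0, cp_self h.1.1, zero_add]
  rcases h.2 _ (psiS_add hQ ha h.1 h1) with e | e | e
  · exact Rt.ne_zero' ha.1 (add_eq_right.1 e)
  · rw [e, cp_neg _ h.1.1, cp_self h.1.1] at h2
    omega
  · omega

/-- **`A₁`-components, connected centralizer.** -/
theorem a1_gen (big : Big) (co : Core τ α β R R') {u : U} (hT : E.ι (τ u) ∈ TT D (kb p))
    (hconn : ∀ y : L, y * τ u = τ u * y → E.ι y ∈ MS D l p (PsiS hp {E.ι (τ u)}) ⊔ TT D (kb p))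
    (h : A1c hp (PsiS hp {E.ι (τ u)}) c) (hq : 4 ≤ E.q ∨ (E.g c ≠ c ∧ E.g c ≠ -c)) : ¬ Cen E R {c, -c} := by
  intro hcen
  have hQ : ∀ t ∈ ({E.ι (τ u)} : Set (YY D p)), t ∈ TT D (kb p) := by
    rintro _ rfl
    exact hT
  have hg := g_psiS E (Q := {E.ι (τ u)}) (by rintro _ rfl; exact ⟨hT, E.fix _⟩)
  set Ψ := PsiS hp {E.ι (τ u)} with hΨ
  let Θ : Set (Lat l) := {a | A1c hp Ψ a ∧ Cen E R {a, -a}}
  have hS : ∀ a ∈ Θ, Rt hp a := fun a ha => ha.1.1.1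
  have hn : ∀ a ∈ Θ, -a ∈ Θ := fun a ha => by
    refine ⟨⟨(cs_psiS hQ).neg a ha.1.1, fun b hb => ?_⟩, by rw [neg_neg, Set.pair_comm]; exact ha.2⟩
    rw [neg_neg, cp_neg_right _ (hS a ha), neg_eq_zero, or_left_comm]
    exact ha.1.2 b hb
  have hgΘ : ∀ a ∈ Θ, E.g a ∈ Θ := fun a ha => by
    refine ⟨⟨(hg a).2 ha.1.1, fun b hb => ?_⟩, ?_⟩
    · obtain ⟨b, rfl⟩ := E.g.surjective b
      rw [E.gcp _ _ (hS a ha), ← map_neg, E.g.injective.eq_iff, E.g.injective.eq_iff]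
      exact ha.1.2 b ((hg b).1 hb)
    · have h1 := cen_g E (pm_rt (hS a ha)) ha.2
      rwa [Set.image_pair, map_neg] at h1
  obtain ⟨X, h0, hX, hle⟩ := hp_orb E hS hn hgΘ (c := c) ⟨h, hcen⟩ (fun i => by
    have h1 := iter_mem E hgΘ (c := c) ⟨h, hcen⟩ i
    exact (a1c_far hQ h h1.1.1).imp_right (Or.imp_right fun h2 => Far.symm' h2 (hS _ h1) h.1.1)) hq
  have hN : MS D l p Ψ ⊔ TT D (kb p) ≤ normalizer (MS D l p Θ : Set (YY D p)) := by
    refine sup_le (RGD.Sup_le fun b hb x hx => ?_) (T_norm hS)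
    by_cases hb' : b ∈ Θ
    · exact le_normalizer (RGD.le_Sup hb' hx)
    refine centralizer_le_normalizer _ (mem_centralizer_iff.2 fun y hy => ?_)
    refine MS_MS (S' := {b}) ?_ hy (RGD.le_Sup (S := {b}) rfl hx)
    rintro a ha _ rfl y hy x hx
    rcases a1c_far hQ ha.1 hb with e | e | e
    · exact absurd (e ▸ ha) hb'
    · exact absurd (e ▸ hn a ha) hb'
    · exact (far_comm hb.1 (hS a ha) e hx hy).symm
  refine h0 (eq_bot_of big co (J := (MS D l p Θ).comap E.ι) (Q := {u})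
    (cen_le E fun a ha => ha.2 a (Or.inl rfl)) (by rintro _ rfl _ rfl; rfl) (fun d hd y hy => ?_) hX
    (map_le_iff_le_comap.1 hle))
  rw [mem_comap, map_mul, map_mul, map_inv]
  exact (mem_normalizer_iff.1 (hN (hconn _ (mem_centralizer_singleton_iff.1 (co.alpha_mem_cent (hd u rfl))))) _).1 hy

theorem a1 (big : Big) (hl : l ≤ 7) (co : Core τ α β R R') {r : ℕ} (hr : r.Prime) (h5 : 5 ≤ r) {u : U}
    (hu : orderOf u = r) (hT : E.ι (τ u) ∈ TT D (kb p)) (h : A1c hp (PsiS hp {E.ι (τ u)}) c)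
    (hq : 4 ≤ E.q ∨ (E.g c ≠ c ∧ E.g c ≠ -c)) : ¬ Cen E R {c, -c} := by
  refine a1_gen E big co hT (fun y hy => ?_) h hq
  obtain ⟨m, hm, t, ht, e⟩ := mem_MT_of_comm hp hl hr h5 (Set.finite_singleton (E.ι (τ u))) (c := E.ι y)
    (by rintro _ rfl; exact ⟨hT, 1, by rw [pow_one, ← map_pow, ← map_pow, ← hu, pow_orderOf_eq_one, map_one, map_one]⟩)
    (by rintro _ rfl; rw [← map_mul, hy, map_mul])
  rw [e]
  exact mul_mem (mem_sup_left hm) (mem_sup_right ht)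

/-! ### One root -/

theorem exists_tw (hc : Rt hp c) (hg : E.g c = c ∨ E.g c = -c) :
    ∃ z ∈ MS D l p {c, -c}, ∃ w : M.Group, (∀ a, wa hp w a = a - cp hp a c • c) ∧ RP hp p w (z⁻¹ * E.F z) := by
  obtain ⟨w, hw, e⟩ := exists_refl hc
  obtain ⟨z, hz, h⟩ := En.exists_move_MS E (pm_rt hc) pm_neg (by
    rintro _ (rfl | rfl)
    · exact hg
    · rw [map_neg]
      exact pm_neg _ hg) (hw _ (Or.inl rfl))
  exact ⟨z, hz, w, e, h⟩

theorem refl_self (hc : Rt hp c) : c - cp hp c c • c = -c := by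
  rw [cp_self hc]
  module

theorem refl_neg (hc : Rt hp c) : -c - cp hp (-c) c • c = c := by
  rw [cp_neg c hc, cp_self hc]
  module

/-- the fixed points of the root `SL₂` lie in `T` -/
def KT (E : Frame hp p d g0 L) (τ : U →* L) (c : Lat l) : Prop :=
  ∀ y ∈ MS D l p {c, -c}, E.F y = y → ∃ u, E.ι (τ u) = y

theorem kt_move {z : YY D p} {w : M.Group} {h : RP hp p w (z⁻¹ * E.F z)} (hz : z ∈ MS D l p {c, -c}) :
    KT (E.move z w h) τ c ↔ KT E τ c := by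
  refine ⟨fun H y hy hF => ?_, fun H y hy hF => ?_⟩
  · have e : z * (z⁻¹ * y * z) * z⁻¹ = y := by group
    obtain ⟨u, hu⟩ := H (z⁻¹ * y * z) (mul_mem (mul_mem (inv_mem hz) hy) hz) (by rw [E.move_fix, e, hF])
    rw [E.move_ι] at hu
    exact ⟨u, mul_left_cancel (mul_right_cancel hu)⟩
  · obtain ⟨u, hu⟩ := H (z * y * z⁻¹) (mul_mem (mul_mem hz hy) (inv_mem hz)) ((E.move_fix z w h).1 hF)
    exact ⟨u, by rw [E.move_ι, hu]; group⟩

theorem kt_of0 (hc : Rt hp c) (hi : Function.Injective (sl p hc)) (hg : E.g c = c) (hq : 4 ≤ E.q)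
    (H : ∀ X : Subgroup L, ⁅X, X⁆ = X → X.map E.ι ≤ MS D l p {c, -c} → X ≤ τ.range) : KT E τ c := by
  obtain ⟨κ, hκ, e⟩ := act_sl E.frob E.fr hc hc hg
  obtain ⟨v, hv0, hv⟩ := exists_fix hκ (En.two_le_q E)
  obtain ⟨u, hu0, hu, hu2⟩ := exists_unit hq
  obtain ⟨X, h1, h2⟩ := pull E (map_perf (sl p hc) (fixG_perfect (hκ := hκ) hv0 (by rw [fb_apply]; exact hv) hu0 hu hu2))
    (by rintro _ ⟨A, hA, rfl⟩; rw [e, mem_fixG.1 hA])
  intro y hy hF
  rw [← sl_range hc] at hy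
  obtain ⟨A, rfl⟩ := hy
  rw [e] at hF
  obtain ⟨x, hx, h3⟩ : sl p hc A ∈ X.map E.ι := h2 ▸ mem_map_of_mem _ (mem_fixG.2 (hi hF))
  obtain ⟨u, rfl⟩ := H X h1 (by rw [h2]; rintro _ ⟨A, -, rfl⟩; exact sl_mem hc A) hx
  exact ⟨u, h3⟩

theorem kt_of (hc : Rt hp c) (hi : Function.Injective (sl p hc)) (hg : E.g c = c ∨ E.g c = -c) (hq : 4 ≤ E.q)
    (H : ∀ X : Subgroup L, ⁅X, X⁆ = X → X.map E.ι ≤ MS D l p {c, -c} → X ≤ τ.range) : KT E τ c := by
  rcases hg with h1 | h1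
  · exact kt_of0 E hc hi h1 hq H
  obtain ⟨z, hz, w, e, h⟩ := exists_tw E hc (Or.inr h1)
  exact (kt_move E hz).1 (kt_of0 (E.move z w h) hc hi (by rw [E.move_g, h1, e, refl_neg hc]) hq
    fun X hX hle => H X hX ((le_of_move E hz).1 hle))

theorem exists_noncomm (hc : Rt hp c) (hg : E.g c = c ∨ E.g c = -c) (hK : KT E τ c) :
    ∃ v v' : U, E.ι (τ v) ∈ MS D l p {c, -c} ∧ E.ι (τ v') ∈ MS D l p {c, -c} ∧ v * v' ≠ v' * v := by
  have key : ∀ E : Frame hp p d g0 L, E.g c = c → KT E τ c →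
      ∃ v v' : U, E.ι (τ v) ∈ MS D l p {c, -c} ∧ E.ι (τ v') ∈ MS D l p {c, -c} ∧ v * v' ≠ v' * v := by
    intro E hg hK
    obtain ⟨κ, hκ, e⟩ := act_sl E.frob E.fr hc hc hg
    obtain ⟨s, hs0, hs⟩ := exists_fix hκ (En.two_le_q E)
    obtain ⟨t, ht0, ht⟩ := exists_fix (inv_ne_zero hκ) (En.two_le_q E)
    obtain ⟨v, hv⟩ := hK _ (sl_mem hc (up s)) (by rw [e, sgm_up, fb_apply]; exact congrArg _ (congrArg _ hs))
    obtain ⟨v', hv'⟩ := hK _ (sl_mem hc (lo t)) (by rw [e, sgm_lo, fb_apply]; exact congrArg _ (congrArg _ ht))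
    refine ⟨v, v', hv ▸ sl_mem hc _, hv' ▸ sl_mem hc _, fun h => not_comm (sl_ck hc) hs0 ht0 ?_⟩
    rw [← hv, ← hv', ← map_mul, ← map_mul, h, map_mul, map_mul]
  rcases hg with h1 | h1
  · exact key E h1 hK
  obtain ⟨z, hz, w, e, h⟩ := exists_tw E hc (Or.inr h1)
  obtain ⟨v, v', h2, h3, h4⟩ := key (E.move z w h) (by rw [E.move_g, h1, e, refl_neg hc]) ((kt_move E hz).2 hK)
  rw [E.move_ι, mul_mem_cancel_right hz, mul_mem_cancel_left (inv_mem hz)] at h2 h3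
  exact ⟨v, v', h2, h3, h4⟩

/-- **The final contradiction.** -/
theorem fin_K (co : Core τ α β R R') (hc : Rt hp c) (hg : E.g c = c ∨ E.g c = -c) (hK : KT E τ c) {r : ℕ} (hr : r.Prime)
    {Q : Set U} (hQ : ∀ u ∈ Q, E.ι (τ u) ∈ TT D (kb p) ∧ ∃ n : ℕ, E.ι (τ u) ^ r ^ n = 1)
    (h : ∀ a, Rt hp a → (∀ u ∈ Q, ch hp a (E.ι (τ u)) = 1) → Far hp p a c) : False := by
  obtain ⟨v, v', h1, h2, h3⟩ := exists_noncomm E hc hg hK
  have h4 : ∀ a, Rt hp a → (∀ u ∈ Q, ch hp a (E.ι (τ u)) = 1) → ∀ b ∈ ({c, -c} : Set (Lat l)), Far hp p a b := by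
    rintro a ha h5 _ (rfl | rfl)
    exacts [h a ha h5, Far.neg_right (h a ha h5) hc]
  exact h3 (fin_comm co E.inj hr hQ (mem_JJ (pm_rt hc) h4 h1) (mem_JJ (pm_rt hc) h4 h2))

theorem cp_g {ε : ℤˣ} (hc : Rt hp c) (hg : E.g c = (ε : ℤ) • c) (a : Lat l) : cp hp (E.g a) c = ε * cp hp a c := by
  have h1 := E.gcp a c hc
  rcases Int.units_eq_one_or ε with rfl | rfl
  · rw [hg, Units.val_one, one_smul] at h1
    rw [h1, Units.val_one, one_mul]
  · rw [hg, Units.val_neg, Units.val_one, neg_smul, one_smul, cp_neg_right _ hc] at h1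
    rw [← h1, Units.val_neg, Units.val_one, neg_mul_neg, one_mul]

theorem pm_of {ε : ℤˣ} (h : a = (ε : ℤ) • c) : a = c ∨ a = -c := by
  rcases Int.units_eq_one_or ε with rfl | rfl
  · exact Or.inl (by rw [h, Units.val_one, one_smul])
  · exact Or.inr (by rw [h, Units.val_neg, Units.val_one, neg_smul, one_smul])

theorem of_pm (h : a = c ∨ a = -c) : ∃ ε : ℤˣ, a = (ε : ℤ) • c := by
  rcases h with rfl | rfl
  · exact ⟨1, by rw [Units.val_one, one_smul]⟩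
  · exact ⟨-1, by rw [Units.val_neg, Units.val_one, neg_smul, one_smul]⟩

theorem zpow_q {m : ℕ} {ζ : kb p} (hζ : IsPrimitiveRoot ζ m) (h0 : ζ ≠ 0) {i j : ℤ} (h : (m : ℤ) ∣ i - j) :
    ζ ^ i = ζ ^ j := by
  have h1 := (hζ.zpow_eq_one_iff_dvd _).2 h
  rwa [zpow_sub₀ h0, div_eq_one_iff_eq (zpow_ne_zero _ h0)] at h1

theorem fix_h {ε : ℤˣ} (hc : Rt hp c) (hg : E.g c = (ε : ℤ) • c) {m : ℕ} {ζ : kb p} (hζ : IsPrimitiveRoot ζ m)
    (h0 : ζ ≠ 0) (hm : (m : ℤ) ∣ E.q - ε) : E.F (sl p hc (hS ζ)) = sl p hc (hS ζ) := by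
  refine E.fix_of_ch (sl_hS_mem hc h0) fun a ha => ?_
  rw [ch_sl_hS hc h0 ha, ch_sl_hS hc h0 (rt_g E ha), cp_g E hc hg, ← zpow_natCast, ← zpow_mul]
  refine zpow_q hζ h0 ?_
  rw [show (ε : ℤ) * cp hp a c - cp hp a c * E.q = (E.q - ε) * (-cp hp a c) by ring]
  exact hm.mul_right _

theorem h_pow (hc : Rt hp c) {m : ℕ} {ζ : kb p} (h0 : ζ ≠ 0) (h : ζ ^ m = 1) : sl p hc (hS ζ) ^ m = 1 := by
  rw [← map_pow, hS_pow h0, h, hS_one, map_one]

theorem one_core (co : Core τ α β R R') {ε : ℤˣ} (hc : Rt hp c) (hg : E.g c = (ε : ℤ) • c) (hK : KT E τ c) {r n : ℕ}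
    (hr : r.Prime) (hrp : r ≠ p) (hm : ((r ^ n : ℕ) : ℤ) ∣ E.q - ε)
    (h : ∀ a, Rt hp a → ((r ^ n : ℕ) : ℤ) ∣ cp hp a c → Far hp p a c) : False := by
  obtain ⟨ζ, hζ⟩ := exists_zeta p (m := r ^ n) (((Nat.coprime_primes hr Fact.out).2 hrp).pow_left n)
  have h0 : ζ ≠ 0 := hζ.ne_zero (pow_ne_zero n hr.ne_zero)
  obtain ⟨u, hu⟩ := hK _ (sl_mem hc _) (fix_h E hc hg hζ h0 hm)
  refine fin_K E co hc (pm_of hg) hK hr (Q := {u}) ?_ fun a ha h1 => h a ha ?_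
  · rintro _ rfl
    rw [hu]
    exact ⟨sl_hS_mem hc h0, n, h_pow hc h0 hζ.pow_eq_one⟩
  · have h2 := h1 u rfl
    rwa [hu, ch_sl_hS hc h0 ha, hζ.zpow_eq_one_iff_dvd] at h2

theorem exists_odd_prime {q : ℕ} {ε : ℤˣ} (h2 : 2 ∣ q) (hq : 3 ≤ (q : ℤ) - ε) :
    ∃ r : ℕ, r.Prime ∧ 3 ≤ r ∧ (r : ℤ) ∣ q - ε := by
  obtain ⟨r, hr, hd⟩ := Nat.exists_prime_and_dvd (n := ((q : ℤ) - ε).natAbs) (by omega)
  have h1 : (r : ℤ) ∣ q - ε := Int.natCast_dvd.2 hd
  refine ⟨r, hr, ?_, h1⟩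
  have h3 := hr.two_le
  by_contra h4
  obtain rfl : r = 2 := by omega
  rcases Int.units_eq_one_or ε with rfl | rfl
  · rw [Units.val_one] at h1
    omega
  · rw [Units.val_neg, Units.val_one] at h1
    omega

/-- **`BoxP.two`.** -/
theorem two (hl : 4 ≤ l) (E : Frame hp 2 d g0 L) (co : Core τ α β R R') (hc : Rt hp c) (hg : E.g c = c ∨ E.g c = -c)
    (hq : 4 ≤ E.q) : ¬ (MS D l 2 {c, -c}).comap E.ι ≤ τ.range := by
  intro H
  obtain ⟨ε, hε⟩ := of_pm hg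
  obtain ⟨r, hr, h3, hd⟩ := exists_odd_prime (q := E.q) (ε := ε) (dvd_pow_self 2 E.he.ne') (by
    rcases Int.units_eq_one_or ε with rfl | rfl
    · rw [Units.val_one]; omega
    · rw [Units.val_neg, Units.val_one]; omega)
  refine one_core E co hc hε (kt_of E hc (sl_inj hc (Or.inl rfl)) hg hq fun X _ h => (map_le_iff_le_comap.1 h).trans H)
    hr (n := 1) (by omega) (by rwa [pow_one]) fun a ha h => ⟨?_, Or.inl rfl⟩
  have h1 := cp_le2 hl ha hc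
  rw [pow_one] at h
  exact Int.eq_zero_of_abs_lt_dvd h (by rw [abs_lt]; omega)

/-! ### Involutions -/

/-- every simple root has an odd Cartan number -/
def TabD (D : ChevalleyDatum) (l : ℕ) : Prop := ∀ i : Fin l, ∃ j : Fin l, pairing (cartanOf D l) i (sr j) % 2 = 1

/-- orthogonal roots whose sum is a root -/
def TabO (D : ChevalleyDatum) (l : ℕ) : Prop := ∀ i : Fin l, ∀ s < D.nroots,
  (pairing (cartanOf D l) i (vec D l s) = 0 ∧ ∃ u < D.nroots, vec D l u = vec D l s + sr i) →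
    ∃ h < D.nroots, pairing (cartanOf D l) i (vec D l h) = 1 ∧ (D.chainRoot s h 1).isSome = true

theorem tabO_G2 : TabO chevG2 2 := by unfold TabO; decide +kernel

theorem tabO_F4 : TabO chevF4 4 := by unfold TabO; decide +kernel

theorem typ_cases2 (hp : IsType D l M) (hB : D ≠ chevB2) :
    TabD D l ∧ (((∀ i j, M i j ≠ 4) ∧ ∀ i j, M i j ≠ 6) ∨ TabO D l) := by
  have hp' := hp
  simp only [IsType, typeList, List.mem_cons, List.not_mem_nil, or_false, Prod.mk.injEq] at hp'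
  rcases hp' with ⟨rfl, h⟩ | ⟨rfl, h⟩ | ⟨rfl, h⟩ | ⟨rfl, h⟩ | ⟨rfl, h⟩ | ⟨rfl, h⟩ | ⟨rfl, h⟩ <;> cases h
  · exact ⟨by unfold TabD; decide +kernel, Or.inr tabO_G2⟩
  · exact absurd rfl hB
  · refine ⟨by unfold TabD; decide +kernel, Or.inl ⟨fun i j => ?_, fun i j => ?_⟩⟩ <;> fin_cases i <;> fin_cases j <;>
      decide
  · exact ⟨by unfold TabD; decide +kernel, Or.inr tabO_F4⟩
  · refine ⟨by unfold TabD; decide +kernel, Or.inl ⟨fun i j => ?_, fun i j => ?_⟩⟩ <;> fin_cases i <;> fin_cases j <;>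
      decide
  · refine ⟨by unfold TabD; decide +kernel, Or.inl ⟨fun i j => ?_, fun i j => ?_⟩⟩ <;> fin_cases i <;> fin_cases j <;>
      decide
  · refine ⟨by unfold TabD; decide +kernel, Or.inl ⟨fun i j => ?_, fun i j => ?_⟩⟩ <;> fin_cases i <;> fin_cases j <;>
      decide

theorem cp_sr (a : Lat l) (i : Fin l) : cp hp a (sr i) = pairing (cartanOf D l) i a := by
  have := finite_WW hp
  exact cpr_sr _ _ a i

theorem exists_odd (hB : D ≠ chevB2) (hc : Rt hp c) : ∃ a, Rt hp a ∧ Odd (cp hp a c) := by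
  obtain ⟨w, i, rfl⟩ := hc
  obtain ⟨j, hj⟩ := (typ_cases2 hp hB).1 i
  refine ⟨wa hp w (sr j), (rt_sr hp j).wa' w, ?_⟩
  rw [show cp hp _ _ = _ from cp_wa w (sr j) (rt_sr hp i), cp_sr]
  exact Int.odd_iff.2 hj

theorem long_of (hB : D ≠ chevB2) {φ : Lat l →+ ZMod 2} (h : A1c hp (Psi hp φ) c) (ha : Rt hp a) (h0 : cp hp a c = 0) :
    ¬ Rt hp (a + c) := by
  intro hac
  have hc := h.1.1
  have h1 : ∀ b, Rt hp b → (cp hp b c = 1 ∨ b = a + c) → φ b = 1 := by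
    intro b hb h2
    have h3 : cp hp (a + c) c = 2 := by rw [cp_add _ _ hc, h0, cp_self hc, zero_add]
    have h4 : φ b ≠ 0 := fun h4 => by
      rcases h.2 b ⟨hb, h4⟩ with e | e | e
      · rcases h2 with h2 | h2
        · rw [e, cp_self hc] at h2
          omega
        · exact ha.ne_zero' (add_eq_right.1 (h2.symm.trans e))
      · have h5 : cp hp b c = -2 := by rw [e, cp_neg _ hc, cp_self hc]
        rcases h2 with h2 | h2
        · omega
        · rw [h2] at h5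
          omega
      · rcases h2 with h2 | h2
        · omega
        · rw [h2] at e
          omega
    revert h4
    generalize φ b = x
    revert x
    decide
  rcases (typ_cases2 hp hB).2 with h2 | h2
  · have := finite_WW hp
    have h3 := Nodes.SimplyLaced.abs_cpr_le_one _ _ h2.1 h2.2 hac hc (fun e => ha.ne_zero' (add_eq_right.1 e))
      (ne_neg_of_cp hc (by rw [cp_add _ _ hc, h0, cp_self hc]; decide))
    rw [show cpr _ _ (a + c) c = _ from cp_add _ _ hc, h0, cp_self hc] at h3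
    exact absurd h3 (by decide)
  obtain ⟨w, i, e⟩ := id hc
  have e1 : wa hp w (sr i) = c := e.symm
  obtain ⟨s, hs, e2⟩ := (isRoot_iff hp _ _).1 (ha.wa' w⁻¹)
  obtain ⟨u, hu, e3⟩ := (isRoot_iff hp _ _).1 (hac.wa' w⁻¹)
  have h3 : ∀ x, cp hp (wa hp w x) c = pairing (cartanOf D l) i x := fun x => by
    rw [← e1, cp_wa w x (rt_sr hp i), cp_sr]
  obtain ⟨v, hv, h4, h5⟩ := h2 i s hs ⟨by rw [← h3, e2, wa_wa_inv, h0], u, hu, by
    rw [e3, e2, wa_add, ← e1, wa_inv_wa]⟩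
  obtain ⟨v', h6⟩ := Option.isSome_iff_exists.1 h5
  obtain ⟨hv', -, -, h7⟩ := ChevalleyStructure.RootVec.chainRoot_rt hp.checked le_rfl h6
  have h8 : wa hp w (vec D l v') = wa hp w (vec D l v) + a := by
    rw [← wa_wa_inv (hp := hp) w a, ← e2, ← wa_add]
    refine congrArg _ (funext fun j => ?_)
    have := h7 j
    rw [Nat.cast_one, one_mul] at this
    exact this
  have r1 : Rt hp (wa hp w (vec D l v)) := Rt.wa' ((isRoot_iff hp _ _).2 ⟨v, hv, rfl⟩) w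
  have r2 : Rt hp (wa hp w (vec D l v')) := Rt.wa' ((isRoot_iff hp _ _).2 ⟨v', hv', rfl⟩) w
  have h9 := h1 _ r2 (Or.inl (by rw [h8, cp_add _ _ hc, h3, h4, h0, add_zero]))
  have h10 := h1 _ hac (Or.inr rfl)
  rw [map_add, h.1.2, add_zero] at h10
  rw [h8, map_add, h1 _ r1 (Or.inl (by rw [h3, h4])), h10] at h9
  exact absurd h9 (by decide)

theorem one_long (big : Big) (co : Core τ α β R R') (hp2 : p ≠ 2) (hq : 4 ≤ E.q) (hc : Rt hp c)
    (ho : ∃ a, Rt hp a ∧ Odd (cp hp a c)) (hl : ∀ a, Rt hp a → cp hp a c = 0 → ¬ Rt hp (a + c))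
    (hg : E.g c = c ∨ E.g c = -c) : ¬ Cen E R {c, -c} := by
  have key : ∀ (E : Frame hp p d g0 L) (ε : ℤˣ), 4 ≤ E.q → E.g c = (ε : ℤ) • c → ((2 ^ 2 : ℕ) : ℤ) ∣ E.q - ε →
      ¬ Cen E R {c, -c} := by
    intro E ε hq hε hd H
    refine one_core E co hc hε (kt_of E hc (sl_inj hc (Or.inr ho)) (pm_of hε) hq fun X hX h =>
      perf_le big co hX ((map_le_iff_le_comap.1 h).trans (cen_le E H))) Nat.prime_two (Ne.symm hp2) hd fun a ha h => ?_
    have h1 := cp_le3 ha hc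
    have h2 : cp hp a c = 0 := Int.eq_zero_of_abs_lt_dvd h (by rw [abs_lt]; omega)
    exact ⟨h2, Or.inr (hl a ha h2)⟩
  obtain ⟨ε, hε⟩ := of_pm hg
  by_cases hd : ((2 ^ 2 : ℕ) : ℤ) ∣ E.q - ε
  · exact key E ε hq hε hd
  obtain ⟨z, hz, w, e, h⟩ := exists_tw E hc hg
  refine fun H => key (E.move z w h) (-ε) hq ?_ ?_ (cen_move E H hz)
  · rw [E.move_g, hε, e, cp_smul _ _ hc, cp_self hc, Units.val_neg]
    module
  · obtain ⟨k, hk⟩ : Odd E.q := ((Fact.out : p.Prime).odd_of_ne_two hp2).pow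
    rw [E.move_q, Units.val_neg]
    rcases Int.units_eq_one_or ε with rfl | rfl
    · rw [Units.val_one] at hd ⊢
      omega
    · rw [Units.val_neg, Units.val_one] at hd ⊢
      omega

/-- **The `A₁`-components of an involution.** -/
theorem one_inv (big : Big) (hB : D ≠ chevB2) (co : Core τ α β R R') (hp2 : p ≠ 2) (hq : 4 ≤ E.q)
    {φ : Lat l →+ ZMod 2} (hc : A1c hp (Psi hp φ) c) (hg : E.g c = c ∨ E.g c = -c) : ¬ Cen E R {c, -c} :=
  one_long E big co hp2 hq hc.1.1 (exists_odd hB hc.1.1) (fun a ha h => long_of hB hc ha h) hg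

end Cfsg.Agent.Cam.Ex.P
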