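import Cfsg.Agent.Cam.Spor.Core
import Cfsg.Agent.Cam.Spor.Lem
import Cfsg.Agent.Involutions.BaerSuzuki
import Cfsg.Agent.SolvableStructure.HallConverse

/-!
# S3689, S3690, `E₇` in characteristic two: the group theory (helper53)
-/

set_option autoImplicit false
set_option linter.unusedVariables false
set_option linter.unusedSectionVars false

namespace Cfsg.Agent.Cam.Ex.E2

open Subgroup Cfsg.Agent.Cam.Spor Cfsg.Agent.TwoFusion.PerfCore
open scoped commutatorElement Pointwise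

variable {L : Type} [Group L] [Finite L]

theorem eq_bot_of_pgroup {P : Subgroup L} (hP : ⁅P, P⁆ = P) {p : ℕ} [Fact p.Prime] (h : IsPGroup p P) : P = ⊥ := by
  have := h.isNilpotent
  exact eq_bot_of_perfect_of_solvable hP inferInstance

theorem exists_five {P : Subgroup L} (hP : ⁅P, P⁆ = P) (h0 : P ≠ ⊥) : ∃ r : ℕ, r.Prime ∧ 5 ≤ r ∧ ∃ w ∈ P, orderOf w = r := by
  by_contra h
  refine h0 (eq_bot_of_perfect_of_solvable hP
    (SolvableStructure.HallConverse.isSolvable_of_no_three_primes (le_trans (Finset.card_le_card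
      (t := ({2, 3} : Finset ℕ)) fun r hr => ?_) Finset.card_le_two)))
  have h1 := Nat.prime_of_mem_primeFactors hr
  have := Fact.mk h1
  obtain ⟨w, hw⟩ := exists_prime_orderOf_dvd_card' r (Nat.dvd_of_mem_primeFactors hr)
  have h3 : r < 5 := by
    by_contra h4
    exact h ⟨r, h1, by omega, w, w.2, by rw [Subgroup.orderOf_coe, hw]⟩
  have h5 := h1.two_le
  interval_cases r
  · simp
  · simp
  · exact absurd h1 (by norm_num)

/-- Baer–Suzuki for an element normalizing a simple group -/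
theorem exists_pair {T : Subgroup L} (hs : IsSimpleGroup T) (hn : ¬ IsMulCommutative T) {p : ℕ} [Fact p.Prime] {u : L}
    (hu : u ∈ normalizer (T : Set L)) (hc : ¬ ∀ t ∈ T, u * t = t * u) :
    ∃ t ∈ T, ¬ IsPGroup p (closure {u, t * u * t⁻¹} : Subgroup L) := by
  by_contra h
  push Not at h
  have hH : ∀ g ∈ T ⊔ zpowers u, ∃ t ∈ T, ∃ a ∈ zpowers u, g = t * a := by
    intro g hg
    have h1 : ((T ⊔ zpowers u : Subgroup L) : Set L) = (T : Set L) * (zpowers u : Set L) :=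
      coe_mul_of_right_le_normalizer_left T (zpowers u) (by rwa [zpowers_le])
    have h2 : g ∈ (T : Set L) * (zpowers u : Set L) := h1 ▸ hg
    obtain ⟨t, ht, a, ha, rfl⟩ := h2
    exact ⟨t, ht, a, ha, rfl⟩
  have hu' : u ∈ T ⊔ zpowers u := mem_sup_right (mem_zpowers u)
  have h1 := Involutions.BaerSuzuki.baer_suzuki_element (p := p) (⟨u, hu'⟩ : ↥(T ⊔ zpowers u)) fun g => by
    obtain ⟨t, ht, a, ha, e⟩ := hH g.1 g.2
    have e2 : a * u = u * a := by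
      obtain ⟨n, rfl⟩ := ha
      exact (Commute.zpow_self u n).eq
    refine ((h t ht).comap_of_injective (T ⊔ zpowers u).subtype (T ⊔ zpowers u).subtype_injective).to_le ?_
    rw [closure_le]
    rintro _ (rfl | rfl)
    · exact subset_closure (Or.inl rfl)
    · refine subset_closure (Or.inr ?_)
      show g.1 * u * g.1⁻¹ = t * u * t⁻¹
      rw [e, mul_assoc t a u, e2]; group
  set N := (normalClosure {(⟨u, hu'⟩ : ↥(T ⊔ zpowers u))}).map (T ⊔ zpowers u).subtype with hN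
  have h2 : IsPGroup p N := h1.map _
  have h3 : ∀ t ∈ T, ∀ n ∈ N, t * n * t⁻¹ ∈ N := by
    rintro t ht _ ⟨n, hn, rfl⟩
    exact ⟨⟨t, mem_sup_left ht⟩ * n * ⟨t, mem_sup_left ht⟩⁻¹, normalClosure_normal.conj_mem n hn _, rfl⟩
  have h4 : u ∈ N := ⟨⟨u, hu'⟩, subset_normalClosure rfl, rfl⟩
  rcases eq_bot_or_eq hs (N := N ⊓ T) inf_le_right (fun t ht n hn =>
    mem_inf.2 ⟨h3 t ht n hn.1, mul_mem (mul_mem ht (mem_inf.1 hn).2) (inv_mem ht)⟩) with h5 | h5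
  · refine hc fun t ht => ?_
    have h6 : t * u * t⁻¹ * u⁻¹ ∈ N ⊓ T := by
      refine mem_inf.2 ⟨mul_mem (h3 t ht u h4) (inv_mem h4), ?_⟩
      have := mul_mem ht (conj_mem_of_norm hu (inv_mem ht))
      simpa only [mul_assoc] using this
    rw [h5, mem_bot] at h6
    calc u * t = (t * u * t⁻¹ * u⁻¹) * (u * t) := by rw [h6, one_mul]
      _ = t * u := by group
  · have h6 : T = ⊥ := eq_bot_of_pgroup (perfect_of_simple hs hn) (h2.to_le (h5.symm.le.trans inf_le_left))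
    exact hc fun t ht => by rw [h6, mem_bot] at ht; rw [ht, mul_one, one_mul]

variable {U : Type} [Group U] [Finite U] {τ α β : U →* L} {R R' : Subgroup L}

theorem alpha_conj_mem (pr : Pair α R') {e : L} (he : e ∈ α.range ⊔ R') {t : L} (ht : t ∈ α.range) :
    e * t * e⁻¹ ∈ α.range := by
  obtain ⟨x, hx, y, hy, rfl⟩ := mem_sup_of_comm (by rintro _ ⟨v, rfl⟩ y hy; exact pr.comm v y hy) he
  obtain ⟨v, rfl⟩ := ht
  have : x * y * α v * (x * y)⁻¹ = x * α v * x⁻¹ := by rw [mul_assoc x, ← pr.comm v y hy]; group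
  rw [this]
  exact mul_mem (mul_mem hx ⟨v, rfl⟩) (inv_mem hx)

/-- the conjugates of `α U` under the normalizer of `α U R'` -/
theorem norm_or_comm (hs : IsSimpleGroup U) (pr : Pair α R') {n : L}
    (hn : n ∈ normalizer ((α.range ⊔ R' : Subgroup L) : Set L)) :
    n ∈ normalizer (α.range : Set L) ∨ ∀ a ∈ α.range, ∀ b ∈ α.range, (n * a * n⁻¹) * b = b * (n * a * n⁻¹) := by
  have h1 : ∀ e ∈ α.range ⊔ R', ∀ x, n⁻¹ * x * n ∈ α.range → n⁻¹ * (e * x * e⁻¹) * n ∈ α.range := fun e he x hx => by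
    have h2 := alpha_conj_mem pr (conj_mem_of_norm (inv_mem hn) he) hx
    have e1 : n⁻¹ * e * n⁻¹⁻¹ * (n⁻¹ * x * n) * (n⁻¹ * e * n⁻¹⁻¹)⁻¹ = n⁻¹ * (e * x * e⁻¹) * n := by group
    rwa [e1] at h2
  rcases eq_bot_or_eq (range_simple hs pr.inj) (N := α.range ⊓ α.range.comap (MulAut.conj n⁻¹).toMonoidHom) inf_le_left
    (fun t ht x hx => mem_inf.2 ⟨mul_mem (mul_mem ht (mem_inf.1 hx).1) (inv_mem ht), by
      have h2 : n⁻¹ * x * n⁻¹⁻¹ ∈ α.range := hx.2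
      show n⁻¹ * (t * x * t⁻¹) * n⁻¹⁻¹ ∈ α.range
      rw [inv_inv] at h2 ⊢
      exact h1 t (mem_sup_left ht) x h2⟩) with h | h
  · refine Or.inr fun a ha b hb => ?_
    have h2 : ⁅n * a * n⁻¹, b⁆ ∈ α.range ⊓ α.range.comap (MulAut.conj n⁻¹).toMonoidHom := by
      refine mem_inf.2 ⟨?_, ?_⟩
      · exact mul_mem (alpha_conj_mem pr (conj_mem_of_norm hn (mem_sup_left ha)) hb) (inv_mem hb)
      · show n⁻¹ * ⁅n * a * n⁻¹, b⁆ * n⁻¹⁻¹ ∈ α.range
        have h3 := h1 b (mem_sup_left hb) (n * a⁻¹ * n⁻¹) (by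
          have : n⁻¹ * (n * a⁻¹ * n⁻¹) * n = a⁻¹ := by group
          rw [this]; exact inv_mem ha)
        have e : n⁻¹ * ⁅n * a * n⁻¹, b⁆ * n⁻¹⁻¹ = a * (n⁻¹ * (b * (n * a⁻¹ * n⁻¹) * b⁻¹) * n) := by
          rw [commutatorElement_def]; group
        rw [e]
        exact mul_mem ha h3
    rw [h, mem_bot] at h2
    exact commutatorElement_eq_one_iff_mul_comm.1 h2
  · refine Or.inl (inv_mem_iff.1 (mem_normalizer_of fun y hy => ?_))
    exact (h.symm.le hy).2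

theorem exists_not_two (hs : IsSimpleGroup U) (hn : ¬ IsMulCommutative U) : ∃ a : U, ∀ k : ℕ, a ^ 2 ^ k ≠ 1 := by
  by_contra h
  push Not at h
  have := Fact.mk Nat.prime_two
  have h1 : IsPGroup 2 (⊤ : Subgroup U) := fun g => by
    obtain ⟨k, hk⟩ := h g.1
    exact ⟨k, Subtype.ext hk⟩
  have h2 := eq_bot_of_pgroup (commutator_top hs hn) h1
  refine hn ⟨⟨fun a b => ?_⟩⟩
  have ha : a ∈ (⊥ : Subgroup U) := h2 ▸ mem_top a
  rw [mem_bot.1 ha, one_mul, mul_one]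

/-- the centralizer of all the images of `A` under the stabilizer of `E` -/
def orbC (E A : Subgroup L) : Subgroup L where
  carrier := {x | ∀ θ : MulAut L, E.map θ.toMonoidHom = E → ∀ a ∈ A, θ a * x = x * θ a}
  one_mem' := fun θ _ a _ => by rw [mul_one, one_mul]
  mul_mem' := fun {x y} hx hy θ h a ha => by rw [← mul_assoc, hx θ h a ha, mul_assoc, hy θ h a ha, mul_assoc]
  inv_mem' := fun {x} hx θ h a ha => by
    rw [mul_inv_eq_iff_eq_mul, mul_assoc, hx θ h a ha, inv_mul_cancel_left]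

theorem mem_orbC {E A : Subgroup L} {x : L} :
    x ∈ orbC E A ↔ ∀ θ : MulAut L, E.map θ.toMonoidHom = E → ∀ a ∈ A, θ a * x = x * θ a := Iff.rfl

theorem stab_one (E : Subgroup L) : E.map (1 : MulAut L).toMonoidHom = E := map_id E

theorem stab_mul {E : Subgroup L} {θ θ' : MulAut L} (h : E.map θ.toMonoidHom = E) (h' : E.map θ'.toMonoidHom = E) :
    E.map (θ * θ').toMonoidHom = E := by
  have : (θ * θ').toMonoidHom = θ.toMonoidHom.comp θ'.toMonoidHom := rfl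
  rw [this, ← map_map, h', h]

theorem stab_inv {E : Subgroup L} {θ : MulAut L} (h : E.map θ.toMonoidHom = E) : E.map θ⁻¹.toMonoidHom = E := by
  conv_lhs => rw [← h]
  rw [map_map]
  have : θ⁻¹.toMonoidHom.comp θ.toMonoidHom = MonoidHom.id L := MonoidHom.ext fun x => θ.symm_apply_apply x
  rw [this, map_id]

theorem stab_mem {E : Subgroup L} {θ : MulAut L} (h : E.map θ.toMonoidHom = E) {x : L} (hx : x ∈ E) : θ x ∈ E :=
  h ▸ mem_map_of_mem θ.toMonoidHom hx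

theorem orbC_mem {E A : Subgroup L} {θ : MulAut L} (h : E.map θ.toMonoidHom = E) {x : L} (hx : x ∈ orbC E A) :
    θ x ∈ orbC E A := fun θ' h' a ha => by
  have h1 := congrArg θ (hx (θ⁻¹ * θ') (stab_mul (stab_inv h) h') a ha)
  rwa [map_mul, map_mul, MulAut.mul_apply, MulAut.apply_inv_self] at h1

/-- `max` for `α U R'` -/
theorem orbC_le (c : Core τ α β R R') (hL : IsSimpleGroup L) (hL' : ¬ IsMulCommutative L) {A : Subgroup L} (hA : A ≠ ⊥) :
    orbC (α.range ⊔ R') A ≤ normalizer ((α.range ⊔ R' : Subgroup L) : Set L) := by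
  obtain ⟨θ₀, h₀⟩ := c.hconj
  have h1 := (c.map θ₀).max
  rw [range_comp_equiv, ← Subgroup.map_sup, ← h₀] at h1
  refine h1 _ (fun h => hA (eq_bot_iff.2 fun a ha => ?_)) fun θ hθ => le_antisymm ?_ fun x hx => ?_
  · refine mem_bot.2 (eq_one_of_comm hL hL' fun x => ?_)
    have h2 : x ∈ orbC (α.range ⊔ R') A := h ▸ mem_top x
    exact h2 1 (stab_one _) a ha
  · rintro _ ⟨x, hx, rfl⟩
    exact orbC_mem hθ hx
  · exact ⟨θ⁻¹ x, orbC_mem (stab_inv hθ) hx, MulAut.apply_inv_self L θ x⟩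

/-- `E` lies in the direct product of `K` and `C` -/
structure Sp (E K C : Subgroup L) : Prop where
  perf : ⁅E, E⁆ = E
  dec : ∀ e ∈ E, ∃ k ∈ K, k⁻¹ * e ∈ C
  disj : ∀ x ∈ K, x ∈ C → x = 1
  comm : ∀ k ∈ K, ∀ c ∈ C, k * c = c * k
  two : ∀ A B : Subgroup L, A ≤ E → B ≤ E → ⁅A, A⁆ = A → (∀ a ∈ A, ∀ b ∈ B, a * b = b * a) → A ≤ C ∨ B ≤ C
  norm : K ≤ normalizer (E : Set L)

variable {E K C K' C' : Subgroup L}

theorem Sp.map (h : Sp E K C) {θ : MulAut L} (hθ : E.map θ.toMonoidHom = E) :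
    Sp E (K.map θ.toMonoidHom) (C.map θ.toMonoidHom) where
  perf := h.perf
  dec e he := by
    obtain ⟨k, hk, h1⟩ := h.dec _ (stab_mem (stab_inv hθ) he)
    refine ⟨θ k, mem_map_of_mem _ hk, k⁻¹ * θ⁻¹ e, h1, ?_⟩
    show θ (k⁻¹ * θ⁻¹ e) = _
    rw [map_mul, map_inv, MulAut.apply_inv_self]
  disj := by
    rintro _ ⟨x, hx, rfl⟩ hx'
    rw [h.disj x hx ((mem_map_equiv' θ).1 hx'), map_one]
  comm := by
    rintro _ ⟨x, hx, rfl⟩ _ ⟨y, hy, rfl⟩
    rw [← map_mul, h.comm x hx y hy, map_mul]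
  two A B hA hB hp hc := by
    have key : ∀ X : Subgroup L, X.map θ⁻¹.toMonoidHom ≤ C → X ≤ C.map θ.toMonoidHom := fun X hX x hx =>
      ⟨θ⁻¹ x, hX (mem_map_of_mem _ hx), MulAut.apply_inv_self L θ x⟩
    refine (h.two (A.map θ⁻¹.toMonoidHom) (B.map θ⁻¹.toMonoidHom) ((map_mono hA).trans (stab_inv hθ).le)
      ((map_mono hB).trans (stab_inv hθ).le) (map_perfect hp _) ?_).imp (key A) (key B)
    rintro _ ⟨x, hx, rfl⟩ _ ⟨y, hy, rfl⟩
    rw [← map_mul, hc x hx y hy, map_mul]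
  norm := by
    rintro _ ⟨x, hx, rfl⟩
    have := (mem_normalizer_equiv θ).2 (h.norm hx)
    rwa [hθ] at this

theorem Sp.le_sup (h : Sp E K C) : E ≤ C ⊔ K ⊓ E := by
  conv_lhs => rw [← h.perf]
  rw [commutator_le]
  intro e he e' he'
  obtain ⟨k, hk, hc⟩ := h.dec e he
  obtain ⟨k', hk', hc'⟩ := h.dec e' he'
  obtain ⟨c, rfl⟩ : ∃ c, e = k * c := ⟨k⁻¹ * e, by group⟩
  obtain ⟨c', rfl⟩ : ∃ c', e' = k' * c' := ⟨k'⁻¹ * e', by group⟩
  rw [inv_mul_cancel_left] at hc hc'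
  have c1 : Commute k c := h.comm k hk c hc
  have c2 : Commute k c' := h.comm k hk c' hc'
  have c3 : Commute k' c := h.comm k' hk' c hc
  have c4 : Commute k' c' := h.comm k' hk' c' hc'
  have hcc : ⁅c, c'⁆ ∈ C := mul_mem (mul_mem (mul_mem hc hc') (inv_mem hc)) (inv_mem hc')
  have hkk : ⁅k, k'⁆ ∈ K := mul_mem (mul_mem (mul_mem hk hk') (inv_mem hk)) (inv_mem hk')
  have e1 : ⁅k, k' * c'⁆ = ⁅k, k'⁆ := by
    rw [commutatorElement_def, commutatorElement_def, mul_assoc k, mul_assoc k', c2.inv_left.symm.eq]; group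
  have e2 : ⁅k * c, k' * c'⁆ = ⁅k, k'⁆ * ⁅c, c'⁆ := by
    have d1 : Commute k' ⁅c, c'⁆ := h.comm k' hk' _ hcc
    have d2 : Commute k ⁅c, c'⁆ := h.comm k hk _ hcc
    calc ⁅k * c, k' * c'⁆ = k * (c * k') * (c' * c⁻¹ * k⁻¹ * c'⁻¹) * k'⁻¹ := by rw [commutatorElement_def]; group
      _ = k * k' * (⁅c, c'⁆ * k⁻¹) * k'⁻¹ := by
        rw [← c3.eq, mul_assoc (c' * c⁻¹), c2.inv_inv.eq, commutatorElement_def]; group
      _ = k * k' * k⁻¹ * (⁅c, c'⁆ * k'⁻¹) := by rw [← d2.inv_left.eq]; group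
      _ = _ := by rw [← d1.inv_left.eq, commutatorElement_def k k']; group
  rw [e2]
  refine mul_mem (mem_sup_right (mem_inf.2 ⟨hkk, ?_⟩)) (mem_sup_left hcc)
  rw [← e1]
  exact mul_mem (conj_mem_of_norm (h.norm hk) he') (inv_mem he')

theorem Sp.comm' (h : Sp E K C) : ∀ x ∈ C, ∀ a ∈ K ⊓ E, x * a = a * x := fun x hx a ha => (h.comm a ha.1 x hx).symm

theorem Sp.perfect (h : Sp E K C) : ⁅K ⊓ E, K ⊓ E⁆ = K ⊓ E := by
  have h0 : ⁅K ⊓ E, K ⊓ E⁆ ≤ K ⊓ E := commutator_le.2 fun a ha b hb =>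
    mul_mem (mul_mem (mul_mem ha hb) (inv_mem ha)) (inv_mem hb)
  refine le_antisymm h0 fun x hx => ?_
  have h1 : E ≤ C ⊔ ⁅K ⊓ E, K ⊓ E⁆ :=
    h.perf.symm.le.trans ((commutator_mono h.le_sup h.le_sup).trans (commutator_sup_le h.comm'))
  obtain ⟨c, hc, y, hy, rfl⟩ := mem_sup_of_comm (fun x hx a ha => h.comm' x hx a (h0 ha)) (h1 hx.2)
  have h2 : c ∈ K := by simpa using mul_mem (mem_inf.1 hx).1 (inv_mem (mem_inf.1 (h0 hy)).1)
  rwa [h.disj c h2 hc, one_mul]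

theorem Sp.ne_bot (h : Sp E K C) (hE : ¬ E ≤ C) : K ⊓ E ≠ ⊥ := fun h0 => hE (by
  have := h.le_sup
  rwa [h0, sup_bot_eq] at this)

theorem Sp.le_of (h : Sp E K C) (h' : Sp E K' C') (h1 : C ⊓ E ≤ C') (h2 : C' ⊓ E ≤ C) : K ⊓ E ≤ K' ⊓ E := by
  have hc : ∀ x ∈ K' ⊓ E, ∀ a ∈ C' ⊓ E ⊓ centralizer ((C' ⊓ E : Subgroup L) : Set L), x * a = a * x :=
    fun x hx a ha => h'.comm x hx.1 a ha.1.1
  have h3 : K ⊓ E ≤ K' ⊓ E ⊔ C' ⊓ E ⊓ centralizer ((C' ⊓ E : Subgroup L) : Set L) := fun x hx => by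
    obtain ⟨c, hc, y, hy, rfl⟩ := mem_sup_of_comm h'.comm' (h'.le_sup hx.2)
    have h4 : c ∈ E := by simpa using mul_mem (mem_inf.1 hx).2 (inv_mem (mem_inf.1 hy).2)
    refine mul_mem (mem_sup_right ⟨⟨hc, h4⟩, mem_centralizer_iff.2 fun z hz => ?_⟩) (mem_sup_left hy)
    have e1 := h.comm _ hx.1 z (h2 hz)
    have e2 := h'.comm _ hy.1 z hz.1
    rw [mul_assoc, e2, ← mul_assoc, ← mul_assoc] at e1
    exact (mul_right_cancel e1).symm
  refine h.perfect.symm.le.trans ((commutator_mono h3 h3).trans ((commutator_sup_le hc).trans (sup_le le_rfl ?_)))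
  rw [commutator_le]
  intro a ha b hb
  rw [commutatorElement_eq_one_iff_mul_comm.2 (mem_centralizer_iff.1 hb.2 a ha.1)]
  exact one_mem _

/-- two factors are equal or commute -/
theorem Sp.eq_or_comm (h : Sp E K C) (h' : Sp E K' C') :
    K ⊓ E = K' ⊓ E ∨ ∀ a ∈ K ⊓ E, ∀ b ∈ K' ⊓ E, a * b = b * a := by
  rcases h.two (K' ⊓ E) (C' ⊓ E) inf_le_right inf_le_right h'.perfect (fun a ha b hb => h'.comm a ha.1 b hb.1) with
    h1 | h1
  · exact Or.inr fun a ha b hb => h.comm a ha.1 b (h1 hb)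
  rcases h'.two (K ⊓ E) (C ⊓ E) inf_le_right inf_le_right h.perfect (fun a ha b hb => h.comm a ha.1 b hb.1) with
    h2 | h2
  · exact Or.inr fun a ha b hb => (h'.comm b hb.1 a (h2 ha)).symm
  exact Or.inl (le_antisymm (h.le_of h' h2 h1) (h'.le_of h h1 h2))

theorem Sp.orb (h : Sp E K C) {θ θ' : MulAut L} (hθ : E.map θ.toMonoidHom = E) (hθ' : E.map θ'.toMonoidHom = E) :
    (K ⊓ E).map θ.toMonoidHom = (K ⊓ E).map θ'.toMonoidHom ∨
      ∀ a ∈ (K ⊓ E).map θ.toMonoidHom, ∀ b ∈ (K ⊓ E).map θ'.toMonoidHom, a * b = b * a := by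
  rw [map_inf _ _ _ θ.injective, map_inf _ _ _ θ'.injective, hθ, hθ']
  exact (h.map hθ).eq_or_comm (h.map hθ')

end Cfsg.Agent.Cam.Ex.E2
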