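import Cfsg.Agent.Cam.Ex.Iface
import Cfsg.Agent.H931.KC.Alcove

/-!
# The finite check, part 0: lists and root tables (helper12)

Vectors are lists of integers; `Tab` says that a list of triples (positive root, coroot functional, norm) is the table of
the positive roots.
-/

set_option autoImplicit false
set_option linter.unusedVariables false
set_option linter.unusedSectionVars false

namespace Cfsg.Agent.Cam.Ex.Cb

open CoxeterSystem Cfsg Cfsg.Lie
open Cfsg.Agent.ChevalleyStructure.CoxeterGeom Cfsg.Agent.ChevalleyStructure.CoxeterGeomTypes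
open Cfsg.Agent.Tits.Roots Cfsg.Agent.Nodes.RGDChev Cfsg.Agent.Nodes.Coroot Cfsg.Agent.Nodes.SubComb
open Cfsg.Agent.H931.KC (hr psi psi_apply psi_sr eq_psi)
open Cfsg.Agent.H92.NE (bl bl_apply bl_comm bl_sr bl_sr_sr FormOK bl_rep)
open Cfsg.Agent.H129.WData (Mat)

/-- vectors -/
abbrev V : Type := List ℤ

/-- the coordinates -/
noncomputable def gt (x : V) : ℕ → ℤ :=
  List.rec (motive := fun _ => ℕ → ℤ) (fun _ => 0) (fun a _ ih n => Nat.casesOn (motive := fun _ => ℤ) n a ih) x

theorem gt_nil (n : ℕ) : gt [] n = 0 := rfl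
theorem gt_zero (a : ℤ) (x : V) : gt (a :: x) 0 = a := rfl
theorem gt_succ (a : ℤ) (x : V) (n : ℕ) : gt (a :: x) (n + 1) = gt x n := rfl

/-- the dot product -/
noncomputable def dot (x : V) : V → ℤ :=
  List.rec (motive := fun _ => V → ℤ) (fun _ => 0)
    (fun a _ ih y => List.casesOn (motive := fun _ => ℤ) y 0 (fun b y' => Int.add (Int.mul a b) (ih y'))) x

theorem dot_nil (y : V) : dot [] y = 0 := rfl
theorem dot_cons_nil (a : ℤ) (x : V) : dot (a :: x) [] = 0 := rfl
theorem dot_cons (a b : ℤ) (x y : V) : dot (a :: x) (b :: y) = a * b + dot x y := rfl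

/-- `x - c y` -/
noncomputable def axpy (c : ℤ) (x : V) : V → V :=
  List.rec (motive := fun _ => V → V) (fun _ => [])
    (fun a x' ih y => List.casesOn (motive := fun _ => V) y (a :: x')
      (fun b y' => Int.sub a (Int.mul c b) :: ih y')) x

theorem axpy_nil (c : ℤ) (y : V) : axpy c [] y = [] := rfl
theorem axpy_cons_nil (c a : ℤ) (x : V) : axpy c (a :: x) [] = a :: x := rfl
theorem axpy_cons (c a b : ℤ) (x y : V) : axpy c (a :: x) (b :: y) = (a - c * b) :: axpy c x y := rfl

/-- equality of integers -/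
def ieq (a b : ℤ) : Bool := decide (a = b)

theorem ieq_iff {a b : ℤ} : ieq a b = true ↔ a = b := decide_eq_true_iff

/-- equality of vectors -/
noncomputable def leq (x : V) : V → Bool :=
  List.rec (motive := fun _ => V → Bool) (fun y => List.casesOn (motive := fun _ => Bool) y true (fun _ _ => false))
    (fun a _ ih y => List.casesOn (motive := fun _ => Bool) y false (fun b y' => cond (ieq a b) (ih y') false)) x

theorem leq_iff {x y : V} : leq x y = true ↔ x = y := by
  induction x generalizing y with
  | nil =>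
    cases y with
    | nil => exact ⟨fun _ => rfl, fun _ => rfl⟩
    | cons b y => exact ⟨fun h => absurd h Bool.false_ne_true, fun h => absurd h (List.cons_ne_nil b y).symm⟩
  | cons a x ih =>
    cases y with
    | nil => exact ⟨fun h => absurd h Bool.false_ne_true, fun h => absurd h (List.cons_ne_nil a x)⟩
    | cons b y =>
      show cond (ieq a b) (leq x y) false = true ↔ _
      rw [List.cons.injEq, ← ih, ← ieq_iff]
      cases ieq a b <;> simp

/-- all -/
noncomputable def al {α : Type} (p : α → Bool) (x : List α) : Bool :=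
  List.rec (motive := fun _ => Bool) true (fun a _ ih => cond (p a) ih false) x

theorem al_iff {α : Type} {p : α → Bool} {x : List α} : al p x = true ↔ ∀ a ∈ x, p a = true := by
  induction x with
  | nil => exact ⟨fun _ a ha => absurd ha List.not_mem_nil, fun _ => rfl⟩
  | cons a x ih =>
    show cond (p a) (al p x) false = true ↔ _
    rw [List.forall_mem_cons, ← ih]
    cases p a <;> simp

/-- any -/
noncomputable def an {α : Type} (p : α → Bool) (x : List α) : Bool :=
  List.rec (motive := fun _ => Bool) false (fun a _ ih => cond (p a) true ih) x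

theorem an_iff {α : Type} {p : α → Bool} {x : List α} : an p x = true ↔ ∃ a ∈ x, p a = true := by
  induction x with
  | nil => exact ⟨fun h => absurd h Bool.false_ne_true, fun ⟨a, ha, _⟩ => absurd ha List.not_mem_nil⟩
  | cons a x ih =>
    show cond (p a) true (an p x) = true ↔ _
    rw [List.exists_mem_cons_iff, ← ih]
    cases p a <;> simp

/-- filter -/
noncomputable def fl {α : Type} (p : α → Bool) (x : List α) : List α :=
  List.rec (motive := fun _ => List α) [] (fun a _ ih => cond (p a) (a :: ih) ih) x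

theorem mem_fl {α : Type} {p : α → Bool} {x : List α} {a : α} : a ∈ fl p x ↔ a ∈ x ∧ p a = true := by
  induction x with
  | nil => exact ⟨fun h => absurd h List.not_mem_nil, fun h => absurd h.1 List.not_mem_nil⟩
  | cons b x ih =>
    show a ∈ cond (p b) (b :: fl p x) (fl p x) ↔ _
    cases h : p b
    · rw [cond_false, ih, List.mem_cons]
      constructor
      · exact fun h1 => ⟨Or.inr h1.1, h1.2⟩
      · rintro ⟨rfl | h1, h2⟩
        · rw [h] at h2; exact absurd h2 Bool.false_ne_true
        · exact ⟨h1, h2⟩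
    · rw [cond_true, List.mem_cons, ih, List.mem_cons]
      constructor
      · rintro (rfl | h1)
        · exact ⟨Or.inl rfl, h⟩
        · exact ⟨Or.inr h1.1, h1.2⟩
      · rintro ⟨rfl | h1, h2⟩
        · exact Or.inl rfl
        · exact Or.inr ⟨h1, h2⟩

/-- count -/
noncomputable def cnt {α : Type} (p : α → Bool) (x : List α) : ℕ :=
  List.rec (motive := fun _ => ℕ) 0 (fun a _ ih => cond (p a) (Nat.succ ih) ih) x

theorem cnt_eq {α : Type} (p : α → Bool) (x : List α) : cnt p x = x.countP p := by
  induction x with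
  | nil => rfl
  | cons a x ih =>
    show cond (p a) (Nat.succ (cnt p x)) (cnt p x) = _
    rw [List.countP_cons, ih]
    cases p a <;> simp

/-- the vector of a list -/
noncomputable def toF (l : ℕ) (x : V) : Lat l := fun i => gt x i

theorem toF_apply {l : ℕ} (x : V) (i : Fin l) : toF l x i = gt x i := rfl

theorem gt_of_le {x : V} {n : ℕ} (h : x.length ≤ n) : gt x n = 0 := by
  induction x generalizing n with
  | nil => rfl
  | cons a x ih =>
    cases n with
    | zero => simp at h
    | succ n => rw [gt_succ]; exact ih (by simpa using h)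

theorem dot_eq {l : ℕ} {x : V} (hx : x.length = l) (y : V) : dot x y = ∑ i : Fin l, toF l x i * toF l y i := by
  subst hx
  induction x generalizing y with
  | nil => rfl
  | cons a x ih =>
    cases y with
    | nil =>
      rw [dot_cons_nil]
      exact (Finset.sum_eq_zero fun i _ => by rw [toF_apply [], gt_nil, mul_zero]).symm
    | cons b y =>
      rw [dot_cons, ih y]
      show _ = ∑ i : Fin (x.length + 1), _
      rw [Fin.sum_univ_succ]
      rfl

theorem psi_toF {l : ℕ} {x : V} (hx : x.length = l) (y : V) : psi (toF l y) (toF l x) = dot x y := by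
  rw [dot_eq hx, psi_apply]

theorem length_axpy (c : ℤ) (x y : V) : (axpy c x y).length = x.length := by
  induction x generalizing y with
  | nil => rfl
  | cons a x ih =>
    cases y with
    | nil => rfl
    | cons b y => rw [axpy_cons, List.length_cons, ih, List.length_cons]

theorem gt_axpy (c : ℤ) {x : V} (y : V) {n : ℕ} (h : n < x.length) : gt (axpy c x y) n = gt x n - c * gt y n := by
  induction x generalizing y n with
  | nil => simp at h
  | cons a x ih =>
    cases y with
    | nil => rw [axpy_cons_nil, gt_nil, mul_zero, sub_zero]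
    | cons b y =>
      cases n with
      | zero => rfl
      | succ n => rw [axpy_cons, gt_succ, gt_succ, gt_succ]; exact ih y (by simpa using h)

theorem toF_axpy {l : ℕ} (c : ℤ) {x : V} (hx : x.length = l) (y : V) :
    toF l (axpy c x y) = toF l x - c • toF l y := by
  funext i
  rw [toF_apply, gt_axpy c y (by rw [hx]; exact i.2)]
  rfl

theorem gt_ofFn {l : ℕ} (f : Fin l → ℤ) (i : Fin l) : gt (List.ofFn f) i = f i := by
  induction l with
  | zero => exact i.elim0
  | succ l ih =>
    rw [List.ofFn_succ]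
    refine Fin.cases rfl (fun i => ?_) i
    exact ih (fun j => f j.succ) i

theorem toF_ofFn {l : ℕ} (f : Fin l → ℤ) : toF l (List.ofFn f) = f := funext (gt_ofFn f)

theorem ofFn_toF {l : ℕ} {x : V} (hx : x.length = l) : List.ofFn (toF l x) = x := by
  subst hx
  induction x with
  | nil => rfl
  | cons a x ih =>
    show List.ofFn (n := x.length + 1) _ = _
    rw [List.ofFn_succ]
    exact congrArg (a :: ·) ih

theorem toF_inj {l : ℕ} {x y : V} (hx : x.length = l) (hy : y.length = l) (h : toF l x = toF l y) : x = y := by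
  rw [← ofFn_toF hx, h, ofFn_toF hy]

theorem psi_sub_smul {l : ℕ} (x y a : Lat l) (c : ℤ) : psi (x - c • y) a = psi x a - c * psi y a := by
  rw [psi_apply, psi_apply, psi_apply, Finset.mul_sum, ← Finset.sum_sub_distrib]
  exact Finset.sum_congr rfl fun i _ => by rw [Pi.sub_apply, Pi.smul_apply, smul_eq_mul]; ring

theorem psi_neg {l : ℕ} (x a : Lat l) : psi (-x) a = -psi x a := by
  rw [psi_apply, psi_apply, ← Finset.sum_neg_distrib]
  exact Finset.sum_congr rfl fun i _ => by rw [Pi.neg_apply]; ring

theorem psi_sr' {l : ℕ} (i : Fin l) (a : Lat l) : psi (sr i) a = a i := by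
  rw [psi_apply, Finset.sum_eq_single i]
  · rw [sr_self, mul_one]
  · intro j _ hj
    rw [sr_ne hj, mul_zero]
  · intro h
    exact absurd (Finset.mem_univ i) h

/-- an additive map is determined by its values on the simple roots -/
theorem eq_sum {l : ℕ} {K : Type} [CommRing K] (φ : Lat l →+ K) (x : Lat l) : φ x = ∑ i, (x i : K) * φ (sr i) := by
  have h : x = ∑ i, x i • (sr i : Lat l) := by
    funext j
    rw [Finset.sum_apply, Finset.sum_eq_single j]
    · rw [Pi.smul_apply, sr_self, smul_eq_mul, mul_one]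
    · intro i _ hi
      rw [Pi.smul_apply, sr_ne (Ne.symm hi), smul_zero]
    · intro h
      exact absurd (Finset.mem_univ j) h
  conv_lhs => rw [h]
  rw [map_sum]
  exact Finset.sum_congr rfl fun j _ => by rw [map_zsmul, zsmul_eq_mul]

/-- a table entry: positive root, coroot functional, norm -/
structure Ent where
  /-- the root -/
  b : V
  /-- the values of the coroot on the simple roots -/
  cv : V
  /-- the norm -/
  n : ℤ

/-- the data of a type -/
structure Dt where
  /-- the positive roots -/
  T : List Ent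
  /-- the maximal norm -/
  mx : ℤ
  /-- the rows of the Cartan matrix -/
  C : List V
  /-- the highest root -/
  H : V

/-- the row `j` -/
noncomputable def row (C : List V) : ℕ → V :=
  List.rec (motive := fun _ => ℕ → V) (fun _ => []) (fun a _ ih n => Nat.casesOn (motive := fun _ => V) n a ih) C

/-- no repetition -/
noncomputable def nd (x : List V) : Bool :=
  List.rec (motive := fun _ => Bool) true (fun a x' ih => cond (an (leq a) x') false ih) x

theorem nodup_of_nd {x : List V} (h : nd x = true) : x.Nodup := by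
  induction x with
  | nil => exact List.nodup_nil
  | cons a x ih =>
    have h' : cond (an (leq a) x) false (nd x) = true := h
    cases h1 : an (leq a) x
    · rw [h1, cond_false] at h'
      refine List.nodup_cons.2 ⟨fun h2 => ?_, ih h'⟩
      have : an (leq a) x = true := an_iff.2 ⟨a, h2, leq_iff.2 rfl⟩
      rw [h1] at this
      exact Bool.false_ne_true this
    · rw [h1, cond_true] at h'
      exact absurd h' Bool.false_ne_true

/-- the check of a table -/
def TabChk (D : ChevalleyDatum) (l : ℕ) (Bm : Mat l) (d : Dt) : Prop :=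
  FormOK D l Bm ∧
  (∀ e ∈ d.T, e.b.length = l ∧ e.cv.length = l ∧ (∀ i : Fin l, 0 ≤ gt e.b i) ∧ 0 < e.n ∧ e.n ≤ d.mx ∧
    dot e.b e.cv = 2 ∧ (∀ i : Fin l, 2 * ∑ j : Fin l, Bm i j * gt e.b j = e.n * gt e.cv i) ∧
    an (fun r => leq (List.ofFn (vec D l r)) e.b) (List.range D.nroots) = true) ∧
  al (fun r => an (fun e => leq (List.ofFn (vec D l r)) e.b || leq (List.ofFn (-vec D l r)) e.b) d.T)
    (List.range D.nroots) = true ∧
  nd (d.T.map Ent.b) = true ∧ (∀ j i : Fin l, gt (row d.C j) i = cartanOf D l j i) ∧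
  (∀ i : Fin l, gt d.H i = hr D l i)

variable {D : ChevalleyDatum} {l : ℕ} {M : CoxeterMatrix (Fin l)} (hp : IsType D l M)

/-- far roots -/
noncomputable def far (d : Dt) (e c : Ent) : Bool :=
  cond (ieq (dot e.b c.cv) 0) (decide (d.mx < Int.add e.n c.n)) false

/-- the table of the positive roots -/
structure Tab (d : Dt) : Prop where
  lb : ∀ e ∈ d.T, e.b.length = l
  lc : ∀ e ∈ d.T, e.cv.length = l
  rt : ∀ e ∈ d.T, Rt hp (toF l e.b)
  pos : ∀ e ∈ d.T, 0 ≤ toF l e.b
  sur : ∀ a, Rt hp a → ∃ e ∈ d.T, a = toF l e.b ∨ a = -toF l e.b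
  cpe : ∀ e ∈ d.T, ∀ a, cp hp a (toF l e.b) = psi (toF l e.cv) a
  fr : ∀ e ∈ d.T, ∀ c ∈ d.T, far d e c = true → ¬ Rt hp (toF l e.b + toF l c.b) ∧ ¬ Rt hp (-toF l e.b + toF l c.b)
  nodup : (d.T.map Ent.b).Nodup
  car : ∀ j : Fin l, toF l (row d.C j) = cartanOf D l j
  hi : toF l d.H = hr D l

theorem two_bl {Bm : Mat l} (hF : FormOK D l Bm) {y : Lat l} (hy : Rt hp y) (a : Lat l) :
    2 * bl Bm y a = bl Bm y y * cp hp a y := by
  have := finite_W hp M.toCoxeterSystem
  obtain ⟨u, j, rfl⟩ := hy
  have key : ∀ z : Fin l → ℤ, 2 * bl Bm z (sr j) = Bm j j * pairing (cartanOf D l) j z := by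
    intro z
    rw [bl_sr]
    unfold pairing
    rw [Finset.mul_sum, Finset.mul_sum]
    refine Finset.sum_congr rfl fun j' _ => ?_
    rw [← mul_assoc, hF.2 j j', mul_assoc]
  show _ = _ * cpr _ _ _ _
  rw [cpr_rep_sr, bl_rep hp hF, bl_sr_sr, ← key, ← bl_rep hp hF u (sr j), rep_apply_inv, bl_comm hF.1]

theorem tab_of {Bm : Mat l} {d : Dt} (h : TabChk D l Bm d) : Tab hp d := by
  obtain ⟨hF, h1, h2, h3, h4, h5⟩ := h
  have hrt : ∀ e ∈ d.T, Rt hp (toF l e.b) := by
    intro e he
    obtain ⟨r, hr1, hr2⟩ := an_iff.1 (h1 e he).2.2.2.2.2.2.2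
    rw [← leq_iff.1 hr2, toF_ofFn]
    exact isRoot_vec hp M.toCoxeterSystem (List.mem_range.1 hr1)
  have hsur : ∀ a, Rt hp a → ∃ e ∈ d.T, a = toF l e.b ∨ a = -toF l e.b := by
    intro a ha
    obtain ⟨r, hr1, rfl⟩ := (isRoot_iff hp M.toCoxeterSystem a).1 ha
    obtain ⟨e, he, h6⟩ := an_iff.1 (al_iff.1 h2 r (List.mem_range.2 hr1))
    refine ⟨e, he, ?_⟩
    rcases Bool.or_eq_true_iff.1 h6 with h7 | h7
    · left; rw [← leq_iff.1 h7, toF_ofFn]
    · right; rw [← leq_iff.1 h7, toF_ofFn, neg_neg]
  have hb : ∀ e ∈ d.T, ∀ a, 2 * bl Bm (toF l e.b) a = e.n * psi (toF l e.cv) a := by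
    intro e he a
    rw [eq_psi (bl Bm (toF l e.b)) a, psi_apply, Finset.mul_sum, Finset.mul_sum]
    refine Finset.sum_congr rfl fun i _ => ?_
    have h6 := (h1 e he).2.2.2.2.2.2.1 i
    rw [bl_sr]
    simp only [toF_apply]
    linear_combination a i * h6
  have hn : ∀ e ∈ d.T, bl Bm (toF l e.b) (toF l e.b) = e.n := by
    intro e he
    have h6 := hb e he (toF l e.b)
    rw [psi_toF (h1 e he).1, (h1 e he).2.2.2.2.2.1] at h6
    omega
  have hmx : ∀ a, Rt hp a → bl Bm a a ≤ d.mx := by
    intro a ha
    obtain ⟨e, he, h6 | h6⟩ := hsur a ha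
    · rw [h6, hn e he]; exact (h1 e he).2.2.2.2.1
    · rw [h6, map_neg, bl_comm hF.1, map_neg, neg_neg, hn e he]; exact (h1 e he).2.2.2.2.1
  refine ⟨fun e he => (h1 e he).1, fun e he => (h1 e he).2.1, hrt, fun e he i => (h1 e he).2.2.1 i, hsur, ?_, ?_,
    nodup_of_nd h3, fun j => funext (h4 j), funext h5⟩
  · intro e he a
    have h6 := two_bl hp hF (hrt e he) a
    rw [hb e he, hn e he] at h6
    exact (mul_left_cancel₀ (h1 e he).2.2.2.1.ne' h6).symm
  · intro e he c hc hf
    unfold far at hf
    cases h6 : ieq (dot e.b c.cv) 0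
    · rw [h6, cond_false] at hf; exact absurd hf Bool.false_ne_true
    rw [h6, cond_true, decide_eq_true_iff] at hf
    have hf' : d.mx < e.n + c.n := hf
    have h7 : bl Bm (toF l c.b) (toF l e.b) = 0 := by
      have h8 := hb c hc (toF l e.b)
      rw [psi_toF (h1 e he).1, ieq_iff.1 h6] at h8
      omega
    have h8 : bl Bm (toF l e.b) (toF l c.b) = 0 := by rw [bl_comm hF.1, h7]
    constructor
    · intro h9
      have h10 := hmx _ h9
      rw [map_add, bl_comm hF.1 (toF l e.b), bl_comm hF.1 (toF l c.b), map_add, map_add, h7, h8, hn e he, hn c hc] at h10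
      omega
    · intro h9
      have h10 := hmx _ h9
      rw [map_add, map_neg, bl_comm hF.1 (toF l e.b), bl_comm hF.1 (toF l c.b), map_add, map_add, map_neg, map_neg, h7,
        h8, hn e he, hn c hc] at h10
      omega

end Cfsg.Agent.Cam.Ex.Cb
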