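import Cfsg.Agent.Cam.Ex.Cb0

/-!
# The finite check, part 1: transport, words, counting, moduli (helper12)
-/

set_option autoImplicit false
set_option linter.unusedVariables false
set_option linter.unusedSectionVars false

namespace Cfsg.Agent.Cam.Ex.Cb

open CoxeterSystem Cfsg Cfsg.Lie
open Cfsg.Agent.ChevalleyStructure.CoxeterGeom Cfsg.Agent.ChevalleyStructure.CoxeterGeomTypes
open Cfsg.Agent.Tits.Roots Cfsg.Agent.Nodes.RGDChev Cfsg.Agent.Nodes.Coroot Cfsg.Agent.Nodes.SubComb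
open Cfsg.Agent.H931.KC (hr psi psi_apply psi_sr eq_psi)
open Cfsg.Agent.BpExc.Fr (repAut)
open Cfsg.Agent.BpExc.SubBN (WS rfl_mul_self)

variable {D : ChevalleyDatum} {l : ℕ} {M : CoxeterMatrix (Fin l)} (hp : IsType D l M)

theorem wa_mul (v w : M.Group) (a : Lat l) : wa hp (v * w) a = wa hp v (wa hp w a) := rep_mul_apply _ _ v w a
theorem wa_inv (w : M.Group) (a : Lat l) : wa hp w⁻¹ (wa hp w a) = a := rep_inv_apply _ _ w a
theorem wa_inv' (w : M.Group) (a : Lat l) : wa hp w (wa hp w⁻¹ a) = a := rep_apply_inv _ _ w a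
theorem wa_one (a : Lat l) : wa hp 1 a = a := by
  show rep _ _ 1 a = a
  rw [map_one, Module.End.one_apply]
theorem wa_neg (w : M.Group) (a : Lat l) : wa hp w (-a) = -wa hp w a := map_neg _ a
theorem wa_add (w : M.Group) (a b : Lat l) : wa hp w (a + b) = wa hp w a + wa hp w b := map_add _ a b
theorem wa_sub (w : M.Group) (a b : Lat l) : wa hp w (a - b) = wa hp w a - wa hp w b := map_sub _ a b
theorem wa_smul (w : M.Group) (c : ℤ) (a : Lat l) : wa hp w (c • a) = c • wa hp w a := map_smul _ c a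
theorem wa_inj {w : M.Group} {a b : Lat l} (h : wa hp w a = wa hp w b) : a = b := by
  rw [← wa_inv hp w a, h, wa_inv]

theorem rt_wa (w : M.Group) (a : Lat l) : Rt hp (wa hp w a) ↔ Rt hp a :=
  ⟨fun h => by have := h.act w⁻¹; rwa [rep_inv_apply] at this, fun h => h.act w⟩

theorem rt_sr (i : Fin l) : Rt hp (sr i) := ⟨1, i, (wa_one hp _).symm⟩

theorem cp_wa (w : M.Group) (a : Lat l) {c : Lat l} (hc : Rt hp c) : cp hp (wa hp w a) (wa hp w c) = cp hp a c := by
  have := finite_W hp M.toCoxeterSystem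
  exact cpr_rep _ _ w a hc

theorem cp_self {c : Lat l} (hc : Rt hp c) : cp hp c c = 2 := by
  have := finite_W hp M.toCoxeterSystem
  exact cpr_self _ _ hc

theorem cp_neg_right (a : Lat l) {c : Lat l} (hc : Rt hp c) : cp hp a (-c) = -cp hp a c := by
  have := finite_W hp M.toCoxeterSystem
  exact cpr_neg_right _ _ a hc

theorem cp_neg (a : Lat l) {c : Lat l} (hc : Rt hp c) : cp hp (-a) c = -cp hp a c := by
  have := finite_W hp M.toCoxeterSystem
  exact cpr_neg _ _ a hc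

theorem cp_add (a b : Lat l) {c : Lat l} (hc : Rt hp c) : cp hp (a + b) c = cp hp a c + cp hp b c := by
  have := finite_W hp M.toCoxeterSystem
  exact cpr_add _ _ a b hc

theorem cp_zero_comm {a c : Lat l} (ha : Rt hp a) (hc : Rt hp c) : cp hp a c = 0 ↔ cp hp c a = 0 := by
  have := finite_W hp M.toCoxeterSystem
  exact cpr_zero_comm _ _ ha hc

theorem wa_rfl (u : M.Group) (j : Fin l) (a : Lat l) :
    wa hp (rfl' M.toCoxeterSystem u j) a = a - cp hp a (wa hp u (sr j)) • wa hp u (sr j) := by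
  have := finite_W hp M.toCoxeterSystem
  exact rep_rfl'_eq _ _ u j a

theorem wa_simple (j : Fin l) (a : Lat l) :
    wa hp (M.toCoxeterSystem.simple j) a = a - psi (cartanOf D l j) a • sr j := by
  show rep _ _ _ a = _
  rw [rep_simple_eq, psi_apply]
  unfold pairing
  congr 2
  exact Finset.sum_congr rfl fun i _ => mul_comm _ _

/-- induction over a reflection group -/
theorem WW_ind {S : Set (Lat l)} {P : M.Group → Prop} (h1 : P 1)
    (h2 : ∀ u j w, wa hp u (sr j) ∈ S → P w → P (rfl' M.toCoxeterSystem u j * w)) {w : M.Group} (hw : w ∈ WW hp S) :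
    P w := by
  unfold WW WS at hw
  induction hw using Subgroup.closure_induction_left with
  | one => exact h1
  | mul_left x hx y _ ih =>
    obtain ⟨u, j, h3, rfl⟩ := hx
    exact h2 u j y h3 ih
  | inv_mul_cancel x hx y _ ih =>
    obtain ⟨u, j, h3, rfl⟩ := hx
    rw [inv_eq_of_mul_eq_one_right (rfl_mul_self u j)]
    exact h2 u j y h3 ih

theorem rfl_mem {S : Set (Lat l)} {u : M.Group} {j : Fin l} (h : wa hp u (sr j) ∈ S) :
    rfl' M.toCoxeterSystem u j ∈ WW hp S := Subgroup.subset_closure ⟨u, j, h, rfl⟩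

section comp

variable {K : Type} [AddCommGroup K]

/-- composition with an element of `W` -/
noncomputable def cw (φ : Lat l →+ K) (w : M.Group) : Lat l →+ K :=
  φ.comp (rep M.toCoxeterSystem hp.isCartan w).toAddMonoidHom

theorem cw_apply (φ : Lat l →+ K) (w : M.Group) (a : Lat l) : cw hp φ w a = φ (wa hp w a) := rfl

theorem cw_add (φ ψ : Lat l →+ K) (w : M.Group) : cw hp φ w + cw hp ψ w = cw hp (φ + ψ) w := rfl

theorem cw_ne {φ : Lat l →+ K} (h : φ ≠ 0) (w : M.Group) : cw hp φ w ≠ 0 := by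
  intro h1
  refine h (AddMonoidHom.ext fun a => ?_)
  have := DFunLike.congr_fun h1 (wa hp w⁻¹ a)
  rw [cw_apply, wa_inv'] at this
  exact this

theorem mem_cw {φ : Lat l →+ K} {w : M.Group} {a : Lat l} : a ∈ Psi hp (cw hp φ w) ↔ wa hp w a ∈ Psi hp φ :=
  and_congr (rt_wa hp w a).symm Iff.rfl

theorem neg_mem_Psi {φ : Lat l →+ K} {a : Lat l} (h : a ∈ Psi hp φ) : -a ∈ Psi hp φ :=
  ⟨h.1.neg, by rw [map_neg, h.2, neg_zero]⟩

/-- `W (Psi φ)` fixes `φ` -/
theorem fixs_of_mem {φ : Lat l →+ K} {S : Set (Lat l)} (hS : ∀ a ∈ S, φ a = 0) {w : M.Group} (hw : w ∈ WW hp S) :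
    Fixs hp w φ := by
  refine WW_ind hp (P := fun w => Fixs hp w φ) (fun a => by rw [wa_one]) (fun u j w h1 h2 a => ?_) hw
  rw [wa_mul, wa_rfl, map_sub, map_zsmul, hS _ h1, smul_zero, sub_zero, h2 a]

theorem conj_mem_WW {φ : Lat l →+ K} {v : M.Group} (hv : v ∈ WW hp (Psi hp φ)) (w : M.Group) :
    w⁻¹ * v * w ∈ WW hp (Psi hp (cw hp φ w)) := by
  refine WW_ind hp (P := fun v => w⁻¹ * v * w ∈ WW hp (Psi hp (cw hp φ w))) ?_ (fun u j v h1 h2 => ?_) hv
  · show w⁻¹ * 1 * w ∈ _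
    rw [mul_one, inv_mul_cancel]
    exact one_mem _
  · have e : w⁻¹ * (rfl' M.toCoxeterSystem u j * v) * w = rfl' M.toCoxeterSystem (w⁻¹ * u) j * (w⁻¹ * v * w) := by
      unfold rfl'
      group
    show w⁻¹ * (rfl' M.toCoxeterSystem u j * v) * w ∈ _
    rw [e]
    refine mul_mem (rfl_mem hp ?_) h2
    rw [mem_cw, wa_mul, wa_inv']
    exact h1

theorem neg_conj {φ : Lat l →+ K} {v : M.Group} (hv : Neg hp v φ) (w : M.Group) :
    Neg hp (w⁻¹ * v * w) (cw hp φ w) := by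
  intro a
  rw [cw_apply, cw_apply, wa_mul, wa_mul, wa_inv', hv]

theorem K1_cw {p : ℕ} {φ : Lat l →+ K} (h : K1 hp p (Psi hp φ)) (w : M.Group) : K1 hp p (Psi hp (cw hp φ w)) := by
  intro c hc h1
  refine h (wa hp w c) (hc.act w) fun a ha => ?_
  have h2 : wa hp w⁻¹ a ∈ Psi hp (cw hp φ w) := by rw [mem_cw, wa_inv']; exact ha
  obtain ⟨h3, h4⟩ := h1 _ h2
  refine ⟨?_, h4.imp id fun h5 h6 => h5 ?_⟩
  · rw [← cp_wa hp w _ hc, wa_inv'] at h3
    exact h3
  · rw [← rt_wa hp w, wa_add, wa_inv']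
    exact h6

theorem ncard_comp {K' : Type} [AddCommGroup K'] {φ : Lat l →+ K} {ψ : Lat l →+ K'} (h : Lat l ≃+ Lat l)
    (hr : ∀ a, Rt hp (h a) ↔ Rt hp a) (e : ∀ a, Rt hp a → (ψ a = 0 ↔ φ (h a) = 0)) :
    (Psi hp ψ).ncard = (Psi hp φ).ncard := by
  have e1 : Psi hp φ = h '' Psi hp ψ := by
    ext a
    constructor
    · intro ha
      have h1 : Rt hp (h.symm a) := by rw [← hr, AddEquiv.apply_symm_apply]; exact ha.1
      refine ⟨h.symm a, ⟨h1, (e _ h1).2 ?_⟩, AddEquiv.apply_symm_apply _ _⟩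
      rw [AddEquiv.apply_symm_apply]
      exact ha.2
    · rintro ⟨b, hb, rfl⟩
      exact ⟨(hr b).2 hb.1, (e b hb.1).1 hb.2⟩
  rw [e1, Set.ncard_image_of_injective _ h.injective]

theorem ncard_cw (φ : Lat l →+ K) (w : M.Group) : (Psi hp (cw hp φ w)).ncard = (Psi hp φ).ncard :=
  ncard_comp hp (repAut M.toCoxeterSystem hp.isCartan w) (rt_wa hp w) fun _ _ => Iff.rfl

end comp

/-- conjugation of a lattice automorphism -/
noncomputable def gw (g : Lat l ≃+ Lat l) (w : M.Group) : Lat l ≃+ Lat l :=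
  ((repAut M.toCoxeterSystem hp.isCartan w).trans g).trans (repAut M.toCoxeterSystem hp.isCartan w⁻¹)

theorem gw_apply (g : Lat l ≃+ Lat l) (w : M.Group) (a : Lat l) : gw hp g w a = wa hp w⁻¹ (g (wa hp w a)) := rfl

/-- `Cmb` without `g0` -/
structure Cm (p q r : ℕ) (g : Lat l ≃+ Lat l) (A B : Lat l →+ ZMod r) : Prop where
  prime : r.Prime
  five : 5 ≤ r
  two : 2 ≤ q
  root : ∀ a, Rt hp (g a) ↔ Rt hp a
  gcp : ∀ a c, Rt hp c → cp hp (g a) (g c) = cp hp a c
  a0 : A ≠ 0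
  b0 : B ≠ 0
  x0 : A + B ≠ 0
  frA : ∀ a, A (g a) = (q : ZMod r) * A a
  frB : ∀ a, B (g a) = (q : ZMod r) * B a
  k2a : ∃ w ∈ WW hp (Psi hp A), Neg hp w B
  k2b : ∃ w ∈ WW hp (Psi hp B), Neg hp w A
  k1x : K1 hp p (Psi hp (A + B))
  k1a : K1 hp p (Psi hp A)
  k3 : ∀ c, A1c hp (Psi hp (A + B)) c → (∀ w, Neg hp w (A + B) → wa hp w c = c ∨ wa hp w c = -c) →
    (4 ≤ q ∨ (g c ≠ c ∧ g c ≠ -c)) → A c = 0
  max : (Psi hp A).ncard ≤ (Psi hp (A + B)).ncard
  k5 : ∀ Z : Lat l →+ ZMod r, Z ≠ 0 → Psi hp (A + B) ⊆ Psi hp Z → (∀ a, Z (g a) = (q : ZMod r) * Z a) →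
    (∃ w, Neg hp w (A + B) ∧ Neg hp w Z) → (Psi hp Z).ncard ≤ (Psi hp (A + B)).ncard

variable {hp}

theorem cm_of {p q r : ℕ} {g0 g : Lat l ≃+ Lat l} {A B : Lat l →+ ZMod r} (C : Cmb hp p q r g0 g A B) :
    Cm hp p q r g A B :=
  ⟨C.prime, C.five, C.two, C.root, C.gcp, C.a0, C.b0, C.x0, C.frA, C.frB, C.k2a, C.k2b, C.k1x, C.k1a, C.k3, C.max, C.k5⟩

theorem Cm.frX {p q r : ℕ} {g : Lat l ≃+ Lat l} {A B : Lat l →+ ZMod r} (C : Cm hp p q r g A B) (a : Lat l) :
    (A + B) (g a) = (q : ZMod r) * (A + B) a := by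
  rw [AddMonoidHom.add_apply, AddMonoidHom.add_apply, C.frA, C.frB, mul_add]

theorem Cm.act {p q r : ℕ} {g : Lat l ≃+ Lat l} {A B : Lat l →+ ZMod r} (C : Cm hp p q r g A B) (w : M.Group) :
    Cm hp p q r (gw hp g w) (cw hp A w) (cw hp B w) where
  prime := C.prime
  five := C.five
  two := C.two
  root a := by rw [gw_apply, rt_wa, C.root, rt_wa]
  gcp a c hc := by
    rw [gw_apply, gw_apply, cp_wa hp _ _ ((C.root _).2 (hc.act w)), C.gcp _ _ (hc.act w), cp_wa hp _ _ hc]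
  a0 := cw_ne hp C.a0 w
  b0 := cw_ne hp C.b0 w
  x0 := by rw [cw_add]; exact cw_ne hp C.x0 w
  frA a := by rw [cw_apply, cw_apply, gw_apply, wa_inv', C.frA]
  frB a := by rw [cw_apply, cw_apply, gw_apply, wa_inv', C.frB]
  k2a := by
    obtain ⟨v, h1, h2⟩ := C.k2a
    exact ⟨_, conj_mem_WW hp h1 w, neg_conj hp h2 w⟩
  k2b := by
    obtain ⟨v, h1, h2⟩ := C.k2b
    exact ⟨_, conj_mem_WW hp h1 w, neg_conj hp h2 w⟩
  k1x := by rw [cw_add]; exact K1_cw hp C.k1x w
  k1a := K1_cw hp C.k1a w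
  k3 c h1 h2 h3 := by
    rw [cw_add] at h1 h2
    rw [cw_apply]
    refine C.k3 _ ⟨(mem_cw hp).1 h1.1, fun a ha => ?_⟩ (fun v hv => ?_) (h3.imp id fun h4 => ⟨fun h5 => h4.1 ?_,
      fun h5 => h4.2 ?_⟩)
    · have h4 : wa hp w⁻¹ a ∈ Psi hp (cw hp (A + B) w) := by rw [mem_cw, wa_inv']; exact ha
      rcases h1.2 _ h4 with h5 | h5 | h5
      · left; rw [← h5, wa_inv']
      · right; left; rw [← wa_neg, ← h5, wa_inv']
      · right; right; rw [← cp_wa hp w _ h1.1.1, wa_inv'] at h5; exact h5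
    · rcases h2 _ (neg_conj hp hv w) with h4 | h4
      · left
        rw [wa_mul, wa_mul] at h4
        conv_rhs => rw [← h4, wa_inv']
      · right
        rw [wa_mul, wa_mul] at h4
        rw [← wa_neg, ← h4, wa_inv']
    · rw [gw_apply, h5, wa_inv]
    · rw [gw_apply, h5, wa_neg, wa_inv]
  max := by rw [cw_add, ncard_cw, ncard_cw]; exact C.max
  k5 Z h1 h2 h3 h4 := by
    rw [cw_add] at h2 h4 ⊢
    rw [ncard_cw, ← ncard_cw hp Z w⁻¹]
    refine C.k5 _ (cw_ne hp h1 _) (fun a ha => ?_) (fun a => ?_) ?_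
    · rw [mem_cw]
      apply h2
      rw [mem_cw, wa_inv']
      exact ha
    · have h5 := h3 (wa hp w⁻¹ a)
      rw [gw_apply, wa_inv'] at h5
      exact h5
    · obtain ⟨v, h5, h6⟩ := h4
      refine ⟨w⁻¹⁻¹ * v * w⁻¹, fun a => ?_, neg_conj hp h6 w⁻¹⟩
      have h7 := h5 (wa hp w⁻¹ a)
      rw [cw_apply, cw_apply, wa_inv'] at h7
      rw [inv_inv, wa_mul, wa_mul, h7]

/-- `a - b` is conjugate to `a + b` -/
theorem Cm.exists_sub {p q r : ℕ} {g : Lat l ≃+ Lat l} {A B : Lat l →+ ZMod r} (C : Cm hp p q r g A B) :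
    ∃ w, ∀ a, (A + B) (wa hp w a) = A a - B a := by
  obtain ⟨w, h1, h2⟩ := C.k2a
  refine ⟨w, fun a => ?_⟩
  rw [AddMonoidHom.add_apply, h2 a, fixs_of_mem hp (fun a ha => ha.2) h1 a, sub_eq_add_neg]

/-- `x` is real -/
theorem Cm.exists_neg {p q r : ℕ} {g : Lat l ≃+ Lat l} {A B : Lat l →+ ZMod r} (C : Cm hp p q r g A B) :
    ∃ w, Neg hp w (A + B) := by
  obtain ⟨w, h1, h2⟩ := C.k2a
  obtain ⟨v, h3, h4⟩ := C.k2b
  refine ⟨v * w, fun a => ?_⟩
  rw [AddMonoidHom.add_apply, AddMonoidHom.add_apply, wa_mul, h4, fixs_of_mem hp (fun a ha => ha.2) h3, h2,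
    fixs_of_mem hp (fun a ha => ha.2) h1 a, neg_add]

variable (hp)

theorem a1c_fix {S : Set (Lat l)} (hS : ∀ a ∈ S, Rt hp a) {c : Lat l} (hc : A1c hp S c) {u : M.Group}
    (hu : u ∈ WW hp S) : wa hp u c = c ∨ wa hp u c = -c := by
  have hr := hS c hc.1
  have key : ∀ v j, wa hp v (sr j) ∈ S → wa hp (rfl' M.toCoxeterSystem v j) c = c ∨
      wa hp (rfl' M.toCoxeterSystem v j) c = -c := by
    intro v j h1
    rw [wa_rfl]
    rcases hc.2 _ h1 with h2 | h2 | h2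
    · right; rw [h2, cp_self hp hr, two_smul]; abel
    · right; rw [h2, cp_neg_right hp _ hr, cp_self hp hr, neg_smul_neg, two_smul]; abel
    · left; rw [(cp_zero_comm hp (hS _ h1) hr).1 h2, zero_smul, sub_zero]
  refine WW_ind hp (P := fun u => wa hp u c = c ∨ wa hp u c = -c) (Or.inl (wa_one hp c)) (fun v j w h1 h2 => ?_) hu
  show wa hp (_ * w) c = c ∨ wa hp (_ * w) c = -c
  rw [wa_mul]
  rcases h2 with h2 | h2
  · rw [h2]; exact key v j h1
  · rw [h2, wa_neg]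
    rcases key v j h1 with h3 | h3
    · right; rw [h3]
    · left; rw [h3, neg_neg]

variable {hp}

/-- `K3` with one element of `W` -/
theorem Cm.k3' (hc : BoxConn) (hl : l ≤ 7) {p q r : ℕ} {g : Lat l ≃+ Lat l} {A B : Lat l →+ ZMod r}
    (C : Cm hp p q r g A B) {c : Lat l} (h1 : A1c hp (Psi hp (A + B)) c) {w0 : M.Group} (hn : Neg hp w0 (A + B))
    (hw : wa hp w0 c = c ∨ wa hp w0 c = -c) (hq : 4 ≤ q ∨ (g c ≠ c ∧ g c ≠ -c)) : A c = 0 := by
  refine C.k3 c h1 (fun w hw1 => ?_) hq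
  have h2 : Fixs hp (w * w0⁻¹) (A + B) := by
    intro a
    have h3 := hn (wa hp w0⁻¹ a)
    rw [wa_inv'] at h3
    rw [wa_mul, hw1, h3]
  have h3 := hc D l M hp hl r C.prime C.five {A + B} (w * w0⁻¹) (fun φ hφ => by rw [Set.mem_singleton_iff.1 hφ]; exact h2)
  have e : {a | Rt hp a ∧ ∀ φ ∈ ({A + B} : Set (Lat l →+ ZMod r)), φ a = 0} = Psi hp (A + B) := by
    ext a
    exact and_congr Iff.rfl ⟨fun h => h _ rfl, fun h φ hφ => by rw [Set.mem_singleton_iff.1 hφ]; exact h⟩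
  rw [e] at h3
  have h4 := a1c_fix hp (fun a ha => ha.1) h1 h3
  have e2 : wa hp w c = wa hp (w * w0⁻¹) (wa hp w0 c) := by rw [wa_mul, wa_inv]
  rw [e2]
  rcases hw with h5 | h5
  · rw [h5]; exact h4
  · rw [h5, wa_neg]
    rcases h4 with h6 | h6
    · right; rw [h6]
    · left; rw [h6, neg_neg]

/-! ### moduli -/

/-- `m ∣ n` -/
def zr (m n : ℤ) : Bool := ieq (Int.emod n m) 0

theorem zr_iff {m n : ℤ} : zr m n = true ↔ m ∣ n := by
  unfold zr
  rw [ieq_iff]
  exact Int.dvd_iff_emod_eq_zero.symm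

/-- `n` is a unit -/
def nz (m K n : ℤ) : Bool := cond (ieq m 0) (zr n K) (!zr m n)

/-- the class of the modulus -/
def Md (r : ℕ) (m K : ℤ) : Prop := (m = 0 ∧ ¬ (r : ℤ) ∣ K) ∨ (m = r ∧ m ≠ 0)

theorem Md.dvd {r : ℕ} {m K : ℤ} (h : Md r m K) : (r : ℤ) ∣ m := by
  rcases h with h | h
  · rw [h.1]; exact dvd_zero _
  · rw [h.1]

theorem Md.zero {r : ℕ} {m K n : ℤ} (h : Md r m K) (h1 : zr m n = true) : (n : ZMod r) = 0 :=
  (ZMod.intCast_zmod_eq_zero_iff_dvd n r).2 (h.dvd.trans (zr_iff.1 h1))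

theorem Md.ne {r : ℕ} {m K n : ℤ} (h : Md r m K) (h1 : nz m K n = true) : (n : ZMod r) ≠ 0 := by
  rw [Ne, ZMod.intCast_zmod_eq_zero_iff_dvd]
  intro h2
  unfold nz at h1
  rcases h with h | h
  · rw [ieq_iff.2 h.1, cond_true] at h1
    exact h.2 (h2.trans (zr_iff.1 h1))
  · have h3 : ieq m 0 = false := by
      cases h4 : ieq m 0
      · rfl
      · exact absurd (ieq_iff.1 h4) h.2
    rw [h3, cond_false, zr_iff.2 (h.1 ▸ h2)] at h1
    exact Bool.false_ne_true h1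

theorem md6 {r : ℕ} (hr : r.Prime) (h5 : 5 ≤ r) : Md r 0 46656 := by
  refine Or.inl ⟨rfl, fun h => ?_⟩
  have h1 : r ∣ (2 * 3) ^ 6 := by exact_mod_cast h
  rcases (Nat.Prime.dvd_mul hr).1 (hr.dvd_of_dvd_pow h1) with h2 | h2
  · have := Nat.le_of_dvd (by norm_num) h2; omega
  · have := Nat.le_of_dvd (by norm_num) h2; omega

theorem md210 {r : ℕ} (hr : r.Prime) (h5 : 8 ≤ r) : Md r 0 85766121000000 := by
  refine Or.inl ⟨rfl, fun h => ?_⟩
  have h1 : r ∣ (2 * 3 * (5 * 7)) ^ 6 := by exact_mod_cast h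
  rcases (Nat.Prime.dvd_mul hr).1 (hr.dvd_of_dvd_pow h1) with h2 | h2 <;>
    rcases (Nat.Prime.dvd_mul hr).1 h2 with h2 | h2 <;>
    · have := Nat.le_of_dvd (by norm_num) h2; omega

theorem un6 {r : ℕ} (hr : r.Prime) (h5 : 5 ≤ r) {n : ℤ} (h : n ∣ 46656) : (n : ZMod r) ≠ 0 :=
  (md6 hr h5).ne (zr_iff.2 h)

theorem four_le {q r : ℕ} (hr : r.Prime) (h5 : 5 ≤ r) (h2 : 2 ≤ q) (h : (q : ZMod r) = 1 ∨ (q : ZMod r) = -1) :
    4 ≤ q := by
  by_contra h4
  have h6 : q = 2 ∨ q = 3 := by omega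
  rcases h6 with rfl | rfl <;> rcases h with h | h
  · exact un6 hr h5 (n := 1) (by norm_num) (by push_cast at h ⊢; linear_combination h)
  · exact un6 hr h5 (n := 3) (by norm_num) (by push_cast at h ⊢; linear_combination h)
  · exact un6 hr h5 (n := 2) (by norm_num) (by push_cast at h ⊢; linear_combination h)
  · exact un6 hr h5 (n := 4) (by norm_num) (by push_cast at h ⊢; linear_combination h)

/-! ### words -/

variable (hp)

/-- a simple reflection -/
noncomputable def sI (M : CoxeterMatrix (Fin l)) (j : ℕ) : M.Group :=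
  if h : j < l then M.toCoxeterSystem.simple ⟨j, h⟩ else 1

/-- the element of a word -/
noncomputable def wd (M : CoxeterMatrix (Fin l)) (ω : List ℕ) : M.Group := (ω.map (sI M)).prod

/-- a simple reflection on functionals -/
noncomputable def fs (C : List V) (j : ℕ) (μ : V) : V := axpy (gt μ j) μ (row C j)

/-- a word on functionals -/
noncomputable def fw (C : List V) (ω : List ℕ) : V → V :=
  List.rec (motive := fun _ => V → V) (fun μ => μ) (fun j _ ih μ => ih (fs C j μ)) ω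

theorem length_fs (C : List V) (j : ℕ) (μ : V) : (fs C j μ).length = μ.length := length_axpy _ _ _

theorem length_fw (C : List V) (ω : List ℕ) (μ : V) : (fw C ω μ).length = μ.length := by
  induction ω generalizing μ with
  | nil => rfl
  | cons j ω ih => exact (ih (fs C j μ)).trans (length_fs C j μ)

variable {hp} {d : Dt} (hT : Tab hp d)
include hT

theorem Tab.psi_fs (j : ℕ) {μ : V} (hμ : μ.length = l) (a : Lat l) :
    psi (toF l (fs d.C j μ)) a = psi (toF l μ) (wa hp (sI M j) a) := by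
  unfold fs sI
  rw [toF_axpy _ hμ, psi_sub_smul]
  by_cases h : j < l
  · rw [dif_pos h, wa_simple, map_sub, map_zsmul, psi_sr, smul_eq_mul, ← hT.car ⟨j, h⟩, mul_comm]
    rfl
  · rw [dif_neg h, wa_one, gt_of_le (by omega), zero_mul, sub_zero]

theorem Tab.psi_fw (ω : List ℕ) {μ : V} (hμ : μ.length = l) (a : Lat l) :
    psi (toF l (fw d.C ω μ)) a = psi (toF l μ) (wa hp (wd M ω) a) := by
  induction ω generalizing μ with
  | nil =>
    show psi (toF l μ) a = psi (toF l μ) (wa hp 1 a)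
    rw [wa_one]
  | cons j ω ih =>
    show psi (toF l (fw d.C ω (fs d.C j μ))) a = psi (toF l μ) (wa hp (sI M j * wd M ω) a)
    rw [ih ((length_fs _ _ _).trans hμ), hT.psi_fs j hμ, wa_mul]

/-! ### counting -/

theorem Tab.psi_b {e : Ent} (he : e ∈ d.T) (μ : V) : psi (toF l μ) (toF l e.b) = dot e.b μ := psi_toF (hT.lb e he) μ

theorem Tab.cp_b {e c : Ent} (he : e ∈ d.T) (hc : c ∈ d.T) : cp hp (toF l e.b) (toF l c.b) = dot e.b c.cv := by
  rw [hT.cpe c hc, hT.psi_b he]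

theorem Tab.ncard_eq {K : Type} [AddCommGroup K] (φ : Lat l →+ K) {P : Ent → Bool}
    (hP : ∀ e ∈ d.T, P e = true ↔ φ (toF l e.b) = 0) : (Psi hp φ).ncard = 2 * cnt P d.T := by
  classical
  set L : List (Lat l) := (d.T.filter P).map fun e => toF l e.b with hL
  have hnd : L.Nodup := by
    have h1 : (d.T.map fun e => toF l e.b).Nodup := by
      have h2 : (d.T.map fun e => toF l e.b) = (d.T.map Ent.b).map (toF l) := by rw [List.map_map]; rfl
      rw [h2]
      refine List.Nodup.map_on (fun x hx y hy h => ?_) hT.nodup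
      obtain ⟨e, he, rfl⟩ := List.mem_map.1 hx
      obtain ⟨e', he', rfl⟩ := List.mem_map.1 hy
      exact toF_inj (hT.lb e he) (hT.lb e' he') h
    exact h1.sublist (List.filter_sublist.map _)
  have hmem : ∀ a, a ∈ L ↔ ∃ e ∈ d.T, P e = true ∧ toF l e.b = a := by
    intro a
    rw [hL, List.mem_map]
    constructor
    · rintro ⟨e, he, h1⟩
      exact ⟨e, (List.mem_filter.1 he).1, (List.mem_filter.1 he).2, h1⟩
    · rintro ⟨e, he, h1, h2⟩
      exact ⟨e, List.mem_filter.2 ⟨he, h1⟩, h2⟩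
  have e1 : Psi hp φ = (↑L.toFinset : Set (Lat l)) ∪ (fun a => -a) '' (↑L.toFinset : Set (Lat l)) := by
    ext a
    constructor
    · intro ha
      obtain ⟨e, he, h1 | h1⟩ := hT.sur a ha.1
      · left
        rw [Finset.mem_coe, List.mem_toFinset, hmem]
        exact ⟨e, he, (hP e he).2 (h1 ▸ ha.2), h1.symm⟩
      · right
        refine ⟨toF l e.b, ?_, h1.symm⟩
        rw [Finset.mem_coe, List.mem_toFinset, hmem]
        refine ⟨e, he, (hP e he).2 ?_, rfl⟩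
        have h2 := ha.2
        rwa [h1, map_neg, neg_eq_zero] at h2
    · rintro (h1 | ⟨b, h1, rfl⟩)
      · rw [Finset.mem_coe, List.mem_toFinset, hmem] at h1
        obtain ⟨e, he, h2, rfl⟩ := h1
        exact ⟨hT.rt e he, (hP e he).1 h2⟩
      · rw [Finset.mem_coe, List.mem_toFinset, hmem] at h1
        obtain ⟨e, he, h2, rfl⟩ := h1
        exact neg_mem_Psi hp ⟨hT.rt e he, (hP e he).1 h2⟩
  have hd : Disjoint (↑L.toFinset : Set (Lat l)) ((fun a => -a) '' (↑L.toFinset : Set (Lat l))) := by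
    rw [Set.disjoint_left]
    rintro a h1 ⟨b, h2, rfl⟩
    rw [Finset.mem_coe, List.mem_toFinset, hmem] at h1 h2
    obtain ⟨e, he, -, h3⟩ := h1
    obtain ⟨e', he', -, rfl⟩ := h2
    have h4 := hT.pos e he
    rw [h3] at h4
    exact (hT.rt e' he').not_pos_neg (hT.pos e' he') (neg_nonneg.1 h4)
  rw [e1, Set.ncard_union_eq hd, Set.ncard_image_of_injective _ neg_injective, Set.ncard_coe_finset,
    List.toFinset_card_of_nodup hnd, hL, List.length_map, ← List.countP_eq_length_filter, cnt_eq, two_mul]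

theorem Tab.le_ncard {K : Type} [AddCommGroup K] (φ : Lat l →+ K) {P : Ent → Bool}
    (hP : ∀ e ∈ d.T, P e = true → φ (toF l e.b) = 0) : 2 * cnt P d.T ≤ (Psi hp φ).ncard := by
  classical
  rw [hT.ncard_eq φ (P := fun e => decide (φ (toF l e.b) = 0)) (fun e _ => decide_eq_true_iff), cnt_eq, cnt_eq]
  exact Nat.mul_le_mul_left 2 (List.countP_mono_left fun e he h => decide_eq_true (hP e he h))

theorem Tab.not_K1 {K : Type} [AddCommGroup K] {φ : Lat l →+ K} {c : Ent} (hc : c ∈ d.T)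
    (h : ∀ e ∈ d.T, φ (toF l e.b) = 0 → far d e c = true) (p : ℕ) : ¬ K1 hp p (Psi hp φ) := by
  intro h1
  refine h1 _ (hT.rt c hc) fun a ha => ?_
  have key : ∀ e ∈ d.T, far d e c = true → cp hp (toF l e.b) (toF l c.b) = 0 := by
    intro e he h2
    rw [hT.cp_b he hc]
    unfold far at h2
    cases h3 : ieq (dot e.b c.cv) 0
    · rw [h3, cond_false] at h2; exact absurd h2 Bool.false_ne_true
    · exact ieq_iff.1 h3
  obtain ⟨e, he, h2 | h2⟩ := hT.sur a ha.1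
  · have h3 := h e he (h2 ▸ ha.2)
    rw [h2]
    exact ⟨key e he h3, Or.inr (hT.fr e he c hc h3).1⟩
  · have h4 := ha.2
    rw [h2, map_neg, neg_eq_zero] at h4
    have h3 := h e he h4
    rw [h2]
    exact ⟨by rw [cp_neg hp _ (hT.rt c hc), key e he h3, neg_zero], Or.inr (hT.fr e he c hc h3).2⟩

end Cfsg.Agent.Cam.Ex.Cb
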