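import Cfsg.Agent.Cam.Ex.Cb1

/-!
# The finite check, part 2: the types, restricted roots (helper12)
-/

set_option autoImplicit false
set_option linter.unusedVariables false
set_option linter.unusedSectionVars false

namespace Cfsg.Agent.Cam.Ex.Cb

open CoxeterSystem Cfsg Cfsg.Lie
open Cfsg.Agent.ChevalleyStructure.CoxeterGeom Cfsg.Agent.ChevalleyStructure.CoxeterGeomTypes
open Cfsg.Agent.Tits.Roots Cfsg.Agent.Nodes.RGDChev Cfsg.Agent.Nodes.Coroot Cfsg.Agent.Nodes.SubComb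
open Cfsg.Agent.H931.KC (hr psi psi_apply psi_sr eq_psi Kac exists_alcove dvd_iff)

variable {D : ChevalleyDatum} {l : ℕ} {M : CoxeterMatrix (Fin l)} (hp : IsType D l M)

/-- `φ` and `κ` kill the same roots -/
def Exa {K : Type} [AddCommGroup K] (φ : Lat l →+ K) (κ : V) : Prop :=
  ∀ a, Rt hp a → (φ a = 0 ↔ psi (toF l κ) a = 0)

/-- the vectors with entries in `S` -/
noncomputable def pats (S : V) (n : ℕ) : List V :=
  Nat.rec (motive := fun _ => List V) [[]] (fun _ ih => S.flatMap fun s => ih.map (s :: ·)) n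

theorem mem_pats {S : V} {n : ℕ} (f : Fin n → ℤ) (h : ∀ i, f i ∈ S) : List.ofFn f ∈ pats S n := by
  induction n with
  | zero => exact List.mem_singleton.2 List.ofFn_zero
  | succ n ih =>
    rw [List.ofFn_succ]
    exact List.mem_flatMap.2 ⟨f 0, h 0, List.mem_map.2 ⟨_, ih (fun i => f i.succ) fun i => h _, rfl⟩⟩

/-- the check of a pattern of Kac coordinates -/
noncomputable def tchk (l : ℕ) (d : Dt) (WT : List (V × List ℕ × V)) (P0 : ℤ) (P : V) : Bool :=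
  (ieq P0 0 && al (fun i => zr 2 (gt d.H i * gt P i)) (List.range l)) ||
  ((ieq P0 0 && al (fun i => zr 3 (gt d.H i * gt P i)) (List.range l)) ||
  (decide (0 < P0 + dot P d.H) &&
    (al (fun i => zr (P0 + dot P d.H) (gt P i)) (List.range l) ||
    (an (fun t => leq t.1 (P0 :: P) &&
      al (fun e => zr (P0 + dot P d.H) (dot e.b (fw d.C t.2.1 P)) == ieq (dot e.b t.2.2) 0) d.T) WT ||
    an (fun c => al (fun e => far d e c) (fl (fun e => zr (P0 + dot P d.H) (dot e.b P)) d.T)) d.T))))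

variable {hp} {d : Dt} (hT : Tab hp d)

include hT in
theorem Tab.of_T {P : Lat l → Prop} (hn : ∀ a, P a → P (-a)) (h : ∀ e ∈ d.T, P (toF l e.b)) (a : Lat l)
    (ha : Rt hp a) : P a := by
  obtain ⟨e, he, h1 | h1⟩ := hT.sur a ha
  · rw [h1]; exact h e he
  · rw [h1]; exact hn _ (h e he)

include hT in
/-- **The types.** -/
theorem Tab.types {WT : List (V × List ℕ × V)}
    (hc : al (fun P => tchk l d WT 0 P && tchk l d WT 1 P) (pats [0, 1] l) = true) {r : ℕ} (hr' : r.Prime)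
    (h5 : 5 ≤ r) {p : ℕ} {φ : Lat l →+ ZMod r} (h0 : φ ≠ 0) (hK : K1 hp p (Psi hp φ)) :
    ∃ w, ∃ t ∈ WT, Exa hp (cw hp φ w) t.2.2 := by
  classical
  have : NeZero r := ⟨hr'.ne_zero⟩
  obtain ⟨w, c, c0, hk, hw⟩ := exists_alcove hp hr'.pos (psi fun i => ((φ (sr i)).val : ℤ))
  have hb : ∀ x, ((psi (fun i => ((φ (sr i)).val : ℤ)) x : ℤ) : ZMod r) = φ x := by
    intro x
    rw [eq_sum φ x, psi_apply]
    push_cast
    exact Finset.sum_congr rfl fun i _ => by rw [ZMod.natCast_zmod_val]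
  have h1 : ∀ x, φ (wa hp w x) = 0 ↔ (r : ℤ) ∣ ∑ i, x i * c i := by
    intro x
    rw [← hb, ZMod.intCast_zmod_eq_zero_iff_dvd]
    have h2 := hw x
    constructor
    · intro h3
      have := dvd_add h2 h3
      rwa [sub_add_cancel] at this
    · intro h3
      have := dvd_sub h3 h2
      rwa [sub_sub_cancel] at this
  set f : Fin l → ℕ := fun i => if c i = 0 then 0 else 1 with hf
  set f0 : ℕ := if c0 = 0 then 0 else 1 with hf0
  set P : V := List.ofFn fun i => (f i : ℤ) with hP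
  have hfz : ∀ i, f i = 0 ↔ c i = 0 := fun i => by by_cases h : c i = 0 <;> simp [hf, h]
  have hf0z : f0 = 0 ↔ c0 = 0 := by by_cases h : c0 = 0 <;> simp [hf0, h]
  have hPl : P.length = l := List.length_ofFn
  have hPg : ∀ i : Fin l, gt P i = f i := gt_ofFn _
  have hPF : toF l P = fun i => (f i : ℤ) := toF_ofFn _
  have hmem : P ∈ pats [0, 1] l := mem_pats _ fun i => by by_cases h : c i = 0 <;> simp [hf, h]
  have h2 := Bool.and_eq_true_iff.1 (al_iff.1 hc P hmem)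
  have h3 : tchk l d WT (f0 : ℤ) P = true := by
    by_cases h : c0 = 0
    · have : f0 = 0 := hf0z.2 h
      rw [this]; exact h2.1
    · have : f0 = 1 := by simp [hf0, h]
      rw [this]; exact h2.2
  have hgcd : ∀ m : ℤ, (ieq (f0 : ℤ) 0 && al (fun i => zr m (gt d.H i * gt P i)) (List.range l)) = true → m ∣ r := by
    intro m hm
    obtain ⟨h4, h6⟩ := Bool.and_eq_true_iff.1 hm
    have h7 : c0 = 0 := hf0z.1 (by exact_mod_cast ieq_iff.1 h4)
    rw [← hk.sum, h7, Nat.cast_zero, zero_add]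
    refine Finset.dvd_sum fun i _ => ?_
    by_cases h : c i = 0
    · rw [h, Nat.cast_zero, mul_zero]; exact dvd_zero _
    · have h8 := zr_iff.1 (al_iff.1 h6 i (List.mem_range.2 i.2))
      have h9 : f i = 1 := by simp [hf, h]
      rw [hPg, h9, Nat.cast_one, mul_one, ← toF_apply, hT.hi] at h8
      exact h8.mul_right _
  have hpr : ∀ m : ℕ, 2 ≤ m → m ≤ 3 → ¬ (m : ℤ) ∣ r := by
    intro m h6 h7 h8
    rcases (Nat.dvd_prime hr').1 (Int.natCast_dvd_natCast.1 h8) with h9 | h9 <;> omega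
  unfold tchk at h3
  rcases Bool.or_eq_true_iff.1 h3 with h4 | h4
  · exact absurd (hgcd 2 h4) (hpr 2 le_rfl (by norm_num))
  rcases Bool.or_eq_true_iff.1 h4 with h4 | h4
  · exact absurd (hgcd 3 h4) (hpr 3 (by norm_num) le_rfl)
  obtain ⟨hN, h4⟩ := Bool.and_eq_true_iff.1 h4
  rw [decide_eq_true_iff] at hN
  obtain ⟨N, hNe⟩ := Int.eq_ofNat_of_zero_le hN.le
  have hk' : Kac D l N f f0 := by
    refine ⟨by omega, ?_⟩
    rw [← hNe, dot_eq hPl, hT.hi, hPF]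
    congr 1
    exact Finset.sum_congr rfl fun i _ => mul_comm _ _
  have hE : ∀ a, Rt hp a → (φ (wa hp w a) = 0 ↔ (N : ℤ) ∣ psi (toF l P) a) := by
    refine hT.of_T (fun a h => by rw [wa_neg, map_neg, neg_eq_zero, map_neg, dvd_neg]; exact h) fun e he => ?_
    rw [h1, dvd_iff hp hk (hT.rt e he) (hT.pos e he), psi_apply, hPF, dvd_iff hp hk' (hT.rt e he) (hT.pos e he)]
    simp only [hfz, hf0z]
  rw [hNe] at h4
  rcases Bool.or_eq_true_iff.1 h4 with h4 | h4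
  · exfalso
    refine cw_ne hp h0 w (AddMonoidHom.ext fun a => ?_)
    rw [eq_sum (cw hp φ w) a]
    refine Finset.sum_eq_zero fun i _ => ?_
    have h6 : cw hp φ w (sr i) = 0 := by
      rw [cw_apply, hE _ (rt_sr hp i), psi_sr]
      exact zr_iff.1 (al_iff.1 h4 i (List.mem_range.2 i.2))
    rw [h6, mul_zero]
  rcases Bool.or_eq_true_iff.1 h4 with h4 | h4
  · obtain ⟨t, ht, h6⟩ := an_iff.1 h4
    have h7 := (Bool.and_eq_true_iff.1 h6).2
    refine ⟨w * wd M t.2.1, t, ht, ?_⟩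
    refine hT.of_T (fun a h => by rw [map_neg, neg_eq_zero, map_neg, neg_eq_zero]; exact h) fun e he => ?_
    rw [cw_apply, wa_mul, hE _ ((hT.rt e he).act _), ← hT.psi_fw _ hPl, hT.psi_b he, hT.psi_b he, ← zr_iff, ← ieq_iff,
      beq_iff_eq.1 (al_iff.1 h7 e he)]
  · exfalso
    obtain ⟨c', hc', h6⟩ := an_iff.1 h4
    refine hT.not_K1 hc' (fun e he h7 => ?_) p (K1_cw hp hK w)
    refine al_iff.1 h6 e (mem_fl.2 ⟨he, ?_⟩)
    rw [cw_apply, hE _ (hT.rt e he), hT.psi_b he] at h7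
    exact zr_iff.2 h7

variable (hp)

/-- corank one -/
def Ex1 {K : Type} [AddCommGroup K] (φ : Lat l →+ K) (j : Fin l) : Prop := ∀ a, Rt hp a → (φ a = 0 ↔ a j = 0)

/-- corank two -/
def Ex2 {K : Type} [AddCommGroup K] (φ : Lat l →+ K) (i j : Fin l) : Prop :=
  ∀ a, Rt hp a → (φ a = 0 ↔ a i = 0 ∧ a j = 0)

variable {hp}

theorem Exa.ex1 {K : Type} [AddCommGroup K] {φ : Lat l →+ K} {κ : V} (h : Exa hp φ κ) {j : Fin l}
    (hκ : toF l κ = sr j) : Ex1 hp φ j := fun a ha => by rw [h a ha, hκ, psi_sr']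

theorem psi_add {l : ℕ} (x y a : Lat l) : psi (x + y) a = psi x a + psi y a := by
  rw [psi_apply, psi_apply, psi_apply, ← Finset.sum_add_distrib]
  exact Finset.sum_congr rfl fun i _ => by rw [Pi.add_apply]; ring

theorem Exa.ex2 {K : Type} [AddCommGroup K] {φ : Lat l →+ K} {κ : V} (h : Exa hp φ κ) {i j : Fin l}
    (hκ : toF l κ = sr i + sr j) : Ex2 hp φ i j := fun a ha => by
  rw [h a ha, hκ, psi_add, psi_sr', psi_sr']
  rcases ha.pos_or_neg with h1 | h1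
  · have h2 : 0 ≤ a i := h1 i
    have h3 : 0 ≤ a j := h1 j
    omega
  · have h2 : a i ≤ 0 := h1 i
    have h3 : a j ≤ 0 := h1 j
    omega

theorem eq_one_coord {K : Type} [CommRing K] (φ : Lat l →+ K) (j : Fin l) (h : ∀ k, k ≠ j → φ (sr k) = 0) (a : Lat l) :
    φ a = (a j : K) * φ (sr j) := by
  rw [eq_sum φ a, Finset.sum_eq_single j]
  · intro k _ hk
    rw [h k hk, mul_zero]
  · intro h
    exact absurd (Finset.mem_univ j) h

theorem eq_two_coord {K : Type} [CommRing K] (φ : Lat l →+ K) {i j : Fin l} (hij : i ≠ j)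
    (h : ∀ k, k ≠ i → k ≠ j → φ (sr k) = 0) (a : Lat l) : φ a = (a i : K) * φ (sr i) + (a j : K) * φ (sr j) := by
  rw [eq_sum φ a, Finset.sum_eq_add i j hij]
  · intro k _ hk
    rw [h k hk.1 hk.2, mul_zero]
  · intro h
    exact absurd (Finset.mem_univ i) h
  · intro h
    exact absurd (Finset.mem_univ j) h

theorem Ex1.eq {K : Type} [CommRing K] {φ : Lat l →+ K} {j : Fin l} (h : Ex1 hp φ j) (a : Lat l) :
    φ a = (a j : K) * φ (sr j) :=
  eq_one_coord φ j (fun k hk => (h _ (rt_sr hp k)).2 (sr_ne (Ne.symm hk))) a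

theorem Ex1.ne {K : Type} [CommRing K] {φ : Lat l →+ K} {j : Fin l} (h : Ex1 hp φ j) : φ (sr j) ≠ 0 := fun h1 => by
  have := (h _ (rt_sr hp j)).1 h1
  rw [sr_self] at this
  exact one_ne_zero this

theorem Ex2.eq {K : Type} [CommRing K] {φ : Lat l →+ K} {i j : Fin l} (hij : i ≠ j) (h : Ex2 hp φ i j) (a : Lat l) :
    φ a = (a i : K) * φ (sr i) + (a j : K) * φ (sr j) :=
  eq_two_coord φ hij (fun k hk hk' => (h _ (rt_sr hp k)).2 ⟨sr_ne (Ne.symm hk), sr_ne (Ne.symm hk')⟩) a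

theorem Ex2.ne1 {K : Type} [CommRing K] {φ : Lat l →+ K} {i j : Fin l} (h : Ex2 hp φ i j) : φ (sr i) ≠ 0 := fun h1 => by
  have := ((h _ (rt_sr hp i)).1 h1).1
  rw [sr_self] at this
  exact one_ne_zero this

theorem Ex2.ne2 {K : Type} [CommRing K] {φ : Lat l →+ K} {i j : Fin l} (h : Ex2 hp φ i j) : φ (sr j) ≠ 0 := fun h1 => by
  have := ((h _ (rt_sr hp j)).1 h1).2
  rw [sr_self] at this
  exact one_ne_zero this

/-- a coordinate of the image -/
noncomputable def crd (h : Lat l ≃+ Lat l) (j : Fin l) : Lat l →+ ℤ := (psi (sr j)).comp h.toAddMonoidHom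

theorem crd_apply (h : Lat l ≃+ Lat l) (j : Fin l) (a : Lat l) : crd h j a = h a j := psi_sr' j _

theorem eig_ne {K : Type} [Field K] {φ : Lat l →+ K} {a0 : Lat l} (h0 : φ a0 ≠ 0) (h : Lat l ≃+ Lat l) {e : K}
    (he : ∀ a, φ (h a) = e * φ a) : e ≠ 0 := by
  rintro rfl
  have := he (h.symm a0)
  rw [AddEquiv.apply_symm_apply, zero_mul] at this
  exact h0 this

/-- **Corank one.** -/
theorem Ex1.res {K : Type} [Field K] {φ : Lat l →+ K} {j : Fin l} (hx : Ex1 hp φ j) (h : Lat l ≃+ Lat l)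
    (hr : ∀ a, Rt hp (h a) ↔ Rt hp a) {e : K} (he : ∀ a, φ (h a) = e * φ a) :
    (e = 1 ∧ ∀ a, h a j = a j) ∨ (e = -1 ∧ ∀ a, h a j = -a j) := by
  have h1 : ∀ a, h a j = a j * h (sr j) j := by
    intro a
    have := eq_one_coord (crd h j) j (fun k hk => by
      rw [crd_apply]
      refine (hx _ ((hr _).2 (rt_sr hp k))).1 ?_
      rw [he, (hx _ (rt_sr hp k)).2 (sr_ne (Ne.symm hk)), mul_zero]) a
    rwa [crd_apply, crd_apply, Int.cast_id] at this
  have h2 := h1 (h.symm (sr j))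
  rw [AddEquiv.apply_symm_apply, sr_self] at h2
  have h3 := he (sr j)
  rw [hx.eq (h (sr j))] at h3
  have h4 := mul_right_cancel₀ hx.ne h3
  rcases Int.eq_one_or_neg_one_of_mul_eq_one' h2.symm with h5 | h5
  · exact Or.inl ⟨by rw [← h4, h5.2, Int.cast_one], fun a => by rw [h1, h5.2, mul_one]⟩
  · exact Or.inr ⟨by rw [← h4, h5.2, Int.cast_neg, Int.cast_one], fun a => by rw [h1, h5.2, mul_neg, mul_one]⟩

/-- membership in a list of pairs -/
noncomputable def inR (RR : List (ℤ × ℤ)) (x y : ℤ) : Bool := an (fun ρ => ieq ρ.1 x && ieq ρ.2 y) RR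

theorem inR_iff {RR : List (ℤ × ℤ)} {x y : ℤ} : inR RR x y = true ↔ (x, y) ∈ RR := by
  unfold inR
  rw [an_iff]
  constructor
  · rintro ⟨ρ, h1, h2⟩
    obtain ⟨h3, h4⟩ := Bool.and_eq_true_iff.1 h2
    rw [← ieq_iff.1 h3, ← ieq_iff.1 h4]
    exact h1
  · exact fun h => ⟨_, h, Bool.and_eq_true_iff.2 ⟨ieq_iff.2 rfl, ieq_iff.2 rfl⟩⟩

/-- `RR` is the list of the restricted roots -/
noncomputable def rrOK (d : Dt) (i j : ℕ) (RR : List (ℤ × ℤ)) : Bool :=
  al (fun e => (ieq (gt e.b i) 0 && ieq (gt e.b j) 0) ||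
    (inR RR (gt e.b i) (gt e.b j) && inR RR (-gt e.b i) (-gt e.b j))) d.T &&
  al (fun ρ => !(ieq ρ.1 0 && ieq ρ.2 0) && an (fun e => (ieq (gt e.b i) ρ.1 && ieq (gt e.b j) ρ.2) ||
    (ieq (-gt e.b i) ρ.1 && ieq (-gt e.b j) ρ.2)) d.T) RR

/-- the restricted roots -/
structure RROK (hp : IsType D l M) (i j : Fin l) (RR : List (ℤ × ℤ)) : Prop where
  ne : i ≠ j
  mem : ∀ a, Rt hp a → ¬ (a i = 0 ∧ a j = 0) → (a i, a j) ∈ RR
  sur : ∀ ρ ∈ RR, ∃ a, Rt hp a ∧ a i = ρ.1 ∧ a j = ρ.2 ∧ ¬ (a i = 0 ∧ a j = 0)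

include hT in
theorem Tab.rrok {i j : Fin l} (hij : i ≠ j) {RR : List (ℤ × ℤ)} (h : rrOK d i j RR = true) : RROK hp i j RR := by
  obtain ⟨h1, h2⟩ := Bool.and_eq_true_iff.1 h
  refine ⟨hij, fun a ha h3 => ?_, fun ρ hρ => ?_⟩
  · obtain ⟨e, he, h4⟩ := hT.sur a ha
    rcases Bool.or_eq_true_iff.1 (al_iff.1 h1 e he) with h5 | h5
    · obtain ⟨h6, h7⟩ := Bool.and_eq_true_iff.1 h5
      rw [ieq_iff] at h6 h7
      exfalso
      apply h3
      rcases h4 with rfl | rfl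
      · exact ⟨h6, h7⟩
      · exact ⟨neg_eq_zero.2 h6, neg_eq_zero.2 h7⟩
    · obtain ⟨h6, h7⟩ := Bool.and_eq_true_iff.1 h5
      rcases h4 with rfl | rfl
      · exact inR_iff.1 h6
      · exact inR_iff.1 h7
  · obtain ⟨h3, h4⟩ := Bool.and_eq_true_iff.1 (al_iff.1 h2 ρ hρ)
    obtain ⟨e, he, h5⟩ := an_iff.1 h4
    have h6 : ¬ (ρ.1 = 0 ∧ ρ.2 = 0) := by
      rintro ⟨h7, h8⟩
      rw [ieq_iff.2 h7, ieq_iff.2 h8] at h3
      exact Bool.false_ne_true h3
    rcases Bool.or_eq_true_iff.1 h5 with h7 | h7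
    · obtain ⟨h8, h9⟩ := Bool.and_eq_true_iff.1 h7
      rw [ieq_iff] at h8 h9
      exact ⟨toF l e.b, hT.rt e he, h8, h9, fun h10 => h6 ⟨h8.symm.trans h10.1, h9.symm.trans h10.2⟩⟩
    · obtain ⟨h8, h9⟩ := Bool.and_eq_true_iff.1 h7
      rw [ieq_iff] at h8 h9
      exact ⟨-toF l e.b, (hT.rt e he).neg, h8, h9, fun h10 => h6 ⟨h8.symm.trans h10.1, h9.symm.trans h10.2⟩⟩

theorem RROK.ne_zero {i j : Fin l} {RR : List (ℤ × ℤ)} (R : RROK hp i j RR) {K : Type} [CommRing K] {φ : Lat l →+ K}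
    (hx : Ex2 hp φ i j) {ρ : ℤ × ℤ} (hρ : ρ ∈ RR) : (ρ.1 : K) * φ (sr i) + (ρ.2 : K) * φ (sr j) ≠ 0 := by
  obtain ⟨a, ha, h1, h2, h3⟩ := R.sur ρ hρ
  rw [← h1, ← h2, ← hx.eq R.ne a]
  exact fun h => h3 ((hx a ha).1 h)

/-- the number of positive roots killed by `x ω_i + y ω_j` -/
noncomputable def c0 (d : Dt) (i j : ℕ) (x y : ℤ) : ℕ := cnt (fun e => ieq (gt e.b i * x + gt e.b j * y) 0) d.T

/-- the candidates for the induced matrix -/
noncomputable def cand (d : Dt) (i j : ℕ) (RR : List (ℤ × ℤ)) (p q : ℤ × ℤ) : Bool :=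
  al (fun ρ => inR RR (ρ.1 * p.1 + ρ.2 * q.1) (ρ.1 * p.2 + ρ.2 * q.2)) RR &&
    (Nat.beq (c0 d i j p.1 q.1) (c0 d i j 1 0) && Nat.beq (c0 d i j p.2 q.2) (c0 d i j 0 1))

/-- the matrix induced by `h` -/
def Mx (h : Lat l ≃+ Lat l) (i j : Fin l) (p q : ℤ × ℤ) : Prop :=
  ∀ a, h a i = a i * p.1 + a j * q.1 ∧ h a j = a i * p.2 + a j * q.2

include hT in
/-- **Corank two.** -/
theorem Tab.res2 {i j : Fin l} {RR : List (ℤ × ℤ)} (R : RROK hp i j RR) {K : Type} [Field K] {φ : Lat l →+ K}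
    (hx : Ex2 hp φ i j) (h : Lat l ≃+ Lat l) (hr : ∀ a, Rt hp (h a) ↔ Rt hp a) {e : K}
    (he : ∀ a, φ (h a) = e * φ a) : ∃ p ∈ RR, ∃ q ∈ RR, cand d i j RR p q = true ∧ Mx h i j p q ∧
      (p.1 : K) * φ (sr i) + (p.2 : K) * φ (sr j) = e * φ (sr i) ∧
      (q.1 : K) * φ (sr i) + (q.2 : K) * φ (sr j) = e * φ (sr j) := by
  have he0 := eig_ne hx.ne1 h he
  have hz : ∀ a, Rt hp a → ((h a i = 0 ∧ h a j = 0) ↔ (a i = 0 ∧ a j = 0)) := by
    intro a ha
    rw [← hx _ ((hr a).2 ha), ← hx a ha, he, mul_eq_zero, or_iff_right he0]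
  have hk : ∀ k, k ≠ i → k ≠ j → h (sr k) i = 0 ∧ h (sr k) j = 0 := fun k h1 h2 =>
    (hz _ (rt_sr hp k)).2 ⟨sr_ne (Ne.symm h1), sr_ne (Ne.symm h2)⟩
  have hM : Mx h i j (h (sr i) i, h (sr i) j) (h (sr j) i, h (sr j) j) := by
    intro a
    have h1 := eq_two_coord (crd h i) R.ne (fun k h1 h2 => by rw [crd_apply]; exact (hk k h1 h2).1) a
    have h2 := eq_two_coord (crd h j) R.ne (fun k h1 h2 => by rw [crd_apply]; exact (hk k h1 h2).2) a
    simp only [crd_apply, Int.cast_id] at h1 h2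
    exact ⟨h1, h2⟩
  have hm : ∀ a, Rt hp a → ¬ (a i = 0 ∧ a j = 0) → (h a i, h a j) ∈ RR := fun a ha h1 =>
    R.mem _ ((hr a).2 ha) fun h2 => h1 ((hz a ha).1 h2)
  refine ⟨_, hm _ (rt_sr hp i) fun h1 => ?_, _, hm _ (rt_sr hp j) fun h1 => ?_, ?_, hM, ?_, ?_⟩
  · exact one_ne_zero ((sr_self i).symm.trans h1.1)
  · exact one_ne_zero ((sr_self j).symm.trans h1.2)
  · have hc : ∀ (k : Fin l) (x y x' y' : ℤ), (∀ a, h a k = a i * x + a j * y) → (∀ a : Lat l, a k = a i * x' + a j * y') →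
        Nat.beq (c0 d i j x y) (c0 d i j x' y') = true := by
      intro k x y x' y' h1 h2
      have h3 := ncard_comp hp (φ := psi (sr k)) (ψ := crd h k) h hr fun a _ => Iff.rfl
      rw [hT.ncard_eq (crd h k) (P := fun e => ieq (gt e.b i * x + gt e.b j * y) 0)
        (fun e _ => by rw [ieq_iff, crd_apply, h1]; rfl), hT.ncard_eq (psi (sr k))
        (P := fun e => ieq (gt e.b i * x' + gt e.b j * y') 0) (fun e _ => by rw [ieq_iff, psi_sr', h2 (toF l e.b)]; rfl)] at h3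
      unfold c0
      rw [Nat.beq_eq]
      omega
    refine Bool.and_eq_true_iff.2 ⟨al_iff.2 fun ρ hρ => ?_, Bool.and_eq_true_iff.2
      ⟨hc i _ _ _ _ (fun a => (hM a).1) fun a => by ring, hc j _ _ _ _ (fun a => (hM a).2) fun a => by ring⟩⟩
    obtain ⟨a, ha, h1, h2, h3⟩ := R.sur ρ hρ
    have h4 := hm a ha h3
    rw [(hM a).1, (hM a).2, h1, h2] at h4
    exact inR_iff.2 h4
  · rw [← he, hx.eq R.ne (h (sr i))]
  · rw [← he, hx.eq R.ne (h (sr j))]

/-- `(x, y)` is a unit multiple of a restricted root -/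
noncomputable def rowK (RR : List (ℤ × ℤ)) (x y : ℤ) : Bool :=
  an (fun ρ => an (fun N => ieq x (N * ρ.1) && ieq y (N * ρ.2)) [1, 2, 3]) RR

theorem RROK.row_ne {i j : Fin l} {RR : List (ℤ × ℤ)} (R : RROK hp i j RR) {r : ℕ} (hr' : r.Prime) (h5 : 5 ≤ r)
    {φ : Lat l →+ ZMod r} (hx : Ex2 hp φ i j) {x y : ℤ} (h : rowK RR x y = true) :
    (x : ZMod r) * φ (sr i) + (y : ZMod r) * φ (sr j) ≠ 0 := by
  have := Fact.mk hr'
  obtain ⟨ρ, hρ, h1⟩ := an_iff.1 h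
  obtain ⟨N, hN, h2⟩ := an_iff.1 h1
  obtain ⟨h3, h4⟩ := Bool.and_eq_true_iff.1 h2
  have h6 : (N : ZMod r) ≠ 0 := un6 hr' h5 (by
    simp only [List.mem_cons, List.not_mem_nil, or_false] at hN
    rcases hN with rfl | rfl | rfl <;> norm_num)
  rw [ieq_iff.1 h3, ieq_iff.1 h4]
  intro h7
  refine mul_ne_zero h6 (R.ne_zero hx hρ) ?_
  push_cast at h7
  linear_combination h7

theorem charpoly {K : Type} [Field K] {s t e p1 p2 q1 q2 : K} (hs : s ≠ 0) (h1 : p1 * s + p2 * t = e * s)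
    (h2 : q1 * s + q2 * t = e * t) : e ^ 2 - (p1 + q2) * e + (p1 * q2 - p2 * q1) = 0 := by
  refine (mul_eq_zero.1 (?_ : _ * s = 0)).resolve_right hs
  linear_combination (q2 - e) * h1 - p2 * h2

/-- reflections whose eigenvectors are walls -/
noncomputable def clsB (RR : List (ℤ × ℤ)) (p q : ℤ × ℤ) : Bool :=
  ieq (p.1 + q.2) 0 && (ieq (p.1 * q.2 - p.2 * q.1) (-1) &&
    ((rowK RR (p.1 - 1) p.2 || rowK RR q.1 (q.2 - 1)) && (rowK RR (p.1 + 1) p.2 || rowK RR q.1 (q.2 + 1))))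

theorem RROK.not_clsB {i j : Fin l} {RR : List (ℤ × ℤ)} (R : RROK hp i j RR) {r : ℕ} (hr' : r.Prime) (h5 : 5 ≤ r)
    {φ : Lat l →+ ZMod r} (hx : Ex2 hp φ i j) {p q : ℤ × ℤ} {e : ZMod r}
    (h1 : (p.1 : ZMod r) * φ (sr i) + (p.2 : ZMod r) * φ (sr j) = e * φ (sr i))
    (h2 : (q.1 : ZMod r) * φ (sr i) + (q.2 : ZMod r) * φ (sr j) = e * φ (sr j)) : clsB RR p q ≠ true := by
  have := Fact.mk hr'
  intro h
  obtain ⟨h3, h⟩ := Bool.and_eq_true_iff.1 h
  obtain ⟨h4, h⟩ := Bool.and_eq_true_iff.1 h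
  obtain ⟨h6, h7⟩ := Bool.and_eq_true_iff.1 h
  have h8 := charpoly hx.ne1 h1 h2
  have h3' : (p.1 : ZMod r) + q.2 = 0 := by exact_mod_cast congrArg (Int.cast : ℤ → ZMod r) (ieq_iff.1 h3)
  have h4' : (p.1 : ZMod r) * q.2 - p.2 * q.1 = -1 := by
    exact_mod_cast congrArg (Int.cast : ℤ → ZMod r) (ieq_iff.1 h4)
  rw [h3', h4'] at h8
  have h9 : (e - 1) * (e + 1) = 0 := by linear_combination h8
  rcases mul_eq_zero.1 h9 with h10 | h10
  · rcases Bool.or_eq_true_iff.1 h6 with h11 | h11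
    · exact R.row_ne hr' h5 hx h11 (by push_cast; linear_combination h1 + φ (sr i) * h10)
    · exact R.row_ne hr' h5 hx h11 (by push_cast; linear_combination h2 + φ (sr j) * h10)
  · rcases Bool.or_eq_true_iff.1 h7 with h11 | h11
    · exact R.row_ne hr' h5 hx h11 (by push_cast; linear_combination h1 + φ (sr i) * h10)
    · exact R.row_ne hr' h5 hx h11 (by push_cast; linear_combination h2 + φ (sr j) * h10)

/-- isolated roots -/
noncomputable def a1chk (d : Dt) (κ : V) (c : Ent) : Bool :=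
  ieq (dot c.b κ) 0 && al (fun e => !ieq (dot e.b κ) 0 || (leq e.b c.b || ieq (dot e.b c.cv) 0)) d.T

include hT in
theorem Tab.a1c {K : Type} [AddCommGroup K] {φ : Lat l →+ K} {κ : V} (hx : Exa hp φ κ) {c : Ent} (hc : c ∈ d.T)
    (h : a1chk d κ c = true) : A1c hp (Psi hp φ) (toF l c.b) := by
  obtain ⟨h1, h2⟩ := Bool.and_eq_true_iff.1 h
  refine ⟨⟨hT.rt c hc, (hx _ (hT.rt c hc)).2 ((hT.psi_b hc κ).trans (ieq_iff.1 h1))⟩, fun a ha => ?_⟩
  refine hT.of_T (P := fun a => psi (toF l κ) a = 0 → a = toF l c.b ∨ a = -toF l c.b ∨ cp hp a (toF l c.b) = 0)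
    (fun a h3 h4 => ?_) (fun e he h3 => ?_) a ha.1 ((hx a ha.1).1 ha.2)
  · rw [map_neg, neg_eq_zero] at h4
    rcases h3 h4 with h6 | h6 | h6
    · right; left; rw [h6]
    · left; rw [h6, neg_neg]
    · right; right; rw [cp_neg hp _ (hT.rt c hc), h6, neg_zero]
  · rw [hT.psi_b he] at h3
    have h4 := al_iff.1 h2 e he
    rw [ieq_iff.2 h3, Bool.not_true, Bool.false_or] at h4
    rcases Bool.or_eq_true_iff.1 h4 with h6 | h6
    · left; rw [leq_iff.1 h6]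
    · right; right; rw [hT.cp_b he hc]; exact ieq_iff.1 h6

include hT in
theorem Tab.ncard_ex {K : Type} [AddCommGroup K] {φ : Lat l →+ K} {κ : V} (hx : Exa hp φ κ) :
    (Psi hp φ).ncard = 2 * cnt (fun e => ieq (dot e.b κ) 0) d.T :=
  hT.ncard_eq φ fun e he => by rw [ieq_iff, hx _ (hT.rt e he), hT.psi_b he]

/-- the unit vector -/
noncomputable def uv (l i : ℕ) : V := (List.range l).map fun k => if k = i then 1 else 0

theorem length_uv (l i : ℕ) : (uv l i).length = l := by simp [uv]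

theorem gt_map_range (f : ℕ → ℤ) {n k : ℕ} (h : k < n) : gt ((List.range n).map f) k = f k := by
  have h1 : (List.range n).map f = List.ofFn fun i : Fin n => f i := by
    apply List.ext_getElem <;> simp
  rw [h1]
  exact gt_ofFn (fun i : Fin n => f i) ⟨k, h⟩

theorem toF_uv (i : Fin l) : toF l (uv l i) = sr i := by
  funext k
  rw [toF_apply, uv, gt_map_range _ k.2]
  by_cases h : k = i
  · rw [h, if_pos rfl, sr_self]
  · rw [if_neg (fun h1 => h (Fin.ext h1)), sr_ne h]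

include hT in
theorem Tab.wd_apply (ω : List ℕ) (a : Lat l) (i : Fin l) :
    wa hp (wd M ω) a i = psi (toF l (fw d.C ω (uv l i))) a := by
  rw [hT.psi_fw ω (length_uv l i), toF_uv, psi_sr']

/-- the word `ω` is `-1` -/
noncomputable def negchk (l : ℕ) (d : Dt) (ω : List ℕ) : Bool :=
  al (fun i => leq (axpy (-1) (fw d.C ω (uv l i)) (uv l i)) (uv l l)) (List.range l)

theorem toF_uv_self : toF l (uv l l) = 0 := by
  funext k
  rw [toF_apply, uv, gt_map_range _ k.2, if_neg k.2.ne]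
  rfl

include hT in
theorem Tab.neg_word {ω : List ℕ} (h : negchk l d ω = true) (a : Lat l) : wa hp (wd M ω) a = -a := by
  funext i
  have h1 := congrArg (toF l) (leq_iff.1 (al_iff.1 h i (List.mem_range.2 i.2)))
  rw [toF_axpy _ ((length_fw _ _ _).trans (length_uv l i)), toF_uv_self, toF_uv, neg_one_smul, sub_neg_eq_add,
    add_eq_zero_iff_eq_neg] at h1
  rw [hT.wd_apply, h1, psi_neg, psi_sr', Pi.neg_apply]

end Cfsg.Agent.Cam.Ex.Cb
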