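import Cfsg.Agent.Cam.Ex.Cb2

/-!
# The finite check, part 3: pairs and certificates (helper12)
-/

set_option autoImplicit false
set_option linter.unusedVariables false
set_option linter.unusedSectionVars false

namespace Cfsg.Agent.Cam.Ex.Cb

open CoxeterSystem Cfsg Cfsg.Lie
open Cfsg.Agent.ChevalleyStructure.CoxeterGeom Cfsg.Agent.ChevalleyStructure.CoxeterGeomTypes
open Cfsg.Agent.Tits.Roots Cfsg.Agent.Nodes.RGDChev Cfsg.Agent.Nodes.Coroot Cfsg.Agent.Nodes.SubComb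
open Cfsg.Agent.H931.KC (hr psi psi_apply psi_sr eq_psi)

variable {D : ChevalleyDatum} {l : ℕ} {M : CoxeterMatrix (Fin l)} {hp : IsType D l M}

/-- `φ = c μ` -/
def Is {l r : ℕ} (φ : Lat l →+ ZMod r) (c : ZMod r) (μ : V) : Prop :=
  ∀ a, φ a = c * ((psi (toF l μ) a : ℤ) : ZMod r)

theorem Ex1.is {r : ℕ} {φ : Lat l →+ ZMod r} {j : Fin l} (h : Ex1 hp φ j) {μ : V} (hμ : toF l μ = sr j) :
    Is φ (φ (sr j)) μ := fun a => by rw [h.eq a, hμ, psi_sr', mul_comm]

theorem gt_mem {x : V} {n : ℕ} (h : n < x.length) : gt x n ∈ x := by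
  induction x generalizing n with
  | nil => simp at h
  | cons a x ih =>
    cases n with
    | zero => exact List.mem_cons_self
    | succ n => rw [gt_succ]; exact List.mem_cons_of_mem _ (ih (by simpa using h))

theorem Is.eq_zero {r : ℕ} {φ : Lat l →+ ZMod r} {c : ZMod r} {μ : V} (h : Is φ c μ) (hμ : μ.length = l) {m K : ℤ}
    (hm : Md r m K) (h1 : al (zr m) μ = true) : φ = 0 := by
  refine AddMonoidHom.ext fun a => ?_
  rw [h a, psi_apply]
  push_cast
  rw [Finset.sum_eq_zero, mul_zero]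
  · rfl
  · intro i _
    rw [toF_apply, hm.zero (al_iff.1 h1 _ (gt_mem (by rw [hμ]; exact i.2))), mul_zero]

theorem Is.zero {r : ℕ} {φ : Lat l →+ ZMod r} {c : ZMod r} {μ : V} (h : Is φ c μ) {v : V} (hv : v.length = l)
    {m K : ℤ} (hm : Md r m K) (h1 : zr m (dot v μ) = true) : φ (toF l v) = 0 := by
  rw [h, psi_toF hv, hm.zero h1, mul_zero]

theorem Is.ne {r : ℕ} (hr' : r.Prime) {φ : Lat l →+ ZMod r} {c : ZMod r} {μ : V} (h : Is φ c μ) (hc : c ≠ 0) {v : V}
    (hv : v.length = l) {m K : ℤ} (hm : Md r m K) (h1 : nz m K (dot v μ) = true) : φ (toF l v) ≠ 0 := by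
  have := Fact.mk hr'
  rw [h, psi_toF hv]
  exact mul_ne_zero hc (hm.ne h1)

theorem Is.not_nz {r : ℕ} (hr' : r.Prime) {φ : Lat l →+ ZMod r} {c : ZMod r} {μ : V} (h : Is φ c μ) (hc : c ≠ 0)
    {v : V} (hv : v.length = l) {m K : ℤ} (hm : Md r m K) (h1 : φ (toF l v) = 0) : (!nz m K (dot v μ)) = true := by
  cases h2 : nz m K (dot v μ)
  · rfl
  · exact absurd h1 (h.ne hr' hc hv hm h2)

/-- congruent vectors -/
def Cg {l : ℕ} (r : ℕ) (u v : Lat l) : Prop := ∃ z : Lat l, u = v + (r : ℤ) • z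

theorem Cg.map {r : ℕ} {u v : Lat l} (h : Cg r u v) (φ : Lat l →+ ZMod r) : φ u = φ v := by
  obtain ⟨z, rfl⟩ := h
  rw [map_add, map_zsmul, zsmul_eq_mul, Int.cast_natCast, ZMod.natCast_self, zero_mul, add_zero]

/-- `X` is stable under the reflections in `Ps` -/
noncomputable def orbS (l : ℕ) (m : ℤ) (Ps : List Ent) (X : List V) : Bool :=
  al (fun v => Nat.beq v.length l &&
    al (fun e => an (fun v' => al (zr m) (axpy 1 (axpy (dot v e.cv) v e.b) v')) X) Ps) X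

variable {d : Dt} (hT : Tab hp d)

include hT in
theorem Tab.orb {r : ℕ} {m : ℤ} (hm : (r : ℤ) ∣ m) {S : Set (Lat l)} (hS : ∀ a ∈ S, Rt hp a) {Ps : List Ent}
    (hPs : ∀ e ∈ d.T, (toF l e.b ∈ S ∨ -toF l e.b ∈ S) → e ∈ Ps) {X : List V} (h : orbS l m Ps X = true)
    {w : M.Group} (hw : w ∈ WW hp S) : ∀ v ∈ X, ∃ v' ∈ X, Cg r (wa hp w (toF l v)) (toF l v') := by
  refine WW_ind hp (P := fun w => ∀ v ∈ X, ∃ v' ∈ X, Cg r (wa hp w (toF l v)) (toF l v'))
    (fun v hv => ⟨v, hv, 0, by rw [wa_one, smul_zero, add_zero]⟩) (fun u j w h1 h2 v hv => ?_) hw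
  obtain ⟨v1, hv1, z, hz⟩ := h2 v hv
  obtain ⟨h3, h4⟩ := Bool.and_eq_true_iff.1 (al_iff.1 h v1 hv1)
  have hl : v1.length = l := Nat.eq_of_beq_eq_true h3
  obtain ⟨e, he, h5⟩ := hT.sur _ (hS _ h1)
  have h6 : e ∈ Ps := hPs e he (h5.imp (fun h => by rw [← h]; exact h1) fun h => by rw [← h]; exact h1)
  obtain ⟨v2, hv2, h7⟩ := an_iff.1 (al_iff.1 h4 e h6)
  have h8 : wa hp (rfl' M.toCoxeterSystem u j) (toF l v1) = toF l (axpy (dot v1 e.cv) v1 e.b) := by
    rw [wa_rfl, toF_axpy _ hl, ← psi_toF hl, ← hT.cpe e he]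
    rcases h5 with h5 | h5
    · rw [h5]
    · rw [h5, cp_neg_right hp _ (hT.rt e he), neg_smul_neg]
  have hl2 : (axpy (dot v1 e.cv) v1 e.b).length = l := (length_axpy _ _ _).trans hl
  have h9 : ∀ i : Fin l, ∃ k : ℤ, toF l (axpy (dot v1 e.cv) v1 e.b) i - toF l v2 i = r * k := by
    intro i
    have h10 := zr_iff.1 (al_iff.1 h7 _ (gt_mem (n := i) (by rw [length_axpy, hl2]; exact i.2)))
    rw [gt_axpy _ _ (by rw [hl2]; exact i.2), one_mul] at h10
    exact hm.trans h10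
  choose k hk using h9
  refine ⟨v2, hv2, k + wa hp (rfl' M.toCoxeterSystem u j) z, ?_⟩
  rw [wa_mul, hz, wa_add, wa_smul, h8, smul_add, ← add_assoc]
  congr 1
  funext i
  rw [Pi.add_apply, Pi.smul_apply, smul_eq_mul, ← hk i]
  ring

include hT in
theorem Tab.orb_neg {r : ℕ} {m : ℤ} (hm : (r : ℤ) ∣ m) {S : Set (Lat l)} (hS : ∀ a ∈ S, Rt hp a) {Ps : List Ent}
    (hPs : ∀ e ∈ d.T, (toF l e.b ∈ S ∨ -toF l e.b ∈ S) → e ∈ Ps) {X : List V} (h : orbS l m Ps X = true)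
    {φ : Lat l →+ ZMod r} (hw : ∃ w ∈ WW hp S, Neg hp w φ) :
    ∀ v ∈ X, ∃ v' ∈ X, φ (toF l v') + φ (toF l v) = 0 := by
  obtain ⟨w, h1, h2⟩ := hw
  intro v hv
  obtain ⟨v', hv', h3⟩ := hT.orb hm hS hPs h h1 v hv
  exact ⟨v', hv', by rw [← h3.map φ, h2, neg_add_cancel]⟩

/-- the orbit certificate -/
noncomputable def orbK (l : ℕ) (d : Dt) (m K : ℤ) (a b : V) (X : List V) : Bool :=
  orbS l m (fl (fun e => !nz m K (dot e.b b)) d.T) X && an (fun v => al (fun v' => nz m K (dot v' a + dot v a)) X) X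

include hT in
theorem Tab.not_orbK {r : ℕ} (hr' : r.Prime) {m K : ℤ} (hm : Md r m K) {A B : Lat l →+ ZMod r} {c : ZMod r}
    (hc : c ≠ 0) {a b : V} (hA : Is A c a) (hB : Is B c b) (hw : ∃ w ∈ WW hp (Psi hp B), Neg hp w A) {X : List V} :
    orbK l d m K a b X ≠ true := by
  have := Fact.mk hr'
  intro h
  obtain ⟨h1, h2⟩ := Bool.and_eq_true_iff.1 h
  obtain ⟨v, hv, h3⟩ := an_iff.1 h2
  obtain ⟨v', hv', h4⟩ := hT.orb_neg hm.dvd (fun a ha => ha.1) (fun e he h5 => mem_fl.2 ⟨he, hB.not_nz hr' hc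
    (hT.lb e he) hm (h5.elim (fun h => h.2) fun h => by have := h.2; rwa [map_neg, neg_eq_zero] at this)⟩) h1 hw v hv
  have hl : ∀ v ∈ X, v.length = l := fun v hv => Nat.eq_of_beq_eq_true (Bool.and_eq_true_iff.1 (al_iff.1 h1 v hv)).1
  rw [hA, hA, psi_toF (hl v hv), psi_toF (hl v' hv'), ← mul_add] at h4
  refine hm.ne (al_iff.1 h3 v' hv') ?_
  push_cast
  exact (mul_eq_zero.1 h4).resolve_left hc

/-- `μ + λ` -/
noncomputable def pl (μ lam : V) : V := axpy (-1) μ lam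

/-- `μ - λ` -/
noncomputable def mi (μ lam : V) : V := axpy 1 μ lam

/-- the elimination of a pair -/
noncomputable def killc (l : ℕ) (d : Dt) (m K : ℤ) (μ : V) (nx : ℕ) (G : List V) (CT : List (V × Bool × List V))
    (lam : V) : Bool :=
  al (zr m) (pl μ lam) || (al (zr m) (mi μ lam) || (an (fun g => nz m K (dot g (pl μ lam))) G ||
    (Nat.blt nx (cnt (fun e => zr m (dot e.b (pl μ lam))) d.T) ||
    (an (fun c => al (fun e => far d e c) (fl (fun e => !nz m K (dot e.b (pl μ lam))) d.T)) d.T ||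
    an (fun t => leq t.1 lam && cond t.2.1 (orbK l d m K (pl μ lam) (mi μ lam) t.2.2)
      (orbK l d m K (mi μ lam) (pl μ lam) t.2.2)) CT))))

include hT in
theorem Tab.not_kill {p q r : ℕ} {g : Lat l ≃+ Lat l} {A B : Lat l →+ ZMod r} (C : Cm hp p q r g A B) {m K : ℤ}
    (hm : Md r m K) {μ lam : V} (hμ : μ.length = l) {c : ZMod r} (hc : c ≠ 0) (hA : Is A c (pl μ lam))
    (hB : Is B c (mi μ lam)) {nx : ℕ} (hn : (Psi hp (A + B)).ncard ≤ 2 * nx) {G : List V}
    (hG : ∀ v ∈ G, v.length = l ∧ A (toF l v) = 0) {CT : List (V × Bool × List V)} :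
    killc l d m K μ nx G CT lam ≠ true := by
  intro h
  rcases Bool.or_eq_true_iff.1 h with h | h
  · exact C.a0 (hA.eq_zero ((length_axpy _ _ _).trans hμ) hm h)
  rcases Bool.or_eq_true_iff.1 h with h | h
  · exact C.b0 (hB.eq_zero ((length_axpy _ _ _).trans hμ) hm h)
  rcases Bool.or_eq_true_iff.1 h with h | h
  · obtain ⟨v, hv, h1⟩ := an_iff.1 h
    exact hA.ne C.prime hc (hG v hv).1 hm h1 (hG v hv).2
  rcases Bool.or_eq_true_iff.1 h with h | h
  · have h1 := hT.le_ncard A (P := fun e => zr m (dot e.b (pl μ lam))) fun e he h2 => hA.zero (hT.lb e he) hm h2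
    have h2 := C.max
    rw [Nat.blt_eq] at h
    omega
  rcases Bool.or_eq_true_iff.1 h with h | h
  · obtain ⟨c', hc', h1⟩ := an_iff.1 h
    exact hT.not_K1 hc' (fun e he h2 => al_iff.1 h1 e (mem_fl.2 ⟨he, hA.not_nz C.prime hc (hT.lb e he) hm h2⟩)) p C.k1a
  · obtain ⟨t, -, h1⟩ := an_iff.1 h
    have h2 := (Bool.and_eq_true_iff.1 h1).2
    cases h3 : t.2.1
    · rw [h3, cond_false] at h2
      exact hT.not_orbK C.prime hm hc hB hA C.k2a h2
    · rw [h3, cond_true] at h2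
      exact hT.not_orbK C.prime hm hc hA hB C.k2b h2

/-! ### the double cosets -/

/-- negative integers -/
def isNeg (a : ℤ) : Bool := Int.casesOn (motive := fun _ => Bool) a (fun _ => false) (fun _ => true)

/-- one step of the reduction to a dominant functional -/
noncomputable def step (C : List V) (J : List ℕ) (v : V) (k : V → V) : V :=
  List.rec (motive := fun _ => V) v (fun j _ ih => cond (isNeg (gt v j)) (k (fs C j v)) ih) J

/-- the reduction to a dominant functional -/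
noncomputable def dom (C : List V) (J : List ℕ) (n : ℕ) : V → V :=
  Nat.rec (motive := fun _ => V → V) (fun v => v) (fun _ ih v => step C J v ih) n

theorem step_spec (C : List V) (J : List ℕ) (v : V) (k : V → V) :
    step C J v k = v ∨ ∃ j ∈ J, step C J v k = k (fs C j v) := by
  induction J with
  | nil => exact Or.inl rfl
  | cons j J ih =>
    have e : step C (j :: J) v k = cond (isNeg (gt v j)) (k (fs C j v)) (step C J v k) := rfl
    rw [e]
    cases isNeg (gt v j)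
    · exact ih.imp id fun ⟨j', h1, h2⟩ => ⟨j', List.mem_cons_of_mem _ h1, h2⟩
    · exact Or.inr ⟨j, List.mem_cons_self, rfl⟩

variable (hp) in
/-- `u` fixes the coordinates in the support of `κ` -/
def St (κ : V) (u : M.Group) : Prop := ∀ a, ∀ k : Fin l, gt κ k ≠ 0 → wa hp u a k = a k

theorem St.one (κ : V) : St hp κ 1 := fun a k _ => by rw [wa_one]

theorem St.mul {κ : V} {u v : M.Group} (hu : St hp κ u) (hv : St hp κ v) : St hp κ (u * v) := fun a k hk => by
  rw [wa_mul, hu _ k hk, hv _ k hk]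

theorem St.inv {κ : V} {u : M.Group} (hu : St hp κ u) : St hp κ u⁻¹ := fun a k hk => by
  have := hu (wa hp u⁻¹ a) k hk
  rw [wa_inv'] at this
  exact this.symm

theorem St.simple {κ : V} {j : Fin l} (hj : gt κ j = 0) : St hp κ (M.toCoxeterSystem.simple j) := fun a k hk => by
  have h : k ≠ j := fun h => hk (by rw [h]; exact hj)
  rw [wa_simple, Pi.sub_apply, Pi.smul_apply, sr_ne h, smul_zero, sub_zero]

theorem St.sI {κ : V} {j : ℕ} (hj : gt κ j = 0) : St hp κ (sI M j) := by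
  unfold Cb.sI
  by_cases h : j < l
  · rw [dif_pos h]; exact St.simple (j := ⟨j, h⟩) hj
  · rw [dif_neg h]; exact St.one κ

theorem St.psi {κ : V} {u : M.Group} (hu : St hp κ u) {μ : V} (hμ : ∀ k : Fin l, gt κ k = 0 → gt μ k = 0) (a : Lat l) :
    psi (toF l μ) (wa hp u a) = psi (toF l μ) a := by
  rw [psi_apply, psi_apply]
  refine Finset.sum_congr rfl fun k _ => ?_
  by_cases h : gt κ k = 0
  · rw [toF_apply, hμ k h, mul_zero, mul_zero]
  · rw [hu a k h]

include hT in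
theorem Tab.dom_spec {κ : V} {J : List ℕ} (hJ : ∀ j ∈ J, gt κ j = 0) (n : ℕ) {v : V} (hv : v.length = l) :
    ∃ u, St hp κ u ∧ ∀ a, psi (toF l (dom d.C J n v)) a = psi (toF l v) (wa hp u a) := by
  induction n generalizing v with
  | zero => exact ⟨1, St.one κ, fun a => by rw [wa_one]; rfl⟩
  | succ n ih =>
    have e : dom d.C J (n + 1) v = step d.C J v (dom d.C J n) := rfl
    rw [e]
    rcases step_spec d.C J v (dom d.C J n) with h | ⟨j, hj, h⟩
    · exact ⟨1, St.one κ, fun a => by rw [wa_one, h]⟩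
    · obtain ⟨u, h1, h2⟩ := ih ((length_fs d.C j v).trans hv)
      exact ⟨sI M j * u, (St.sI (hJ j hj)).mul h1, fun a => by rw [h, h2, hT.psi_fs j hv, wa_mul]⟩

/-- the check of the list of the double cosets -/
noncomputable def pchk (l : ℕ) (d : Dt) (κ μ : V) (J : List ℕ) (L : List V) : Bool :=
  al (fun k => (ieq (gt κ k) 0 && ieq (gt μ k) 0) || ieq (gt κ k) 1) (List.range l) &&
  (al (fun j => ieq (gt κ j) 0) J && (an (leq μ) L && (al (fun v => Nat.beq v.length l) L &&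
    al (fun v => al (fun e => an (leq (dom d.C J 40 (axpy (dot e.b v) v e.cv))) L)
      (fl (fun e => ieq (dot e.b κ) 1 || ieq (dot e.b κ) (-1)) d.T)) L)))

include hT in
theorem Tab.pair {κ μ : V} {J : List ℕ} {L : List V} (h : pchk l d κ μ J L = true) :
    μ.length = l ∧ (∀ k : Fin l, gt κ k = 0 → gt μ k = 0) ∧
    ∀ w, ∃ u, St hp κ u ∧ ∃ lam ∈ L, ∀ a, psi (toF l μ) (wa hp (w * u) a) = psi (toF l lam) a := by
  obtain ⟨h1, h⟩ := Bool.and_eq_true_iff.1 h
  obtain ⟨h2, h⟩ := Bool.and_eq_true_iff.1 h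
  obtain ⟨h3, h⟩ := Bool.and_eq_true_iff.1 h
  obtain ⟨h4, h5⟩ := Bool.and_eq_true_iff.1 h
  obtain ⟨μ', hμL, h6⟩ := an_iff.1 h3
  rw [← leq_iff.1 h6] at hμL
  have hl : ∀ v ∈ L, v.length = l := fun v hv => Nat.eq_of_beq_eq_true (al_iff.1 h4 v hv)
  have hκ : ∀ k : Fin l, (gt κ k = 0 ∧ gt μ k = 0) ∨ gt κ k = 1 := by
    intro k
    rcases Bool.or_eq_true_iff.1 (al_iff.1 h1 k (List.mem_range.2 k.2)) with h7 | h7
    · exact Or.inl ⟨ieq_iff.1 (Bool.and_eq_true_iff.1 h7).1, ieq_iff.1 (Bool.and_eq_true_iff.1 h7).2⟩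
    · exact Or.inr (ieq_iff.1 h7)
  refine ⟨hl μ hμL, fun k hk => ((hκ k).resolve_right (by omega)).2, fun w => ?_⟩
  induction w using M.toCoxeterSystem.simple_induction_right with
  | one => exact ⟨1, St.one κ, μ, hμL, fun a => by rw [mul_one, wa_one]⟩
  | mul_simple_right w i ih =>
    obtain ⟨u, hu, lam, hlam, e1⟩ := ih
    rcases hκ i with h7 | h7
    · refine ⟨M.toCoxeterSystem.simple i * u, (St.simple h7.1).mul hu, lam, hlam, fun a => ?_⟩
      rw [mul_assoc, ← mul_assoc (M.toCoxeterSystem.simple i), simple_mul_simple_self, one_mul, e1]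
    · have hβ : Rt hp (wa hp u⁻¹ (sr i)) := (rt_sr hp i).act _
      have h8 : psi (toF l κ) (wa hp u⁻¹ (sr i)) = 1 := by rw [hu.inv.psi (fun k hk => hk), psi_sr, toF_apply, h7]
      obtain ⟨e, he, h9⟩ := hT.sur _ hβ
      have h10 : e ∈ fl (fun e => ieq (dot e.b κ) 1 || ieq (dot e.b κ) (-1)) d.T := by
        refine mem_fl.2 ⟨he, Bool.or_eq_true_iff.2 ?_⟩
        rcases h9 with h9 | h9
        · left; rw [ieq_iff, ← hT.psi_b he, ← h9, h8]
        · right; rw [h9, map_neg, hT.psi_b he] at h8; rw [ieq_iff]; omega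
      obtain ⟨lam', hlam', h11⟩ := an_iff.1 (al_iff.1 (al_iff.1 h5 lam hlam) e h10)
      obtain ⟨u', hu', h12⟩ := hT.dom_spec (κ := κ) (J := J) (fun j hj => ieq_iff.1 (al_iff.1 h2 j hj)) 40
        ((length_axpy (dot e.b lam) lam e.cv).trans (hl lam hlam))
      refine ⟨u * u', hu.mul hu', lam', hlam', fun a => ?_⟩
      have e2 : w * M.toCoxeterSystem.simple i * (u * u') = w * u * (rfl' M.toCoxeterSystem u⁻¹ i * u') := by
        unfold rfl'
        group
      rw [← leq_iff.1 h11, h12, e2, wa_mul hp (w * u), e1, wa_mul, wa_rfl, toF_axpy _ (hl lam hlam), psi_sub_smul,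
        map_sub, map_zsmul, smul_eq_mul, ← hT.cpe e he, ← hT.psi_b he]
      rcases h9 with h9 | h9
      · rw [h9, mul_comm]
      · rw [h9, cp_neg_right hp _ (hT.rt e he), map_neg, neg_mul_neg, mul_comm]

include hT in
/-- **The normal form of a pair.** -/
theorem Tab.pair_nf {κ μ : V} {J : List ℕ} {L : List V} (h : pchk l d κ μ J L = true) {p q r : ℕ}
    {g : Lat l ≃+ Lat l} {A B : Lat l →+ ZMod r} (C : Cm hp p q r g A B) {c : ZMod r} (hx : Is (A + B) c μ) :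
    ∃ u, cw hp A u + cw hp B u = A + B ∧ ∃ lam ∈ L, ∃ c' : ZMod r, c' ≠ 0 ∧ Is (cw hp A u) c' (pl μ lam) ∧
      Is (cw hp B u) c' (mi μ lam) := by
  have := Fact.mk C.prime
  obtain ⟨h1, h2, h3⟩ := hT.pair h
  obtain ⟨w, hw⟩ := C.exists_sub
  obtain ⟨u, hu, lam, hlam, h4⟩ := h3 w
  have h5 : ∀ a, A (wa hp u a) + B (wa hp u a) = c * ((psi (toF l μ) a : ℤ) : ZMod r) := fun a => by
    rw [← AddMonoidHom.add_apply, hx, hu.psi h2]
  have h6 : ∀ a, A (wa hp u a) - B (wa hp u a) = c * ((psi (toF l lam) a : ℤ) : ZMod r) := fun a => by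
    rw [← hw, hx, ← wa_mul, h4]
  have h7 : (2 : ZMod r) ≠ 0 := by exact_mod_cast un6 C.prime C.five (n := 2) (by norm_num)
  have h8 : c ≠ 0 := by
    rintro rfl
    exact C.x0 (AddMonoidHom.ext fun a => by rw [hx, zero_mul]; rfl)
  refine ⟨u, AddMonoidHom.ext fun a => ?_, lam, hlam, c / 2, div_ne_zero h8 h7, fun a => ?_, fun a => ?_⟩
  · rw [AddMonoidHom.add_apply, cw_apply, cw_apply, h5, hx]
  · rw [cw_apply, pl, toF_axpy _ h1, psi_sub_smul]
    push_cast
    field_simp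
    linear_combination h5 a + h6 a
  · rw [cw_apply, mi, toF_axpy _ h1, psi_sub_smul]
    push_cast
    field_simp
    linear_combination h5 a - h6 a

/-- all pairs are eliminated or belong to `SV` -/
noncomputable def kchk (l : ℕ) (d : Dt) (m K : ℤ) (κ μ : V) (G : List V) (CT : List (V × Bool × List V))
    (L SV : List V) : Bool :=
  al (fun lam => an (leq lam) SV || killc l d m K μ (cnt (fun e => ieq (dot e.b κ) 0) d.T) G CT lam) L

include hT in
/-- **The survivors.** -/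
theorem Tab.surv {κ μ : V} {J : List ℕ} {L : List V} (h : pchk l d κ μ J L = true) {m K : ℤ} {G : List V}
    {CT : List (V × Bool × List V)} {SV : List V} (hk : kchk l d m K κ μ G CT L SV = true) {p q r : ℕ}
    (hm : Md r m K) {g : Lat l ≃+ Lat l} {A B : Lat l →+ ZMod r} (C : Cm hp p q r g A B) (hκ : Exa hp (A + B) κ)
    {c : ZMod r} (hx : Is (A + B) c μ)
    (hG : ∀ u, cw hp A u + cw hp B u = A + B → ∀ v ∈ G, v.length = l ∧ cw hp A u (toF l v) = 0) :
    ∃ u, cw hp A u + cw hp B u = A + B ∧ ∃ lam ∈ SV, ∃ c' : ZMod r, c' ≠ 0 ∧ Is (cw hp A u) c' (pl μ lam) ∧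
      Is (cw hp B u) c' (mi μ lam) := by
  obtain ⟨u, hu, lam, hlam, c', hc', hA, hB⟩ := hT.pair_nf h C hx
  refine ⟨u, hu, lam, ?_, c', hc', hA, hB⟩
  rcases Bool.or_eq_true_iff.1 (al_iff.1 hk lam hlam) with h1 | h1
  · obtain ⟨v, hv, h2⟩ := an_iff.1 h1
    rw [leq_iff.1 h2]
    exact hv
  · exact absurd h1 (hT.not_kill (C.act u) hm (hT.pair h).1 hc' hA hB (by rw [hu, hT.ncard_ex hκ]) (hG u hu))

end Cfsg.Agent.Cam.Ex.Cb
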