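import Cfsg.Agent.Cam.Ex.Cb3

/-!
# The finite check, part 4: eigenvalues and the final configurations (helper12)
-/

set_option autoImplicit false
set_option linter.unusedVariables false
set_option linter.unusedSectionVars false

namespace Cfsg.Agent.Cam.Ex.Cb

open CoxeterSystem Cfsg Cfsg.Lie
open Cfsg.Agent.ChevalleyStructure.CoxeterGeom Cfsg.Agent.ChevalleyStructure.CoxeterGeomTypes
open Cfsg.Agent.Tits.Roots Cfsg.Agent.Nodes.RGDChev Cfsg.Agent.Nodes.Coroot Cfsg.Agent.Nodes.SubComb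
open Cfsg.Agent.H931.KC (hr psi psi_apply psi_sr eq_psi)

variable {D : ChevalleyDatum} {l : ℕ} {M : CoxeterMatrix (Fin l)} {hp : IsType D l M} {d : Dt} (hT : Tab hp d)

/-- reduction of an integral functional -/
noncomputable def red (n : ℕ) (μ : Lat l) : Lat l →+ ZMod n := (Int.castAddHom (ZMod n)).comp (psi μ)

theorem red_apply (n : ℕ) (μ a : Lat l) : red n μ a = ((psi μ a : ℤ) : ZMod n) := rfl

theorem cg_wa (hp : IsType D l M) {n : ℕ} {z : Lat l} (hz : ∀ j, (n : ℤ) ∣ psi (cartanOf D l j) z) (w : M.Group) :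
    Cg n (wa hp w z) z := by
  induction w using M.toCoxeterSystem.simple_induction_right with
  | one => exact ⟨0, by rw [wa_one, smul_zero, add_zero]⟩
  | mul_simple_right w i ih =>
    obtain ⟨y, hy⟩ := ih
    obtain ⟨k, hk⟩ := hz i
    refine ⟨y - k • wa hp w (sr i), ?_⟩
    rw [wa_mul, wa_simple, wa_sub, wa_smul, hy, hk, smul_sub, smul_smul, add_sub_assoc]

theorem cp_sr (hp : IsType D l M) (a : Lat l) (j : Fin l) : cp hp a (sr j) = psi (cartanOf D l j) a := by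
  have := finite_W hp M.toCoxeterSystem
  show cpr _ _ _ _ = _
  rw [cpr_sr, psi_apply]
  exact Finset.sum_congr rfl fun i _ => mul_comm _ _

/-- `K3` after a change of the frame -/
theorem Cm.k3u (hc : BoxConn) (hl : l ≤ 7) {p q r : ℕ} {g : Lat l ≃+ Lat l} {A B : Lat l →+ ZMod r}
    (C : Cm hp p q r g A B) {c : Lat l} (h1 : A1c hp (Psi hp (A + B)) c) {w0 : M.Group} (hn : Neg hp w0 (A + B))
    (hw : wa hp w0 c = c ∨ wa hp w0 c = -c) (hq : 4 ≤ q) {u : M.Group} (hu : cw hp A u + cw hp B u = A + B) :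
    cw hp A u c = 0 :=
  (C.act u).k3' hc hl (by rw [hu]; exact h1) (by rw [hu]; exact hn) hw (Or.inl hq)

theorem neg_of_word {K : Type} [AddCommGroup K] {w : M.Group} (hw : ∀ a, wa hp w a = -a) (φ : Lat l →+ K) :
    Neg hp w φ := fun a => by rw [hw, map_neg]

include hT in
theorem Tab.not_K1_two {K : Type} [AddCommGroup K] {φ : Lat l →+ K} {κ : V} (hx : Exa hp φ κ) {c : Ent} (hc : c ∈ d.T)
    (h : al (fun e => !ieq (dot e.b κ) 0 || ieq (dot e.b c.cv) 0) d.T = true) : ¬ K1 hp 2 (Psi hp φ) := by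
  intro h1
  refine h1 _ (hT.rt c hc) fun a ha => ⟨?_, Or.inl rfl⟩
  refine hT.of_T (P := fun a => psi (toF l κ) a = 0 → cp hp a (toF l c.b) = 0) (fun a h3 h4 => ?_)
    (fun e he h3 => ?_) a ha.1 ((hx a ha.1).1 ha.2)
  · rw [map_neg, neg_eq_zero] at h4
    rw [cp_neg hp _ (hT.rt c hc), h3 h4, neg_zero]
  · rw [hT.psi_b he] at h3
    have h4 := al_iff.1 h e he
    rw [ieq_iff.2 h3, Bool.not_true, Bool.false_or] at h4
    rw [hT.cp_b he hc, ieq_iff.1 h4]

/-! ### corank two -/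

/-- the classification of the candidates -/
noncomputable def chk2 (d : Dt) (i j : ℕ) (RR : List (ℤ × ℤ)) (X : ℤ × ℤ → ℤ × ℤ → Bool) : Bool :=
  al (fun p => al (fun q => !cand d i j RR p q || (decide (p = (1, 0) ∧ q = (0, 1)) ||
    (decide (p = (-1, 0) ∧ q = (0, -1)) || (clsB RR p q || X p q)))) RR) RR

include hT in
theorem Tab.cls2 {i j : Fin l} {RR : List (ℤ × ℤ)} (R : RROK hp i j RR) {X : ℤ × ℤ → ℤ × ℤ → Bool}
    (hc : chk2 d i j RR X = true) {r : ℕ} (hr' : r.Prime) (h5 : 5 ≤ r) {φ : Lat l →+ ZMod r} (hx : Ex2 hp φ i j)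
    (h : Lat l ≃+ Lat l) (hr : ∀ a, Rt hp (h a) ↔ Rt hp a) {e : ZMod r} (he : ∀ a, φ (h a) = e * φ a) :
    ((e = 1 ∨ e = -1) ∧ ∀ a, (h a j : ZMod r) = e * a j) ∨ ∃ p q, X p q = true ∧ Mx h i j p q ∧
      e ^ 2 - ((p.1 + q.2 : ℤ) : ZMod r) * e + ((p.1 * q.2 - p.2 * q.1 : ℤ) : ZMod r) = 0 := by
  have := Fact.mk hr'
  obtain ⟨p, hp', q, hq, h1, h2, h3, h4⟩ := hT.res2 R hx h hr he
  have h6 := al_iff.1 (al_iff.1 hc p hp') q hq
  rw [h1, Bool.not_true, Bool.false_or] at h6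
  rcases Bool.or_eq_true_iff.1 h6 with h6 | h6
  · obtain ⟨rfl, rfl⟩ := decide_eq_true_iff.1 h6
    have h7 : e = 1 := by
      refine mul_right_cancel₀ hx.ne1 ?_
      rw [← h3]; push_cast; ring
    exact Or.inl ⟨Or.inl h7, fun a => by rw [(h2 a).2, h7]; push_cast; ring⟩
  rcases Bool.or_eq_true_iff.1 h6 with h6 | h6
  · obtain ⟨rfl, rfl⟩ := decide_eq_true_iff.1 h6
    have h7 : e = -1 := by
      refine mul_right_cancel₀ hx.ne1 ?_
      rw [← h3]; push_cast; ring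
    exact Or.inl ⟨Or.inr h7, fun a => by rw [(h2 a).2, h7]; push_cast; ring⟩
  rcases Bool.or_eq_true_iff.1 h6 with h6 | h6
  · exact absurd h6 (R.not_clsB hr' h5 hx h3 h4)
  · exact Or.inr ⟨p, q, h6, h2, by push_cast; exact charpoly hx.ne1 h3 h4⟩

include hT in
/-- `K5` -/
theorem Tab.not_scalar {p q r : ℕ} {g : Lat l ≃+ Lat l} {A B : Lat l →+ ZMod r} (C : Cm hp p q r g A B) {κ : V}
    (hκ : Exa hp (A + B) κ) {i j : Fin l} (hx : Ex2 hp (A + B) i j) {w0 : M.Group} (hw : ∀ a, wa hp w0 a = -a)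
    (hc : Nat.blt (cnt (fun e => ieq (dot e.b κ) 0) d.T) (cnt (fun e => ieq (gt e.b j) 0) d.T) = true)
    (h : ∀ a, (g a j : ZMod r) = (q : ZMod r) * a j) : False := by
  have := Fact.mk C.prime
  have h1 := C.k5 (red r (sr j)) (fun h2 => ?_) (fun a ha => ⟨ha.1, ?_⟩) (fun a => ?_)
    ⟨w0, neg_of_word hw _, neg_of_word hw _⟩
  · have h2 := hT.le_ncard (red r (sr j)) (P := fun e => ieq (gt e.b j) 0) fun e he h3 => by
      rw [red_apply, psi_sr', toF_apply, ieq_iff.1 h3, Int.cast_zero]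
    rw [hT.ncard_ex hκ] at h1
    rw [Nat.blt_eq] at hc
    omega
  · have h3 := DFunLike.congr_fun h2 (sr j)
    rw [red_apply, psi_sr', sr_self, Int.cast_one] at h3
    exact one_ne_zero h3
  · rw [red_apply, psi_sr', ((hx a ha.1).1 ha.2).2, Int.cast_zero]
  · rw [red_apply, red_apply, psi_sr', psi_sr', h]

/-- `γ` is moved -/
noncomputable def movchk (d : Dt) (i j : ℕ) (p q : ℤ × ℤ) (c : Ent) : Bool :=
  an (fun b => !ieq (dot b.b c.cv) 0 && al (fun e => ieq (dot e.b c.cv) 0 ||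
    !((ieq (gt e.b i) (gt b.b i * p.1 + gt b.b j * q.1) && ieq (gt e.b j) (gt b.b i * p.2 + gt b.b j * q.2)) ||
      (ieq (-gt e.b i) (gt b.b i * p.1 + gt b.b j * q.1) && ieq (-gt e.b j) (gt b.b i * p.2 + gt b.b j * q.2)))) d.T) d.T

include hT in
theorem Tab.moved {i j : Fin l} {p q : ℤ × ℤ} {c : Ent} (hc : c ∈ d.T) (h : movchk d i j p q c = true)
    {g : Lat l ≃+ Lat l} (hr : ∀ a, Rt hp (g a) ↔ Rt hp a) (hcp : ∀ a c, Rt hp c → cp hp (g a) (g c) = cp hp a c)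
    (hM : Mx g i j p q) : g (toF l c.b) ≠ toF l c.b ∧ g (toF l c.b) ≠ -toF l c.b := by
  obtain ⟨b, hb, h1⟩ := an_iff.1 h
  obtain ⟨h2, h3⟩ := Bool.and_eq_true_iff.1 h1
  have h4 : cp hp (g (toF l b.b)) (g (toF l c.b)) ≠ 0 := by
    rw [hcp _ _ (hT.rt c hc), hT.cp_b hb hc]
    intro h5
    rw [ieq_iff.2 h5] at h2
    exact Bool.false_ne_true h2
  have h5 : cp hp (g (toF l b.b)) (toF l c.b) = 0 := by
    obtain ⟨e, he, h6⟩ := hT.sur _ ((hr _).2 (hT.rt b hb))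
    obtain ⟨h7, h8⟩ := hM (toF l b.b)
    have h9 : dot e.b c.cv = 0 := by
      rcases Bool.or_eq_true_iff.1 (al_iff.1 h3 e he) with h10 | h10
      · exact ieq_iff.1 h10
      · exfalso
        rcases h6 with h6 | h6
        · rw [h6] at h7 h8
          rw [show ieq (gt e.b i) (gt b.b i * p.1 + gt b.b j * q.1) = true from ieq_iff.2 h7,
            show ieq (gt e.b j) (gt b.b i * p.2 + gt b.b j * q.2) = true from ieq_iff.2 h8] at h10
          exact Bool.false_ne_true h10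
        · rw [h6] at h7 h8
          rw [show ieq (-gt e.b i) (gt b.b i * p.1 + gt b.b j * q.1) = true from ieq_iff.2 h7,
            show ieq (-gt e.b j) (gt b.b i * p.2 + gt b.b j * q.2) = true from ieq_iff.2 h8, Bool.and_self,
            Bool.or_true] at h10
          exact Bool.false_ne_true h10
    rcases h6 with h6 | h6
    · rw [h6, hT.cp_b he hc, h9]
    · rw [h6, cp_neg hp _ (hT.rt c hc), hT.cp_b he hc, h9, neg_zero]
  constructor
  · intro h6
    rw [h6] at h4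
    exact h4 h5
  · intro h6
    rw [h6, cp_neg_right hp _ (hT.rt c hc), h5, neg_zero] at h4
    exact h4 rfl

/-- the candidates for a real element -/
noncomputable def chkW (d : Dt) (i j : ℕ) (RR : List (ℤ × ℤ)) (z : V) (Mu : List (ℤ × ℤ)) : Bool :=
  al (fun p => al (fun q => !cand d i j RR p q ||
    (!(zr 3 (gt z i * p.1 + gt z j * q.1 - gt z i) && zr 3 (gt z i * p.2 + gt z j * q.2 - gt z j)) ||
    (rowK RR (p.1 + 1) p.2 || (rowK RR q.1 (q.2 + 1) ||
    an (fun μ => an (fun N => (ieq (p.1 + 1) (N * μ.2) && ieq p.2 (-N * μ.1)) ||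
      (ieq q.1 (N * μ.2) && ieq (q.2 + 1) (-N * μ.1))) [1, -1]) Mu)))) RR) RR

include hT in
theorem Tab.clsW {i j : Fin l} {RR : List (ℤ × ℤ)} (R : RROK hp i j RR) {z : V} {Mu : List (ℤ × ℤ)}
    (hc : chkW d i j RR z Mu = true) (hz : ∀ k, (3 : ℤ) ∣ psi (cartanOf D l k) (toF l z)) {r : ℕ} (hr' : r.Prime)
    (h5 : 5 ≤ r) {φ : Lat l →+ ZMod r} (hx : Ex2 hp φ i j) (hw : ∃ w, Neg hp w φ) :
    ∃ μ ∈ Mu, (μ.2 : ZMod r) * φ (sr i) = μ.1 * φ (sr j) := by
  have := Fact.mk hr'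
  obtain ⟨w, hw⟩ := hw
  obtain ⟨p, hp', q, hq, h1, h2, h3, h4⟩ := hT.res2 R hx (BpExc.Fr.repAut M.toCoxeterSystem hp.isCartan w)
    (rt_wa hp w) (e := -1) fun a => by rw [neg_one_mul]; exact hw a
  have h6 := al_iff.1 (al_iff.1 hc p hp') q hq
  obtain ⟨y, hy⟩ := cg_wa hp (n := 3) hz w
  have h7 : zr 3 (gt z i * p.1 + gt z j * q.1 - gt z i) = true := by
    have h8 : wa hp w (toF l z) i = _ := (h2 (toF l z)).1
    rw [hy, Pi.add_apply, Pi.smul_apply, smul_eq_mul] at h8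
    exact zr_iff.2 ⟨y i, by simp only [toF_apply] at h8; push_cast at h8; linear_combination -h8⟩
  have h8 : zr 3 (gt z i * p.2 + gt z j * q.2 - gt z j) = true := by
    have h8 : wa hp w (toF l z) j = _ := (h2 (toF l z)).2
    rw [hy, Pi.add_apply, Pi.smul_apply, smul_eq_mul] at h8
    exact zr_iff.2 ⟨y j, by simp only [toF_apply] at h8; push_cast at h8; linear_combination -h8⟩
  rw [h1, h7, h8, Bool.not_true, Bool.false_or, Bool.and_self, Bool.not_true, Bool.false_or] at h6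
  rcases Bool.or_eq_true_iff.1 h6 with h6 | h6
  · exact absurd (by push_cast; linear_combination h3) (R.row_ne hr' h5 hx h6)
  rcases Bool.or_eq_true_iff.1 h6 with h6 | h6
  · exact absurd (by push_cast; linear_combination h4) (R.row_ne hr' h5 hx h6)
  obtain ⟨μ, hμ, h9⟩ := an_iff.1 h6
  obtain ⟨N, hN, h10⟩ := an_iff.1 h9
  have hN' : (N : ZMod r) * N = 1 := by
    simp only [List.mem_cons, List.not_mem_nil, or_false] at hN
    rcases hN with rfl | rfl <;> push_cast <;> ring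
  refine ⟨μ, hμ, ?_⟩
  rcases Bool.or_eq_true_iff.1 h10 with h11 | h11
  · obtain ⟨h12, h13⟩ := Bool.and_eq_true_iff.1 h11
    have h14 := congrArg (Int.cast : ℤ → ZMod r) (ieq_iff.1 h12)
    have h15 := congrArg (Int.cast : ℤ → ZMod r) (ieq_iff.1 h13)
    push_cast at h14 h15
    linear_combination N * h3 - N * φ (sr i) * h14 - N * φ (sr j) * h15 -
      (μ.2 * φ (sr i) - μ.1 * φ (sr j)) * hN'
  · obtain ⟨h12, h13⟩ := Bool.and_eq_true_iff.1 h11
    have h14 := congrArg (Int.cast : ℤ → ZMod r) (ieq_iff.1 h12)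
    have h15 := congrArg (Int.cast : ℤ → ZMod r) (ieq_iff.1 h13)
    push_cast at h14 h15
    linear_combination N * h4 - N * φ (sr i) * h14 - N * φ (sr j) * h15 -
      (μ.2 * φ (sr i) - μ.1 * φ (sr j)) * hN'

theorem Ex2.is {r : ℕ} (hr' : r.Prime) (h5 : 5 ≤ r) {φ : Lat l →+ ZMod r} {i j : Fin l} (hij : i ≠ j)
    (h : Ex2 hp φ i j) {s t : ℤ} (hs : s ∣ 46656) (e : (t : ZMod r) * φ (sr i) = s * φ (sr j)) {μ : V}
    (hμ : toF l μ = s • sr i + t • sr j) : ∃ c, Is φ c μ := by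
  have := Fact.mk hr'
  have h1 := un6 hr' h5 hs
  refine ⟨φ (sr i) / s, fun a => ?_⟩
  have h2 : ∀ (c : ℤ) (x : Lat l), psi (c • x) a = c * psi x a := fun c x => by
    have := psi_sub_smul 0 x a (-c)
    rw [neg_smul, sub_neg_eq_add, zero_add, psi_apply 0] at this
    rw [this]
    simp
  rw [h.eq hij a, hμ, psi_add, h2, h2, psi_sr', psi_sr']
  push_cast
  field_simp
  linear_combination (-(a j : ZMod r)) * e

/-- the candidates with the eigenvector `μ` -/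
noncomputable def chkG (d : Dt) (i j : ℕ) (RR : List (ℤ × ℤ)) (s t : ℤ) : Bool :=
  zr s 46656 && al (fun p => al (fun q => !cand d i j RR p q ||
    (ieq (p.1 * s + p.2 * t) s || (ieq (p.1 * s + p.2 * t) (-s) ||
      zr ((p.1 * s + p.2 * t) * t - (q.1 * s + q.2 * t) * s) 46656))) RR) RR

include hT in
theorem Tab.clsG {i j : Fin l} {RR : List (ℤ × ℤ)} (R : RROK hp i j RR) {s t : ℤ} (hc : chkG d i j RR s t = true)
    {r : ℕ} (hr' : r.Prime) (h5 : 5 ≤ r) {φ : Lat l →+ ZMod r} (hx : Ex2 hp φ i j)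
    (e1 : (t : ZMod r) * φ (sr i) = s * φ (sr j)) (h : Lat l ≃+ Lat l) (hr : ∀ a, Rt hp (h a) ↔ Rt hp a) {e : ZMod r}
    (he : ∀ a, φ (h a) = e * φ a) : e = 1 ∨ e = -1 := by
  have := Fact.mk hr'
  obtain ⟨p, hp', q, hq, h1, h2, h3, h4⟩ := hT.res2 R hx h hr he
  obtain ⟨hs, hc⟩ := Bool.and_eq_true_iff.1 hc
  have hs' := un6 hr' h5 (zr_iff.1 hs)
  have h6 := al_iff.1 (al_iff.1 hc p hp') q hq
  rw [h1, Bool.not_true, Bool.false_or] at h6
  have h7 : (p.1 : ZMod r) * s + p.2 * t = e * s := by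
    refine mul_right_cancel₀ hx.ne1 ?_
    linear_combination s * h3 + p.2 * e1
  have h8 : (q.1 : ZMod r) * s + q.2 * t = e * t := by
    refine mul_right_cancel₀ hx.ne1 ?_
    linear_combination s * h4 + (q.2 - e) * e1
  rcases Bool.or_eq_true_iff.1 h6 with h6 | h6
  · have h9 := congrArg (Int.cast : ℤ → ZMod r) (ieq_iff.1 h6)
    push_cast at h9
    exact Or.inl (mul_right_cancel₀ hs' (by linear_combination h9 - h7))
  rcases Bool.or_eq_true_iff.1 h6 with h6 | h6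
  · have h9 := congrArg (Int.cast : ℤ → ZMod r) (ieq_iff.1 h6)
    push_cast at h9
    exact Or.inr (mul_right_cancel₀ hs' (by linear_combination h9 - h7))
  · exact absurd (by push_cast; linear_combination t * h7 - s * h8) (un6 hr' h5 (zr_iff.1 h6))

/-! ### linear algebra -/

/-- subtraction of a linear combination -/
noncomputable def comb (Bs : List V) : V → V → V :=
  List.rec (motive := fun _ => V → V → V) (fun _ acc => acc)
    (fun b _ ih cs acc => List.casesOn (motive := fun _ => V) cs acc (fun c cs' => ih cs' (axpy c acc b))) Bs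

theorem map_comb {K : Type} [AddCommGroup K] {φ : Lat l →+ K} {Bs : List V} (h : ∀ b ∈ Bs, φ (toF l b) = 0) (cs : V)
    {acc : V} (ha : acc.length = l) : φ (toF l (comb Bs cs acc)) = φ (toF l acc) := by
  induction Bs generalizing cs acc with
  | nil => rfl
  | cons b Bs ih =>
    cases cs with
    | nil => rfl
    | cons c cs =>
      show φ (toF l (comb Bs cs (axpy c acc b))) = _
      rw [ih (fun b hb => h b (List.mem_cons_of_mem _ hb)) cs ((length_axpy _ _ _).trans ha), toF_axpy _ ha, map_sub,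
        map_zsmul, h b List.mem_cons_self, smul_zero, sub_zero]

/-- `N (e_i - ν_i v)` lies in the span of `Bs` -/
noncomputable def rkchk (l : ℕ) (Bs : List V) (ν v : V) (N : ℤ) (Cf : List V) : Bool :=
  zr N 46656 && al (fun i => leq (comb Bs (row Cf i) (axpy (N * gt ν i) (axpy (-N) (uv l l) (uv l i)) v)) (uv l l))
    (List.range l)

theorem is_of_kills {r : ℕ} (hr' : r.Prime) (h5 : 5 ≤ r) {φ : Lat l →+ ZMod r} {Bs : List V}
    (h : ∀ b ∈ Bs, φ (toF l b) = 0) {ν v : V} {N : ℤ} {Cf : List V} (hc : rkchk l Bs ν v N Cf = true) :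
    Is φ (φ (toF l v)) ν := by
  have := Fact.mk hr'
  obtain ⟨h1, h2⟩ := Bool.and_eq_true_iff.1 hc
  have hN := un6 hr' h5 (zr_iff.1 h1)
  have h3 : ∀ i : Fin l, φ (sr i) = (gt ν i : ZMod r) * φ (toF l v) := by
    intro i
    have hl : (axpy (-N) (uv l l) (uv l i)).length = l := (length_axpy _ _ _).trans (length_uv _ _)
    have h4 := map_comb h (row Cf i) ((length_axpy (N * gt ν i) _ v).trans hl)
    rw [leq_iff.1 (al_iff.1 h2 i (List.mem_range.2 i.2)), toF_uv_self, toF_axpy _ hl, toF_axpy _ (length_uv _ _),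
      toF_uv_self, toF_uv, map_zero, map_sub, map_sub, map_zero, map_zsmul, map_zsmul, zsmul_eq_mul, zsmul_eq_mul] at h4
    push_cast at h4
    refine mul_left_cancel₀ hN ?_
    linear_combination -h4
  intro a
  rw [eq_sum φ a, psi_apply]
  push_cast
  rw [Finset.mul_sum]
  exact Finset.sum_congr rfl fun i _ => by rw [h3, toF_apply]; ring

theorem Is.c_ne {r : ℕ} {φ : Lat l →+ ZMod r} {c : ZMod r} {μ : V} (h : Is φ c μ) (h0 : φ ≠ 0) : c ≠ 0 := by
  rintro rfl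
  exact h0 (AddMonoidHom.ext fun a => by rw [h, zero_mul]; rfl)

include hT in
/-- conjugates of multiples of fundamental coweights -/
theorem Tab.eig_of_is {r : ℕ} (hr' : r.Prime) (h5 : 5 ≤ r) {φ : Lat l →+ ZMod r} (h0 : φ ≠ 0) {c : ZMod r} {ν : V}
    (hν : ν.length = l) (h : Is φ c ν) {ω : List ℕ} {j : Fin l} (h1 : leq (fw d.C ω ν) (uv l j) = true)
    (h2 : al (fun e => ieq (gt e.b j) 0 || zr (gt e.b j) 46656) d.T = true) {g : Lat l ≃+ Lat l}
    (hr : ∀ a, Rt hp (g a) ↔ Rt hp a) {e : ZMod r} (he : ∀ a, φ (g a) = e * φ a) : e = 1 ∨ e = -1 := by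
  have := Fact.mk hr'
  have hc := h.c_ne h0
  have h3 : Ex1 hp (cw hp φ (wd M ω)) j := by
    refine hT.of_T (fun a h => by rw [map_neg, neg_eq_zero, Pi.neg_apply, neg_eq_zero]; exact h) fun e he => ?_
    rw [cw_apply, h, ← hT.psi_fw ω hν, leq_iff.1 h1, toF_uv, psi_sr', toF_apply, mul_eq_zero, or_iff_right hc]
    rcases Bool.or_eq_true_iff.1 (al_iff.1 h2 e he) with h4 | h4
    · rw [ieq_iff.1 h4]; simp
    · constructor
      · exact fun h6 => absurd h6 (un6 hr' h5 (zr_iff.1 h4))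
      · intro h6; rw [h6, Int.cast_zero]
  have h4 := h3.res (gw hp g (wd M ω)) (fun a => by rw [gw_apply, rt_wa, hr, rt_wa]) (e := e)
    fun a => by rw [cw_apply, cw_apply, gw_apply, wa_inv', he]
  exact h4.imp (fun h => h.1) fun h => h.1

include hT in
theorem Tab.orb_ex {r : ℕ} {A B : Lat l →+ ZMod r} {κ : V} (hA : Exa hp A κ) (hw : ∃ w ∈ WW hp (Psi hp A), Neg hp w B)
    {X : List V} (h : orbS l 0 (fl (fun e => ieq (dot e.b κ) 0) d.T) X = true) :
    ∀ v ∈ X, ∃ v' ∈ X, B (toF l v') + B (toF l v) = 0 := by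
  refine hT.orb_neg (dvd_zero _) (fun a ha => ha.1) (fun e he h1 => mem_fl.2 ⟨he, ?_⟩) h hw
  rw [ieq_iff, ← hT.psi_b he, ← hA _ (hT.rt e he)]
  rcases h1 with h1 | h1
  · exact h1.2
  · have := h1.2
    rwa [map_neg, neg_eq_zero] at this

include hT in
theorem Tab.span_ex {r : ℕ} (hr' : r.Prime) (h5 : 5 ≤ r) {A B : Lat l →+ ZMod r} {κ : V} (hA : Exa hp A κ)
    (hw : ∃ w ∈ WW hp (Psi hp A), Neg hp w B) {v : V}
    (h : orbS l 0 (fl (fun e => ieq (dot e.b κ) 0) d.T) [v] = true) : B (toF l v) = 0 := by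
  have := Fact.mk hr'
  obtain ⟨v', hv', h1⟩ := hT.orb_ex hA hw h v List.mem_cons_self
  rw [List.mem_singleton.1 hv', ← two_mul] at h1
  exact (mul_eq_zero.1 h1).resolve_left (by exact_mod_cast un6 hr' h5 (n := 2) (by norm_num))

/-! ### the final configurations -/

section fin

variable {p q r : ℕ} {g : Lat l ≃+ Lat l} {A B : Lat l →+ ZMod r} (C : Cm hp p q r g A B) {m K : ℤ} (hm : Md r m K)
  {c : ZMod r} (hc : c ≠ 0) {a b : V} (hA : Is A c a) (hB : Is B c b)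

include C in
theorem Cm.g_mem {x : Lat l} (hx : x ∈ Psi hp A ∪ Psi hp B) : g x ∈ Psi hp A ∪ Psi hp B :=
  hx.imp (fun h => ⟨(C.root x).2 h.1, by rw [C.frA, h.2, mul_zero]⟩)
    fun h => ⟨(C.root x).2 h.1, by rw [C.frB, h.2, mul_zero]⟩

include hT C hm hc hA hB in
theorem Tab.all_mem {P : Lat l → Prop} (hn : ∀ x, P x → P (-x))
    (h : ∀ e ∈ d.T, (nz m K (dot e.b a) && nz m K (dot e.b b)) = false → P (toF l e.b)) :
    ∀ x ∈ Psi hp A ∪ Psi hp B, P x := by
  intro x hx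
  refine hT.of_T (P := fun x => (A x = 0 ∨ B x = 0) → P x) (fun x h1 h2 => hn x (h1 ?_)) (fun e he h1 => h e he ?_) x
    (hx.elim (fun h => h.1) fun h => h.1) (hx.imp (fun h => h.2) fun h => h.2)
  · rwa [map_neg, map_neg, neg_eq_zero, neg_eq_zero] at h2
  · rcases h1 with h1 | h1
    · have h2 := hA.not_nz C.prime hc (hT.lb e he) hm h1
      rw [Bool.not_eq_true'] at h2
      rw [h2, Bool.false_and]
    · have h2 := hB.not_nz C.prime hc (hT.lb e he) hm h1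
      rw [Bool.not_eq_true'] at h2
      rw [h2, Bool.and_false]

include hT hm hA hB in
theorem Tab.mem_of_zr {e : Ent} (he : e ∈ d.T) (h : (zr m (dot e.b a) || zr m (dot e.b b)) = true) :
    toF l e.b ∈ Psi hp A ∪ Psi hp B :=
  (Bool.or_eq_true_iff.1 h).imp (fun h => ⟨hT.rt e he, hA.zero (hT.lb e he) hm h⟩)
    fun h => ⟨hT.rt e he, hB.zero (hT.lb e he) hm h⟩

/-- the check of an involution -/
noncomputable def endI (l : ℕ) (d : Dt) (m K : ℤ) (a b θ : V) : Bool :=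
  an (fun i => !zr 2 (gt θ i)) (List.range l) &&
  (al (fun e => (nz m K (dot e.b a) && nz m K (dot e.b b)) || zr 2 (dot e.b θ)) d.T &&
  al (fun t => an (fun e => (zr m (dot e.b a) || zr m (dot e.b b)) && !zr 2 (dot e.b t)) d.T ||
    (leq t (uv l l) || leq t θ)) (pats [0, 1] l))

include hT C hm hc hA hB in
theorem Tab.end_inv {θ : V} (h : endI l d m K a b θ = true) :
    ∃ θ : Lat l →+ ZMod 2, θ ≠ 0 ∧ (∀ x, θ (g x) = θ x) ∧ Psi hp A ∪ Psi hp B ⊆ Psi hp θ := by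
  obtain ⟨h1, h⟩ := Bool.and_eq_true_iff.1 h
  obtain ⟨h2, h3⟩ := Bool.and_eq_true_iff.1 h
  have hz : ∀ n : ℤ, (n : ZMod 2) = 0 ↔ zr 2 n = true := fun n => by
    rw [zr_iff]; exact ZMod.intCast_zmod_eq_zero_iff_dvd n 2
  have h4 : ∃ x, red 2 (toF l θ) x ≠ 0 := by
    obtain ⟨i, hi, h5⟩ := an_iff.1 h1
    refine ⟨sr ⟨i, List.mem_range.1 hi⟩, fun h6 => ?_⟩
    rw [red_apply, psi_sr, hz, toF_apply] at h6
    rw [h6] at h5
    exact Bool.false_ne_true h5
  have h5 : ∀ x ∈ Psi hp A ∪ Psi hp B, red 2 (toF l θ) x = 0 := by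
    refine hT.all_mem C hm hc hA hB (fun x h6 => by rw [map_neg, h6, neg_zero]) fun e he h6 => ?_
    have h7 := al_iff.1 h2 e he
    rw [h6, Bool.false_or] at h7
    rw [red_apply, hT.psi_b he, hz, h7]
  refine ⟨red 2 (toF l θ), fun h6 => ?_, ?_, fun x hx => ⟨hx.elim (fun h => h.1) fun h => h.1, h5 x hx⟩⟩
  · obtain ⟨x, hx⟩ := h4
    rw [h6] at hx
    exact hx rfl
  set f : Fin l → ℤ := fun i => ((red 2 (toF l θ) (g (sr i))).val : ℤ) with hf
  have h6 : ∀ x, red 2 (toF l θ) (g x) = red 2 f x := by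
    intro x
    have h7 := eq_sum ((red 2 (toF l θ)).comp g.toAddMonoidHom) x
    rw [red_apply 2 f, psi_apply]
    push_cast
    refine h7.trans (Finset.sum_congr rfl fun i _ => ?_)
    rw [hf]
    push_cast
    rw [ZMod.natCast_zmod_val]
    rfl
  have h7 : List.ofFn f ∈ pats [0, 1] l := mem_pats f fun i => by
    have := ZMod.val_lt (red 2 (toF l θ) (g (sr i)))
    simp only [hf, List.mem_cons, List.not_mem_nil, or_false]
    omega
  rcases Bool.or_eq_true_iff.1 (al_iff.1 h3 _ h7) with h8 | h8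
  · exfalso
    obtain ⟨e, he, h9⟩ := an_iff.1 h8
    obtain ⟨h10, h11⟩ := Bool.and_eq_true_iff.1 h9
    have h12 := h5 _ (C.g_mem (hT.mem_of_zr hm hA hB he h10))
    rw [h6, red_apply, ← toF_ofFn f, hT.psi_b he, hz] at h12
    rw [h12] at h11
    exact Bool.false_ne_true h11
  rcases Bool.or_eq_true_iff.1 h8 with h8 | h8
  · exfalso
    obtain ⟨x, hx⟩ := h4
    apply hx
    rw [← g.apply_symm_apply x, h6, ← toF_ofFn f, leq_iff.1 h8, toF_uv_self, red_apply, psi_apply]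
    simp
  · intro x
    rw [h6, ← toF_ofFn f, leq_iff.1 h8]

/-- the check of a root -/
noncomputable def endR (d : Dt) (m K : ℤ) (a b : V) (c : Ent) : Bool :=
  al (fun e => (nz m K (dot e.b a) && nz m K (dot e.b b)) || (leq e.b c.b || ieq (dot e.b c.cv) 0)) d.T &&
  al (fun c' => an (fun e => (zr m (dot e.b a) || zr m (dot e.b b)) &&
    !(leq e.b c'.b || ieq (dot e.b c'.cv) 0)) d.T || leq c'.b c.b) d.T

include hT C hm hc hA hB in
theorem Tab.end_root {γ : Ent} (hγ : γ ∈ d.T) (h : endR d m K a b γ = true) :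
    ∃ c, Rt hp c ∧ (g c = c ∨ g c = -c) ∧ ∀ x ∈ Psi hp A ∪ Psi hp B, x = c ∨ x = -c ∨ cp hp x c = 0 := by
  obtain ⟨h1, h2⟩ := Bool.and_eq_true_iff.1 h
  have h3 : ∀ x ∈ Psi hp A ∪ Psi hp B, x = toF l γ.b ∨ x = -toF l γ.b ∨ cp hp x (toF l γ.b) = 0 := by
    refine hT.all_mem C hm hc hA hB (fun x h4 => ?_) fun e he h4 => ?_
    · rcases h4 with h4 | h4 | h4
      · right; left; rw [h4]
      · left; rw [h4, neg_neg]
      · right; right; rw [cp_neg hp _ (hT.rt γ hγ), h4, neg_zero]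
    · have h5 := al_iff.1 h1 e he
      rw [h4, Bool.false_or] at h5
      rcases Bool.or_eq_true_iff.1 h5 with h6 | h6
      · left; rw [leq_iff.1 h6]
      · right; right; rw [hT.cp_b he hγ, ieq_iff.1 h6]
  refine ⟨_, hT.rt γ hγ, ?_, h3⟩
  have h4 : Rt hp (g.symm (toF l γ.b)) := by rw [← C.root, g.apply_symm_apply]; exact hT.rt γ hγ
  obtain ⟨c', hc', h5⟩ := hT.sur _ h4
  have h6 : g (toF l c'.b) = toF l γ.b ∨ g (toF l c'.b) = -toF l γ.b := by
    rcases h5 with h5 | h5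
    · left; rw [← h5, g.apply_symm_apply]
    · right; rw [← neg_eq_iff_eq_neg, ← map_neg, ← h5, g.apply_symm_apply]
  rcases Bool.or_eq_true_iff.1 (al_iff.1 h2 c' hc') with h7 | h7
  · exfalso
    obtain ⟨e, he, h8⟩ := an_iff.1 h7
    obtain ⟨h9, h10⟩ := Bool.and_eq_true_iff.1 h8
    have h11 : g (toF l e.b) = g (toF l c'.b) ∨ g (toF l e.b) = g (-toF l c'.b) ∨
        cp hp (g (toF l e.b)) (g (toF l c'.b)) = 0 := by
      rw [map_neg]
      rcases h6 with h6 | h6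
      · rw [h6]; exact h3 _ (C.g_mem (hT.mem_of_zr hm hA hB he h9))
      · rw [h6, neg_neg, cp_neg_right hp _ (hT.rt γ hγ), neg_eq_zero]
        exact or_left_comm.1 (h3 _ (C.g_mem (hT.mem_of_zr hm hA hB he h9)))
    rw [Bool.not_eq_true', Bool.or_eq_false_iff] at h10
    rcases h11 with h11 | h11 | h11
    · rw [leq_iff.2 (toF_inj (hT.lb e he) (hT.lb c' hc') (g.injective h11))] at h10
      exact Bool.false_ne_true h10.1.symm
    · have h12 := hT.pos e he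
      rw [g.injective h11] at h12
      exact (hT.rt c' hc').not_pos_neg (hT.pos c' hc') (neg_nonneg.1 h12)
    · rw [C.gcp _ _ (hT.rt c' hc'), hT.cp_b he hc'] at h11
      rw [ieq_iff.2 h11] at h10
      exact Bool.false_ne_true h10.2.symm
  · rw [leq_iff.1 h7] at h6
    exact h6

/-- the check of a minuscule coweight -/
noncomputable def endM (l : ℕ) (d : Dt) (m K : ℤ) (a b θ z : V) : Bool :=
  Nat.beq θ.length l && (Nat.beq z.length l && (!zr 3 (dot z θ) && (an (fun e => ieq (dot e.b θ) 1) d.T &&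
  (al (fun e => ieq (dot e.b θ) 0 || (ieq (dot e.b θ) 1 || ieq (dot e.b θ) (-1))) d.T &&
  (Nat.beq (cnt (fun e => ieq (dot e.b θ) 0) d.T) 20 &&
  (al (fun e => (nz m K (dot e.b a) && nz m K (dot e.b b)) || ieq (dot e.b θ) 0) d.T &&
  al (fun t => an (fun e => (zr m (dot e.b a) || zr m (dot e.b b)) && !ieq (dot e.b t) 0) d.T ||
    (leq t (uv l l) || (leq t θ || leq t (axpy 2 θ θ)))) (pats [0, 1, -1] l)))))))

include hT C hm hc hA hB in
theorem Tab.end_min {θ z : V} (h : endM l d m K a b θ z = true) {ε : ℤˣ} (hz : Cg 3 (g (toF l z)) ((ε : ℤ) • toF l z)) :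
    ∃ θ : Lat l →+ ℤ, (∃ x, Rt hp x ∧ θ x = 1) ∧ (∀ x, Rt hp x → θ x = 0 ∨ θ x = 1 ∨ θ x = -1) ∧
      (∀ x, θ (g x) = (ε : ℤ) * θ x) ∧ (Psi hp θ).ncard = 40 ∧ Psi hp A ∪ Psi hp B ⊆ Psi hp θ := by
  obtain ⟨hl1, h⟩ := Bool.and_eq_true_iff.1 h
  obtain ⟨hl2, h⟩ := Bool.and_eq_true_iff.1 h
  obtain ⟨h1, h⟩ := Bool.and_eq_true_iff.1 h
  obtain ⟨h2, h⟩ := Bool.and_eq_true_iff.1 h
  obtain ⟨h3, h⟩ := Bool.and_eq_true_iff.1 h
  obtain ⟨h4, h⟩ := Bool.and_eq_true_iff.1 h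
  obtain ⟨h5, h6⟩ := Bool.and_eq_true_iff.1 h
  have hl1' := Nat.eq_of_beq_eq_true hl1
  have hl2' := Nat.eq_of_beq_eq_true hl2
  have h7 : ∀ x, Rt hp x → psi (toF l θ) x = 0 ∨ psi (toF l θ) x = 1 ∨ psi (toF l θ) x = -1 := by
    refine hT.of_T (fun x h8 => by rw [map_neg]; omega) fun e he => ?_
    have h8 := al_iff.1 h3 e he
    rw [Bool.or_eq_true_iff, Bool.or_eq_true_iff, ieq_iff, ieq_iff, ieq_iff] at h8
    rw [hT.psi_b he]
    exact h8
  have h8 : ∀ x ∈ Psi hp A ∪ Psi hp B, psi (toF l θ) x = 0 := by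
    refine hT.all_mem C hm hc hA hB (fun x h9 => by rw [map_neg, h9, neg_zero]) fun e he h9 => ?_
    have h10 := al_iff.1 h5 e he
    rw [h9, Bool.false_or] at h10
    rw [hT.psi_b he, ieq_iff.1 h10]
  obtain ⟨e0, he0, h9⟩ := an_iff.1 h2
  have h9' : psi (toF l θ) (toF l e0.b) = 1 := by rw [hT.psi_b he0, ieq_iff.1 h9]
  refine ⟨psi (toF l θ), ⟨_, hT.rt e0 he0, h9'⟩, h7, ?_, ?_,
    fun x hx => ⟨hx.elim (fun h => h.1) fun h => h.1, h8 x hx⟩⟩
  swap
  · rw [hT.ncard_ex (κ := θ) fun _ _ => Iff.rfl, Nat.eq_of_beq_eq_true h4]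
  set f : Fin l → ℤ := fun i => psi (toF l θ) (g (sr i)) with hf
  have h10 : ∀ x, psi (toF l θ) (g x) = psi f x := fun x =>
    (eq_psi ((psi (toF l θ)).comp g.toAddMonoidHom) x).trans (psi_apply f x).symm
  have h11 : List.ofFn f ∈ pats [0, 1, -1] l := mem_pats f fun i => by
    simp only [List.mem_cons, List.not_mem_nil, or_false]
    exact h7 _ ((C.root _).2 (rt_sr hp i))
  have h12 : ¬ (3 : ℤ) ∣ psi (toF l θ) (toF l z) := by
    rw [psi_toF hl2', ← zr_iff]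
    intro h13
    rw [h13] at h1
    exact Bool.false_ne_true h1
  obtain ⟨y, hy⟩ := hz
  have h13 : psi (toF l θ) (g (toF l z)) = ε * psi (toF l θ) (toF l z) + 3 * psi (toF l θ) y := by
    rw [hy, map_add, map_zsmul, map_zsmul]
    rfl
  rcases Bool.or_eq_true_iff.1 (al_iff.1 h6 _ h11) with h14 | h14
  · exfalso
    obtain ⟨e, he, h15⟩ := an_iff.1 h14
    obtain ⟨h16, h17⟩ := Bool.and_eq_true_iff.1 h15
    have h18 := h8 _ (C.g_mem (hT.mem_of_zr hm hA hB he h16))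
    rw [h10, ← toF_ofFn f, hT.psi_b he] at h18
    rw [ieq_iff.2 h18] at h17
    exact Bool.false_ne_true h17
  rcases Bool.or_eq_true_iff.1 h14 with h14 | h14
  · exfalso
    rw [← g.apply_symm_apply (toF l e0.b), h10, ← toF_ofFn f, leq_iff.1 h14, toF_uv_self, psi_apply] at h9'
    simp at h9'
  rcases Bool.or_eq_true_iff.1 h14 with h14 | h14
  · have h15 : ∀ x, psi (toF l θ) (g x) = psi (toF l θ) x := fun x => by rw [h10, ← toF_ofFn f, leq_iff.1 h14]
    rcases Int.units_eq_one_or ε with rfl | rfl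
    · intro x; rw [h15, Units.val_one, one_mul]
    · exfalso
      rw [h15, Units.val_neg, Units.val_one] at h13
      omega
  · have h15 : ∀ x, psi (toF l θ) (g x) = -psi (toF l θ) x := fun x => by
      rw [h10, ← toF_ofFn f, leq_iff.1 h14, toF_axpy _ hl1', psi_sub_smul]; ring
    rcases Int.units_eq_one_or ε with rfl | rfl
    · exfalso
      rw [h15, Units.val_one] at h13
      omega
    · intro x; rw [h15, Units.val_neg, Units.val_one, neg_one_mul]

end fin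

/-! ### transport -/

theorem union_cw {r : ℕ} {A B : Lat l →+ ZMod r} {w : M.Group} {x : Lat l} (hx : x ∈ Psi hp A ∪ Psi hp B) :
    wa hp w⁻¹ x ∈ Psi hp (cw hp A w) ∪ Psi hp (cw hp B w) :=
  hx.imp (fun h => by rw [mem_cw, wa_inv']; exact h) fun h => by rw [mem_cw, wa_inv']; exact h

theorem gw_inv (g : Lat l ≃+ Lat l) (w : M.Group) (x : Lat l) : gw hp g w (wa hp w⁻¹ x) = wa hp w⁻¹ (g x) := by
  rw [gw_apply, wa_inv']

theorem endF4_of {p r : ℕ} {g : Lat 4 ≃+ Lat 4} {A B : Lat 4 →+ ZMod r} {w : CoxeterMatrix.F₄.Group}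
    (h : EndF4 p (gw tF4 g w) (cw tF4 A w) (cw tF4 B w)) : EndF4 p g A B := by
  obtain ⟨h0, θ, h1, h2, h3⟩ := h
  exact ⟨h0, cw tF4 θ w⁻¹, cw_ne tF4 h1 _, fun x => by rw [cw_apply, cw_apply, ← gw_inv, h2],
    fun x hx => (mem_cw tF4).2 (h3 (union_cw hx))⟩

theorem endE6_of {q r : ℕ} {ε : ℤˣ} {g : Lat 6 ≃+ Lat 6} {A B : Lat 6 →+ ZMod r} {w : CoxeterMatrix.E₆.Group}
    (h : EndE6 q ε (gw tE6 g w) (cw tE6 A w) (cw tE6 B w)) : EndE6 q ε g A B := by
  obtain ⟨h0, θ, ⟨x, h1, h2⟩, h3, h4, h5, h6⟩ := h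
  exact ⟨h0, cw tE6 θ w⁻¹, ⟨wa tE6 w x, h1.act w, by rw [cw_apply, wa_inv, h2]⟩, fun x hx => h3 _ (hx.act _),
    fun x => by rw [cw_apply, cw_apply, ← gw_inv, h4], by rw [ncard_cw, h5],
    fun x hx => (mem_cw tE6).2 (h6 (union_cw hx))⟩

theorem endE7_of {q r : ℕ} {g : Lat 7 ≃+ Lat 7} {A B : Lat 7 →+ ZMod r} {w : CoxeterMatrix.E₇.Group}
    (h : EndE7 q (gw tE7 g w) (cw tE7 A w) (cw tE7 B w)) : EndE7 q g A B := by
  obtain ⟨h0, c, h1, h2, h3⟩ := h
  refine ⟨h0, wa tE7 w c, h1.act w, ?_, fun x hx => ?_⟩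
  · rw [gw_apply] at h2
    rcases h2 with h2 | h2
    · left; conv_rhs => rw [← h2, wa_inv']
    · right; rw [← wa_neg, ← h2, wa_inv']
  · rcases h3 _ (union_cw hx) with h4 | h4 | h4
    · left; rw [← h4, wa_inv']
    · right; left; rw [← wa_neg, ← h4, wa_inv']
    · right; right; rw [← cp_wa tE7 w _ h1, wa_inv'] at h4; exact h4

theorem cg_gw {n : ℕ} {z : Lat l} (hz : ∀ j, (n : ℤ) ∣ psi (cartanOf D l j) z) {g : Lat l ≃+ Lat l} {ε : ℤ}
    (h : Cg n (g z) (ε • z)) (w : M.Group) : Cg n (gw hp g w z) (ε • z) := by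
  obtain ⟨y, hy⟩ := h
  obtain ⟨y1, hy1⟩ := cg_wa hp hz w
  obtain ⟨y2, hy2⟩ := cg_wa hp hz w⁻¹
  refine ⟨ε • y2 + wa hp w⁻¹ y + wa hp w⁻¹ (g y1), ?_⟩
  rw [gw_apply, hy1, map_add, map_zsmul, hy, wa_add, wa_add, wa_smul, wa_smul, wa_smul, hy2, smul_add, smul_add,
    smul_add, smul_comm ε (n : ℤ) y2]
  abel

end Cfsg.Agent.Cam.Ex.Cb
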