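import Cfsg.Agent.Cam.Ex.Cb4

/-!
# The finite check, part 5: further certificates (helper12)
-/

set_option autoImplicit false
set_option linter.unusedVariables false
set_option linter.unusedSectionVars false

namespace Cfsg.Agent.Cam.Ex.Cb

open CoxeterSystem Cfsg Cfsg.Lie
open Cfsg.Agent.ChevalleyStructure.CoxeterGeom Cfsg.Agent.ChevalleyStructure.CoxeterGeomTypes
open Cfsg.Agent.Tits.Roots Cfsg.Agent.Nodes.RGDChev Cfsg.Agent.Nodes.Coroot Cfsg.Agent.Nodes.SubComb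
open Cfsg.Agent.H931.KC (hr psi psi_apply psi_sr eq_psi)

variable {D : ChevalleyDatum} {l : ℕ} {M : CoxeterMatrix (Fin l)} {hp : IsType D l M} {d : Dt} (hT : Tab hp d)

/-- the elements of `G` are isolated roots -/
noncomputable def gchk (l : ℕ) (d : Dt) (κ : V) (G : List V) : Bool :=
  al (fun v => an (fun c => leq c.b v && a1chk d κ c) d.T) G

include hT in
theorem Tab.gchk_spec {K : Type} [AddCommGroup K] {φ : Lat l →+ K} {κ : V} (hx : Exa hp φ κ) {G : List V}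
    (h : gchk l d κ G = true) {v : V} (hv : v ∈ G) : v.length = l ∧ A1c hp (Psi hp φ) (toF l v) ∧ ∃ c ∈ d.T, c.b = v := by
  obtain ⟨c, hc, h1⟩ := an_iff.1 (al_iff.1 h v hv)
  obtain ⟨h2, h3⟩ := Bool.and_eq_true_iff.1 h1
  rw [← leq_iff.1 h2]
  exact ⟨hT.lb c hc, hT.a1c hx hc h3, c, hc, rfl⟩

include hT in
theorem Tab.k3G (hc : BoxConn) (hl : l ≤ 7) {p q r : ℕ} {g : Lat l ≃+ Lat l} {A B : Lat l →+ ZMod r}
    (C : Cm hp p q r g A B) {κ : V} (hκ : Exa hp (A + B) κ) {G : List V} (h : gchk l d κ G = true) {w0 : M.Group}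
    (hn : Neg hp w0 (A + B)) (hw : ∀ v ∈ G, wa hp w0 (toF l v) = toF l v ∨ wa hp w0 (toF l v) = -toF l v)
    (hq : (q : ZMod r) = 1 ∨ (q : ZMod r) = -1) :
    ∀ u, cw hp A u + cw hp B u = A + B → ∀ v ∈ G, v.length = l ∧ cw hp A u (toF l v) = 0 := fun u hu v hv =>
  ⟨(hT.gchk_spec hκ h hv).1, C.k3u hc hl (hT.gchk_spec hκ h hv).2.1 hn (hw v hv)
    (four_le C.prime C.five C.two hq) hu⟩

include hT in
theorem Tab.neg_is {r : ℕ} {φ : Lat l →+ ZMod r} {c : ZMod r} {μ : V} (hμ : μ.length = l) (h : Is φ c μ) {ω : List ℕ}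
    (h1 : leq (fw d.C ω μ) (axpy 2 μ μ) = true) : Neg hp (wd M ω) φ := by
  intro a
  rw [h, h, ← hT.psi_fw ω hμ, leq_iff.1 h1, toF_axpy _ hμ, psi_sub_smul]
  push_cast
  ring

include hT in
theorem Tab.wd_vec {ω : List ℕ} {v v' : V} (hv : v.length = l)
    (h : al (fun i => ieq (dot v (fw d.C ω (uv l i))) (gt v' i)) (List.range l) = true) :
    wa hp (wd M ω) (toF l v) = toF l v' := by
  funext i
  rw [hT.wd_apply, psi_toF hv, ieq_iff.1 (al_iff.1 h i (List.mem_range.2 i.2)), toF_apply]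

theorem toF_pl {u : V} (hu : u.length = l) (v : V) : toF l (pl u v) = toF l u + toF l v := by
  rw [pl, toF_axpy _ hu, neg_one_smul, sub_neg_eq_add]

include hT in
/-- `B` is a multiple of a coroot -/
theorem Tab.root_mult {r : ℕ} (hr' : r.Prime) (h5 : 5 ≤ r) {A B : Lat l →+ ZMod r} {κ : V} (hA : Exa hp A κ)
    (hw : ∃ w ∈ WW hp (Psi hp A), Neg hp w B) {u : V} {X : List V}
    (hX : orbS l 0 (fl (fun e => ieq (dot e.b κ) 0) d.T) (u :: X) = true) {Bs : List V}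
    (hB : ∀ b ∈ Bs, B (toF l b) = 0) {DT : List (V × V × ℤ × List V)} {Q : V → Bool}
    (h : al (fun v' => an (fun t => rkchk l (pl u v' :: Bs) t.1 t.2.1 t.2.2.1 t.2.2.2 && Q t.1) DT) (u :: X) = true) :
    ∃ ν c, Q ν = true ∧ Is B c ν := by
  obtain ⟨v', hv', h1⟩ := hT.orb_ex hA hw hX u List.mem_cons_self
  obtain ⟨t, -, h2⟩ := an_iff.1 (al_iff.1 h v' hv')
  obtain ⟨h3, h4⟩ := Bool.and_eq_true_iff.1 h2
  have hu : u.length = l := Nat.eq_of_beq_eq_true (Bool.and_eq_true_iff.1 (al_iff.1 hX u List.mem_cons_self)).1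
  refine ⟨t.1, _, h4, is_of_kills hr' h5 (fun b hb => ?_) h3⟩
  rcases List.mem_cons.1 hb with rfl | hb
  · rw [toF_pl hu, map_add, add_comm, h1]
  · exact hB b hb

/-- triples of orthogonal roots -/
noncomputable def trichk (l : ℕ) (d : Dt) (κ : V) (G : List V) : Bool :=
  al (fun e1 => al (fun e2 => !ieq (dot e1.b e2.cv) 0 || al (fun e3 =>
    !(ieq (dot e1.b e3.cv) 0 && (ieq (dot e2.b e3.cv) 0 &&
      al (fun j => zr 2 (dot e1.b (row d.C j) + dot e2.b (row d.C j) + dot e3.b (row d.C j))) (List.range l))) ||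
    al (fun v => leq e1.b v || (leq e2.b v || leq e3.b v)) G)
    (fl (fun e => ieq (dot e.b κ) 0) d.T)) (fl (fun e => ieq (dot e.b κ) 0) d.T)) (fl (fun e => ieq (dot e.b κ) 0) d.T)

include hT in
theorem Tab.ent {K K' : Type} [AddCommGroup K] [AddCommGroup K'] {A : Lat l →+ K} {B : Lat l →+ K'} {κ : V}
    (hA : Exa hp A κ) {x : Lat l} (hx : Rt hp x) (h1 : A x = 0) (h2 : B x = 0) :
    ∃ e ∈ fl (fun e => ieq (dot e.b κ) 0) d.T, B (toF l e.b) = 0 ∧ (x = toF l e.b ∨ x = -toF l e.b) := by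
  obtain ⟨e, he, h3⟩ := hT.sur x hx
  refine ⟨e, mem_fl.2 ⟨he, ?_⟩, ?_, h3⟩
  · rw [ieq_iff, ← hT.psi_b he, ← hA _ (hT.rt e he)]
    rcases h3 with h3 | h3
    · rw [← h3, h1]
    · rwa [h3, map_neg, neg_eq_zero] at h1
  · rcases h3 with h3 | h3
    · rw [← h3, h2]
    · rwa [h3, map_neg, neg_eq_zero] at h2

include hT in
theorem Tab.cp_zero {e e' : Ent} (he : e ∈ d.T) (he' : e' ∈ d.T) {x y : Lat l}
    (hx : x = toF l e.b ∨ x = -toF l e.b) (hy : y = toF l e'.b ∨ y = -toF l e'.b) :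
    cp hp x y = dot e.b e'.cv ∨ cp hp x y = -dot e.b e'.cv := by
  have h1 := hT.rt e' he'
  rcases hx with rfl | rfl <;> rcases hy with rfl | rfl
  · left; rw [hT.cp_b he he']
  · right; rw [cp_neg_right hp _ h1, hT.cp_b he he']
  · right; rw [cp_neg hp _ h1, hT.cp_b he he']
  · left; rw [cp_neg_right hp _ h1, cp_neg hp _ h1, neg_neg, hT.cp_b he he']

include hT in
theorem Tab.cp_row {e : Ent} (he : e ∈ d.T) {x : Lat l} (hx : x = toF l e.b ∨ x = -toF l e.b) (j : Fin l) :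
    cp hp x (sr j) = dot e.b (row d.C j) ∨ cp hp x (sr j) = -dot e.b (row d.C j) := by
  rw [cp_sr, ← hT.car j]
  rcases hx with rfl | rfl
  · left; rw [hT.psi_b he]
  · right; rw [map_neg, hT.psi_b he]

include hT in
theorem Tab.tri {K K' : Type} [AddCommGroup K] [AddCommGroup K'] {A : Lat l →+ K} {B : Lat l →+ K'} {κ : V}
    (hA : Exa hp A κ) {G : List V} (h : trichk l d κ G = true) {x y z : Lat l} (hx : Rt hp x) (hy : Rt hp y)
    (hz : Rt hp z) (ax : A x = 0) (ay : A y = 0) (az : A z = 0) (bx : B x = 0) (by' : B y = 0) (bz : B z = 0)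
    (hxy : cp hp x y = 0) (hxz : cp hp x z = 0) (hyz : cp hp y z = 0)
    (h2 : ∀ j, (2 : ℤ) ∣ cp hp (x + y + z) (sr j)) : ∀ v ∈ G, B (toF l v) = 0 := by
  obtain ⟨e1, m1, b1, s1⟩ := hT.ent hA hx ax bx
  obtain ⟨e2, m2, b2, s2⟩ := hT.ent hA hy ay by'
  obtain ⟨e3, m3, b3, s3⟩ := hT.ent hA hz az bz
  have t1 := (mem_fl.1 m1).1
  have t2 := (mem_fl.1 m2).1
  have t3 := (mem_fl.1 m3).1
  have h3 := al_iff.1 (al_iff.1 h e1 m1) e2 m2
  have o12 : dot e1.b e2.cv = 0 := by have := hT.cp_zero t1 t2 s1 s2; omega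
  have o13 : dot e1.b e3.cv = 0 := by have := hT.cp_zero t1 t3 s1 s3; omega
  have o23 : dot e2.b e3.cv = 0 := by have := hT.cp_zero t2 t3 s2 s3; omega
  rw [ieq_iff.2 o12, Bool.not_true, Bool.false_or] at h3
  have h4 := al_iff.1 h3 e3 m3
  have h5 : al (fun j => zr 2 (dot e1.b (row d.C j) + dot e2.b (row d.C j) + dot e3.b (row d.C j)))
      (List.range l) = true := by
    refine al_iff.2 fun j hj => zr_iff.2 ?_
    have h6 := h2 ⟨j, List.mem_range.1 hj⟩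
    rw [cp_add hp _ _ (rt_sr hp _), cp_add hp _ _ (rt_sr hp _)] at h6
    have k1 := hT.cp_row t1 s1 ⟨j, List.mem_range.1 hj⟩
    have k2 := hT.cp_row t2 s2 ⟨j, List.mem_range.1 hj⟩
    have k3 := hT.cp_row t3 s3 ⟨j, List.mem_range.1 hj⟩
    simp only at k1 k2 k3
    omega
  rw [ieq_iff.2 o13, ieq_iff.2 o23, h5, Bool.and_self, Bool.and_self, Bool.not_true, Bool.false_or] at h4
  intro v hv
  rcases Bool.or_eq_true_iff.1 (al_iff.1 h4 v hv) with h6 | h6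
  · rw [← leq_iff.1 h6, b1]
  rcases Bool.or_eq_true_iff.1 h6 with h6 | h6
  · rw [← leq_iff.1 h6, b2]
  · rw [← leq_iff.1 h6, b3]

/-- `s ω_i + t ω_j + c ν` kills no `A₂` -/
noncomputable def d4chk (d : Dt) (i j : ℕ) (RR : List (ℤ × ℤ)) (ν : V) : Bool :=
  al (fun e1 => al (fun e2 => !(ieq (dot e1.b e2.cv) 1 || ieq (dot e1.b e2.cv) (-1)) ||
    an (fun n1 => an (fun n2 =>
      (ieq (n1 * dot e1.b ν + n2 * dot e2.b ν) 0 &&
        rowK RR (n1 * gt e1.b i + n2 * gt e2.b i) (n1 * gt e1.b j + n2 * gt e2.b j)) ||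
      (ieq (n1 * gt e1.b i + n2 * gt e2.b i) 0 && (ieq (n1 * gt e1.b j + n2 * gt e2.b j) 0 &&
        zr (n1 * dot e1.b ν + n2 * dot e2.b ν) 46656))) [0, 1, -1, 2, -2]) [1, 0, 2]) d.T) d.T

include hT in
theorem Tab.no_A2 {i j : Fin l} {RR : List (ℤ × ℤ)} (R : RROK hp i j RR) {r : ℕ} (hr' : r.Prime) (h5 : 5 ≤ r)
    {A B : Lat l →+ ZMod r} (hA : Ex2 hp A i j) {c : ZMod r} (hc : c ≠ 0) {ν : V} (hB : Is B c ν)
    (h : d4chk d i j RR ν = true) {x y : Lat l} (hx : x ∈ Psi hp (A + B)) (hy : y ∈ Psi hp (A + B))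
    (hxy : cp hp x y = -1) : False := by
  have := Fact.mk hr'
  obtain ⟨e1, t1, s1⟩ := hT.sur x hx.1
  obtain ⟨e2, t2, s2⟩ := hT.sur y hy.1
  have key : ∀ e ∈ d.T, ∀ x ∈ Psi hp (A + B), (x = toF l e.b ∨ x = -toF l e.b) →
      (gt e.b i : ZMod r) * A (sr i) + (gt e.b j : ZMod r) * A (sr j) + c * (dot e.b ν : ZMod r) = 0 := by
    intro e he x hx hs
    have h1 : (A + B) (toF l e.b) = 0 := by
      rcases hs with hs | hs
      · rw [← hs, hx.2]
      · have := hx.2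
        rwa [hs, map_neg, neg_eq_zero] at this
    rwa [AddMonoidHom.add_apply, hA.eq R.ne, hB, hT.psi_b he] at h1
  have k1 := key e1 t1 x hx s1
  have k2 := key e2 t2 y hy s2
  have h1 : (ieq (dot e1.b e2.cv) 1 || ieq (dot e1.b e2.cv) (-1)) = true := by
    rw [Bool.or_eq_true_iff, ieq_iff, ieq_iff]
    have := hT.cp_zero t1 t2 s1 s2
    omega
  have h2 := al_iff.1 (al_iff.1 h e1 t1) e2 t2
  rw [h1, Bool.not_true, Bool.false_or] at h2
  obtain ⟨n1, -, h3⟩ := an_iff.1 h2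
  obtain ⟨n2, -, h4⟩ := an_iff.1 h3
  rcases Bool.or_eq_true_iff.1 h4 with h6 | h6
  · obtain ⟨h7, h8⟩ := Bool.and_eq_true_iff.1 h6
    have h9 := congrArg (Int.cast : ℤ → ZMod r) (ieq_iff.1 h7)
    refine R.row_ne hr' h5 hA h8 ?_
    push_cast at h9 ⊢
    linear_combination n1 * k1 + n2 * k2 - c * h9
  · obtain ⟨h7, h8⟩ := Bool.and_eq_true_iff.1 h6
    obtain ⟨h8, h10⟩ := Bool.and_eq_true_iff.1 h8
    have h9 := congrArg (Int.cast : ℤ → ZMod r) (ieq_iff.1 h7)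
    have h11 := congrArg (Int.cast : ℤ → ZMod r) (ieq_iff.1 h8)
    refine mul_ne_zero hc (un6 hr' h5 (zr_iff.1 h10)) ?_
    push_cast at h9 h11 ⊢
    linear_combination n1 * k1 + n2 * k2 - A (sr i) * h9 - A (sr j) * h11

theorem md_cases {r : ℕ} (hr' : r.Prime) (h5 : 5 ≤ r) : r = 5 ∨ r = 7 ∨ 8 ≤ r := by
  have : r ≠ 6 := by rintro rfl; exact absurd hr' (by decide)
  omega

theorem md5 : Md 5 5 1 := Or.inr ⟨rfl, by norm_num⟩
theorem md7 : Md 7 7 1 := Or.inr ⟨rfl, by norm_num⟩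

theorem Exa.cw_add {r : ℕ} {A B : Lat l →+ ZMod r} {w : M.Group} {κ : V} (h : Exa hp (cw hp (A + B) w) κ) :
    Exa hp (cw hp A w + cw hp B w) κ := h

theorem Ex1.eig {p q r : ℕ} {g : Lat l ≃+ Lat l} {A B : Lat l →+ ZMod r} (C : Cm hp p q r g A B) {φ : Lat l →+ ZMod r}
    {j : Fin l} (h : Ex1 hp φ j) (he : ∀ a, φ (g a) = (q : ZMod r) * φ a) : (q : ZMod r) = 1 ∨ (q : ZMod r) = -1 := by
  have := Fact.mk C.prime
  exact (h.res g C.root he).imp (fun h => h.1) fun h => h.1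

end Cfsg.Agent.Cam.Ex.Cb
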