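import Cfsg.Agent.Cam.Ex.CbT
import Cfsg.Agent.Cam.Ex.Cb4

/-!
# The finite check: double cosets and certificates (helper12, generated by `tools/cam12/gen_data.py`)
-/

set_option autoImplicit false
set_option linter.unusedVariables false
set_option linter.style.longLine false
set_option maxRecDepth 100000

namespace Cfsg.Agent.Cam.Ex.Cb

open Cfsg Cfsg.Lie

/-- double cosets -/
def LE6_100001 : List V := [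
  [-2, 0, 0, 0, 0, 1], [-2, 0, 0, 0, 1, -1], [-2, 0, 1, 0, 1, -2], [-2, 0, 2, 0, 0, -1],
  [-2, 1, 0, 0, 0, 1], [-2, 1, 0, 0, 1, -1], [-2, 1, 1, 0, 0, 0], [-1, 0, 0, 0, 0, -1],
  [-1, 0, 0, 0, 0, 2], [-1, 0, 0, 0, 2, -2], [-1, 0, 1, 0, 0, -2], [-1, 0, 1, 0, 0, 1],
  [-1, 0, 1, 0, 1, -1], [-1, 1, 1, 0, 0, -2], [-1, 2, 0, 0, 0, -1], [0, 1, 0, 0, 1, -2],
  [1, 0, 0, 0, 0, -2], [1, 0, 0, 0, 0, 1], [1, 0, 0, 0, 1, -1], [1, 1, 0, 0, 0, -2],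
  [2, 0, 0, 0, 0, -1]]

theorem pE6_100001 : pchk 6 dE6 [1, 0, 0, 0, 0, 1] [1, 0, 0, 0, 0, 1] [1, 2, 3, 4] LE6_100001 = true := by
  decide +kernel

/-- certificates -/
def CE6_100001_0 : List (V × Bool × List V) := [([-2, 0, 0, 0, 0, 1], false, [[2, 1, 2, 2, 1, 0]]),
  ([-2, 1, 0, 0, 1, -1], true, [[-2, -1, -1, 0, 2, 0]]),
  ([-1, 1, 1, 0, 0, -2], true, [[-2, 3, 0, 2, 1, 0]]),
  ([1, 0, 0, 0, 0, -2], false, [[-4, -1, -3, -2, 0, 2]])]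

/-- survivors -/
def SE6_100001_0 : List V := [[-2, 0, 1, 0, 1, -2], [-1, 0, 1, 0, 1, -1]]

theorem kE6_100001_0 : kchk 6 dE6 0 85766121000000 [1, 0, 0, 0, 0, 1] [1, 0, 0, 0, 0, 1] [] CE6_100001_0 LE6_100001 SE6_100001_0 = true := by
  decide +kernel

theorem eE6_100001_0 : al (fun lam => an (fun θ => endM 6 dE6 0 85766121000000 (pl [1, 0, 0, 0, 0, 1] lam) (mi [1, 0, 0, 0, 0, 1] lam) θ [1, 0, -1, 0, 1, -1])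
    [[-1, 0, 1, 0, -1, 1], [0, 0, -1, 0, 1, 0]]) SE6_100001_0 = true := by
  decide +kernel

/-- certificates -/
def CE6_100001_7 : List (V × Bool × List V) := [([-2, 0, 0, 0, 0, 1], false, [[2, 1, 2, 2, 1, 0]]),
  ([-2, 1, 0, 0, 1, -1], true, [[6, 3, 3, 0, 1, 0]]),
  ([-1, 1, 1, 0, 0, -2], true, [[5, 3, 0, 2, 1, 0]]),
  ([1, 0, 0, 0, 0, -2], false, [[5, 3, 2, 6, 0, 1]])]

/-- survivors -/
def SE6_100001_7 : List V := [[-2, 0, 1, 0, 1, -2], [-1, 0, 1, 0, 1, -1]]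

theorem kE6_100001_7 : kchk 6 dE6 7 1 [1, 0, 0, 0, 0, 1] [1, 0, 0, 0, 0, 1] [] CE6_100001_7 LE6_100001 SE6_100001_7 = true := by
  decide +kernel

theorem eE6_100001_7 : al (fun lam => an (fun θ => endM 6 dE6 7 1 (pl [1, 0, 0, 0, 0, 1] lam) (mi [1, 0, 0, 0, 0, 1] lam) θ [1, 0, -1, 0, 1, -1])
    [[-1, 0, 1, 0, -1, 1], [0, 0, -1, 0, 1, 0]]) SE6_100001_7 = true := by
  decide +kernel

/-- double cosets -/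
def LE6_200001 : List V := [
  [-2, 0, 0, 0, 0, 1], [-2, 0, 0, 0, 1, -1], [-2, 0, 1, 0, 1, -2], [-2, 0, 2, 0, 0, -1],
  [-2, 1, 0, 0, 0, 1], [-2, 1, 0, 0, 1, -1], [-2, 1, 1, 0, 0, 0], [-1, 0, 0, 0, 0, -1],
  [-1, 0, 0, 0, 0, 2], [-1, 0, 0, 0, 2, -2], [-1, 0, 1, 0, 0, -2], [-1, 0, 1, 0, 0, 1],
  [-1, 0, 1, 0, 1, -1], [-1, 1, 1, 0, 0, -2], [-1, 2, 0, 0, 0, -1], [0, 1, 0, 0, 1, -2],
  [1, 0, 0, 0, 0, -2], [1, 0, 0, 0, 0, 1], [1, 0, 0, 0, 1, -1], [1, 1, 0, 0, 0, -2],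
  [2, 0, 0, 0, 0, -1]]

theorem pE6_200001 : pchk 6 dE6 [1, 0, 0, 0, 0, 1] [-2, 0, 0, 0, 0, 1] [1, 2, 3, 4] LE6_200001 = true := by
  decide +kernel

/-- certificates -/
def CE6_200001_0 : List (V × Bool × List V) := [([-1, 0, 1, 0, 1, -1], true, [[2, 1, 3, 2, 0, 0]]),
  ([-1, 1, 1, 0, 0, -2], true, [[1, -1, 1, 0, 0, 0]]),
  ([1, 0, 0, 0, 0, -2], false, [[2, 1, 2, 2, 1, 0]]),
  ([1, 0, 0, 0, 0, 1], false, [[2, 1, 2, 2, 1, 0]])]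

/-- survivors -/
def SE6_200001_0 : List V := [[-2, 1, 0, 0, 1, -1], [0, 1, 0, 0, 1, -2]]

theorem kE6_200001_0 : kchk 6 dE6 0 85766121000000 [1, 0, 0, 0, 0, 1] [-2, 0, 0, 0, 0, 1] [] CE6_200001_0 LE6_200001 SE6_200001_0 = true := by
  decide +kernel

theorem eE6_200001_0 : al (fun lam => an (fun θ => endM 6 dE6 0 85766121000000 (pl [-2, 0, 0, 0, 0, 1] lam) (mi [-2, 0, 0, 0, 0, 1] lam) θ [1, 0, -1, 0, 1, -1])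
    [[0, -1, 0, 0, 1, 0], [0, 1, 0, 0, -1, 1]]) SE6_200001_0 = true := by
  decide +kernel

/-- certificates -/
def CE6_200001_7 : List (V × Bool × List V) := [([-1, 0, 1, 0, 1, -1], true, [[1, 4, 5, 1, 0, 0]]),
  ([-1, 1, 1, 0, 0, -2], true, [[1, 6, 1, 0, 0, 0]]),
  ([1, 0, 0, 0, 0, -2], false, [[2, 1, 2, 2, 1, 0]]),
  ([1, 0, 0, 0, 0, 1], false, [[2, 1, 2, 2, 1, 0]])]

/-- survivors -/
def SE6_200001_7 : List V := [[-2, 1, 0, 0, 1, -1], [0, 1, 0, 0, 1, -2]]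

theorem kE6_200001_7 : kchk 6 dE6 7 1 [1, 0, 0, 0, 0, 1] [-2, 0, 0, 0, 0, 1] [] CE6_200001_7 LE6_200001 SE6_200001_7 = true := by
  decide +kernel

theorem eE6_200001_7 : al (fun lam => an (fun θ => endM 6 dE6 7 1 (pl [-2, 0, 0, 0, 0, 1] lam) (mi [-2, 0, 0, 0, 0, 1] lam) θ [1, 0, -1, 0, 1, -1])
    [[0, -1, 0, 0, 1, 0], [0, 1, 0, 0, -1, 1]]) SE6_200001_7 = true := by
  decide +kernel

/-- double cosets -/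
def LE6_100002 : List V := [
  [-2, 0, 0, 0, 0, 1], [-2, 0, 0, 0, 1, -1], [-2, 0, 1, 0, 1, -2], [-2, 0, 2, 0, 0, -1],
  [-2, 1, 0, 0, 0, 1], [-2, 1, 0, 0, 1, -1], [-2, 1, 1, 0, 0, 0], [-1, 0, 0, 0, 0, -1],
  [-1, 0, 0, 0, 0, 2], [-1, 0, 0, 0, 2, -2], [-1, 0, 1, 0, 0, -2], [-1, 0, 1, 0, 0, 1],
  [-1, 0, 1, 0, 1, -1], [-1, 1, 1, 0, 0, -2], [-1, 2, 0, 0, 0, -1], [0, 1, 0, 0, 1, -2],
  [1, 0, 0, 0, 0, -2], [1, 0, 0, 0, 0, 1], [1, 0, 0, 0, 1, -1], [1, 1, 0, 0, 0, -2],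
  [2, 0, 0, 0, 0, -1]]

theorem pE6_100002 : pchk 6 dE6 [1, 0, 0, 0, 0, 1] [1, 0, 0, 0, 0, -2] [1, 2, 3, 4] LE6_100002 = true := by
  decide +kernel

/-- certificates -/
def CE6_100002_0 : List (V × Bool × List V) := [([-2, 0, 0, 0, 0, 1], false, [[2, 1, 2, 2, 1, 0]]),
  ([-2, 1, 0, 0, 1, -1], true, [[-1, 2, 0, 1, 0, 0]]),
  ([-1, 0, 1, 0, 1, -1], true, [[1, 1, 3, 2, 0, 0]]),
  ([1, 0, 0, 0, 0, 1], false, [[-4, -1, -3, -2, 0, 2]])]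

/-- survivors -/
def SE6_100002_0 : List V := [[-2, 1, 1, 0, 0, 0], [-1, 1, 1, 0, 0, -2]]

theorem kE6_100002_0 : kchk 6 dE6 0 85766121000000 [1, 0, 0, 0, 0, 1] [1, 0, 0, 0, 0, -2] [] CE6_100002_0 LE6_100002 SE6_100002_0 = true := by
  decide +kernel

theorem eE6_100002_0 : al (fun lam => an (fun θ => endM 6 dE6 0 85766121000000 (pl [1, 0, 0, 0, 0, -2] lam) (mi [1, 0, 0, 0, 0, -2] lam) θ [1, 0, -1, 0, 1, -1])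
    [[-1, -1, 1, 0, 0, 0], [0, -1, 1, 0, 0, 0]]) SE6_100002_0 = true := by
  decide +kernel

/-- certificates -/
def CE6_100002_7 : List (V × Bool × List V) := [([-2, 0, 0, 0, 0, 1], false, [[2, 1, 2, 2, 1, 0]]),
  ([-2, 1, 0, 0, 1, -1], true, [[6, 2, 0, 1, 0, 0]]),
  ([-1, 0, 1, 0, 1, -1], true, [[4, 4, 5, 1, 0, 0]]),
  ([1, 0, 0, 0, 0, 1], false, [[5, 3, 2, 6, 0, 1]])]

/-- survivors -/
def SE6_100002_7 : List V := [[-2, 1, 1, 0, 0, 0], [-1, 1, 1, 0, 0, -2]]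

theorem kE6_100002_7 : kchk 6 dE6 7 1 [1, 0, 0, 0, 0, 1] [1, 0, 0, 0, 0, -2] [] CE6_100002_7 LE6_100002 SE6_100002_7 = true := by
  decide +kernel

theorem eE6_100002_7 : al (fun lam => an (fun θ => endM 6 dE6 7 1 (pl [1, 0, 0, 0, 0, -2] lam) (mi [1, 0, 0, 0, 0, -2] lam) θ [1, 0, -1, 0, 1, -1])
    [[-1, -1, 1, 0, 0, 0], [0, -1, 1, 0, 0, 0]]) SE6_100002_7 = true := by
  decide +kernel

/-- double cosets -/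
def LE6_000100 : List V := [
  [0, 0, 0, -2, 3, 0], [0, 0, 0, -1, 0, 0], [0, 0, 0, -1, 0, 3], [0, 0, 0, 1, 0, 0],
  [0, 0, 1, -2, 0, 2], [0, 0, 1, -2, 2, 1], [0, 0, 2, -3, 2, 0], [0, 0, 2, -1, 0, 1],
  [0, 0, 3, -2, 0, 0], [0, 1, 1, -3, 2, 1], [0, 1, 1, -1, 1, 0], [0, 1, 2, -3, 2, 0],
  [0, 2, 1, -3, 1, 0], [0, 2, 1, -2, 0, 2], [0, 2, 2, -3, 0, 1], [0, 3, 0, -2, 0, 0],
  [0, 3, 0, -1, 0, 0], [0, 3, 1, -3, 1, 0], [1, 0, 0, -2, 1, 2], [1, 0, 0, -1, 2, 0],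
  [1, 0, 2, -2, 1, 0], [1, 1, 0, -2, 0, 1], [1, 1, 0, -2, 1, 2], [1, 1, 1, -3, 1, 1],
  [1, 1, 1, -2, 1, 1], [1, 1, 2, -3, 1, 0], [1, 2, 0, -3, 2, 0], [1, 2, 0, -1, 0, 1],
  [1, 2, 1, -3, 1, 1], [1, 3, 0, -2, 0, 1], [2, 0, 0, -2, 1, 0], [2, 0, 0, -1, 0, 2],
  [2, 0, 1, -2, 0, 1], [2, 1, 0, -2, 0, 2], [2, 1, 1, -2, 0, 1], [2, 2, 0, -2, 1, 0],
  [3, 0, 0, -1, 0, 0]]

theorem pE6_000100 : pchk 6 dE6 [0, 0, 0, 1, 0, 0] [0, 0, 0, 1, 0, 0] [0, 1, 2, 4, 5] LE6_000100 = true := by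
  decide +kernel

/-- certificates -/
def CE6_000100_0 : List (V × Bool × List V) := [([0, 0, 0, -2, 3, 0], false, [[2, 3, 4, 6, 0, 0]]),
  ([0, 0, 3, -2, 0, 0], false, [[1, 0, 2, 0, 0, 0]])]

/-- survivors -/
def SE6_000100_0 : List V := []

theorem kE6_000100_0 : kchk 6 dE6 0 85766121000000 [0, 0, 0, 1, 0, 0] [0, 0, 0, 1, 0, 0] [[0, 1, 0, 0, 0, 0]] CE6_000100_0 LE6_000100 SE6_000100_0 = true := by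
  decide +kernel

theorem eE6_000100_0 : al (fun lam => an (fun θ => endM 6 dE6 0 85766121000000 (pl [0, 0, 0, 1, 0, 0] lam) (mi [0, 0, 0, 1, 0, 0] lam) θ [1, 0, -1, 0, 1, -1])
    []) SE6_000100_0 = true := by
  decide +kernel

/-- certificates -/
def CE6_000100_7 : List (V × Bool × List V) := [([0, 0, 0, -2, 3, 0], false, [[5, 4, 3, 1, 0, 0]]),
  ([0, 0, 3, -2, 0, 0], false, [[4, 0, 1, 0, 0, 0]])]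

/-- survivors -/
def SE6_000100_7 : List V := []

theorem kE6_000100_7 : kchk 6 dE6 7 1 [0, 0, 0, 1, 0, 0] [0, 0, 0, 1, 0, 0] [[0, 1, 0, 0, 0, 0]] CE6_000100_7 LE6_000100 SE6_000100_7 = true := by
  decide +kernel

theorem eE6_000100_7 : al (fun lam => an (fun θ => endM 6 dE6 7 1 (pl [0, 0, 0, 1, 0, 0] lam) (mi [0, 0, 0, 1, 0, 0] lam) θ [1, 0, -1, 0, 1, -1])
    []) SE6_000100_7 = true := by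
  decide +kernel

/-- certificates -/
def CE6_000100_5 : List (V × Bool × List V) := [([0, 0, 0, -2, 3, 0], false, [[2, 3, 4, 1, 0, 0]]),
  ([0, 0, 3, -2, 0, 0], false, [[3, 0, 1, 0, 0, 0]])]

/-- survivors -/
def SE6_000100_5 : List V := []

theorem kE6_000100_5 : kchk 6 dE6 5 1 [0, 0, 0, 1, 0, 0] [0, 0, 0, 1, 0, 0] [[0, 1, 0, 0, 0, 0]] CE6_000100_5 LE6_000100 SE6_000100_5 = true := by
  decide +kernel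

/-- double cosets -/
def LE6_001010 : List V := [
  [0, 0, -4, 2, 0, 1], [0, 0, -4, 3, -1, 0], [0, 0, -3, 1, 0, 0], [0, 0, -3, 1, 0, 3],
  [0, 0, -3, 4, -3, 0], [0, 0, -2, 0, 1, 3], [0, 0, -2, 1, -1, 4], [0, 0, -2, 4, -4, 1],
  [0, 0, -1, 0, -1, 0], [0, 0, -1, 2, -3, 4], [0, 0, -1, 3, -4, 0], [0, 0, -1, 3, -4, 3],
  [0, 0, 0, 1, -3, 0], [0, 0, 0, 2, -3, 3], [0, 0, 1, 0, 1, 0], [0, 0, 1, 1, -4, 1],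
  [0, 0, 1, 1, -4, 4], [0, 0, 1, 1, -1, 1], [0, 0, 2, 0, -4, 3], [0, 1, -4, 2, 0, 1],
  [0, 1, -4, 3, -1, 0], [0, 1, -2, 0, -1, 1], [0, 1, -2, 0, -1, 4], [0, 1, -2, 0, 2, 1],
  [0, 1, -2, 2, -2, 3], [0, 1, -2, 3, -4, 1], [0, 1, -2, 3, -3, 2], [0, 1, -1, 0, 2, 0],
  [0, 1, -1, 2, -2, 2], [0, 1, -1, 3, -4, 0], [0, 1, 1, 0, -4, 4], [0, 1, 2, 0, -4, 3],
  [0, 1, 2, 0, -1, 0], [0, 2, -2, 0, -2, 3], [0, 2, -2, 1, -3, 2], [0, 2, -1, 0, -3, 4],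
  [0, 2, -1, 1, -4, 3], [0, 2, 1, 1, -4, 1], [0, 2, 2, 0, -3, 1], [0, 3, -3, 1, 0, 0],
  [0, 3, -2, 0, -2, 3], [0, 3, -2, 0, 1, 0], [0, 3, -2, 1, -3, 2], [0, 3, -2, 1, -1, 1],
  [0, 3, 0, 1, -3, 0], [0, 3, 1, 0, -2, 0], [0, 4, -2, 0, -1, 1], [0, 4, -1, 0, -1, 0],
  [1, 0, -4, 1, 1, 0], [1, 0, -4, 2, -1, 1], [1, 0, -4, 2, 0, 2], [1, 0, -4, 4, -2, 0],
  [1, 0, -3, 1, 1, 2], [1, 0, -3, 2, -1, 3], [1, 0, -3, 4, -3, 1], [1, 0, -1, 1, 1, 0],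
  [1, 0, -1, 2, -4, 1], [1, 0, -1, 2, -4, 4], [1, 0, -1, 2, -1, 1], [1, 0, 0, 1, -3, 4],
  [1, 0, 0, 2, -4, 0], [1, 0, 0, 2, -4, 3], [1, 1, -4, 1, 0, 2], [1, 1, -4, 3, -2, 0],
  [1, 1, -3, 1, -2, 2], [1, 1, -2, 0, -2, 4], [1, 1, -2, 1, -2, 4], [1, 1, -2, 2, -4, 2],
  [1, 1, -2, 3, -4, 2], [1, 1, -1, 0, -2, 0], [1, 1, -1, 1, -4, 4], [1, 1, 0, 1, -2, 2],
  [1, 1, 0, 2, -4, 0], [1, 1, 1, 0, -4, 2], [1, 1, 1, 1, -4, 2], [1, 1, 2, 0, -2, 0],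
  [1, 2, -4, 1, 1, 0], [1, 2, -4, 2, -1, 1], [1, 2, -3, 0, -1, 3], [1, 2, -3, 0, 2, 0],
  [1, 2, -3, 2, -3, 1], [1, 2, -3, 2, -2, 2], [1, 2, -2, 0, -2, 1], [1, 2, -2, 0, -2, 4],
  [1, 2, -2, 0, 1, 1], [1, 2, -2, 1, -1, 2], [1, 2, -2, 2, -4, 2], [1, 2, -2, 2, -2, 1],
  [1, 2, -1, 2, -4, 1], [1, 2, 0, 0, -4, 3], [1, 2, 1, 0, -4, 2], [1, 2, 1, 0, -2, 1],
  [1, 3, -3, 1, -2, 2], [1, 3, -1, 1, -2, 0], [1, 4, -2, 0, -2, 1], [1, 4, -1, 0, -2, 0],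
  [2, 0, -3, 1, -2, 3], [2, 0, -3, 2, -3, 2], [2, 0, -2, 1, -3, 4], [2, 0, -2, 2, -4, 3],
  [2, 0, 0, 2, -4, 1], [2, 0, 1, 1, -3, 1], [2, 1, -4, 0, 1, 1], [2, 1, -4, 1, -1, 2],
  [2, 1, -4, 1, 1, 1], [2, 1, -4, 2, -2, 1], [2, 1, -4, 2, -1, 2], [2, 1, -4, 3, -2, 1],
  [2, 1, -3, 1, 0, 2], [2, 1, -3, 3, -2, 0], [2, 1, -2, 1, -3, 1], [2, 1, -2, 1, -3, 4],
  [2, 1, -2, 1, 0, 1], [2, 1, -2, 2, -4, 3], [2, 1, -2, 2, -1, 0], [2, 1, -1, 0, -2, 4],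
  [2, 1, -1, 1, -4, 2], [2, 1, -1, 2, -4, 2], [2, 1, 0, 0, -2, 3], [2, 1, 0, 1, -4, 1],
  [2, 1, 0, 1, -3, 2], [2, 2, -4, 0, 1, 1], [2, 2, -4, 1, -1, 2], [2, 2, -4, 2, -2, 1],
  [2, 2, -3, 1, -2, 0], [2, 2, -3, 1, -2, 3], [2, 2, -3, 2, -3, 2], [2, 2, -2, 0, -1, 3],
  [2, 2, -2, 2, -3, 1], [2, 2, -1, 0, -1, 2], [2, 2, -1, 1, -4, 2], [2, 2, -1, 1, -2, 1],
  [2, 3, -3, 1, -2, 0], [2, 3, -2, 1, -3, 1], [3, 0, -4, 0, 2, 0], [3, 0, -4, 2, -2, 2],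
  [3, 0, -4, 2, 0, 1], [3, 0, -4, 3, -1, 0], [3, 0, -3, 2, -3, 3], [3, 0, -3, 2, 0, 0],
  [3, 0, -2, 0, -2, 3], [3, 0, -2, 1, -3, 2], [3, 0, -1, 0, -1, 3], [3, 0, -1, 2, -3, 1],
  [3, 0, 0, 1, -3, 0], [3, 0, 1, 0, -2, 0], [3, 1, -4, 0, 2, 0], [3, 1, -4, 2, -2, 2],
  [3, 1, -2, 0, 0, 2], [3, 1, -2, 2, -2, 0], [3, 2, -4, 0, 0, 1], [3, 2, -4, 1, -1, 0],
  [3, 2, -2, 0, -2, 0], [3, 2, -2, 0, -2, 3], [3, 2, -2, 1, -3, 2], [3, 2, -1, 0, -3, 1],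
  [3, 2, -1, 0, -2, 2], [3, 3, -2, 0, -2, 0], [4, 0, -4, 1, 1, 0], [4, 0, -4, 2, -1, 1],
  [4, 0, -3, 1, -2, 2], [4, 0, -3, 1, 0, 1], [4, 0, -3, 2, -1, 0], [4, 0, -1, 1, -2, 0],
  [4, 1, -4, 0, 1, 0], [4, 1, -4, 1, -1, 1], [4, 1, -3, 1, -2, 2], [4, 1, -2, 0, -2, 1],
  [4, 1, -2, 0, -1, 2], [4, 1, -2, 1, -2, 1], [4, 1, -1, 0, -2, 0], [4, 2, -3, 0, -1, 0],
  [4, 2, -2, 0, -2, 1]]

theorem pE6_001010 : pchk 6 dE6 [0, 0, 1, 0, 1, 0] [0, 0, 1, 0, 1, 0] [0, 1, 3, 5] LE6_001010 = true := by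
  decide +kernel

/-- certificates -/
def CE6_001010_0 : List (V × Bool × List V) := [([0, 0, -2, 0, 1, 3], true, [[-3, -5, -6, -7, -3, 1], [-6, -5, -9, -10, -6, -2], [-3, -5, -9, -10, -6, -2], [-3, -2, -6, -7, -3, 1], [-3, -2, -6, -4, -3, 1], [-3, -2, -6, -4, 0, 1]]),
  ([1, 1, -2, 1, -2, 4], true, [[-1, 1, -4, 0, 0, 2]]),
  ([2, 1, -4, 1, -1, 2], false, [[2, 3, 5, 2, 1, 0]]),
  ([2, 1, -1, 1, -4, 2], false, [[-1, 0, -1, -1, 1, 0]]),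
  ([3, 0, 1, 0, -2, 0], true, [[1, 1, 3, 5, 6, 3], [-2, 1, 0, 2, 3, 0], [-2, 1, 0, 2, 3, 3], [1, 4, 3, 5, 6, 3], [1, 4, 3, 8, 6, 3], [1, 4, 6, 8, 6, 3]]),
  ([4, 1, -2, 1, -2, 1], true, [[1, 1, 1, 2, 0, 0]])]

/-- survivors -/
def SE6_001010_0 : List V := [[1, 2, -3, 2, -3, 1], [3, 0, -2, 0, -2, 3]]

theorem kE6_001010_0 : kchk 6 dE6 0 85766121000000 [0, 0, 1, 0, 1, 0] [0, 0, 1, 0, 1, 0] [] CE6_001010_0 LE6_001010 SE6_001010_0 = true := by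
  decide +kernel

theorem eE6_001010_0 : al (fun lam => an (fun θ => endM 6 dE6 0 85766121000000 (pl [0, 0, 1, 0, 1, 0] lam) (mi [0, 0, 1, 0, 1, 0] lam) θ [1, 0, -1, 0, 1, -1])
    [[-1, 0, 0, 0, 0, 1], [-1, 0, 1, 0, -1, 1]]) SE6_001010_0 = true := by
  decide +kernel

/-- certificates -/
def CE6_001010_7 : List (V × Bool × List V) := [([0, 0, -2, 0, 1, 3], true, [[4, 2, 1, 0, 4, 1], [1, 2, 5, 4, 1, 5], [4, 2, 5, 4, 1, 5], [4, 5, 1, 0, 4, 1], [4, 5, 1, 3, 0, 1], [4, 5, 1, 3, 4, 1]]),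
  ([0, 0, 1, 1, -1, 1], true, [[4, 0, 1, 5, 0, 1], [4, 0, 1, 0, 2, 3], [4, 0, 3, 0, 2, 3], [4, 5, 1, 5, 0, 1], [6, 0, 3, 0, 2, 3], [6, 2, 5, 4, 4, 3]]),
  ([0, 1, -2, 3, -3, 2], true, [[1, 2, 2, 1, 0, 0]]),
  ([0, 2, 2, 0, -3, 1], false, [[4, 0, 1, 1, 1, 0]]),
  ([1, 0, -1, 1, 1, 0], true, [[2, 0, 0, 3, 2, 1], [2, 3, 0, 3, 2, 1], [6, 0, 4, 0, 2, 1], [6, 0, 4, 0, 6, 1], [6, 0, 4, 0, 6, 5], [6, 4, 1, 1, 3, 5]]),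
  ([1, 0, 0, 2, -4, 3], true, [[4, 4, 4, 1, 0, 0]]),
  ([1, 1, -2, 1, -2, 4], true, [[3, 4, 5, 0, 0, 1]]),
  ([1, 2, -3, 0, 2, 0], false, [[2, 0, 2, 1, 0, 0]]),
  ([2, 1, -4, 1, -1, 2], false, [[2, 3, 5, 2, 1, 0]]),
  ([2, 1, -3, 1, 0, 2], true, [[3, 4, 4, 2, 0, 1]]),
  ([2, 1, -3, 3, -2, 0], true, [[0, 6, 1, 0, 0, 0]]),
  ([2, 1, -1, 1, -4, 2], false, [[6, 0, 6, 6, 1, 0]]),
  ([2, 1, 0, 0, -2, 3], true, [[2, 2, 0, 1, 0, 1]]),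
  ([2, 1, 0, 1, -3, 2], true, [[6, 6, 6, 0, 1, 0]]),
  ([3, 0, -4, 2, 0, 1], true, [[0, 0, 1, 0, 0, 0]]),
  ([3, 0, 1, 0, -2, 0], true, [[5, 5, 1, 4, 2, 1], [4, 5, 0, 3, 1, 0], [4, 5, 0, 3, 1, 1], [5, 6, 1, 4, 2, 1], [5, 6, 1, 5, 2, 1], [5, 6, 2, 5, 2, 1]]),
  ([3, 1, -2, 0, 0, 2], true, [[4, 4, 3, 0, 0, 1]]),
  ([4, 1, -2, 1, -2, 1], true, [[4, 4, 4, 1, 0, 0]])]

/-- survivors -/
def SE6_001010_7 : List V := [[1, 2, -3, 2, -3, 1], [3, 0, -2, 0, -2, 3]]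

theorem kE6_001010_7 : kchk 6 dE6 7 1 [0, 0, 1, 0, 1, 0] [0, 0, 1, 0, 1, 0] [] CE6_001010_7 LE6_001010 SE6_001010_7 = true := by
  decide +kernel

theorem eE6_001010_7 : al (fun lam => an (fun θ => endM 6 dE6 7 1 (pl [0, 0, 1, 0, 1, 0] lam) (mi [0, 0, 1, 0, 1, 0] lam) θ [1, 0, -1, 0, 1, -1])
    [[-1, 0, 0, 0, 0, 1], [-1, 0, 1, 0, -1, 1]]) SE6_001010_7 = true := by
  decide +kernel

end Cfsg.Agent.Cam.Ex.Cb
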