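import Cfsg.Agent.Cam.Ex.CbT
import Cfsg.Agent.Cam.Ex.Cb4

/-!
# The finite check: the words for the types (helper12, generated by `tools/cam12/gen_data.py`)
-/

set_option autoImplicit false
set_option linter.unusedVariables false
set_option linter.style.longLine false
set_option maxRecDepth 100000

namespace Cfsg.Agent.Cam.Ex.Cb

open Cfsg Cfsg.Lie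

/-- patterns, words, types -/
def wtG2 : List (V × List ℕ × V) := [
]

theorem tyG2 : al (fun P => tchk 2 dG2 wtG2 0 P && tchk 2 dG2 wtG2 1 P) (pats [0, 1] 2) = true := by
  decide +kernel

/-- patterns, words, types -/
def wtD4 : List (V × List ℕ × V) := [
  ([0, 0, 0, 1, 1], [3, 1, 0], [1, 0, 0, 0]),
  ([0, 1, 0, 0, 1], [3, 1, 2], [0, 0, 1, 0]),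
  ([0, 1, 0, 1, 0], [0, 1, 3], [0, 0, 0, 1]),
  ([0, 1, 0, 1, 1], [0, 1, 2, 3], [0, 0, 1, 1]),
  ([1, 0, 0, 0, 1], [], [0, 0, 0, 1]),
  ([1, 0, 0, 1, 0], [], [0, 0, 1, 0]),
  ([1, 0, 0, 1, 1], [], [0, 0, 1, 1]),
  ([1, 1, 0, 0, 0], [], [1, 0, 0, 0]),
  ([1, 1, 0, 0, 1], [0, 1, 2], [0, 0, 1, 1]),
  ([1, 1, 0, 1, 0], [0, 1, 3], [0, 0, 1, 1])]

theorem tyD4 : al (fun P => tchk 4 dD4 wtD4 0 P && tchk 4 dD4 wtD4 1 P) (pats [0, 1] 4) = true := by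
  decide +kernel

theorem tyD4' : ∀ t ∈ wtD4, t.2.2 ∈ ([[1, 0, 0, 0], [0, 0, 1, 0], [0, 0, 0, 1], [0, 0, 1, 1]] : List V) := by
  decide +kernel

/-- patterns, words, types -/
def wtF4 : List (V × List ℕ × V) := [
  ([0, 0, 0, 1, 1], [3, 2, 1, 0, 2, 1, 2], [0, 0, 1, 0]),
  ([0, 0, 1, 1, 0], [2, 1, 0, 3, 2, 1, 0, 2, 1], [0, 1, 0, 0]),
  ([0, 1, 0, 1, 0], [2, 1, 2, 3, 2, 1, 0, 2, 1], [0, 1, 0, 0]),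
  ([1, 0, 0, 1, 0], [], [0, 0, 1, 0]),
  ([1, 0, 1, 0, 0], [], [0, 1, 0, 0]),
  ([1, 1, 0, 0, 0], [], [1, 0, 0, 0])]

theorem tyF4 : al (fun P => tchk 4 dF4 wtF4 0 P && tchk 4 dF4 wtF4 1 P) (pats [0, 1] 4) = true := by
  decide +kernel

theorem tyF4' : ∀ t ∈ wtF4, t.2.2 ∈ ([[1, 0, 0, 0], [0, 1, 0, 0], [0, 0, 1, 0]] : List V) := by
  decide +kernel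

/-- patterns, words, types -/
def wtE6 : List (V × List ℕ × V) := [
  ([0, 0, 0, 0, 1, 0, 1], [5, 4, 3, 1, 2, 0, 3, 2, 4, 3, 1, 5, 4, 3], [0, 0, 0, 1, 0, 0]),
  ([0, 0, 0, 0, 1, 1, 0], [3, 1, 2, 0, 3, 2, 4, 3, 1, 5, 4, 3], [0, 0, 0, 1, 0, 0]),
  ([0, 0, 0, 1, 0, 0, 1], [2, 0, 3, 1, 2, 3, 4, 3, 1, 2, 0, 3, 2], [0, 0, 1, 0, 0, 0]),
  ([0, 0, 0, 1, 1, 0, 0], [3, 1, 4, 3, 2, 0, 5, 4, 3, 1, 2, 3], [0, 0, 0, 1, 0, 0]),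
  ([0, 0, 0, 1, 1, 0, 1], [2, 0, 3, 1, 2, 3, 4, 3, 1, 2, 0, 3, 2, 5, 4], [0, 0, 1, 0, 1, 0]),
  ([0, 0, 0, 1, 1, 1, 0], [3, 1, 2, 0, 3, 2, 4, 3, 2, 0, 5, 4, 3, 2], [0, 0, 1, 0, 1, 0]),
  ([0, 0, 1, 0, 0, 0, 1], [5, 4, 3, 1, 2, 0, 3, 2, 4, 3, 1, 5, 4, 3, 2], [0, 0, 1, 0, 0, 0]),
  ([0, 0, 1, 0, 1, 0, 0], [1, 3, 2, 0, 4, 3, 2, 5, 4, 3], [0, 0, 0, 1, 0, 0]),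
  ([0, 0, 1, 0, 1, 0, 1], [1, 3, 2, 0, 4, 3, 1, 2, 3, 4], [0, 0, 1, 0, 1, 0]),
  ([0, 0, 1, 0, 1, 1, 0], [1, 4, 3, 2, 0, 5, 4, 3, 1, 2, 3, 4], [0, 0, 1, 0, 1, 0]),
  ([0, 0, 1, 1, 0, 0, 1], [5, 4, 3, 1, 2, 0, 3, 2, 4, 3, 1, 5, 4, 3, 2], [0, 0, 1, 0, 1, 0]),
  ([0, 0, 1, 1, 1, 0, 0], [1, 2, 0, 3, 2, 4, 3, 1, 5, 4, 3, 2], [0, 0, 1, 0, 1, 0]),
  ([0, 1, 0, 0, 0, 0, 1], [0, 2, 3, 1, 4, 3, 2, 0], [1, 0, 0, 0, 0, 0]),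
  ([0, 1, 0, 0, 0, 1, 0], [0, 2, 3, 1, 4, 3, 2, 0, 5, 4, 3, 2], [0, 0, 1, 0, 0, 0]),
  ([0, 1, 0, 0, 1, 0, 0], [0, 2, 3, 1, 4, 3, 2, 0, 5, 4, 3, 1, 2, 3], [0, 0, 0, 1, 0, 0]),
  ([0, 1, 0, 0, 1, 0, 1], [3, 1, 2, 3, 4, 3, 1, 2, 0, 3, 2, 5, 4], [0, 0, 1, 0, 1, 0]),
  ([0, 1, 0, 0, 1, 1, 0], [4, 3, 1, 2, 3, 4, 5, 4, 3, 1, 2, 0, 3, 2, 4], [0, 0, 1, 0, 1, 0]),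
  ([0, 1, 1, 0, 0, 0, 0], [1, 3, 2, 4, 3, 1, 5, 4, 3, 2], [0, 0, 1, 0, 0, 0]),
  ([0, 1, 1, 0, 0, 1, 0], [0, 2, 3, 1, 4, 3, 2, 0, 5, 4, 3, 1, 2, 3, 4], [0, 0, 1, 0, 1, 0]),
  ([0, 1, 1, 0, 1, 0, 0], [1, 3, 2, 4, 3, 1, 5, 4, 3, 2], [0, 0, 1, 0, 1, 0]),
  ([1, 0, 0, 0, 0, 0, 1], [5, 4, 3, 1, 2, 0, 3, 2, 4, 3, 1, 5, 4, 3, 2, 0], [1, 0, 0, 0, 0, 0]),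
  ([1, 0, 0, 0, 0, 1, 0], [4, 3, 1, 2, 0, 3, 2, 4, 3, 1, 5, 4, 3, 1, 2, 0, 3, 2, 4, 3, 1, 5, 4, 3, 2], [0, 0, 1, 0, 0, 0]),
  ([1, 0, 0, 0, 1, 0, 0], [], [0, 0, 0, 1, 0, 0]),
  ([1, 0, 0, 0, 1, 0, 1], [5, 4, 3, 1, 2, 0, 3, 2], [0, 0, 1, 0, 1, 0]),
  ([1, 0, 0, 0, 1, 1, 0], [3, 1, 2, 0, 3, 2], [0, 0, 1, 0, 1, 0]),
  ([1, 0, 0, 1, 0, 0, 0], [], [0, 0, 1, 0, 0, 0]),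
  ([1, 0, 0, 1, 0, 1, 0], [], [0, 0, 1, 0, 1, 0]),
  ([1, 0, 0, 1, 1, 0, 0], [3, 1, 4, 3, 5, 4], [0, 0, 1, 0, 1, 0]),
  ([1, 1, 0, 0, 0, 0, 0], [], [1, 0, 0, 0, 0, 0]),
  ([1, 1, 0, 0, 0, 0, 1], [], [1, 0, 0, 0, 0, 1]),
  ([1, 1, 0, 0, 1, 0, 0], [0, 2, 3, 1, 4, 3, 5, 4], [0, 0, 1, 0, 1, 0])]

theorem tyE6 : al (fun P => tchk 6 dE6 wtE6 0 P && tchk 6 dE6 wtE6 1 P) (pats [0, 1] 6) = true := by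
  decide +kernel

theorem tyE6' : ∀ t ∈ wtE6, t.2.2 ∈ ([[1, 0, 0, 0, 0, 0], [0, 0, 1, 0, 0, 0], [0, 0, 0, 1, 0, 0], [1, 0, 0, 0, 0, 1], [0, 0, 1, 0, 1, 0]] : List V) := by
  decide +kernel

/-- patterns, words, types -/
def wtE7 : List (V × List ℕ × V) := [
  ([0, 0, 0, 0, 0, 1, 0, 1], [6, 5, 4, 3, 1, 2, 0, 3, 2, 4, 3, 1, 5, 4, 3, 2, 0, 6, 5, 4, 3, 2], [0, 0, 1, 0, 0, 0, 0]),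
  ([0, 0, 0, 0, 0, 1, 1, 0], [4, 3, 1, 2, 0, 3, 2, 4, 3, 1, 5, 4, 3, 2, 0, 6, 5, 4, 3, 2], [0, 0, 1, 0, 0, 0, 0]),
  ([0, 0, 0, 0, 1, 0, 0, 1], [6, 5, 4, 3, 1, 2, 0, 3, 2, 4, 3, 1, 5, 4, 3, 2, 0, 6, 5, 4, 3, 1, 2, 3], [0, 0, 0, 1, 0, 0, 0]),
  ([0, 0, 0, 0, 1, 1, 0, 0], [3, 1, 2, 0, 3, 2, 4, 3, 1, 5, 4, 3, 2, 0, 6, 5, 4, 3, 1, 2, 3], [0, 0, 0, 1, 0, 0, 0]),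
  ([0, 0, 0, 1, 0, 0, 0, 1], [6, 5, 4, 3, 1, 2, 0, 3, 2, 4, 3, 1, 5, 4, 3, 2, 0, 6, 5, 4, 3, 1, 2, 3, 4], [0, 0, 0, 0, 1, 0, 0]),
  ([0, 0, 0, 1, 0, 0, 1, 0], [2, 0, 3, 1, 2, 3, 4, 3, 1, 2, 0, 3, 2, 5, 4, 3, 1, 6, 5, 4, 3], [0, 0, 0, 1, 0, 0, 0]),
  ([0, 0, 0, 1, 0, 1, 0, 1], [2, 0, 3, 1, 2, 3, 4, 5, 6, 5, 4, 3, 1, 2, 0, 3, 2, 4, 3, 1, 5, 4, 3], [0, 0, 0, 1, 0, 0, 1]),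
  ([0, 0, 0, 1, 0, 1, 1, 0], [2, 0, 3, 1, 2, 3, 4, 3, 1, 2, 0, 3, 2, 5, 4, 3, 1, 6, 5, 4, 3], [0, 0, 0, 1, 0, 0, 1]),
  ([0, 0, 0, 1, 1, 0, 0, 0], [2, 0, 3, 1, 2, 3, 4, 3, 1, 2, 3, 5, 4, 3, 1, 2, 3, 6, 5, 4, 3, 1, 2, 3], [0, 0, 0, 1, 0, 0, 0]),
  ([0, 0, 0, 1, 1, 0, 0, 1], [2, 0, 6, 5, 4, 3, 1, 2, 0, 3, 2, 4, 3, 1, 5, 4, 3, 2, 0, 6, 5, 4, 3, 1, 2, 3], [0, 0, 0, 1, 0, 0, 1]),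
  ([0, 0, 0, 1, 1, 0, 1, 0], [2, 0, 3, 1, 2, 3, 4, 3, 1, 2, 0, 3, 2, 5, 4, 3, 1, 6, 5, 4, 3], [0, 0, 0, 1, 0, 1, 0]),
  ([0, 0, 0, 1, 1, 1, 0, 0], [2, 0, 3, 1, 2, 0, 3, 2, 4, 3, 1, 5, 4, 3, 2, 0, 6, 5, 4, 3, 1, 2, 3], [0, 0, 0, 1, 0, 0, 1]),
  ([0, 0, 1, 0, 0, 0, 0, 1], [1, 3, 2, 0, 4, 3, 1, 2, 3, 4, 5, 4, 3, 1, 2, 0, 3, 2, 4, 3, 1], [0, 1, 0, 0, 0, 0, 0]),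
  ([0, 0, 1, 0, 0, 1, 0, 0], [4, 3, 2, 0, 5, 4, 3, 1, 2, 3, 4, 5, 6, 5, 4, 3, 1, 2, 0, 3, 2, 4, 3, 5, 4], [0, 0, 0, 0, 1, 0, 0]),
  ([0, 0, 1, 0, 0, 1, 0, 1], [4, 3, 2, 0, 5, 4, 3, 1, 2, 3, 4, 5, 6, 5, 4, 3, 1, 2, 0, 3, 2, 4, 3, 5, 4], [0, 0, 0, 0, 1, 0, 1]),
  ([0, 0, 1, 0, 0, 1, 1, 0], [1, 3, 2, 0, 4, 3, 1, 2, 3, 4, 5, 4, 3, 1, 2, 3, 4, 6, 5, 4, 3, 1, 2, 3, 4], [0, 0, 0, 0, 1, 0, 1]),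
  ([0, 0, 1, 1, 0, 0, 0, 0], [2, 0, 3, 2, 4, 3, 1, 5, 4, 3, 2, 0, 6, 5, 4, 3, 1, 2, 3, 4], [0, 0, 0, 0, 1, 0, 0]),
  ([0, 0, 1, 1, 0, 0, 1, 0], [1, 2, 0, 3, 1, 2, 0, 3, 4, 3, 1, 2, 0, 3, 2, 4, 5, 4, 3, 1, 6, 5, 4, 3], [0, 0, 0, 1, 0, 0, 1]),
  ([0, 0, 1, 1, 0, 1, 0, 0], [2, 0, 3, 1, 2, 3, 4, 3, 1, 5, 4, 3, 2, 0, 6, 5, 4, 3, 1, 2, 3], [0, 0, 0, 1, 0, 0, 1]),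
  ([0, 1, 0, 0, 0, 0, 0, 1], [0, 2, 3, 1, 4, 3, 2, 0, 5, 4, 3, 1, 2, 3, 4, 5], [0, 0, 0, 0, 0, 1, 0]),
  ([0, 1, 0, 0, 0, 1, 0, 0], [0, 2, 3, 1, 4, 3, 2, 0, 5, 4, 3, 2, 6, 5, 4, 3], [0, 0, 0, 1, 0, 0, 0]),
  ([0, 1, 0, 0, 1, 0, 0, 1], [0, 2, 3, 1, 4, 3, 2, 0, 5, 4, 3, 1, 2, 3, 4, 5], [0, 0, 0, 1, 0, 1, 0]),
  ([0, 1, 0, 0, 1, 1, 0, 0], [0, 2, 3, 1, 4, 3, 2, 0, 5, 4, 3, 2, 6, 5, 4, 3], [0, 0, 0, 1, 0, 1, 0]),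
  ([0, 1, 0, 1, 0, 0, 0, 0], [0, 2, 3, 1, 4, 3, 2, 5, 4, 3, 1, 6, 5, 4, 3, 2], [0, 0, 1, 0, 0, 0, 0]),
  ([0, 1, 0, 1, 0, 0, 0, 1], [0, 6, 5, 4, 3, 1, 2, 0, 3, 2, 4, 3, 1, 5, 4, 3, 2, 0, 6, 5, 4, 3, 1, 2, 3, 4], [0, 0, 0, 0, 1, 0, 1]),
  ([0, 1, 0, 1, 0, 1, 0, 0], [0, 2, 0, 3, 1, 2, 3, 4, 3, 2, 0, 5, 4, 3, 2, 6, 5, 4, 3], [0, 0, 0, 1, 0, 0, 1]),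
  ([0, 1, 1, 0, 0, 0, 0, 1], [0, 2, 3, 1, 4, 3, 2, 0, 5, 4, 3, 1, 2, 3, 4, 6], [0, 0, 0, 0, 1, 0, 1]),
  ([0, 1, 1, 0, 0, 1, 0, 0], [0, 2, 3, 1, 4, 3, 2, 0, 5, 4, 3, 2, 6, 5, 4, 3], [0, 0, 0, 1, 0, 0, 1]),
  ([0, 1, 1, 1, 0, 0, 0, 0], [0, 2, 0, 3, 2, 4, 3, 1, 5, 4, 3, 2, 0, 6, 5, 4, 3, 1, 2, 3, 4], [0, 0, 0, 0, 1, 0, 1]),
  ([1, 0, 0, 0, 0, 0, 0, 1], [], [0, 0, 0, 0, 0, 0, 1]),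
  ([1, 0, 0, 0, 0, 0, 1, 0], [], [0, 0, 0, 0, 0, 1, 0]),
  ([1, 0, 0, 0, 0, 1, 0, 0], [], [0, 0, 0, 0, 1, 0, 0]),
  ([1, 0, 0, 0, 0, 1, 0, 1], [], [0, 0, 0, 0, 1, 0, 1]),
  ([1, 0, 0, 0, 0, 1, 1, 0], [5, 6], [0, 0, 0, 0, 1, 0, 1]),
  ([1, 0, 0, 0, 1, 0, 0, 0], [], [0, 0, 0, 1, 0, 0, 0]),
  ([1, 0, 0, 0, 1, 0, 0, 1], [], [0, 0, 0, 1, 0, 0, 1]),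
  ([1, 0, 0, 0, 1, 0, 1, 0], [], [0, 0, 0, 1, 0, 1, 0]),
  ([1, 0, 0, 0, 1, 1, 0, 0], [4, 5, 6], [0, 0, 0, 1, 0, 0, 1]),
  ([1, 0, 0, 1, 0, 0, 0, 0], [], [0, 0, 1, 0, 0, 0, 0]),
  ([1, 0, 0, 1, 0, 0, 0, 1], [2, 0, 3, 1, 2, 3, 4, 3, 1, 2, 0, 3, 2, 5, 4, 3, 1, 2, 0, 3, 2, 4, 3, 5, 4], [0, 0, 0, 0, 1, 0, 1]),
  ([1, 0, 0, 1, 0, 1, 0, 0], [2, 0, 3, 1, 2, 3, 4, 5, 6], [0, 0, 0, 1, 0, 0, 1]),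
  ([1, 0, 1, 0, 0, 0, 0, 0], [], [0, 1, 0, 0, 0, 0, 0]),
  ([1, 0, 1, 0, 0, 0, 1, 0], [1, 3, 2, 0, 4, 3, 1, 2, 3, 4, 5, 6], [0, 0, 0, 0, 1, 0, 1]),
  ([1, 0, 1, 1, 0, 0, 0, 0], [2, 0, 3, 2, 4, 3, 1, 5, 4, 3, 2, 0, 6, 5, 4, 3, 1, 2, 3, 4, 5, 6], [0, 0, 0, 0, 1, 0, 1])]

theorem tyE7 : al (fun P => tchk 7 dE7 wtE7 0 P && tchk 7 dE7 wtE7 1 P) (pats [0, 1] 7) = true := by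
  decide +kernel

theorem tyE7' : ∀ t ∈ wtE7, t.2.2 ∈ ([[0, 0, 0, 0, 0, 0, 1], [0, 0, 0, 0, 0, 1, 0], [0, 1, 0, 0, 0, 0, 0], [0, 0, 1, 0, 0, 0, 0], [0, 0, 0, 0, 1, 0, 0], [0, 0, 0, 1, 0, 0, 0], [0, 0, 0, 0, 1, 0, 1], [0, 0, 0, 1, 0, 0, 1], [0, 0, 0, 1, 0, 1, 0]] : List V) := by
  decide +kernel

theorem negF4 : negchk 4 dF4 [0, 1, 0, 2, 1, 0, 2, 1, 2, 3, 2, 1, 0, 2, 1, 2, 3, 2, 1, 0, 2, 1, 2, 3] = true := by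
  decide +kernel

theorem negE7 : negchk 7 dE7 [0, 1, 2, 0, 3, 1, 2, 0, 3, 2, 4, 3, 1, 2, 0, 3, 2, 4, 3, 1, 5, 4, 3, 1, 2, 0, 3, 2, 4, 3, 1, 5, 4, 3, 2, 0, 6, 5, 4, 3, 1, 2, 0, 3, 2, 4, 3, 1, 5, 4, 3, 2, 0, 6, 5, 4, 3, 1, 2, 3, 4, 5, 6] = true := by
  decide +kernel

end Cfsg.Agent.Cam.Ex.Cb
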