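import Cfsg.Agent.Cam.Ex.Cb5
import Cfsg.Agent.Cam.Ex.CbW
import Cfsg.Agent.Cam.Ex.CbP6

/-!
# The finite check: `E₆` (helper12)
-/

set_option autoImplicit false
set_option linter.unusedVariables false
set_option maxRecDepth 100000

namespace Cfsg.Agent.Cam.Ex.Cb

open CoxeterSystem Cfsg Cfsg.Lie
open Cfsg.Agent.ChevalleyStructure.CoxeterGeom Cfsg.Agent.ChevalleyStructure.CoxeterGeomTypes
open Cfsg.Agent.Tits.Roots Cfsg.Agent.Nodes.RGDChev Cfsg.Agent.Nodes.Coroot Cfsg.Agent.Nodes.SubComb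
open Cfsg.Agent.H931.KC (hr psi psi_apply psi_sr eq_psi)

section gen

variable {D : ChevalleyDatum} {l : ℕ} {M : CoxeterMatrix (Fin l)} {hp : IsType D l M} {d : Dt} (hT : Tab hp d)

/-- the candidates with the eigenvector `(s, t)` fix `(u, v)` up to the sign `ε` -/
noncomputable def chkT (d : Dt) (i j : ℕ) (RR : List (ℤ × ℤ)) (z : V) (s t u v : ℤ) : Bool :=
  al (fun ε => al (fun p => al (fun q => !cand d i j RR p q ||
    (!(zr 3 (gt z i * p.1 + gt z j * q.1 - ε * gt z i) && zr 3 (gt z i * p.2 + gt z j * q.2 - ε * gt z j)) ||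
    (zr ((p.1 * s + p.2 * t) * t - (q.1 * s + q.2 * t) * s) 46656 ||
    (ieq (u * p.1 + v * p.2) (ε * u) && ieq (u * q.1 + v * q.2) (ε * v))))) RR) RR) [1, -1]

include hT in
theorem Tab.clsT {i j : Fin l} {RR : List (ℤ × ℤ)} (R : RROK hp i j RR) {z : V} {s t u v : ℤ}
    (hc : chkT d i j RR z s t u v = true) {r : ℕ} (hr' : r.Prime) (h5 : 5 ≤ r) {φ : Lat l →+ ZMod r}
    (hx : Ex2 hp φ i j) (e1 : (t : ZMod r) * φ (sr i) = s * φ (sr j)) (h : Lat l ≃+ Lat l)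
    (hr : ∀ a, Rt hp (h a) ↔ Rt hp a) {e : ZMod r} (he : ∀ a, φ (h a) = e * φ a) {ε : ℤˣ}
    (hz : Cg 3 (h (toF l z)) ((ε : ℤ) • toF l z)) (a : Lat l) :
    u * h a i + v * h a j = ε * (u * a i + v * a j) := by
  have := Fact.mk hr'
  obtain ⟨p, hp', q, hq, h1, h2, h3, h4⟩ := hT.res2 R hx h hr he
  have hε : (ε : ℤ) ∈ ([1, -1] : List ℤ) := by rcases Int.units_eq_one_or ε with rfl | rfl <;> simp
  have h6 := al_iff.1 (al_iff.1 (al_iff.1 hc _ hε) p hp') q hq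
  obtain ⟨y, hy⟩ := hz
  have h7 : zr 3 (gt z i * p.1 + gt z j * q.1 - ε * gt z i) = true := by
    have h8 := (h2 (toF l z)).1
    rw [hy, Pi.add_apply, Pi.smul_apply, Pi.smul_apply, smul_eq_mul, smul_eq_mul] at h8
    exact zr_iff.2 ⟨y i, by simp only [toF_apply] at h8; push_cast at h8; linear_combination -h8⟩
  have h8 : zr 3 (gt z i * p.2 + gt z j * q.2 - ε * gt z j) = true := by
    have h8 := (h2 (toF l z)).2
    rw [hy, Pi.add_apply, Pi.smul_apply, Pi.smul_apply, smul_eq_mul, smul_eq_mul] at h8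
    exact zr_iff.2 ⟨y j, by simp only [toF_apply] at h8; push_cast at h8; linear_combination -h8⟩
  rw [h1, h7, h8, Bool.not_true, Bool.false_or, Bool.and_self, Bool.not_true, Bool.false_or] at h6
  rcases Bool.or_eq_true_iff.1 h6 with h6 | h6
  · have h9 : (p.1 : ZMod r) * s + p.2 * t = e * s := by
      refine mul_right_cancel₀ hx.ne1 ?_
      linear_combination s * h3 + p.2 * e1
    have h10 : (q.1 : ZMod r) * s + q.2 * t = e * t := by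
      refine mul_right_cancel₀ hx.ne1 ?_
      linear_combination s * h4 + (q.2 - e) * e1
    exact absurd (by push_cast; linear_combination t * h9 - s * h10) (un6 hr' h5 (zr_iff.1 h6))
  · obtain ⟨h9, h10⟩ := Bool.and_eq_true_iff.1 h6
    rw [(h2 a).1, (h2 a).2]
    linear_combination a i * ieq_iff.1 h9 + a j * ieq_iff.1 h10

theorem not_real {r : ℕ} (hr' : r.Prime) (h5 : 5 ≤ r) {φ : Lat l →+ ZMod r} {j : Fin l} (hx : Ex1 hp φ j) {z : Lat l}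
    (hz : ∀ k, (3 : ℤ) ∣ psi (cartanOf D l k) z) (hj : z j = 1 ∨ z j = -1) : ¬ ∃ w, Neg hp w φ := by
  have := Fact.mk hr'
  rintro ⟨w, hw⟩
  rcases hx.res (BpExc.Fr.repAut M.toCoxeterSystem hp.isCartan w) (rt_wa hp w) (e := -1)
    (fun a => by rw [neg_one_mul]; exact hw a) with h | h
  · exact un6 hr' h5 (n := 2) (by norm_num) (by push_cast; linear_combination -h.1)
  · obtain ⟨y, hy⟩ := cg_wa hp (n := 3) hz w
    have h1 : wa hp w z j = -z j := h.2 z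
    rw [hy, Pi.add_apply, Pi.smul_apply, smul_eq_mul] at h1
    push_cast at h1
    omega

end gen

/-- the generator of the centre -/
def zE6 : V := [1, 0, -1, 0, 1, -1]

theorem zE6_dvd (k : Fin 6) : (3 : ℤ) ∣ psi (cartanOf chevE6 6 k) (toF 6 zE6) := by
  rw [← tabE6.car, psi_toF (by rfl), ← zr_iff]
  revert k
  decide +kernel

/-- restricted roots, type `D₄` -/
def r05 : List (ℤ × ℤ) := [(-1, -1), (-1, 0), (0, -1), (0, 1), (1, 0), (1, 1)]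

/-- restricted roots, type `A₂ A₁ A₁` -/
def r24 : List (ℤ × ℤ) :=
  [(-2, -2), (-2, -1), (-1, -2), (-1, -1), (-1, 0), (0, -1), (0, 1), (1, 0), (1, 1), (1, 2), (2, 1), (2, 2)]

theorem R05 : RROK tE6 0 5 r05 := tabE6.rrok (by decide) (by decide +kernel)
theorem R24 : RROK tE6 2 4 r24 := tabE6.rrok (by decide) (by decide +kernel)
theorem k05 : toF 6 [1, 0, 0, 0, 0, 1] = sr 0 + sr 5 := by decide +kernel
theorem k24 : toF 6 [0, 0, 1, 0, 1, 0] = sr 2 + sr 4 := by decide +kernel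

/-- the types of real elements of `E₆` -/
theorem typesE6 {r : ℕ} (hr' : r.Prime) (h5 : 5 ≤ r) {p : ℕ} {φ : Lat 6 →+ ZMod r} (h0 : φ ≠ 0)
    (hK : K1 tE6 p (Psi tE6 φ)) (hn : ∃ w, Neg tE6 w φ) : ∃ w, Exa tE6 (cw tE6 φ w) [0, 0, 0, 1, 0, 0] ∨
      (Exa tE6 (cw tE6 φ w) [1, 0, 0, 0, 0, 1] ∧ ∃ μ ∈ ([(1, 1), (-2, 1), (1, -2)] : List (ℤ × ℤ)),
        (μ.2 : ZMod r) * cw tE6 φ w (sr 0) = μ.1 * cw tE6 φ w (sr 5)) ∨
      (Exa tE6 (cw tE6 φ w) [0, 0, 1, 0, 1, 0] ∧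
        ((1 : ℤ) : ZMod r) * cw tE6 φ w (sr 2) = (1 : ℤ) * cw tE6 φ w (sr 4)) := by
  obtain ⟨w, t, ht, h⟩ := tabE6.types tyE6 hr' h5 h0 hK
  have h1 := tyE6' t ht
  simp only [List.mem_cons, List.not_mem_nil, or_false] at h1
  have hn' : ∃ v, Neg tE6 v (cw tE6 φ w) := hn.elim fun v hv => ⟨_, neg_conj tE6 hv w⟩
  refine ⟨w, ?_⟩
  rcases h1 with h1 | h1 | h1 | h1 | h1 <;> rw [h1] at h
  · exact absurd hn' (not_real hr' h5 (h.ex1 (toF_uv (l := 6) 0)) zE6_dvd (Or.inl rfl))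
  · exact absurd hn' (not_real hr' h5 (h.ex1 (toF_uv (l := 6) 2)) zE6_dvd (Or.inr rfl))
  · exact Or.inl h
  · exact Or.inr (Or.inl ⟨h, tabE6.clsW R05 (z := zE6) (by decide +kernel) zE6_dvd hr' h5 (h.ex2 k05) hn'⟩)
  · obtain ⟨μ, hμ, h2⟩ := tabE6.clsW R24 (z := zE6) (Mu := [(1, 1)]) (by decide +kernel) zE6_dvd hr' h5 (h.ex2 k24) hn'
    rw [List.mem_singleton.1 hμ] at h2
    exact Or.inr (Or.inr ⟨h, h2⟩)

theorem cg_E6 {p q r : ℕ} {ε : ℤˣ} {g : Lat 6 ≃+ Lat 6} {A B : Lat 6 →+ ZMod r} (C : Cmb tE6 p q r (sg 6 ε) g A B) :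
    Cg 3 (g (toF 6 zE6)) ((ε : ℤ) • toF 6 zE6) := by
  obtain ⟨w, hw⟩ := C.gr
  obtain ⟨y, hy⟩ := cg_wa tE6 (n := 3) zE6_dvd w
  exact ⟨(ε : ℤ) • y, by rw [hw, sg_apply, wa_smul, hy, smul_add, smul_comm]⟩

theorem e6_of {κ μ : V} {J : List ℕ} {L : List V} (h : pchk 6 dE6 κ μ J L = true) {G : List V} {m K : ℤ}
    {CT : List (V × Bool × List V)} {SV TH : List V} (hk : kchk 6 dE6 m K κ μ G CT L SV = true)
    (he : al (fun lam => an (fun θ => endM 6 dE6 m K (pl μ lam) (mi μ lam) θ zE6) TH) SV = true) {p q r : ℕ}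
    (hm : Md r m K) {g : Lat 6 ≃+ Lat 6} {A B : Lat 6 →+ ZMod r} (C : Cm tE6 p q r g A B) (hκ : Exa tE6 (A + B) κ)
    (hx : ∃ c, Is (A + B) c μ)
    (hG : ∀ u, cw tE6 A u + cw tE6 B u = A + B → ∀ v ∈ G, v.length = 6 ∧ cw tE6 A u (toF 6 v) = 0)
    (hq : (q : ZMod r) = 1 ∨ (q : ZMod r) = -1) {ε : ℤˣ} (hz : Cg 3 (g (toF 6 zE6)) ((ε : ℤ) • toF 6 zE6)) :
    EndE6 q ε g A B := by
  obtain ⟨c, hx⟩ := hx
  obtain ⟨u, -, lam, hlam, c, hc0, hA, hB⟩ := tabE6.surv h hk hm C hκ hx hG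
  obtain ⟨θ, -, h1⟩ := an_iff.1 (al_iff.1 he lam hlam)
  exact endE6_of (w := u) ⟨hq, tabE6.end_min (C.act u) hm hc0 hA hB h1 (cg_gw zE6_dvd hz u)⟩

theorem k3E6 (hc : BoxConn) {p q r : ℕ} {g : Lat 6 ≃+ Lat 6} {A B : Lat 6 →+ ZMod r} (C : Cm tE6 p q r g A B)
    (h : Exa tE6 (A + B) [0, 0, 0, 1, 0, 0]) : ∀ u, cw tE6 A u + cw tE6 B u = A + B →
      ∀ v ∈ ([[0, 1, 0, 0, 0, 0]] : List V), v.length = 6 ∧ cw tE6 A u (toF 6 v) = 0 := by
  have j3 : toF 6 [0, 0, 0, 1, 0, 0] = sr 3 := toF_uv (l := 6) 3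
  refine tabE6.k3G hc (by norm_num) C h (by decide +kernel) (tabE6.neg_is (μ := [0, 0, 0, 1, 0, 0]) rfl
    ((h.ex1 j3).is j3) (ω := [3, 1, 2, 0, 3, 2, 4, 3, 1, 2, 0, 3, 2, 4, 3, 5, 4, 3, 1, 2, 0, 3, 2, 4, 3, 1, 5, 4, 3])
    (by decide +kernel)) (fun v hv => Or.inl ?_) ((h.ex1 j3).eig C C.frX)
  rw [List.mem_singleton.1 hv]
  exact tabE6.wd_vec rfl (by decide +kernel)

theorem nilG {r : ℕ} {A B : Lat 6 →+ ZMod r} : ∀ u, cw tE6 A u + cw tE6 B u = A + B →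
    ∀ v ∈ ([] : List V), v.length = 6 ∧ cw tE6 A u (toF 6 v) = 0 := fun _ _ _ hv => absurd hv List.not_mem_nil

theorem finE6 (hc : BoxConn) (p q r : ℕ) (ε : ℤˣ) (g : Lat 6 ≃+ Lat 6) (A B : Lat 6 →+ ZMod r) (h7 : 7 ≤ r)
    (C0 : Cmb tE6 p q r (sg 6 ε) g A B) : EndE6 q ε g A B := by
  obtain ⟨w, h⟩ := typesE6 C0.prime C0.five C0.x0 C0.k1x (cm_of C0).exists_neg
  have C := (cm_of C0).act w
  have hz := cg_gw (hp := tE6) zE6_dvd (cg_E6 C0) w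
  refine endE6_of (w := w) ?_
  have h8 : r = 7 ∨ 8 ≤ r := by omega
  have j3 : toF 6 [0, 0, 0, 1, 0, 0] = sr 3 := toF_uv (l := 6) 3
  rcases h with h | ⟨h, μ, hμ, h1⟩ | ⟨h, h1⟩
  · rcases h8 with rfl | h8
    · exact e6_of pE6_000100 kE6_000100_7 eE6_000100_7 md7 C h.cw_add ⟨_, (h.ex1 j3).is j3⟩ (k3E6 hc C h.cw_add)
        ((h.ex1 j3).eig C C.frX) hz
    · exact e6_of pE6_000100 kE6_000100_0 eE6_000100_0 (md210 C.prime h8) C h.cw_add ⟨_, (h.ex1 j3).is j3⟩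
        (k3E6 hc C h.cw_add) ((h.ex1 j3).eig C C.frX) hz
  · simp only [List.mem_cons, List.not_mem_nil, or_false] at hμ
    rcases hμ with rfl | rfl | rfl
    · have h2 := (h.ex2 k05).is C.prime C.five (by decide) (by norm_num) h1 (μ := [1, 0, 0, 0, 0, 1])
        (by decide +kernel)
      have h3 := tabE6.clsG R05 (by decide +kernel) C.prime C.five (h.ex2 k05) h1 _ C.root C.frX
      rcases h8 with rfl | h8
      · exact e6_of pE6_100001 kE6_100001_7 eE6_100001_7 md7 C h.cw_add h2 nilG h3 hz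
      · exact e6_of pE6_100001 kE6_100001_0 eE6_100001_0 (md210 C.prime h8) C h.cw_add h2 nilG h3 hz
    · have h2 := (h.ex2 k05).is C.prime C.five (by decide) (by norm_num) h1 (μ := [-2, 0, 0, 0, 0, 1])
        (by decide +kernel)
      have h3 := tabE6.clsG R05 (by decide +kernel) C.prime C.five (h.ex2 k05) h1 _ C.root C.frX
      rcases h8 with rfl | h8
      · exact e6_of pE6_200001 kE6_200001_7 eE6_200001_7 md7 C h.cw_add h2 nilG h3 hz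
      · exact e6_of pE6_200001 kE6_200001_0 eE6_200001_0 (md210 C.prime h8) C h.cw_add h2 nilG h3 hz
    · have h2 := (h.ex2 k05).is C.prime C.five (by decide) (by norm_num) h1 (μ := [1, 0, 0, 0, 0, -2])
        (by decide +kernel)
      have h3 := tabE6.clsG R05 (by decide +kernel) C.prime C.five (h.ex2 k05) h1 _ C.root C.frX
      rcases h8 with rfl | h8
      · exact e6_of pE6_100002 kE6_100002_7 eE6_100002_7 md7 C h.cw_add h2 nilG h3 hz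
      · exact e6_of pE6_100002 kE6_100002_0 eE6_100002_0 (md210 C.prime h8) C h.cw_add h2 nilG h3 hz
  · have h2 := (h.ex2 k24).is C.prime C.five (by decide) (by norm_num) h1 (μ := [0, 0, 1, 0, 1, 0])
      (by decide +kernel)
    have h3 := tabE6.clsG R24 (by decide +kernel) C.prime C.five (h.ex2 k24) h1 _ C.root C.frX
    rcases h8 with rfl | h8
    · exact e6_of pE6_001010 kE6_001010_7 eE6_001010_7 md7 C h.cw_add h2 nilG h3 hz
    · exact e6_of pE6_001010 kE6_001010_0 eE6_001010_0 (md210 C.prime h8) C h.cw_add h2 nilG h3 hz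

/-! ### `r = 5` -/

/-- the conclusion for `r = 5` -/
def Th6 {r : ℕ} (ε : ℤˣ) (g : Lat 6 ≃+ Lat 6) (X : Lat 6 →+ ZMod r) : Prop :=
  ∃ θ : Lat 6 →+ ℤ, (∃ a, Rt tE6 a ∧ θ a = 1) ∧ Psi tE6 X ⊆ Psi tE6 θ ∧
    (∀ w, Neg tE6 w X → Fixs tE6 w θ) ∧ ∀ a, θ (g a) = (ε : ℤ) * θ a

theorem th6_of {r : ℕ} {ε : ℤˣ} {g : Lat 6 ≃+ Lat 6} {X : Lat 6 →+ ZMod r} {w : CoxeterMatrix.E₆.Group}
    (h : Th6 ε (gw tE6 g w) (cw tE6 X w)) : Th6 ε g X := by
  obtain ⟨θ, ⟨x, h1, h2⟩, h3, h4, h5⟩ := h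
  refine ⟨cw tE6 θ w⁻¹, ⟨wa tE6 w x, h1.act w, by rw [cw_apply, wa_inv, h2]⟩, fun a ha => (mem_cw tE6).2 (h3 ?_),
    fun v hv a => ?_, fun x => by rw [cw_apply, cw_apply, ← gw_inv, h5]⟩
  · rw [mem_cw, wa_inv']
    exact ha
  · have h6 := h4 _ (neg_conj tE6 hv w) (wa tE6 w⁻¹ a)
    rw [wa_mul, wa_mul, wa_inv'] at h6
    exact h6

theorem th6_mk {i j : Fin 6} {RR : List (ℤ × ℤ)} (R : RROK tE6 i j RR) {s t u v : ℤ}
    (hc : chkT dE6 i j RR zE6 s t u v = true) (huv : u = 1 ∨ v = 1) {r : ℕ} (hr' : r.Prime) (h5 : 5 ≤ r)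
    {X : Lat 6 →+ ZMod r} (hx : Ex2 tE6 X i j) (e1 : (t : ZMod r) * X (sr i) = s * X (sr j)) {g : Lat 6 ≃+ Lat 6}
    (hr : ∀ a, Rt tE6 (g a) ↔ Rt tE6 a) {e : ZMod r} (he : ∀ a, X (g a) = e * X a) {ε : ℤˣ}
    (hz : Cg 3 (g (toF 6 zE6)) ((ε : ℤ) • toF 6 zE6)) : Th6 ε g X := by
  have e2 : ∀ a : Lat 6, (u • psi (sr i) + v • psi (sr j)) a = u * a i + v * a j := fun a => by
    rw [AddMonoidHom.add_apply, AddMonoidHom.smul_apply, AddMonoidHom.smul_apply, psi_sr', psi_sr']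
    rfl
  refine ⟨u • psi (sr i) + v • psi (sr j), ?_, fun a ha => ⟨ha.1, ?_⟩, fun w hw a => ?_, fun a => ?_⟩
  · rcases huv with h | h
    · exact ⟨sr i, rt_sr tE6 i, by rw [e2, sr_self, sr_ne R.ne.symm, h]; ring⟩
    · exact ⟨sr j, rt_sr tE6 j, by rw [e2, sr_self, sr_ne R.ne, h]; ring⟩
  · rw [e2, ((hx a ha.1).1 ha.2).1, ((hx a ha.1).1 ha.2).2]
    ring
  · have h1 := tabE6.clsT R hc hr' h5 hx e1 (BpExc.Fr.repAut _ tE6.isCartan w) (rt_wa tE6 w) (e := -1)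
      (fun a => by rw [neg_one_mul]; exact hw a) (ε := 1)
      (by rw [Units.val_one, one_smul]; exact cg_wa tE6 (n := 3) zE6_dvd w) a
    rw [Units.val_one, one_mul] at h1
    rw [e2, e2]
    exact h1
  · rw [e2, e2]
    exact tabE6.clsT R hc hr' h5 hx e1 g hr he hz a

theorem finE6_five (hc : BoxConn) (p q : ℕ) (ε : ℤˣ) (g : Lat 6 ≃+ Lat 6) (A B : Lat 6 →+ ZMod 5)
    (C0 : Cmb tE6 p q 5 (sg 6 ε) g A B) : ((q : ZMod 5) = 1 ∨ (q : ZMod 5) = -1) ∧ Th6 ε g (A + B) := by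
  obtain ⟨w, h⟩ := typesE6 C0.prime C0.five C0.x0 C0.k1x (cm_of C0).exists_neg
  have C := (cm_of C0).act w
  have hz := cg_gw (hp := tE6) zE6_dvd (cg_E6 C0) w
  have j3 : toF 6 [0, 0, 0, 1, 0, 0] = sr 3 := toF_uv (l := 6) 3
  rcases h with h | ⟨h, μ, hμ, h1⟩ | ⟨h, h1⟩
  · obtain ⟨u, -, lam, hlam, -⟩ := tabE6.surv pE6_000100 kE6_000100_5 md5 C h.cw_add ((h.ex1 j3).is j3)
      (k3E6 hc C h.cw_add)
    exact absurd hlam List.not_mem_nil
  · simp only [List.mem_cons, List.not_mem_nil, or_false] at hμ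
    rcases hμ with rfl | rfl | rfl
    · exact ⟨tabE6.clsG R05 (by decide +kernel) C.prime C.five (h.ex2 k05) h1 _ C.root C.frX, th6_of (w := w)
        (th6_mk R05 (u := 1) (v := -1) (by decide +kernel) (Or.inl rfl) C.prime C.five (h.ex2 k05) h1 C.root C.frX hz)⟩
    · exact ⟨tabE6.clsG R05 (by decide +kernel) C.prime C.five (h.ex2 k05) h1 _ C.root C.frX, th6_of (w := w)
        (th6_mk R05 (u := 0) (v := 1) (by decide +kernel) (Or.inr rfl) C.prime C.five (h.ex2 k05) h1 C.root C.frX hz)⟩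
    · exact ⟨tabE6.clsG R05 (by decide +kernel) C.prime C.five (h.ex2 k05) h1 _ C.root C.frX, th6_of (w := w)
        (th6_mk R05 (u := 1) (v := 0) (by decide +kernel) (Or.inl rfl) C.prime C.five (h.ex2 k05) h1 C.root C.frX hz)⟩
  · exact ⟨tabE6.clsG R24 (by decide +kernel) C.prime C.five (h.ex2 k24) h1 _ C.root C.frX, th6_of (w := w)
      (th6_mk R24 (u := 1) (v := -1) (by decide +kernel) (Or.inl rfl) C.prime C.five (h.ex2 k24) h1 C.root C.frX hz)⟩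

end Cfsg.Agent.Cam.Ex.Cb
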