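import Cfsg.Agent.Cam.Ex.CbT
import Cfsg.Agent.Cam.Ex.Cb4

/-!
# The finite check: double cosets and certificates (helper12, generated by `tools/cam12/gen_data.py`)
-/

set_option autoImplicit false
set_option linter.unusedVariables false
set_option linter.style.longLine false
set_option maxRecDepth 100000

namespace Cfsg.Agent.Cam.Ex.Cb

open Cfsg Cfsg.Lie

/-- double cosets -/
def LE7_0000100 : List V := [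
  [0, 0, 0, 0, -1, 0, 0], [0, 0, 0, 0, 1, 0, 0], [0, 0, 0, 1, -3, 1, 2], [0, 0, 0, 1, -3, 3, 0],
  [0, 0, 0, 1, -2, 0, 3], [0, 0, 0, 1, -1, 1, 0], [0, 0, 0, 2, -3, 0, 0], [0, 0, 0, 2, -3, 0, 2],
  [0, 0, 1, 0, -3, 3, 0], [0, 0, 1, 0, -2, 0, 1], [0, 0, 1, 0, -2, 0, 3], [0, 0, 1, 0, -2, 2, 1],
  [0, 0, 1, 1, -3, 0, 2], [0, 0, 1, 1, -3, 2, 0], [0, 0, 2, 0, -3, 2, 0], [0, 0, 2, 0, -1, 0, 0],
  [0, 1, 0, 0, -2, 0, 2], [0, 1, 0, 1, -2, 0, 2], [0, 1, 1, 0, -3, 1, 1], [0, 1, 1, 0, -3, 2, 1],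
  [0, 1, 1, 0, -1, 0, 1], [0, 1, 1, 1, -3, 0, 1], [0, 1, 2, 0, -2, 0, 0], [0, 2, 0, 0, -3, 2, 0],
  [0, 2, 0, 1, -3, 1, 0], [0, 2, 1, 0, -3, 1, 0], [0, 2, 1, 0, -2, 0, 1], [0, 3, 0, 0, -2, 0, 0],
  [1, 0, 0, 0, -1, 2, 0], [1, 0, 0, 1, -3, 1, 0], [1, 0, 0, 1, -3, 1, 2], [1, 0, 0, 1, -2, 1, 1],
  [1, 0, 0, 2, -3, 0, 0], [1, 0, 1, 0, -3, 2, 0], [1, 0, 1, 1, -3, 1, 0], [1, 1, 0, 0, -3, 2, 1],
  [1, 1, 0, 0, -2, 1, 2], [1, 1, 0, 1, -3, 0, 1], [1, 1, 0, 1, -3, 1, 1], [1, 1, 1, 0, -3, 1, 1],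
  [1, 1, 1, 0, -2, 1, 0], [1, 2, 0, 0, -3, 2, 0], [1, 2, 0, 0, -1, 0, 0], [2, 0, 0, 0, -1, 0, 2],
  [2, 0, 0, 1, -3, 1, 0], [2, 0, 0, 1, -2, 0, 1], [2, 0, 1, 0, -2, 0, 1], [2, 1, 0, 0, -2, 0, 0],
  [2, 1, 0, 0, -2, 0, 2], [3, 0, 0, 0, -1, 0, 0]]

theorem pE7_0000100 : pchk 7 dE7 [0, 0, 0, 0, 1, 0, 0] [0, 0, 0, 0, 1, 0, 0] [0, 1, 2, 3, 5, 6] LE7_0000100 = true := by
  decide +kernel

/-- certificates -/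
def CE7_0000100_0 : List (V × Bool × List V) := [([0, 1, 1, 1, -3, 0, 1], true, [[1, 0, 2, 1, 0, 0, 0]]),
  ([1, 0, 0, 1, -3, 1, 2], true, [[0, -1, -1, -2, 0, 1, 0]])]

/-- survivors -/
def SE7_0000100_0 : List V := [[0, 0, 0, 1, -1, 1, 0], [0, 0, 1, 0, -3, 3, 0], [0, 3, 0, 0, -2, 0, 0], [1, 1, 0, 0, -2, 1, 2], [1, 1, 1, 0, -3, 1, 1]]

theorem kE7_0000100_0 : kchk 7 dE7 0 85766121000000 [0, 0, 0, 0, 1, 0, 0] [0, 0, 0, 0, 1, 0, 0] [] CE7_0000100_0 LE7_0000100 SE7_0000100_0 = true := by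
  decide +kernel

theorem eE7_0000100_0 : al (fun lam => an (endR dE7 0 85766121000000 (pl [0, 0, 0, 0, 1, 0, 0] lam) (mi [0, 0, 0, 0, 1, 0, 0] lam)) dE7.T) SE7_0000100_0 = true := by
  decide +kernel

/-- certificates -/
def CE7_0000100_7 : List (V × Bool × List V) := [([0, 1, 1, 1, -3, 0, 1], true, [[1, 0, 2, 1, 0, 0, 0]]),
  ([1, 0, 0, 1, -3, 1, 2], true, [[0, 6, 6, 5, 0, 1, 0]])]

/-- survivors -/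
def SE7_0000100_7 : List V := [[0, 0, 0, 1, -1, 1, 0], [0, 0, 1, 0, -3, 3, 0], [0, 3, 0, 0, -2, 0, 0], [1, 1, 0, 0, -2, 1, 2], [1, 1, 1, 0, -3, 1, 1]]

theorem kE7_0000100_7 : kchk 7 dE7 7 1 [0, 0, 0, 0, 1, 0, 0] [0, 0, 0, 0, 1, 0, 0] [] CE7_0000100_7 LE7_0000100 SE7_0000100_7 = true := by
  decide +kernel

theorem eE7_0000100_7 : al (fun lam => an (endR dE7 7 1 (pl [0, 0, 0, 0, 1, 0, 0] lam) (mi [0, 0, 0, 0, 1, 0, 0] lam)) dE7.T) SE7_0000100_7 = true := by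
  decide +kernel

/-- certificates -/
def CE7_0000100_5 : List (V × Bool × List V) := [([0, 0, 0, 1, -3, 3, 0], true, [[0, 0, 0, 0, 1, 0, 0]]),
  ([0, 0, 1, 1, -3, 2, 0], true, [[0, 0, 0, 0, 1, 0, 0]]),
  ([0, 1, 1, 0, -3, 2, 1], true, [[0, 0, 0, 1, 2, 1, 0]]),
  ([0, 1, 1, 1, -3, 0, 1], true, [[1, 0, 2, 1, 0, 0, 0]]),
  ([0, 1, 2, 0, -2, 0, 0], true, [[1, 0, 2, 1, 0, 0, 0]]),
  ([0, 2, 0, 1, -3, 1, 0], false, [[1, 1, 2, 3, 1, 0, 0]]),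
  ([0, 2, 1, 0, -2, 0, 1], true, [[0, 0, 0, 1, 2, 1, 0]]),
  ([1, 0, 0, 1, -3, 1, 2], true, [[0, 4, 4, 3, 0, 1, 0]]),
  ([1, 0, 1, 1, -3, 1, 0], true, [[1, 1, 3, 2, 1, 0, 0]]),
  ([2, 1, 0, 0, -2, 0, 2], false, [[0, 2, 3, 1, 2, 1, 0]])]

/-- survivors -/
def SE7_0000100_5 : List V := [[0, 0, 0, 1, -1, 1, 0], [0, 0, 1, 0, -3, 3, 0], [0, 1, 1, 0, -1, 0, 1], [0, 3, 0, 0, -2, 0, 0], [1, 0, 0, 1, -2, 1, 1], [1, 1, 0, 0, -2, 1, 2], [1, 1, 0, 1, -3, 1, 1], [1, 1, 1, 0, -3, 1, 1], [1, 1, 1, 0, -2, 1, 0]]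

theorem kE7_0000100_5 : kchk 7 dE7 5 1 [0, 0, 0, 0, 1, 0, 0] [0, 0, 0, 0, 1, 0, 0] [] CE7_0000100_5 LE7_0000100 SE7_0000100_5 = true := by
  decide +kernel

theorem eE7_0000100_5 : al (fun lam => an (endR dE7 5 1 (pl [0, 0, 0, 0, 1, 0, 0] lam) (mi [0, 0, 0, 0, 1, 0, 0] lam)) dE7.T ||
    Nat.blt (cnt (fun e => !nz 5 1 (dot e.b (pl [0, 0, 0, 0, 1, 0, 0] lam))) dE7.T) 16) SE7_0000100_5 = true := by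
  decide +kernel

end Cfsg.Agent.Cam.Ex.Cb
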