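import Cfsg.Agent.Cam.Ex.Cb5
import Cfsg.Agent.Cam.Ex.CbW
import Cfsg.Agent.Cam.Ex.CbP7a
import Cfsg.Agent.Cam.Ex.CbP7b
import Cfsg.Agent.Cam.Ex.CbP7c

/-!
# The finite check: `E₇` (helper12)
-/

set_option autoImplicit false
set_option linter.unusedVariables false
set_option maxRecDepth 100000

namespace Cfsg.Agent.Cam.Ex.Cb

open CoxeterSystem Cfsg Cfsg.Lie
open Cfsg.Agent.ChevalleyStructure.CoxeterGeom Cfsg.Agent.ChevalleyStructure.CoxeterGeomTypes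
open Cfsg.Agent.Tits.Roots Cfsg.Agent.Nodes.RGDChev Cfsg.Agent.Nodes.Coroot Cfsg.Agent.Nodes.SubComb
open Cfsg.Agent.H931.KC (hr psi psi_apply psi_sr eq_psi)

/-- restricted roots, type `A₄ A₁` -/
def r46 : List (ℤ × ℤ) :=
  [(-3, -1), (-2, -1), (-2, 0), (-1, -1), (-1, 0), (0, -1), (0, 1), (1, 0), (1, 1), (2, 0), (2, 1), (3, 1)]

/-- restricted roots, type `A₂ A₂ A₁` -/
def r36 : List (ℤ × ℤ) := [(-4, -1), (-3, -1), (-3, 0), (-2, -1), (-2, 0), (-1, -1), (-1, 0), (0, -1), (0, 1), (1, 0),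
  (1, 1), (2, 0), (2, 1), (3, 0), (3, 1), (4, 1)]

/-- restricted roots, type `A₂ A₁ A₁ A₁` -/
def r35 : List (ℤ × ℤ) := [(-4, -2), (-3, -2), (-3, -1), (-2, -2), (-2, -1), (-2, 0), (-1, -1), (-1, 0), (0, -1),
  (0, 1), (1, 0), (1, 1), (2, 0), (2, 1), (2, 2), (3, 1), (3, 2), (4, 2)]

theorem R46 : RROK tE7 4 6 r46 := tabE7.rrok (by decide) (by decide +kernel)
theorem R36 : RROK tE7 3 6 r36 := tabE7.rrok (by decide) (by decide +kernel)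
theorem R35 : RROK tE7 3 5 r35 := tabE7.rrok (by decide) (by decide +kernel)
theorem k46 : toF 7 [0, 0, 0, 0, 1, 0, 1] = sr 4 + sr 6 := by decide +kernel
theorem k36 : toF 7 [0, 0, 0, 1, 0, 0, 1] = sr 3 + sr 6 := by decide +kernel
theorem k35 : toF 7 [0, 0, 0, 1, 0, 1, 0] = sr 3 + sr 5 := by decide +kernel

/-- the three isolated roots -/
def g35 : List V := [[0, 1, 0, 0, 0, 0, 0], [0, 0, 0, 0, 1, 0, 0], [0, 0, 0, 0, 0, 0, 1]]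

/-- rotations of order three and six -/
noncomputable def clsC (p q : ℤ × ℤ) : Bool :=
  ieq (p.1 * q.2 - p.2 * q.1) 1 && ((ieq (p.1 + q.2) 1 || ieq (p.1 + q.2) (-1)) &&
    al (fun v => an (fun c => leq c.b v && movchk dE7 3 5 p q c) dE7.T) g35)

theorem exists_negE7 : ∃ w, ∀ a, wa tE7 w a = -a := ⟨_, tabE7.neg_word negE7⟩

/-- corank one -/
def T1 {r : ℕ} (φ : Lat 7 →+ ZMod r) : Prop :=
  Exa tE7 φ [0, 0, 0, 0, 0, 0, 1] ∨ Exa tE7 φ [0, 0, 0, 0, 0, 1, 0] ∨ Exa tE7 φ [0, 1, 0, 0, 0, 0, 0] ∨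
    Exa tE7 φ [0, 0, 1, 0, 0, 0, 0] ∨ Exa tE7 φ [0, 0, 0, 0, 1, 0, 0] ∨ Exa tE7 φ [0, 0, 0, 1, 0, 0, 0]

/-- corank two, scalar action -/
def T2 {r : ℕ} (g : Lat 7 ≃+ Lat 7) (e : ZMod r) (φ : Lat 7 →+ ZMod r) : Prop :=
  ∃ (κ : V) (i j : Fin 7), i ≠ j ∧ Exa tE7 φ κ ∧ Ex2 tE7 φ i j ∧ (e = 1 ∨ e = -1) ∧
    (∀ a, (g a j : ZMod r) = e * a j) ∧
    Nat.blt (cnt (fun e => ieq (dot e.b κ) 0) dE7.T) (cnt (fun e => ieq (gt e.b j) 0) dE7.T) = true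

/-- corank two, rotation -/
def T3 {r : ℕ} (g : Lat 7 ≃+ Lat 7) (e : ZMod r) (φ : Lat 7 →+ ZMod r) : Prop :=
  Exa tE7 φ [0, 0, 0, 1, 0, 1, 0] ∧ (e ^ 2 - e + 1 = 0 ∨ e ^ 2 + e + 1 = 0) ∧
    ∀ v ∈ g35, g (toF 7 v) ≠ toF 7 v ∧ g (toF 7 v) ≠ -toF 7 v

/-- the types of Frobenius eigenvectors in `E₇` -/
theorem typesE7 {r : ℕ} (hr' : r.Prime) (h5 : 5 ≤ r) {p : ℕ} {φ : Lat 7 →+ ZMod r} (h0 : φ ≠ 0)
    (hK : K1 tE7 p (Psi tE7 φ)) {g : Lat 7 ≃+ Lat 7} (hr : ∀ a, Rt tE7 (g a) ↔ Rt tE7 a)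
    (hcp : ∀ a c, Rt tE7 c → cp tE7 (g a) (g c) = cp tE7 a c) {e : ZMod r} (he : ∀ a, φ (g a) = e * φ a) :
    ∃ w, T1 (cw tE7 φ w) ∨ T2 (gw tE7 g w) e (cw tE7 φ w) ∨ T3 (gw tE7 g w) e (cw tE7 φ w) := by
  obtain ⟨w, t, ht', h⟩ := tabE7.types tyE7 hr' h5 h0 hK
  have h1 := tyE7' t ht'
  simp only [List.mem_cons, List.not_mem_nil, or_false] at h1
  have hr2 : ∀ a, Rt tE7 (gw tE7 g w a) ↔ Rt tE7 a := fun a => by rw [gw_apply, rt_wa, hr, rt_wa]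
  have hcp2 : ∀ a c, Rt tE7 c → cp tE7 (gw tE7 g w a) (gw tE7 g w c) = cp tE7 a c := fun a c hc => by
    rw [gw_apply, gw_apply, cp_wa tE7 _ _ ((hr _).2 (hc.act w)), hcp _ _ (hc.act w), cp_wa tE7 _ _ hc]
  have he2 : ∀ a, cw tE7 φ w (gw tE7 g w a) = e * cw tE7 φ w a := fun a => by
    rw [cw_apply, cw_apply, gw_apply, wa_inv', he]
  refine ⟨w, ?_⟩
  rcases h1 with h1 | h1 | h1 | h1 | h1 | h1 | h1 | h1 | h1 <;> rw [h1] at h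
  · exact Or.inl (Or.inl h)
  · exact Or.inl (Or.inr (Or.inl h))
  · exact Or.inl (Or.inr (Or.inr (Or.inl h)))
  · exact Or.inl (Or.inr (Or.inr (Or.inr (Or.inl h))))
  · exact Or.inl (Or.inr (Or.inr (Or.inr (Or.inr (Or.inl h)))))
  · exact Or.inl (Or.inr (Or.inr (Or.inr (Or.inr (Or.inr h)))))
  · rcases tabE7.cls2 R46 (X := fun _ _ => false) (by decide +kernel) hr' h5 (h.ex2 k46) _ hr2 he2 with h2 | h2
    · exact Or.inr (Or.inl ⟨_, 4, 6, by decide, h, h.ex2 k46, h2.1, h2.2, by decide +kernel⟩)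
    · obtain ⟨_, _, h3, -⟩ := h2
      exact absurd h3 Bool.false_ne_true
  · rcases tabE7.cls2 R36 (X := fun _ _ => false) (by decide +kernel) hr' h5 (h.ex2 k36) _ hr2 he2 with h2 | h2
    · exact Or.inr (Or.inl ⟨_, 3, 6, by decide, h, h.ex2 k36, h2.1, h2.2, by decide +kernel⟩)
    · obtain ⟨_, _, h3, -⟩ := h2
      exact absurd h3 Bool.false_ne_true
  · rcases tabE7.cls2 R35 (X := clsC) (by decide +kernel) hr' h5 (h.ex2 k35) _ hr2 he2 with h2 | h2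
    · exact Or.inr (Or.inl ⟨_, 3, 5, by decide, h, h.ex2 k35, h2.1, h2.2, by decide +kernel⟩)
    · obtain ⟨p', q', h3, h4, h6⟩ := h2
      obtain ⟨h7, h3⟩ := Bool.and_eq_true_iff.1 h3
      obtain ⟨h8, h9⟩ := Bool.and_eq_true_iff.1 h3
      refine Or.inr (Or.inr ⟨h, ?_, fun v hv => ?_⟩)
      · rw [ieq_iff.1 h7] at h6
        rcases Bool.or_eq_true_iff.1 h8 with h10 | h10 <;> rw [ieq_iff.1 h10] at h6 <;> push_cast at h6
        · exact Or.inl (by linear_combination h6)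
        · exact Or.inr (by linear_combination h6)
      · obtain ⟨c, hc, h10⟩ := an_iff.1 (al_iff.1 h9 v hv)
        obtain ⟨h11, h12⟩ := Bool.and_eq_true_iff.1 h10
        rw [← leq_iff.1 h11]
        exact tabE7.moved hc (i := 3) (j := 5) h12 hr2 hcp2 h4

theorem no_poly {r : ℕ} (hr' : r.Prime) (h5 : 5 ≤ r) {e : ZMod r} (h1 : e = 1 ∨ e = -1)
    (h2 : e ^ 2 - e + 1 = 0 ∨ e ^ 2 + e + 1 = 0) : False := by
  rcases h1 with rfl | rfl <;> rcases h2 with h | h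
  · exact un6 hr' h5 (n := 1) (by norm_num) (by push_cast; linear_combination h)
  · exact un6 hr' h5 (n := 3) (by norm_num) (by push_cast; linear_combination h)
  · exact un6 hr' h5 (n := 3) (by norm_num) (by push_cast; linear_combination h)
  · exact un6 hr' h5 (n := 1) (by norm_num) (by push_cast; linear_combination h)

theorem T1.eig {p q r : ℕ} {g : Lat 7 ≃+ Lat 7} {A B : Lat 7 →+ ZMod r} (C : Cm tE7 p q r g A B)
    {φ : Lat 7 →+ ZMod r} (h : T1 φ) (he : ∀ a, φ (g a) = (q : ZMod r) * φ a) :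
    (q : ZMod r) = 1 ∨ (q : ZMod r) = -1 := by
  rcases h with h | h | h | h | h | h
  · exact (h.ex1 (toF_uv (l := 7) 6)).eig C he
  · exact (h.ex1 (toF_uv (l := 7) 5)).eig C he
  · exact (h.ex1 (toF_uv (l := 7) 1)).eig C he
  · exact (h.ex1 (toF_uv (l := 7) 2)).eig C he
  · exact (h.ex1 (toF_uv (l := 7) 4)).eig C he
  · exact (h.ex1 (toF_uv (l := 7) 3)).eig C he

theorem not_T2 {p q r : ℕ} {g : Lat 7 ≃+ Lat 7} {A B : Lat 7 →+ ZMod r} (C : Cm tE7 p q r g A B) :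
    ¬ T2 g (q : ZMod r) (A + B) := by
  rintro ⟨κ, i, j, -, h1, h2, -, h3, h4⟩
  obtain ⟨w0, hw0⟩ := exists_negE7
  exact tabE7.not_scalar C h1 h2 hw0 h4 h3

theorem not_T3 (hc : BoxConn) {p q r : ℕ} {g : Lat 7 ≃+ Lat 7} {A B : Lat 7 →+ ZMod r} (C : Cm tE7 p q r g A B) :
    ¬ T3 g (q : ZMod r) (A + B) := by
  rintro ⟨h1, h2, h3⟩
  obtain ⟨w0, hw0⟩ := exists_negE7
  have hg : gchk 7 dE7 [0, 0, 0, 1, 0, 1, 0] g35 = true := by decide +kernel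
  have h4 : ∀ v ∈ g35, Rt tE7 (toF 7 v) ∧ A (toF 7 v) = 0 ∧ B (toF 7 v) = 0 := by
    intro v hv
    have h5 := (tabE7.gchk_spec h1 hg hv).2.1
    have h6 := C.k3' hc le_rfl h5 (neg_of_word hw0 _) (Or.inr (hw0 _)) (Or.inr (h3 v hv))
    refine ⟨h5.1.1, h6, ?_⟩
    have h7 := h5.1.2
    rwa [AddMonoidHom.add_apply, h6, zero_add] at h7
  obtain ⟨w, h5 | h5 | h5⟩ := typesE7 C.prime C.five C.a0 C.k1a C.root C.gcp C.frA
  · exact no_poly C.prime C.five (h5.eig (C.act w) (C.act w).frA) h2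
  · obtain ⟨κ, i, j, -, -, -, h6, -⟩ := h5
    exact no_poly C.prime C.five h6 h2
  have C' := C.act w
  have e1 : toF 7 [0, 1, 0, 0, 0, 0, 0] = sr 1 := toF_uv (l := 7) 1
  have e4 : toF 7 [0, 0, 0, 0, 1, 0, 0] = sr 4 := toF_uv (l := 7) 4
  have e6 : toF 7 [0, 0, 0, 0, 0, 0, 1] = sr 6 := toF_uv (l := 7) 6
  obtain ⟨-, a1, b1⟩ := h4 [0, 1, 0, 0, 0, 0, 0] (by decide)
  obtain ⟨-, a4, b4⟩ := h4 [0, 0, 0, 0, 1, 0, 0] (by decide)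
  obtain ⟨-, a6, b6⟩ := h4 [0, 0, 0, 0, 0, 0, 1] (by decide)
  rw [e1] at a1 b1
  rw [e4] at a4 b4
  rw [e6] at a6 b6
  have hcar : ∀ i j : Fin 7, cartanOf chevE7 7 j i = 0 →
      cp tE7 (wa tE7 w⁻¹ (sr i)) (wa tE7 w⁻¹ (sr j)) = 0 := fun i j h => by
    rw [cp_wa tE7 _ _ (rt_sr tE7 j), cp_sr, psi_sr, h]
  have hev : ∀ c, Rt tE7 c → (2 : ℤ) ∣ cp tE7 (toF 7 [0, 1, 0, 0, 1, 0, 1]) c := by
    intro c hc'
    obtain ⟨e, he, h6⟩ := tabE7.sur c hc'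
    have h7 : (2 : ℤ) ∣ cp tE7 (toF 7 [0, 1, 0, 0, 1, 0, 1]) (toF 7 e.b) := by
      rw [tabE7.cpe e he, psi_toF (by rfl)]
      exact zr_iff.1 (al_iff.1 (show al (fun e => zr 2 (dot [0, 1, 0, 0, 1, 0, 1] e.cv)) dE7.T = true by
        decide +kernel) e he)
    rcases h6 with rfl | rfl
    · exact h7
    · rw [cp_neg_right tE7 _ (tabE7.rt e he), dvd_neg]; exact h7
  have es : toF 7 [0, 1, 0, 0, 1, 0, 1] = sr 1 + sr 4 + sr 6 := by decide +kernel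
  have h6 := tabE7.tri (B := cw tE7 B w) h5.1 (G := g35) (by decide +kernel) ((rt_sr tE7 1).act w⁻¹)
    ((rt_sr tE7 4).act w⁻¹) ((rt_sr tE7 6).act w⁻¹) (by rw [cw_apply, wa_inv', a1]) (by rw [cw_apply, wa_inv', a4])
    (by rw [cw_apply, wa_inv', a6]) (by rw [cw_apply, wa_inv', b1]) (by rw [cw_apply, wa_inv', b4])
    (by rw [cw_apply, wa_inv', b6]) (hcar 1 4 (by decide +kernel)) (hcar 1 6 (by decide +kernel))
    (hcar 4 6 (by decide +kernel)) fun j => by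
      have h7 := hev _ ((rt_sr tE7 j).act w)
      rw [← cp_wa tE7 w⁻¹ _ ((rt_sr tE7 j).act w), es, wa_add, wa_add] at h7
      rwa [show wa tE7 w⁻¹ (rep _ tE7.isCartan w (sr j)) = sr j from wa_inv tE7 w _] at h7
  obtain ⟨ν, c, h7, h8⟩ := tabE7.root_mult C'.prime C'.five h5.1 C'.k2a (u := [2, 0, 1, 0, 0, 0, 0])
    (X := [[-1, 0, 1, 0, 0, 0, 0], [-1, 0, -2, 0, 0, 0, 0]]) (by decide +kernel)
    (Bs := [2, 3, 4, 6, 3, 0, 0] :: [-2, -3, -4, -6, 0, 6, 3] :: g35)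
    (fun b hb => by
      rcases List.mem_cons.1 hb with rfl | hb
      · exact tabE7.span_ex C'.prime C'.five h5.1 C'.k2a (by decide +kernel)
      rcases List.mem_cons.1 hb with rfl | hb
      · exact tabE7.span_ex C'.prime C'.five h5.1 C'.k2a (by decide +kernel)
      · exact h6 b hb)
    (DT := [([-1, 0, 2, -1, 0, 0, 0], [0, 0, 1, 1, 0, 0, 0], 6, [[1, 1, 0, -3, -3, 0], [0, 0, 0, 6, 0, 0],
        [1, -2, 0, 6, 6, 0], [-1, 2, 0, -6, -6, 0], [0, 0, 0, 0, 6, 0], [0, 1, 1, 0, -3, -3], [0, 0, 0, 0, 0, 6]]),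
      ([2, 0, -1, 0, 0, 0, 0], [0, -1, -1, -1, -1, 0, 0], 6, [[2, 2, 0, 6, 6, 0], [0, 0, 0, 6, 0, 0],
        [2, -1, 0, -3, -3, 0], [-2, 1, 0, -3, -3, 0], [0, 0, 0, 0, 6, 0], [0, 1, 1, 0, -3, -3], [0, 0, 0, 0, 0, 6]]),
      ([1, 0, 1, -1, 0, 0, 0], [0, -1, -1, -2, -1, 0, 0], 6, [[2, 2, 0, 0, 0, 0], [0, 0, 0, 6, 0, 0],
        [-4, 2, 0, 0, 0, 0], [2, -1, 0, -3, -3, 0], [0, 0, 0, 0, 6, 0], [0, 1, 1, 0, -3, -3], [0, 0, 0, 0, 0, 6]])])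
    (Q := fun ν => Nat.beq ν.length 7 && an (fun ω => leq (fw dE7.C ω ν) (uv 7 0))
      [[0, 3, 1, 4, 3, 2, 5, 4, 3, 1, 6, 5, 4, 3, 2, 0], [2, 3, 1, 4, 3, 2, 5, 4, 3, 1, 6, 5, 4, 3, 2, 0],
        [3, 1, 4, 3, 2, 5, 4, 3, 1, 6, 5, 4, 3, 2, 0]]) (by decide +kernel)
  obtain ⟨h9, h10⟩ := Bool.and_eq_true_iff.1 h7
  obtain ⟨ω, -, h11⟩ := an_iff.1 h10
  exact no_poly C.prime C.five (tabE7.eig_of_is C'.prime C'.five C'.b0 (Nat.eq_of_beq_eq_true h9) h8 (j := 0) h11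
    (by decide +kernel) C'.root C'.frB) h2

/-- the survivors for a type of corank one -/
theorem e7_surv (hc : BoxConn) {μ : V} {J : List ℕ} {L : List V} (h : pchk 7 dE7 μ μ J L = true) {G : List V}
    (hG : gchk 7 dE7 μ G = true) {j : Fin 7} (hj : toF 7 μ = sr j) {m K : ℤ} {CT : List (V × Bool × List V)}
    {SV : List V} (hk : kchk 7 dE7 m K μ μ G CT L SV = true) {p q r : ℕ} (hm : Md r m K) {g : Lat 7 ≃+ Lat 7}
    {A B : Lat 7 →+ ZMod r} (C : Cm tE7 p q r g A B) (hκ : Exa tE7 (A + B) μ) :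
    ∃ u, ∃ lam ∈ SV, ∃ c : ZMod r, c ≠ 0 ∧ Is (cw tE7 A u) c (pl μ lam) ∧ Is (cw tE7 B u) c (mi μ lam) ∧
      (an (endR dE7 m K (pl μ lam) (mi μ lam)) dE7.T = true → EndE7 q g A B) := by
  obtain ⟨w0, hw0⟩ := exists_negE7
  have hq := (hκ.ex1 hj).eig C C.frX
  obtain ⟨u, -, lam, hlam, c, hc0, hA, hB⟩ := tabE7.surv h hk hm C hκ ((hκ.ex1 hj).is hj)
    (tabE7.k3G hc le_rfl C hκ hG (neg_of_word hw0 _) (fun v _ => Or.inr (hw0 _)) hq)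
  refine ⟨u, lam, hlam, c, hc0, hA, hB, fun h1 => ?_⟩
  obtain ⟨γ, hγ, h2⟩ := an_iff.1 h1
  exact endE7_of (w := u) ⟨hq, tabE7.end_root (C.act u) hm hc0 hA hB hγ h2⟩

theorem e7_of (hc : BoxConn) {μ : V} {J : List ℕ} {L : List V} (h : pchk 7 dE7 μ μ J L = true) {G : List V}
    (hG : gchk 7 dE7 μ G = true) {j : Fin 7} (hj : toF 7 μ = sr j) {m K : ℤ} {CT : List (V × Bool × List V)}
    {SV : List V} (hk : kchk 7 dE7 m K μ μ G CT L SV = true)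
    (he : al (fun lam => an (endR dE7 m K (pl μ lam) (mi μ lam)) dE7.T) SV = true) {p q r : ℕ} (hm : Md r m K)
    {g : Lat 7 ≃+ Lat 7} {A B : Lat 7 →+ ZMod r} (C : Cm tE7 p q r g A B) (hκ : Exa tE7 (A + B) μ) :
    EndE7 q g A B := by
  obtain ⟨u, lam, hlam, c, -, -, -, h1⟩ := e7_surv hc h hG hj hk hm C hκ
  exact h1 (al_iff.1 he lam hlam)

theorem gE7_6 : gchk 7 dE7 [0, 0, 0, 0, 0, 0, 1] [] = true := rfl
theorem gE7_5 : gchk 7 dE7 [0, 0, 0, 0, 0, 1, 0] [[0, 0, 0, 0, 0, 0, 1]] = true := by decide +kernel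
theorem gE7_1 : gchk 7 dE7 [0, 1, 0, 0, 0, 0, 0] [] = true := rfl
theorem gE7_2 : gchk 7 dE7 [0, 0, 1, 0, 0, 0, 0] [[1, 0, 0, 0, 0, 0, 0]] = true := by decide +kernel
theorem gE7_4 : gchk 7 dE7 [0, 0, 0, 0, 1, 0, 0] [] = true := rfl
theorem gE7_3 : gchk 7 dE7 [0, 0, 0, 1, 0, 0, 0] [[0, 1, 0, 0, 0, 0, 0]] = true := by decide +kernel

theorem finE7 (hc : BoxConn) (p q r : ℕ) (g0 g : Lat 7 ≃+ Lat 7) (A B : Lat 7 →+ ZMod r) (h7 : 7 ≤ r)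
    (C0 : Cmb tE7 p q r g0 g A B) : EndE7 q g A B := by
  obtain ⟨w, h⟩ := typesE7 C0.prime C0.five C0.x0 C0.k1x C0.root C0.gcp (cm_of C0).frX
  have C := (cm_of C0).act w
  refine endE7_of (w := w) ?_
  have h8 : r = 7 ∨ 8 ≤ r := by omega
  rcases h with h | h | h
  swap
  · exact absurd h (not_T2 C)
  swap
  · exact absurd h (not_T3 hc C)
  rcases h with h | h | h | h | h | h <;> rcases h8 with rfl | h8
  · exact e7_of hc pE7_0000001 gE7_6 (toF_uv (l := 7) 6) kE7_0000001_7 eE7_0000001_7 md7 C h.cw_add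
  · exact e7_of hc pE7_0000001 gE7_6 (toF_uv (l := 7) 6) kE7_0000001_0 eE7_0000001_0 (md210 C.prime h8) C h.cw_add
  · exact e7_of hc pE7_0000010 gE7_5 (toF_uv (l := 7) 5) kE7_0000010_7 eE7_0000010_7 md7 C h.cw_add
  · exact e7_of hc pE7_0000010 gE7_5 (toF_uv (l := 7) 5) kE7_0000010_0 eE7_0000010_0 (md210 C.prime h8) C h.cw_add
  · exact e7_of hc pE7_0100000 gE7_1 (toF_uv (l := 7) 1) kE7_0100000_7 eE7_0100000_7 md7 C h.cw_add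
  · exact e7_of hc pE7_0100000 gE7_1 (toF_uv (l := 7) 1) kE7_0100000_0 eE7_0100000_0 (md210 C.prime h8) C h.cw_add
  · exact e7_of hc pE7_0010000 gE7_2 (toF_uv (l := 7) 2) kE7_0010000_7 eE7_0010000_7 md7 C h.cw_add
  · exact e7_of hc pE7_0010000 gE7_2 (toF_uv (l := 7) 2) kE7_0010000_0 eE7_0010000_0 (md210 C.prime h8) C h.cw_add
  · exact e7_of hc pE7_0000100 gE7_4 (toF_uv (l := 7) 4) kE7_0000100_7 eE7_0000100_7 md7 C h.cw_add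
  · exact e7_of hc pE7_0000100 gE7_4 (toF_uv (l := 7) 4) kE7_0000100_0 eE7_0000100_0 (md210 C.prime h8) C h.cw_add
  · exact e7_of hc pE7_0001000 gE7_3 (toF_uv (l := 7) 3) kE7_0001000_7 eE7_0001000_7 md7 C h.cw_add
  · exact e7_of hc pE7_0001000 gE7_3 (toF_uv (l := 7) 3) kE7_0001000_0 eE7_0001000_0 (md210 C.prime h8) C h.cw_add

end Cfsg.Agent.Cam.Ex.Cb
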