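import Cfsg.Agent.Cam.Ex.CbT
import Cfsg.Agent.Cam.Ex.Cb4

/-!
# The finite check: double cosets and certificates (helper12, generated by `tools/cam12/gen_data.py`)
-/

set_option autoImplicit false
set_option linter.unusedVariables false
set_option linter.style.longLine false
set_option maxRecDepth 100000

namespace Cfsg.Agent.Cam.Ex.Cb

open Cfsg Cfsg.Lie

/-- double cosets -/
def LF4_1000 : List V := [
  [-2, 1, 0, 0], [-1, 0, 0, 0], [-1, 0, 0, 2], [-1, 1, 0, 0],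
  [1, 0, 0, 0]]

theorem pF4_1000 : pchk 4 dF4 [1, 0, 0, 0] [1, 0, 0, 0] [1, 2, 3] LF4_1000 = true := by
  decide +kernel

/-- certificates -/
def CF4_1000_0 : List (V × Bool × List V) := []

/-- survivors -/
def SF4_1000_0 : List V := [[-2, 1, 0, 0], [-1, 1, 0, 0]]

theorem kF4_1000_0 : kchk 4 dF4 0 85766121000000 [1, 0, 0, 0] [1, 0, 0, 0] [] CF4_1000_0 LF4_1000 SF4_1000_0 = true := by
  decide +kernel

theorem eF4_1000_0 : al (fun lam => an (endI 4 dF4 0 85766121000000 (pl [1, 0, 0, 0] lam) (mi [1, 0, 0, 0] lam)) (pats [0, 1] 4)) SF4_1000_0 = true := by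
  decide +kernel

/-- certificates -/
def CF4_1000_7 : List (V × Bool × List V) := []

/-- survivors -/
def SF4_1000_7 : List V := [[-2, 1, 0, 0], [-1, 1, 0, 0]]

theorem kF4_1000_7 : kchk 4 dF4 7 1 [1, 0, 0, 0] [1, 0, 0, 0] [] CF4_1000_7 LF4_1000 SF4_1000_7 = true := by
  decide +kernel

theorem eF4_1000_7 : al (fun lam => an (endI 4 dF4 7 1 (pl [1, 0, 0, 0] lam) (mi [1, 0, 0, 0] lam)) (pats [0, 1] 4)) SF4_1000_7 = true := by
  decide +kernel

/-- certificates -/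
def CF4_1000_5 : List (V × Bool × List V) := []

/-- survivors -/
def SF4_1000_5 : List V := [[-2, 1, 0, 0], [-1, 1, 0, 0]]

theorem kF4_1000_5 : kchk 4 dF4 5 1 [1, 0, 0, 0] [1, 0, 0, 0] [] CF4_1000_5 LF4_1000 SF4_1000_5 = true := by
  decide +kernel

theorem eF4_1000_5 : al (fun lam => an (endI 4 dF4 5 1 (pl [1, 0, 0, 0] lam) (mi [1, 0, 0, 0] lam)) (pats [0, 1] 4)) SF4_1000_5 = true := by
  decide +kernel

/-- double cosets -/
def LF4_0100 : List V := [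
  [0, -3, 4, 0], [0, -1, 0, 0], [0, -1, 0, 4], [0, 1, 0, 0],
  [1, -3, 2, 2], [1, -3, 4, 0], [1, -2, 0, 2], [1, -2, 0, 4],
  [1, -2, 2, 2], [1, -1, 2, 0], [2, -3, 2, 0], [2, -3, 2, 2],
  [2, -1, 0, 2], [3, -3, 2, 0], [3, -2, 0, 0], [3, -2, 0, 2],
  [3, -1, 0, 0]]

theorem pF4_0100 : pchk 4 dF4 [0, 1, 0, 0] [0, 1, 0, 0] [0, 2, 3] LF4_0100 = true := by
  decide +kernel

/-- certificates -/
def CF4_0100_0 : List (V × Bool × List V) := []

/-- survivors -/
def SF4_0100_0 : List V := []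

theorem kF4_0100_0 : kchk 4 dF4 0 85766121000000 [0, 1, 0, 0] [0, 1, 0, 0] [[1, 0, 0, 0]] CF4_0100_0 LF4_0100 SF4_0100_0 = true := by
  decide +kernel

/-- certificates -/
def CF4_0100_7 : List (V × Bool × List V) := []

/-- survivors -/
def SF4_0100_7 : List V := []

theorem kF4_0100_7 : kchk 4 dF4 7 1 [0, 1, 0, 0] [0, 1, 0, 0] [[1, 0, 0, 0]] CF4_0100_7 LF4_0100 SF4_0100_7 = true := by
  decide +kernel

/-- certificates -/
def CF4_0100_5 : List (V × Bool × List V) := []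

/-- survivors -/
def SF4_0100_5 : List V := []

theorem kF4_0100_5 : kchk 4 dF4 5 1 [0, 1, 0, 0] [0, 1, 0, 0] [[1, 0, 0, 0]] CF4_0100_5 LF4_0100 SF4_0100_5 = true := by
  decide +kernel

/-- double cosets -/
def LF4_0010 : List V := [
  [0, 0, -2, 3], [0, 0, -1, 0], [0, 0, -1, 3], [0, 0, 1, 0],
  [0, 1, -3, 2], [0, 1, -3, 3], [0, 1, -1, 1], [0, 2, -3, 0],
  [0, 2, -3, 1], [1, 0, -2, 1], [1, 0, -2, 3], [1, 0, -1, 2],
  [1, 1, -3, 1], [1, 1, -3, 2], [1, 1, -2, 1], [2, 0, -2, 1],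
  [2, 0, -1, 0]]

theorem pF4_0010 : pchk 4 dF4 [0, 0, 1, 0] [0, 0, 1, 0] [0, 1, 3] LF4_0010 = true := by
  decide +kernel

/-- certificates -/
def CF4_0010_0 : List (V × Bool × List V) := []

/-- survivors -/
def SF4_0010_0 : List V := []

theorem kF4_0010_0 : kchk 4 dF4 0 85766121000000 [0, 0, 1, 0] [0, 0, 1, 0] [[0, 0, 0, 1]] CF4_0010_0 LF4_0010 SF4_0010_0 = true := by
  decide +kernel

/-- certificates -/
def CF4_0010_7 : List (V × Bool × List V) := []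

/-- survivors -/
def SF4_0010_7 : List V := []

theorem kF4_0010_7 : kchk 4 dF4 7 1 [0, 0, 1, 0] [0, 0, 1, 0] [[0, 0, 0, 1]] CF4_0010_7 LF4_0010 SF4_0010_7 = true := by
  decide +kernel

/-- certificates -/
def CF4_0010_5 : List (V × Bool × List V) := []

/-- survivors -/
def SF4_0010_5 : List V := []

theorem kF4_0010_5 : kchk 4 dF4 5 1 [0, 0, 1, 0] [0, 0, 1, 0] [[0, 0, 0, 1]] CF4_0010_5 LF4_0010 SF4_0010_5 = true := by
  decide +kernel

end Cfsg.Agent.Cam.Ex.Cb
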