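import Cfsg.Agent.Cam.Ex.Cb5
import Cfsg.Agent.Cam.Ex.CbW
import Cfsg.Agent.Cam.Ex.CbPF

/-!
# The finite check: `G₂`, `D₄`, `F₄` (helper12)
-/

set_option autoImplicit false
set_option linter.unusedVariables false
set_option maxRecDepth 100000

namespace Cfsg.Agent.Cam.Ex.Cb

open CoxeterSystem Cfsg Cfsg.Lie
open Cfsg.Agent.ChevalleyStructure.CoxeterGeom Cfsg.Agent.ChevalleyStructure.CoxeterGeomTypes
open Cfsg.Agent.Tits.Roots Cfsg.Agent.Nodes.RGDChev Cfsg.Agent.Nodes.Coroot Cfsg.Agent.Nodes.SubComb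
open Cfsg.Agent.H931.KC (hr psi psi_apply psi_sr eq_psi)

/-- no element satisfies `K1` in `G₂` -/
theorem noG2 {r : ℕ} (hr' : r.Prime) (h5 : 5 ≤ r) {p : ℕ} {φ : Lat 2 →+ ZMod r} (h0 : φ ≠ 0)
    (hK : K1 tG2 p (Psi tG2 φ)) : False := by
  obtain ⟨w, t, ht, -⟩ := tabG2.types tyG2 hr' h5 h0 hK
  exact absurd ht List.not_mem_nil

theorem finG2 (p q r : ℕ) (g0 g : Lat 2 ≃+ Lat 2) (A B : Lat 2 →+ ZMod r) : ¬ Cmb tG2 p q r g0 g A B :=
  fun C => noG2 C.prime C.five C.x0 C.k1x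

/-- the types of `F₄` -/
theorem typesF4 {r : ℕ} (hr' : r.Prime) (h5 : 5 ≤ r) {p : ℕ} {φ : Lat 4 →+ ZMod r} (h0 : φ ≠ 0)
    (hK : K1 tF4 p (Psi tF4 φ)) : ∃ w, (p ≠ 2 ∧ Exa tF4 (cw tF4 φ w) [1, 0, 0, 0]) ∨
      Exa tF4 (cw tF4 φ w) [0, 1, 0, 0] ∨ Exa tF4 (cw tF4 φ w) [0, 0, 1, 0] := by
  obtain ⟨w, t, ht, h⟩ := tabF4.types tyF4 hr' h5 h0 hK
  have h1 := tyF4' t ht
  simp only [List.mem_cons, List.not_mem_nil, or_false] at h1
  refine ⟨w, ?_⟩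
  rcases h1 with h1 | h1 | h1 <;> rw [h1] at h
  · refine Or.inl ⟨?_, h⟩
    rintro rfl
    obtain ⟨c, hc, h2⟩ := an_iff.1 (show an (fun c => al (fun e => !ieq (dot e.b [1, 0, 0, 0]) 0 ||
      ieq (dot e.b c.cv) 0) dF4.T) dF4.T = true by decide +kernel)
    exact tabF4.not_K1_two h hc h2 (K1_cw tF4 hK w)
  · exact Or.inr (Or.inl h)
  · exact Or.inr (Or.inr h)

theorem exists_negF4 : ∃ w, ∀ a, wa tF4 w a = -a := ⟨_, tabF4.neg_word negF4⟩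

theorem f4_of (hc : BoxConn) {μ : V} {J : List ℕ} {L : List V} (h : pchk 4 dF4 μ μ J L = true) {G : List V}
    (hG : gchk 4 dF4 μ G = true) {j : Fin 4} (hj : toF 4 μ = sr j) {m K : ℤ} {CT : List (V × Bool × List V)}
    {SV : List V} (hk : kchk 4 dF4 m K μ μ G CT L SV = true)
    (he : al (fun lam => an (endI 4 dF4 m K (pl μ lam) (mi μ lam)) (pats [0, 1] 4)) SV = true) {p q r : ℕ}
    (hm : Md r m K) {g : Lat 4 ≃+ Lat 4} {A B : Lat 4 →+ ZMod r} (C : Cm tF4 p q r g A B) (hκ : Exa tF4 (A + B) μ)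
    (hp2 : SV ≠ [] → p ≠ 2) : EndF4 p g A B := by
  obtain ⟨w0, hw0⟩ := exists_negF4
  obtain ⟨u, -, lam, hlam, c, hc0, hA, hB⟩ := tabF4.surv h hk hm C hκ ((hκ.ex1 hj).is hj)
    (tabF4.k3G hc (by norm_num) C hκ hG (neg_of_word hw0 _) (fun v _ => Or.inr (hw0 _)) ((hκ.ex1 hj).eig C C.frX))
  obtain ⟨θ, -, h1⟩ := an_iff.1 (al_iff.1 he lam hlam)
  exact endF4_of (w := u) ⟨hp2 (List.ne_nil_of_mem hlam), tabF4.end_inv (C.act u) hm hc0 hA hB h1⟩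

theorem finF4 (hc : BoxConn) (p q r : ℕ) (g0 g : Lat 4 ≃+ Lat 4) (A B : Lat 4 →+ ZMod r)
    (C0 : Cmb tF4 p q r g0 g A B) : EndF4 p g A B := by
  obtain ⟨w, h⟩ := typesF4 C0.prime C0.five C0.x0 C0.k1x
  have C := (cm_of C0).act w
  refine endF4_of (w := w) ?_
  have g1 : gchk 4 dF4 [1, 0, 0, 0] [] = true := rfl
  have g2 : gchk 4 dF4 [0, 1, 0, 0] [[1, 0, 0, 0]] = true := by decide +kernel
  have g3 : gchk 4 dF4 [0, 0, 1, 0] [[0, 0, 0, 1]] = true := by decide +kernel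
  have j1 : toF 4 [1, 0, 0, 0] = sr 0 := toF_uv (l := 4) 0
  have j2 : toF 4 [0, 1, 0, 0] = sr 1 := toF_uv (l := 4) 1
  have j3 : toF 4 [0, 0, 1, 0] = sr 2 := toF_uv (l := 4) 2
  rcases h with ⟨h2, h⟩ | h | h <;> rcases md_cases C.prime C.five with rfl | rfl | h8
  · exact f4_of hc pF4_1000 g1 j1 kF4_1000_5 eF4_1000_5 md5 C h.cw_add fun _ => h2
  · exact f4_of hc pF4_1000 g1 j1 kF4_1000_7 eF4_1000_7 md7 C h.cw_add fun _ => h2
  · exact f4_of hc pF4_1000 g1 j1 kF4_1000_0 eF4_1000_0 (md210 C.prime h8) C h.cw_add fun _ => h2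
  · exact f4_of hc pF4_0100 g2 j2 kF4_0100_5 rfl md5 C h.cw_add fun h => absurd rfl h
  · exact f4_of hc pF4_0100 g2 j2 kF4_0100_7 rfl md7 C h.cw_add fun h => absurd rfl h
  · exact f4_of hc pF4_0100 g2 j2 kF4_0100_0 rfl (md210 C.prime h8) C h.cw_add fun h => absurd rfl h
  · exact f4_of hc pF4_0010 g3 j3 kF4_0010_5 rfl md5 C h.cw_add fun h => absurd rfl h
  · exact f4_of hc pF4_0010 g3 j3 kF4_0010_7 rfl md7 C h.cw_add fun h => absurd rfl h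
  · exact f4_of hc pF4_0010 g3 j3 kF4_0010_0 rfl (md210 C.prime h8) C h.cw_add fun h => absurd rfl h

/-! ### `D₄` -/

/-- all pairings are even -/
def Zs (z : Lat 4) : Prop := ∀ c, Rt tD4 c → (2 : ℤ) ∣ cp tD4 z c

/-- no fixed point on the centre of the spin group -/
def Tri (g : Lat 4 ≃+ Lat 4) : Prop := ∀ z, Zs z → Cg 2 (g z) z → Cg 2 z 0

theorem Zs.map {z : Lat 4} (hz : Zs z) {g : Lat 4 ≃+ Lat 4} (hr : ∀ a, Rt tD4 (g a) ↔ Rt tD4 a)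
    (hcp : ∀ a c, Rt tD4 c → cp tD4 (g a) (g c) = cp tD4 a c) : Zs (g z) := by
  intro c hc
  have h1 : Rt tD4 (g.symm c) := by rw [← hr, g.apply_symm_apply]; exact hc
  rw [← g.apply_symm_apply c, hcp _ _ h1]
  exact hz _ h1

theorem Zs.wa {z : Lat 4} (hz : Zs z) (w : coxeterD4.Group) : Zs (wa tD4 w z) :=
  hz.map (g := BpExc.Fr.repAut _ tD4.isCartan w) (rt_wa tD4 w) fun a c hc => cp_wa tD4 w a hc

theorem Tri.act {g : Lat 4 ≃+ Lat 4} (h : Tri g) (w : coxeterD4.Group) : Tri (gw tD4 g w) := by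
  rintro z hz ⟨y, hy⟩
  obtain ⟨y', hy'⟩ := h _ (hz.wa w) ⟨wa tD4 w y, by rw [← wa_smul, ← wa_add, ← hy, gw_apply, wa_inv']⟩
  exact ⟨wa tD4 w⁻¹ y', by rw [zero_add, ← wa_smul, ← zero_add (_ • y'), ← hy', wa_inv]⟩

theorem Zs.par {z : Lat 4} (hz : Zs z) : (2 : ℤ) ∣ z 1 ∧ (2 : ℤ) ∣ z 0 + z 2 + z 3 := by
  have h0 := hz _ (rt_sr tD4 0)
  have h1 := hz _ (rt_sr tD4 1)
  rw [cp_sr, ← tabD4.car, psi_apply, Fin.sum_univ_four] at h0 h1
  have e0 : toF 4 (row dD4.C (0 : Fin 4)) = ![2, -1, 0, 0] := by decide +kernel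
  have e1 : toF 4 (row dD4.C (1 : Fin 4)) = ![-1, 2, -1, -1] := by decide +kernel
  rw [e0] at h0
  rw [e1] at h1
  simp at h0 h1
  omega

theorem cg_two {z : Lat 4} (h : ∀ i, (2 : ℤ) ∣ z i) : Cg 2 z 0 := by
  choose k hk using h
  exact ⟨k, by funext i; rw [zero_add, Pi.smul_apply, smul_eq_mul, hk i]; rfl⟩

theorem tri_of {g0 g : Lat 4 ≃+ Lat 4} (h0 : IsTri g0) (hg : ∃ w, ∀ a, g a = wa tD4 w (g0 a))
    (hr : ∀ a, Rt tD4 (g a) ↔ Rt tD4 a) (hcp : ∀ a c, Rt tD4 c → cp tD4 (g a) (g c) = cp tD4 a c) : Tri g := by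
  obtain ⟨σ, h1, h2, h3⟩ := h0
  obtain ⟨w, hw⟩ := hg
  rintro z hz ⟨y, hy⟩
  have h4 : Zs (g0 z) := by
    have := (hz.map hr hcp).wa w⁻¹
    rwa [hw, wa_inv] at this
  obtain ⟨y', hy'⟩ := cg_wa tD4 (n := 2) (z := g0 z) (fun j => by rw [← cp_sr tD4]; exact h4 _ (rt_sr tD4 j)) w
  have h5 : ∀ k, g0 z (σ k) = z k := by
    intro k
    have h6 := eq_one_coord (crd g0 (σ k)) k (fun k' hk' => by
      rw [crd_apply, h3, sr_ne fun h => hk' (σ.injective h).symm]) z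
    rwa [crd_apply, crd_apply, h3, sr_self, mul_one, Int.cast_id] at h6
  have h6 : ∀ k, (2 : ℤ) ∣ z (σ k) - z k := by
    intro k
    have h7 := congrFun (hy.symm.trans ((hw z).trans hy')) (σ k)
    simp only [Pi.add_apply, Pi.smul_apply, smul_eq_mul, h5] at h7
    push_cast at h7
    omega
  have h7 : ∀ f : Fin 4 → Fin 4, (∀ i j, cartanOf chevD4 4 (f i) (f j) = cartanOf chevD4 4 i j) →
      (∀ i, f (f (f i)) = i) → (∀ i, f i = i) ∨ (f 0 = 2 ∧ f 2 = 3) ∨ (f 0 = 3 ∧ f 3 = 2) := by decide +kernel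
  have h8 : ∀ i, σ (σ (σ i)) = i := by
    intro i
    have := pow_orderOf_eq_one σ
    rw [h1] at this
    exact congrArg (fun τ : Equiv.Perm (Fin 4) => τ i) this
  obtain ⟨p1, p2⟩ := hz.par
  refine cg_two ?_
  rcases h7 σ h2 h8 with h9 | h9 | h9
  · have : σ = 1 := Equiv.ext h9
    rw [this, orderOf_one] at h1
    omega
  · have k0 := h6 0
    have k2 := h6 2
    rw [h9.1] at k0
    rw [h9.2] at k2
    intro i
    fin_cases i <;> simp only [Fin.zero_eta, Fin.mk_one, Fin.reduceFinMk] <;> omega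
  · have k0 := h6 0
    have k3 := h6 3
    rw [h9.1] at k0
    rw [h9.2] at k3
    intro i
    fin_cases i <;> simp only [Fin.zero_eta, Fin.mk_one, Fin.reduceFinMk] <;> omega

theorem not_A3 {r : ℕ} (hr' : r.Prime) {g : Lat 4 ≃+ Lat 4} (ht : Tri g) (hr : ∀ a, Rt tD4 (g a) ↔ Rt tD4 a)
    (hcp : ∀ a c, Rt tD4 c → cp tD4 (g a) (g c) = cp tD4 a c) {φ : Lat 4 →+ ZMod r} {e : ZMod r}
    (he : ∀ a, φ (g a) = e * φ a) {j : Fin 4} (hx : Ex1 tD4 φ j) {z : V} (hl : z.length = 4)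
    (hz : al (fun c => zr 2 (dot z c.cv)) dD4.T = true) (h0 : gt z j = 0) {k : Fin 4} (h1 : gt z k = 1)
    (h2 : ∀ y : Lat 4, y j = 0 → (2 : ℤ) ∣ y 1 → (2 : ℤ) ∣ y 0 + y 2 + y 3 →
      (∀ i, (2 : ℤ) ∣ y i) ∨ ∀ i, (2 : ℤ) ∣ y i - gt z i) : False := by
  have := Fact.mk hr'
  have h3 : Zs (toF 4 z) := by
    refine tabD4.of_T (fun c h => ?_) (P := fun c => Rt tD4 c → (2 : ℤ) ∣ cp tD4 (toF 4 z) c) (fun c hc _ => ?_) |>
      fun h c hc => h c hc hc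
    · intro h4
      have h5 : Rt tD4 c := by have := h4.neg; rwa [neg_neg] at this
      rw [cp_neg_right tD4 _ h5, dvd_neg]
      exact h h5
    · rw [tabD4.cpe c hc, psi_toF hl]
      exact zr_iff.1 (al_iff.1 hz c hc)
  have h4 : g (toF 4 z) j = 0 := by
    rcases hx.res g hr he with h | h
    · rw [h.2, toF_apply, h0]
    · rw [h.2, toF_apply, h0, neg_zero]
  obtain ⟨p1, p2⟩ := (h3.map hr hcp).par
  have h5 : ¬ Cg 2 (toF 4 z) 0 := by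
    rintro ⟨y, hy⟩
    have h6 := congrFun hy k
    rw [toF_apply, h1, zero_add, Pi.smul_apply, smul_eq_mul] at h6
    push_cast at h6
    omega
  rcases h2 _ h4 p1 p2 with h6 | h6
  · obtain ⟨y, hy⟩ := cg_two h6
    exact h5 ⟨g.symm y, by rw [zero_add, ← map_zsmul, ← zero_add (_ • y), ← hy, g.symm_apply_apply]⟩
  · obtain ⟨y, hy⟩ := cg_two (z := g (toF 4 z) - toF 4 z) h6
    exact h5 (ht _ h3 ⟨y, by rw [← zero_add (_ • y), ← hy, add_sub_cancel]⟩)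

/-- the type of a Frobenius eigenvector in the triality case -/
theorem typesD4 {r : ℕ} (hr' : r.Prime) (h5 : 5 ≤ r) {p : ℕ} {φ : Lat 4 →+ ZMod r} (h0 : φ ≠ 0)
    (hK : K1 tD4 p (Psi tD4 φ)) {g : Lat 4 ≃+ Lat 4} (ht : Tri g) (hr : ∀ a, Rt tD4 (g a) ↔ Rt tD4 a)
    (hcp : ∀ a c, Rt tD4 c → cp tD4 (g a) (g c) = cp tD4 a c) {e : ZMod r} (he : ∀ a, φ (g a) = e * φ a) :
    ∃ w, Exa tD4 (cw tD4 φ w) [0, 0, 1, 1] := by
  obtain ⟨w, t, ht', h⟩ := tabD4.types tyD4 hr' h5 h0 hK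
  have h1 := tyD4' t ht'
  simp only [List.mem_cons, List.not_mem_nil, or_false] at h1
  have hr2 : ∀ a, Rt tD4 (gw tD4 g w a) ↔ Rt tD4 a := fun a => by rw [gw_apply, rt_wa, hr, rt_wa]
  have hcp2 : ∀ a c, Rt tD4 c → cp tD4 (gw tD4 g w a) (gw tD4 g w c) = cp tD4 a c := fun a c hc => by
    rw [gw_apply, gw_apply, cp_wa tD4 _ _ ((hr _).2 (hc.act w)), hcp _ _ (hc.act w), cp_wa tD4 _ _ hc]
  have he2 : ∀ a, cw tD4 φ w (gw tD4 g w a) = e * cw tD4 φ w a := fun a => by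
    rw [cw_apply, cw_apply, gw_apply, wa_inv', he]
  rcases h1 with h1 | h1 | h1 | h1 <;> rw [h1] at h
  · refine (not_A3 hr' (ht.act w) hr2 hcp2 he2 (h.ex1 (toF_uv (l := 4) 0)) (z := [0, 0, 1, 1]) rfl (by decide +kernel)
      rfl (k := 2) rfl fun y k0 k1 k2 => ?_).elim
    by_cases k : (2 : ℤ) ∣ y 2
    · left; intro i; fin_cases i <;> simp only [Fin.zero_eta, Fin.mk_one, Fin.reduceFinMk] <;> omega
    · right; intro i
      fin_cases i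
      · show (2 : ℤ) ∣ y 0 - 0; omega
      · show (2 : ℤ) ∣ y 1 - 0; omega
      · show (2 : ℤ) ∣ y 2 - 1; omega
      · show (2 : ℤ) ∣ y 3 - 1; omega
  · refine (not_A3 hr' (ht.act w) hr2 hcp2 he2 (h.ex1 (toF_uv (l := 4) 2)) (z := [1, 0, 0, 1]) rfl (by decide +kernel)
      rfl (k := 0) rfl fun y k0 k1 k2 => ?_).elim
    by_cases k : (2 : ℤ) ∣ y 0
    · left; intro i; fin_cases i <;> simp only [Fin.zero_eta, Fin.mk_one, Fin.reduceFinMk] <;> omega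
    · right; intro i
      fin_cases i
      · show (2 : ℤ) ∣ y 0 - 1; omega
      · show (2 : ℤ) ∣ y 1 - 0; omega
      · show (2 : ℤ) ∣ y 2 - 0; omega
      · show (2 : ℤ) ∣ y 3 - 1; omega
  · refine (not_A3 hr' (ht.act w) hr2 hcp2 he2 (h.ex1 (toF_uv (l := 4) 3)) (z := [1, 0, 1, 0]) rfl (by decide +kernel)
      rfl (k := 0) rfl fun y k0 k1 k2 => ?_).elim
    by_cases k : (2 : ℤ) ∣ y 0
    · left; intro i; fin_cases i <;> simp only [Fin.zero_eta, Fin.mk_one, Fin.reduceFinMk] <;> omega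
    · right; intro i
      fin_cases i
      · show (2 : ℤ) ∣ y 0 - 1; omega
      · show (2 : ℤ) ∣ y 1 - 0; omega
      · show (2 : ℤ) ∣ y 2 - 1; omega
      · show (2 : ℤ) ∣ y 3 - 0; omega
  · exact ⟨w, h⟩

theorem finD4 (p q r : ℕ) (g0 g : Lat 4 ≃+ Lat 4) (A B : Lat 4 →+ ZMod r) (h0 : IsTri g0) :
    ¬ Cmb tD4 p q r g0 g A B := by
  intro C0
  have ht := tri_of h0 C0.gr C0.root C0.gcp
  obtain ⟨w, hA⟩ := typesD4 C0.prime C0.five C0.a0 C0.k1a ht C0.root C0.gcp C0.frA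
  have C := (cm_of C0).act w
  obtain ⟨w', hx⟩ := typesD4 C.prime C.five C.x0 C.k1x (ht.act w) C.root C.gcp C.frX
  have e23 : toF 4 [0, 0, 1, 1] = sr 2 + sr 3 := by decide +kernel
  have R : RROK tD4 2 3 [(-1, -1), (-1, 0), (0, -1), (0, 1), (1, 0), (1, 1)] :=
    tabD4.rrok (by decide) (by decide +kernel)
  obtain ⟨ν, c, h1, h2⟩ := tabD4.root_mult C.prime C.five hA C.k2a (u := [2, 1, 0, 0])
    (X := [[-1, 1, 0, 0], [-1, -2, 0, 0]]) (by decide +kernel) (Bs := [[1, 2, 3, 0], [1, 2, 0, 3]])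
    (fun b hb => by
      simp only [List.mem_cons, List.not_mem_nil, or_false] at hb
      rcases hb with rfl | rfl <;> exact tabD4.span_ex C.prime C.five hA C.k2a (by decide +kernel))
    (DT := [([-1, 2, -1, -1], [0, 1, 1, 0], 6, [[1, 2, 0], [1, -4, 0], [-1, 4, 0], [-1, 2, 2]]),
      ([2, -1, 0, 0], [0, -1, -1, 0], 3, [[1, 2, 0], [1, -1, 0], [-1, 1, 0], [-1, 0, 1]]),
      ([1, 1, -1, -1], [1, 2, 1, 1], 3, [[2, -1, -1], [-1, -1, -1], [0, 2, 1], [0, 1, 2]])])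
    (Q := d4chk dD4 2 3 [(-1, -1), (-1, 0), (0, -1), (0, 1), (1, 0), (1, 1)]) (by decide +kernel)
  have h3 := hx.ex2 e23
  refine tabD4.no_A2 R C.prime C.five (hA.ex2 e23) (h2.c_ne C.b0) h2 h1 (x := wa tD4 w' (sr 0)) (y := wa tD4 w' (sr 1))
    ((mem_cw tD4).1 ⟨rt_sr tD4 0, (h3 _ (rt_sr tD4 0)).2 (by decide)⟩)
    ((mem_cw tD4).1 ⟨rt_sr tD4 1, (h3 _ (rt_sr tD4 1)).2 (by decide)⟩) ?_
  rw [cp_wa tD4 _ _ (rt_sr tD4 1), cp_sr, psi_sr]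
  decide +kernel

end Cfsg.Agent.Cam.Ex.Cb
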