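import Cfsg.Agent.Cam.Ex.Cb0

/-!
# The finite check: the root tables (helper12, generated by `tools/cam12/gen_tab.py`)
-/

set_option autoImplicit false
set_option linter.unusedVariables false
set_option linter.style.longLine false
set_option maxRecDepth 100000

namespace Cfsg.Agent.Cam.Ex.Cb

open Cfsg Cfsg.Lie

/-- the table of `G2` -/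
def dG2 : Dt where
  T := [
    ⟨[0, 1], [-1, 2], 6⟩,
    ⟨[1, 0], [2, -3], 2⟩,
    ⟨[1, 1], [-1, 3], 2⟩,
    ⟨[2, 1], [1, 0], 2⟩,
    ⟨[3, 1], [1, -1], 6⟩,
    ⟨[3, 2], [0, 1], 6⟩]
  mx := 6
  C := [[2, -3], [-1, 2]]
  H := [3, 2]

theorem chkG2 : TabChk chevG2 2 ![![2, -3], ![-3, 6]] dG2 := by
  unfold TabChk
  decide +kernel

theorem tabG2 : Tab tG2 dG2 := tab_of tG2 chkG2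

/-- the table of `D4` -/
def dD4 : Dt where
  T := [
    ⟨[0, 0, 0, 1], [0, -1, 0, 2], 2⟩,
    ⟨[0, 0, 1, 0], [0, -1, 2, 0], 2⟩,
    ⟨[0, 1, 0, 0], [-1, 2, -1, -1], 2⟩,
    ⟨[1, 0, 0, 0], [2, -1, 0, 0], 2⟩,
    ⟨[0, 1, 0, 1], [-1, 1, -1, 1], 2⟩,
    ⟨[0, 1, 1, 0], [-1, 1, 1, -1], 2⟩,
    ⟨[1, 1, 0, 0], [1, 1, -1, -1], 2⟩,
    ⟨[0, 1, 1, 1], [-1, 0, 1, 1], 2⟩,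
    ⟨[1, 1, 0, 1], [1, 0, -1, 1], 2⟩,
    ⟨[1, 1, 1, 0], [1, 0, 1, -1], 2⟩,
    ⟨[1, 1, 1, 1], [1, -1, 1, 1], 2⟩,
    ⟨[1, 2, 1, 1], [0, 1, 0, 0], 2⟩]
  mx := 2
  C := [[2, -1, 0, 0], [-1, 2, -1, -1], [0, -1, 2, 0], [0, -1, 0, 2]]
  H := [1, 2, 1, 1]

theorem chkD4 : TabChk chevD4 4 ![![2, -1, 0, 0], ![-1, 2, -1, -1], ![0, -1, 2, 0], ![0, -1, 0, 2]] dD4 := by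
  unfold TabChk
  decide +kernel

theorem tabD4 : Tab tD4 dD4 := tab_of tD4 chkD4

/-- the table of `F4` -/
def dF4 : Dt where
  T := [
    ⟨[0, 0, 0, 1], [0, 0, -1, 2], 4⟩,
    ⟨[0, 0, 1, 0], [0, -1, 2, -1], 4⟩,
    ⟨[0, 1, 0, 0], [-1, 2, -2, 0], 2⟩,
    ⟨[1, 0, 0, 0], [2, -1, 0, 0], 2⟩,
    ⟨[0, 0, 1, 1], [0, -1, 1, 1], 4⟩,
    ⟨[0, 1, 1, 0], [-1, 0, 2, -2], 2⟩,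
    ⟨[1, 1, 0, 0], [1, 1, -2, 0], 2⟩,
    ⟨[0, 1, 1, 1], [-1, 0, 0, 2], 2⟩,
    ⟨[0, 2, 1, 0], [-1, 1, 0, -1], 4⟩,
    ⟨[1, 1, 1, 0], [1, -1, 2, -2], 2⟩,
    ⟨[0, 2, 1, 1], [-1, 1, -1, 1], 4⟩,
    ⟨[1, 1, 1, 1], [1, -1, 0, 2], 2⟩,
    ⟨[1, 2, 1, 0], [0, 1, 0, -2], 2⟩,
    ⟨[0, 2, 2, 1], [-1, 0, 1, 0], 4⟩,
    ⟨[1, 2, 1, 1], [0, 1, -2, 2], 2⟩,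
    ⟨[2, 2, 1, 0], [1, 0, 0, -1], 4⟩,
    ⟨[1, 2, 2, 1], [0, -1, 2, 0], 2⟩,
    ⟨[2, 2, 1, 1], [1, 0, -1, 1], 4⟩,
    ⟨[1, 3, 2, 1], [-1, 1, 0, 0], 2⟩,
    ⟨[2, 2, 2, 1], [1, -1, 1, 0], 4⟩,
    ⟨[2, 3, 2, 1], [1, 0, 0, 0], 2⟩,
    ⟨[2, 4, 2, 1], [0, 1, -1, 0], 4⟩,
    ⟨[2, 4, 3, 1], [0, 0, 1, -1], 4⟩,
    ⟨[2, 4, 3, 2], [0, 0, 0, 1], 4⟩]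
  mx := 4
  C := [[2, -1, 0, 0], [-1, 2, -2, 0], [0, -1, 2, -1], [0, 0, -1, 2]]
  H := [2, 4, 3, 2]

theorem chkF4 : TabChk chevF4 4 ![![2, -1, 0, 0], ![-1, 2, -2, 0], ![0, -2, 4, -2], ![0, 0, -2, 4]] dF4 := by
  unfold TabChk
  decide +kernel

theorem tabF4 : Tab tF4 dF4 := tab_of tF4 chkF4

/-- the table of `E6` -/
def dE6 : Dt where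
  T := [
    ⟨[0, 0, 0, 0, 0, 1], [0, 0, 0, 0, -1, 2], 2⟩,
    ⟨[0, 0, 0, 0, 1, 0], [0, 0, 0, -1, 2, -1], 2⟩,
    ⟨[0, 0, 0, 1, 0, 0], [0, -1, -1, 2, -1, 0], 2⟩,
    ⟨[0, 0, 1, 0, 0, 0], [-1, 0, 2, -1, 0, 0], 2⟩,
    ⟨[0, 1, 0, 0, 0, 0], [0, 2, 0, -1, 0, 0], 2⟩,
    ⟨[1, 0, 0, 0, 0, 0], [2, 0, -1, 0, 0, 0], 2⟩,
    ⟨[0, 0, 0, 0, 1, 1], [0, 0, 0, -1, 1, 1], 2⟩,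
    ⟨[0, 0, 0, 1, 1, 0], [0, -1, -1, 1, 1, -1], 2⟩,
    ⟨[0, 0, 1, 1, 0, 0], [-1, -1, 1, 1, -1, 0], 2⟩,
    ⟨[0, 1, 0, 1, 0, 0], [0, 1, -1, 1, -1, 0], 2⟩,
    ⟨[1, 0, 1, 0, 0, 0], [1, 0, 1, -1, 0, 0], 2⟩,
    ⟨[0, 0, 0, 1, 1, 1], [0, -1, -1, 1, 0, 1], 2⟩,
    ⟨[0, 0, 1, 1, 1, 0], [-1, -1, 1, 0, 1, -1], 2⟩,
    ⟨[0, 1, 0, 1, 1, 0], [0, 1, -1, 0, 1, -1], 2⟩,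
    ⟨[0, 1, 1, 1, 0, 0], [-1, 1, 1, 0, -1, 0], 2⟩,
    ⟨[1, 0, 1, 1, 0, 0], [1, -1, 0, 1, -1, 0], 2⟩,
    ⟨[0, 0, 1, 1, 1, 1], [-1, -1, 1, 0, 0, 1], 2⟩,
    ⟨[0, 1, 0, 1, 1, 1], [0, 1, -1, 0, 0, 1], 2⟩,
    ⟨[0, 1, 1, 1, 1, 0], [-1, 1, 1, -1, 1, -1], 2⟩,
    ⟨[1, 0, 1, 1, 1, 0], [1, -1, 0, 0, 1, -1], 2⟩,
    ⟨[1, 1, 1, 1, 0, 0], [1, 1, 0, 0, -1, 0], 2⟩,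
    ⟨[0, 1, 1, 1, 1, 1], [-1, 1, 1, -1, 0, 1], 2⟩,
    ⟨[0, 1, 1, 2, 1, 0], [-1, 0, 0, 1, 0, -1], 2⟩,
    ⟨[1, 0, 1, 1, 1, 1], [1, -1, 0, 0, 0, 1], 2⟩,
    ⟨[1, 1, 1, 1, 1, 0], [1, 1, 0, -1, 1, -1], 2⟩,
    ⟨[0, 1, 1, 2, 1, 1], [-1, 0, 0, 1, -1, 1], 2⟩,
    ⟨[1, 1, 1, 1, 1, 1], [1, 1, 0, -1, 0, 1], 2⟩,
    ⟨[1, 1, 1, 2, 1, 0], [1, 0, -1, 1, 0, -1], 2⟩,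
    ⟨[0, 1, 1, 2, 2, 1], [-1, 0, 0, 0, 1, 0], 2⟩,
    ⟨[1, 1, 1, 2, 1, 1], [1, 0, -1, 1, -1, 1], 2⟩,
    ⟨[1, 1, 2, 2, 1, 0], [0, 0, 1, 0, 0, -1], 2⟩,
    ⟨[1, 1, 1, 2, 2, 1], [1, 0, -1, 0, 1, 0], 2⟩,
    ⟨[1, 1, 2, 2, 1, 1], [0, 0, 1, 0, -1, 1], 2⟩,
    ⟨[1, 1, 2, 2, 2, 1], [0, 0, 1, -1, 1, 0], 2⟩,
    ⟨[1, 1, 2, 3, 2, 1], [0, -1, 0, 1, 0, 0], 2⟩,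
    ⟨[1, 2, 2, 3, 2, 1], [0, 1, 0, 0, 0, 0], 2⟩]
  mx := 2
  C := [[2, 0, -1, 0, 0, 0], [0, 2, 0, -1, 0, 0], [-1, 0, 2, -1, 0, 0], [0, -1, -1, 2, -1, 0], [0, 0, 0, -1, 2, -1], [0, 0, 0, 0, -1, 2]]
  H := [1, 2, 2, 3, 2, 1]

theorem chkE6 : TabChk chevE6 6 ![![2, 0, -1, 0, 0, 0], ![0, 2, 0, -1, 0, 0], ![-1, 0, 2, -1, 0, 0], ![0, -1, -1, 2, -1, 0], ![0, 0, 0, -1, 2, -1], ![0, 0, 0, 0, -1, 2]] dE6 := by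
  unfold TabChk
  decide +kernel

theorem tabE6 : Tab tE6 dE6 := tab_of tE6 chkE6

/-- the table of `E7` -/
def dE7 : Dt where
  T := [
    ⟨[0, 0, 0, 0, 0, 0, 1], [0, 0, 0, 0, 0, -1, 2], 2⟩,
    ⟨[0, 0, 0, 0, 0, 1, 0], [0, 0, 0, 0, -1, 2, -1], 2⟩,
    ⟨[0, 0, 0, 0, 1, 0, 0], [0, 0, 0, -1, 2, -1, 0], 2⟩,
    ⟨[0, 0, 0, 1, 0, 0, 0], [0, -1, -1, 2, -1, 0, 0], 2⟩,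
    ⟨[0, 0, 1, 0, 0, 0, 0], [-1, 0, 2, -1, 0, 0, 0], 2⟩,
    ⟨[0, 1, 0, 0, 0, 0, 0], [0, 2, 0, -1, 0, 0, 0], 2⟩,
    ⟨[1, 0, 0, 0, 0, 0, 0], [2, 0, -1, 0, 0, 0, 0], 2⟩,
    ⟨[0, 0, 0, 0, 0, 1, 1], [0, 0, 0, 0, -1, 1, 1], 2⟩,
    ⟨[0, 0, 0, 0, 1, 1, 0], [0, 0, 0, -1, 1, 1, -1], 2⟩,
    ⟨[0, 0, 0, 1, 1, 0, 0], [0, -1, -1, 1, 1, -1, 0], 2⟩,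
    ⟨[0, 0, 1, 1, 0, 0, 0], [-1, -1, 1, 1, -1, 0, 0], 2⟩,
    ⟨[0, 1, 0, 1, 0, 0, 0], [0, 1, -1, 1, -1, 0, 0], 2⟩,
    ⟨[1, 0, 1, 0, 0, 0, 0], [1, 0, 1, -1, 0, 0, 0], 2⟩,
    ⟨[0, 0, 0, 0, 1, 1, 1], [0, 0, 0, -1, 1, 0, 1], 2⟩,
    ⟨[0, 0, 0, 1, 1, 1, 0], [0, -1, -1, 1, 0, 1, -1], 2⟩,
    ⟨[0, 0, 1, 1, 1, 0, 0], [-1, -1, 1, 0, 1, -1, 0], 2⟩,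
    ⟨[0, 1, 0, 1, 1, 0, 0], [0, 1, -1, 0, 1, -1, 0], 2⟩,
    ⟨[0, 1, 1, 1, 0, 0, 0], [-1, 1, 1, 0, -1, 0, 0], 2⟩,
    ⟨[1, 0, 1, 1, 0, 0, 0], [1, -1, 0, 1, -1, 0, 0], 2⟩,
    ⟨[0, 0, 0, 1, 1, 1, 1], [0, -1, -1, 1, 0, 0, 1], 2⟩,
    ⟨[0, 0, 1, 1, 1, 1, 0], [-1, -1, 1, 0, 0, 1, -1], 2⟩,
    ⟨[0, 1, 0, 1, 1, 1, 0], [0, 1, -1, 0, 0, 1, -1], 2⟩,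
    ⟨[0, 1, 1, 1, 1, 0, 0], [-1, 1, 1, -1, 1, -1, 0], 2⟩,
    ⟨[1, 0, 1, 1, 1, 0, 0], [1, -1, 0, 0, 1, -1, 0], 2⟩,
    ⟨[1, 1, 1, 1, 0, 0, 0], [1, 1, 0, 0, -1, 0, 0], 2⟩,
    ⟨[0, 0, 1, 1, 1, 1, 1], [-1, -1, 1, 0, 0, 0, 1], 2⟩,
    ⟨[0, 1, 0, 1, 1, 1, 1], [0, 1, -1, 0, 0, 0, 1], 2⟩,
    ⟨[0, 1, 1, 1, 1, 1, 0], [-1, 1, 1, -1, 0, 1, -1], 2⟩,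
    ⟨[0, 1, 1, 2, 1, 0, 0], [-1, 0, 0, 1, 0, -1, 0], 2⟩,
    ⟨[1, 0, 1, 1, 1, 1, 0], [1, -1, 0, 0, 0, 1, -1], 2⟩,
    ⟨[1, 1, 1, 1, 1, 0, 0], [1, 1, 0, -1, 1, -1, 0], 2⟩,
    ⟨[0, 1, 1, 1, 1, 1, 1], [-1, 1, 1, -1, 0, 0, 1], 2⟩,
    ⟨[0, 1, 1, 2, 1, 1, 0], [-1, 0, 0, 1, -1, 1, -1], 2⟩,
    ⟨[1, 0, 1, 1, 1, 1, 1], [1, -1, 0, 0, 0, 0, 1], 2⟩,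
    ⟨[1, 1, 1, 1, 1, 1, 0], [1, 1, 0, -1, 0, 1, -1], 2⟩,
    ⟨[1, 1, 1, 2, 1, 0, 0], [1, 0, -1, 1, 0, -1, 0], 2⟩,
    ⟨[0, 1, 1, 2, 1, 1, 1], [-1, 0, 0, 1, -1, 0, 1], 2⟩,
    ⟨[0, 1, 1, 2, 2, 1, 0], [-1, 0, 0, 0, 1, 0, -1], 2⟩,
    ⟨[1, 1, 1, 1, 1, 1, 1], [1, 1, 0, -1, 0, 0, 1], 2⟩,
    ⟨[1, 1, 1, 2, 1, 1, 0], [1, 0, -1, 1, -1, 1, -1], 2⟩,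
    ⟨[1, 1, 2, 2, 1, 0, 0], [0, 0, 1, 0, 0, -1, 0], 2⟩,
    ⟨[0, 1, 1, 2, 2, 1, 1], [-1, 0, 0, 0, 1, -1, 1], 2⟩,
    ⟨[1, 1, 1, 2, 1, 1, 1], [1, 0, -1, 1, -1, 0, 1], 2⟩,
    ⟨[1, 1, 1, 2, 2, 1, 0], [1, 0, -1, 0, 1, 0, -1], 2⟩,
    ⟨[1, 1, 2, 2, 1, 1, 0], [0, 0, 1, 0, -1, 1, -1], 2⟩,
    ⟨[0, 1, 1, 2, 2, 2, 1], [-1, 0, 0, 0, 0, 1, 0], 2⟩,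
    ⟨[1, 1, 1, 2, 2, 1, 1], [1, 0, -1, 0, 1, -1, 1], 2⟩,
    ⟨[1, 1, 2, 2, 1, 1, 1], [0, 0, 1, 0, -1, 0, 1], 2⟩,
    ⟨[1, 1, 2, 2, 2, 1, 0], [0, 0, 1, -1, 1, 0, -1], 2⟩,
    ⟨[1, 1, 1, 2, 2, 2, 1], [1, 0, -1, 0, 0, 1, 0], 2⟩,
    ⟨[1, 1, 2, 2, 2, 1, 1], [0, 0, 1, -1, 1, -1, 1], 2⟩,
    ⟨[1, 1, 2, 3, 2, 1, 0], [0, -1, 0, 1, 0, 0, -1], 2⟩,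
    ⟨[1, 1, 2, 2, 2, 2, 1], [0, 0, 1, -1, 0, 1, 0], 2⟩,
    ⟨[1, 1, 2, 3, 2, 1, 1], [0, -1, 0, 1, 0, -1, 1], 2⟩,
    ⟨[1, 2, 2, 3, 2, 1, 0], [0, 1, 0, 0, 0, 0, -1], 2⟩,
    ⟨[1, 1, 2, 3, 2, 2, 1], [0, -1, 0, 1, -1, 1, 0], 2⟩,
    ⟨[1, 2, 2, 3, 2, 1, 1], [0, 1, 0, 0, 0, -1, 1], 2⟩,
    ⟨[1, 1, 2, 3, 3, 2, 1], [0, -1, 0, 0, 1, 0, 0], 2⟩,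
    ⟨[1, 2, 2, 3, 2, 2, 1], [0, 1, 0, 0, -1, 1, 0], 2⟩,
    ⟨[1, 2, 2, 3, 3, 2, 1], [0, 1, 0, -1, 1, 0, 0], 2⟩,
    ⟨[1, 2, 2, 4, 3, 2, 1], [0, 0, -1, 1, 0, 0, 0], 2⟩,
    ⟨[1, 2, 3, 4, 3, 2, 1], [-1, 0, 1, 0, 0, 0, 0], 2⟩,
    ⟨[2, 2, 3, 4, 3, 2, 1], [1, 0, 0, 0, 0, 0, 0], 2⟩]
  mx := 2
  C := [[2, 0, -1, 0, 0, 0, 0], [0, 2, 0, -1, 0, 0, 0], [-1, 0, 2, -1, 0, 0, 0], [0, -1, -1, 2, -1, 0, 0], [0, 0, 0, -1, 2, -1, 0], [0, 0, 0, 0, -1, 2, -1], [0, 0, 0, 0, 0, -1, 2]]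
  H := [2, 2, 3, 4, 3, 2, 1]

theorem chkE7 : TabChk chevE7 7 ![![2, 0, -1, 0, 0, 0, 0], ![0, 2, 0, -1, 0, 0, 0], ![-1, 0, 2, -1, 0, 0, 0], ![0, -1, -1, 2, -1, 0, 0], ![0, 0, 0, -1, 2, -1, 0], ![0, 0, 0, 0, -1, 2, -1], ![0, 0, 0, 0, 0, -1, 2]] dE7 := by
  unfold TabChk
  decide +kernel

theorem tabE7 : Tab tE7 dE7 := tab_of tE7 chkE7

end Cfsg.Agent.Cam.Ex.Cb
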