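import Cfsg.Agent.Cam.Ex.Chi
import Cfsg.Agent.H795.RowsA

/-!
# Exceptional rows: `BoxConn` and `BoxTor` (helper70)
-/

set_option autoImplicit false
set_option linter.unusedVariables false
set_option linter.unusedSectionVars false

namespace Cfsg.Agent.Cam.Ex

open CoxeterSystem Cfsg Cfsg.Lie Subgroup
open Cfsg.Agent.ChevalleyStructure.CoxeterGeom Cfsg.Agent.ChevalleyStructure.CoxeterGeomTypes
open Cfsg.Agent.Tits.Roots Cfsg.Agent.Nodes.BNOf Cfsg.Agent.Nodes.RGDChev Cfsg.Agent.Nodes.Coroot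
open Cfsg.Agent.KFacts.RgdChevCoord Cfsg.Agent.BpExc.TorCent Cfsg.Agent.BpExc.LangFr Cfsg.Agent.BpExc.SubBN
open Cfsg.Agent.H129.TorusChar Cfsg.Agent.H795.SetTor Cfsg.Agent.H795.SetCent Cfsg.Agent.H795
open scoped commutatorElement

variable {D : ChevalleyDatum} {l : ℕ} {M : CoxeterMatrix (Fin l)} {hp : IsType D l M} {p : ℕ} [Fact p.Prime]

theorem card_WB2 : Nat.card (CoxeterMatrix.B 2).Group = 8 := S1092.result (⟨2, CoxeterMatrix.B 2⟩, 8) (by simp)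

theorem tors_of_nd (hp : IsType D l M) {r : ℕ} (h : ¬ r ∣ Nat.card M.Group) :
    ¬ r ^ 2 ∣ Nat.card M.Group ∧ Tors M.toCoxeterSystem hp.isCartan r := by
  have := finite_WW hp
  exact ⟨fun h1 => h ((dvd_pow_self r two_ne_zero).trans h1), tors_of_not_dvd h⟩

/-- the primes `r ≥ 5` are not torsion primes in rank at most seven -/
theorem tors_all (hp : IsType D l M) (hl : l ≤ 7) {r : ℕ} (hr : r.Prime) (h5 : 5 ≤ r) :
    ¬ r ^ 2 ∣ Nat.card M.Group ∧ Tors M.toCoxeterSystem hp.isCartan r := by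
  have hp' := hp
  simp only [IsType, typeList, List.mem_cons, List.not_mem_nil, or_false, Prod.mk.injEq] at hp'
  rcases hp' with ⟨rfl, h⟩ | ⟨rfl, h⟩ | ⟨rfl, h⟩ | ⟨rfl, h⟩ | ⟨rfl, h⟩ | ⟨rfl, h⟩ | ⟨rfl, h⟩
  · cases h
    exact tors_of_nd hp (by rw [RowsA.card_G2]; exact RowsA.not_dvd_12 hr h5)
  · cases h
    refine tors_of_nd hp ?_
    rw [card_WB2]
    exact fun h1 => RowsA.not_dvd_192 hr h5 (h1.trans (by norm_num))
  · cases h
    exact tors_of_nd hp (by rw [RowsA.card_D4]; exact RowsA.not_dvd_192 hr h5)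
  · cases h
    exact tors_of_nd hp (by rw [RowsA.card_F4]; exact RowsA.not_dvd_1152 hr h5)
  · cases h
    exact RowsA.torsE6 hp hr h5
  · cases h
    exact RowsA.torsE7 hp hr h5
  · cases h
    omega

/-- the stabilizer in `W` of a set of `r`-elements of the torus is generated by reflections -/
theorem mem_WW_of_ch (hp : IsType D l M) (hl : l ≤ 7) {r : ℕ} (hr : r.Prime) (h5 : 5 ≤ r) {Z : Set (YY D p)}
    (hZ : ∀ t ∈ Z, t ∈ TT D (kb p) ∧ ∃ n : ℕ, t ^ r ^ n = 1) {w : M.Group}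
    (hw : ∀ a, Rt hp a → ∀ t ∈ Z, ch hp (wa hp w a) t = ch hp a t) : w ∈ WW hp (PsiS hp Z) := by
  have := finite_WW hp
  obtain ⟨h1, h2⟩ := tors_all hp hl hr h5
  obtain ⟨m, hm, hmw⟩ := CW_le_VV (DS.Nt.tw hp p) (DS.Nt.coW hp p) (DS.Nt.chW hp p)
    (DS.Nt.sub_TL fun t ht => (hZ t ht).1) hr (fun t ht => (hZ t ht).2) h1 h2 (mem_CW.2 hw)
  rw [DS.Nt.XLe hp p] at hm
  exact DS.Ex.Tor.mem_WS (cs_psiS fun t ht => (hZ t ht).1) (mem_sup_left hm) hmw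

/-- the centralizer of a set of `r`-elements of the torus is connected -/
theorem mem_MT_of_comm (hp : IsType D l M) (hl : l ≤ 7) {r : ℕ} (hr : r.Prime) (h5 : 5 ≤ r) {Z : Set (YY D p)}
    (hfin : Z.Finite) (hZ : ∀ t ∈ Z, t ∈ TT D (kb p) ∧ ∃ n : ℕ, t ^ r ^ n = 1) {c : YY D p}
    (hc : ∀ t ∈ Z, c * t = t * c) : ∃ m ∈ MS D l p (PsiS hp Z), ∃ t ∈ TT D (kb p), c = m * t := by
  have := finite_WW hp
  obtain ⟨h1, h2⟩ := tors_all hp hl hr h5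
  have h := exists_form_MMT (DS.Nt.tw hp p) (DS.Nt.coW hp p) (DS.Nt.GGW hp p) (DS.Nt.chW hp p) hfin
    (DS.Nt.sub_TL fun t ht => (hZ t ht).1) hr (fun t ht => (hZ t ht).2) h1 h2 hc
  rw [DS.Nt.XLe hp p, DS.Nt.TLe hp p] at h
  exact h

theorem Chi.pow_eq_one {m : ℕ} [NeZero m] {ζ : kb p} (hζ : IsPrimitiveRoot ζ m) {t : YY D p} {φ : Lat l →+ ZMod m}
    (h : Chi hp ζ t φ) : t ^ m = 1 :=
  chi_sep (hp := hp) (pow_mem h.1 m) (one_mem _) fun a ha => by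
    rw [ch_pow ha h.1, h.2 a ha, ← pow_mul, mul_comm, pow_mul, hζ.pow_eq_one, one_pow, ch_one ha]

/-- **`BoxConn`.** -/
theorem boxConn : BoxConn := by
  intro D l M hp hl r hr h5 Φ w hw
  have : Fact (Nat.Prime 2) := ⟨Nat.prime_two⟩
  have : NeZero r := ⟨hr.ne_zero⟩
  obtain ⟨ζ, hζ⟩ := exists_zeta 2 (m := r) ((Nat.coprime_primes hr Nat.prime_two).2 (by omega))
  have h1 := mem_WW_of_ch (p := 2) hp hl hr h5 (Z := {t | ∃ φ ∈ Φ, Chi hp ζ t φ}) (w := w)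
    (by
      rintro t ⟨φ, -, h⟩
      exact ⟨h.1, 1, by rw [pow_one]; exact h.pow_eq_one hζ⟩)
    (by
      rintro a ha t ⟨φ, hφ, h⟩
      rw [h.2 _ (ha.wa' w), h.2 a ha, hw φ hφ a])
  have h2 : PsiS hp {t : YY D 2 | ∃ φ ∈ Φ, Chi hp ζ t φ} = {a | Rt hp a ∧ ∀ φ ∈ Φ, φ a = 0} := by
    ext a
    constructor
    · rintro ⟨ha, h3⟩
      refine ⟨ha, fun φ hφ => ?_⟩
      obtain ⟨t, ht⟩ := chi_sur hp hζ φ
      refine (zeta_eq_one hζ).1 ?_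
      rw [← ht.2 a ha]
      exact h3 t ⟨φ, hφ, ht⟩
    · rintro ⟨ha, h3⟩
      refine ⟨ha, ?_⟩
      rintro t ⟨φ, hφ, h⟩
      rw [h.2 a ha, h3 φ hφ, ZMod.val_zero, pow_zero]
  rwa [h2] at h1

variable {d : ℕ} {g0 : Lat l ≃+ Lat l} {L : Type} [Group L]

/-- a finite family of fixed points conjugate into the torus lies in the torus of a conjugate frame -/
theorem Frame.exists_rp (E : Frame hp p d g0 L) {ι : Type*} [Finite ι] {x : ι → YY D p} (hx : ∀ i, E.F (x i) = x i)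
    {g : YY D p} (hg : ∀ i, g * x i * g⁻¹ ∈ TT D (kb p)) :
    ∃ (z : YY D p) (w : M.Group), DS.Nt.RP hp p w (z⁻¹ * E.F z) ∧ ∀ i, z⁻¹ * x i * z = g * x i * g⁻¹ := by
  obtain ⟨m, hm, w, k, hk, hks, e⟩ := DS.Nt.form₂ hp (s := fun i => E.F (g * x i * g⁻¹))
    (t := fun i => g * x i * g⁻¹) (fun i => (E.fr.tor _).2 (hg i)) hg (c := g * (E.F g)⁻¹) (fun i => by
      rw [map_mul, map_mul, map_inv, hx]
      group)
  have hτ : IsFrob p E.e (MulAut.conj k * E.F) := E.frob.conj_mul k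
  have Fτ := hk.fr.mul E.fr
  have hfix : ∀ i, (MulAut.conj k * E.F) (g * x i * g⁻¹) = g * x i * g⁻¹ := fun i => by
    show k * E.F (g * x i * g⁻¹) * k⁻¹ = _
    rw [hks i, mul_inv_cancel_right]
  obtain ⟨y, hy, hmy⟩ := lang_fr hp M.toCoxeterSystem E.he hτ Fτ
    (S := PsiS hp (Set.range fun i => g * x i * g⁻¹)) (fun a ha => ha.1)
    (fun a ha => ⟨(Fτ.root a).2 ha.1, by
      rintro _ ⟨i, rfl⟩
      have h1 := ch_sigma hp M.toCoxeterSystem hτ Fτ ha.1 (hg i)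
      rw [hfix i, ha.2 _ ⟨i, rfl⟩, one_pow] at h1
      exact h1⟩) hm
  refine ⟨g⁻¹ * y⁻¹, w, ?_, fun i => ?_⟩
  · have h1 : (g⁻¹ * y⁻¹)⁻¹ * E.F (g⁻¹ * y⁻¹) = k := by
      have h2 : m = y⁻¹ * (k * E.F y * k⁻¹) := hmy
      have h3 : (g⁻¹ * y⁻¹)⁻¹ * E.F (g⁻¹ * y⁻¹) = y * (g * (E.F g)⁻¹) * (E.F y)⁻¹ := by
        rw [map_mul, map_inv, map_inv]
        group
      rw [h3, e, h2]
      group
    rw [h1]
    exact hk
  · have h1 : y * (g * x i * g⁻¹) = g * x i * g⁻¹ * y :=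
      DS.Nt.Mz_comm (hp := hp) (Z := Set.range fun i => g * x i * g⁻¹) (by rintro _ ⟨i, rfl⟩; exact hg i) hy ⟨i, rfl⟩
    calc (g⁻¹ * y⁻¹)⁻¹ * x i * (g⁻¹ * y⁻¹) = y * (g * x i * g⁻¹) * y⁻¹ := by group
      _ = _ := by rw [h1, mul_inv_cancel_right]

/-- a finite subset of `L` conjugate into the torus lies in the torus of a conjugate frame -/
theorem Frame.exists_cj (E : Frame hp p d g0 L) {Q : Set L} (hQ : Q.Finite) {g : YY D p}
    (hg : ∀ x ∈ Q, g * E.ι x * g⁻¹ ∈ TT D (kb p)) :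
    ∃ E' : Frame hp p d g0 L, E.Cj E' ∧ ∀ x ∈ Q, E'.ι x = g * E.ι x * g⁻¹ := by
  have := hQ.to_subtype
  obtain ⟨z, w, h, h1⟩ := E.exists_rp (ι := Q) (x := fun x => E.ι x) (fun x => E.fix x) (fun x => hg x x.2)
  exact ⟨E.move z w h, E.cj_move z w h, fun x hx => by rw [E.move_ι]; exact h1 ⟨x, hx⟩⟩

/-- finite abelian `r`-subgroups are conjugate into the torus -/
theorem exists_toral (hp : IsType D l M) (hl : l ≤ 7) {r : ℕ} (hr : r.Prime) (h5 : 5 ≤ r) (hrp : r ≠ p)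
    {S : Subgroup (YY D p)} [Finite S] (hS : IsPGroup r S) (hab : ∀ a ∈ S, ∀ b ∈ S, a * b = b * a) :
    ∃ g : YY D p, ∀ x ∈ S, g * x * g⁻¹ ∈ TT D (kb p) := by
  obtain ⟨h1, h2⟩ := tors_all hp hl hr h5
  exact TorSub.exists_toral_abelian hp p (H469.Exc.locFin p) hr hrp h1 h2 hS hab

/-- abelian `r`-subgroups of `L` are toral in a conjugate frame -/
theorem Frame.exists_tor [Finite L] (E : Frame hp p d g0 L) (hl : l ≤ 7) {r : ℕ} (hr : r.Prime) (h5 : 5 ≤ r)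
    (hrp : r ≠ p) {Q : Subgroup L} (hQ : IsPGroup r Q) (hab : ∀ x ∈ Q, ∀ y ∈ Q, x * y = y * x) :
    ∃ E' : Frame hp p d g0 L, E.Cj E' ∧ ∀ x ∈ Q, E'.ι x ∈ TT D (kb p) := by
  have hfin : Finite (Q.map E.ι) := Finite.of_surjective _ (E.ι.subgroupMap_surjective Q)
  obtain ⟨g, hg⟩ := exists_toral hp hl hr h5 hrp (S := Q.map E.ι) (hQ.map E.ι) (by
    rintro _ ⟨x, hx, rfl⟩ _ ⟨y, hy, rfl⟩
    rw [← map_mul, ← map_mul, hab x hx y hy])
  obtain ⟨E', h1, h2⟩ := E.exists_cj (Q := Q) (Set.toFinite _) (g := g) fun x hx => hg _ ⟨x, hx, rfl⟩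
  exact ⟨E', h1, fun x hx => by rw [h2 x hx]; exact hg _ ⟨x, hx, rfl⟩⟩

/-- **`BoxTor`.** -/
theorem boxTor : BoxTor := by
  intro D l M hp hl p _ d g0 L _ _ E r hr h5 hrp Q hQ hab
  exact E.exists_tor hl hr h5 hrp (fun x => ⟨1, Subtype.ext (by rw [pow_one]; exact hQ x x.2)⟩) hab

end Cfsg.Agent.Cam.Ex
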