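import Cfsg.Agent.Cam.Ex.End1
import Cfsg.Agent.Cam.Ex.IfaceE
import Cfsg.Agent.Cam.Ex.E2A

/-!
# S3689, S3690, `E₇` in characteristic two: root elements (helper53)
-/

set_option autoImplicit false
set_option linter.unusedVariables false
set_option linter.unusedSectionVars false
set_option linter.unusedSimpArgs false

namespace Cfsg.Agent.Cam.Ex.E2

open CoxeterSystem Cfsg Cfsg.Lie Subgroup
open Cfsg.Agent.ChevalleyStructure.CoxeterGeom Cfsg.Agent.ChevalleyStructure.CoxeterGeomTypes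
open Cfsg.Agent.Tits.Roots Cfsg.Agent.Nodes.BNOf Cfsg.Agent.Nodes.RGDChev Cfsg.Agent.Nodes.Coroot
open Cfsg.Agent.KFacts.RgdChevCoord Cfsg.Agent.BpExc.TorCent Cfsg.Agent.BpExc.LangFr
open Cfsg.Agent.Cam.Spor Cfsg.Agent.Cam.Ex.S2 Cfsg.Agent.Cam.Ex.En
open Cfsg.Agent.ChevalleyStructure.SL2Hom (up lo)
open Cfsg.Agent.Nodes.RGDFoldSL (hS wS)
open Cfsg.Agent.DS.Nt (RP)
open scoped commutatorElement

section mat

variable {k : Type*} [Field k]

/-- diagonalization -/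
theorem exists_diag [IsAlgClosed k] {j : SL k} (h : tr j ^ 2 ≠ 4) :
    ∃ (κ : SL k) (μ : k), μ ≠ 0 ∧ κ * j * κ⁻¹ = hS μ := by
  have hd := det_e j
  obtain ⟨x, hx⟩ := IsAlgClosed.exists_root (Polynomial.X ^ 2 - Polynomial.C (tr j) * Polynomial.X + 1 : Polynomial k) (by
    have : (Polynomial.X ^ 2 - Polynomial.C (tr j) * Polynomial.X + 1 : Polynomial k).degree = 2 := by
      compute_degree!
    rw [this]; norm_num)
  simp only [Polynomial.IsRoot.def, Polynomial.eval_add, Polynomial.eval_sub, Polynomial.eval_pow, Polynomial.eval_X,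
    Polynomial.eval_mul, Polynomial.eval_C, Polynomial.eval_one] at hx
  have hx0 : x ≠ 0 := by
    rintro rfl
    simp at hx
  obtain ⟨y, hy⟩ : ∃ y, x⁻¹ = y := ⟨_, rfl⟩
  have hxy : x * y = 1 := hy ▸ mul_inv_cancel₀ hx0
  have hs : x + y = j.1 0 0 + j.1 1 1 := mul_left_cancel₀ hx0 (by rw [tr] at hx; linear_combination hx + hxy)
  have hne : y - x ≠ 0 := fun h0 => h (by
    rw [tr, ← hs]
    linear_combination (y - x) * h0 + 4 * hxy)
  by_cases hb : j.1 0 1 = 0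
  · by_cases hc : j.1 1 0 = 0
    · have ha : j.1 0 0 ≠ 0 := fun h0 => by rw [h0, hb] at hd; simp at hd
      refine ⟨1, j.1 0 0, ha, ?_⟩
      rw [one_mul, inv_one, mul_one]
      refine ext4 (hS00 ha).symm (hb.trans (hS01 ha).symm) (hc.trans (hS10 ha).symm) ?_
      rw [hS11 ha]
      rw [hb, zero_mul, sub_zero] at hd
      exact (inv_eq_of_mul_eq_one_right hd).symm
    · obtain ⟨e, he⟩ : ∃ e, (j.1 1 0 * (x - y)) * e = 1 :=
        ⟨_, mul_inv_cancel₀ (mul_ne_zero hc fun h0 => hne (by linear_combination -h0))⟩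
      let P : SL k := ⟨!![x - j.1 1 1, (y - j.1 1 1) * e; j.1 1 0, j.1 1 0 * e], by
        rw [Matrix.det_fin_two_of]; linear_combination he⟩
      have p00 : P.1 0 0 = x - j.1 1 1 := rfl
      have p01 : P.1 0 1 = (y - j.1 1 1) * e := rfl
      have p10 : P.1 1 0 = j.1 1 0 := rfl
      have p11 : P.1 1 1 = j.1 1 0 * e := rfl
      refine ⟨P⁻¹, x, hx0, ?_⟩
      rw [inv_inv, mul_assoc, inv_mul_eq_iff_eq_mul]
      apply ext4 <;> simp only [mul_e, p00, p01, p10, p11, hS00 hx0, hS01 hx0, hS10 hx0, hS11 hx0, hy]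
      · linear_combination (-1 : k) * hd - x * hs + hxy
      · linear_combination (-e) * hd - y * e * hs + e * hxy
      · ring
      · ring
  · obtain ⟨e, he⟩ : ∃ e, (j.1 0 1 * (y - x)) * e = 1 := ⟨_, mul_inv_cancel₀ (mul_ne_zero hb hne)⟩
    let P : SL k := ⟨!![j.1 0 1, j.1 0 1 * e; x - j.1 0 0, (y - j.1 0 0) * e], by
      rw [Matrix.det_fin_two_of]; linear_combination he⟩
    have p00 : P.1 0 0 = j.1 0 1 := rfl
    have p01 : P.1 0 1 = j.1 0 1 * e := rfl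
    have p10 : P.1 1 0 = x - j.1 0 0 := rfl
    have p11 : P.1 1 1 = (y - j.1 0 0) * e := rfl
    refine ⟨P⁻¹, x, hx0, ?_⟩
    rw [inv_inv, mul_assoc, inv_mul_eq_iff_eq_mul]
    apply ext4 <;> simp only [mul_e, p00, p01, p10, p11, hS00 hx0, hS01 hx0, hS10 hx0, hS11 hx0, hy]
    · ring
    · ring
    · linear_combination (-1 : k) * hd - x * hs + hxy
    · linear_combination (-e) * hd - y * e * hs + e * hxy

theorem hS_one : (hS 1 : SL k) = 1 := by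
  have h1 : (1 : k) ≠ 0 := one_ne_zero
  apply ext4 <;> simp only [hS00 h1, hS01 h1, hS10 h1, hS11 h1, one00, one01, one10, one11, inv_one]

variable [CharP k 2]

theorem two_eq : (2 : k) = 0 := CharP.ofNat_eq_zero k 2

theorem eq_one_of_sq {x : k} (h : x * x = 1) : x = 1 := by
  have : (x - 1) ^ 2 = 0 := by linear_combination h + (1 - x) * two_eq (k := k)
  exact sub_eq_zero.1 (pow_eq_zero_iff two_ne_zero |>.1 this)

theorem center_eq_one {z : SL k} (hz : z ∈ center (SL k)) : z = 1 := eq_one_of_center hz (eq_one_of_sq (center_sq hz))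

theorem sq_of_tr {j : SL k} (h : tr j ^ 2 = 4) : j * j = 1 := by
  have h2 := two_eq (k := k)
  have h0 : j.1 0 0 + j.1 1 1 = 0 := by
    have : tr j ^ 2 = 0 := by linear_combination h + 2 * h2
    exact pow_eq_zero_iff two_ne_zero |>.1 this
  have hd := det_e j
  apply ext4 <;> simp only [mul_e, one00, one01, one10, one11]
  · linear_combination (j.1 0 0) * h0 - hd - h2
  · linear_combination (j.1 0 1) * h0
  · linear_combination (j.1 1 0) * h0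
  · linear_combination (j.1 1 1) * h0 - hd - h2

theorem tr_up_lo {s t : k} (hs : s ≠ 0) (ht : t ≠ 0) : tr (up s * lo t : SL k) ^ 2 ≠ 4 := by
  have h2 := two_eq (k := k)
  simp only [tr, mul_e, up00, up01, up10, up11, lo00, lo01, lo10, lo11]
  intro h
  have : (s * t) ^ 2 = 0 := by linear_combination h - 2 * (s * t) * h2
  exact mul_ne_zero hs ht (pow_eq_zero_iff two_ne_zero |>.1 this)

theorem eq_of_comm_up_lo {s t s' t' : k} (hs : s ≠ 0) (hs' : s' ≠ 0) (ht : t ≠ 0)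
    (h : (up s * lo t * (up s' * lo t') : SL k) = up s' * lo t' * (up s * lo t)) : s = s' := by
  have a1 := congrArg (fun x : SL k => x.1 0 0) h
  have a2 := congrArg (fun x : SL k => x.1 0 1) h
  simp only [mul_e, up00, up01, up10, up11, lo00, lo01, lo10, lo11] at a1 a2
  have h1 : t = t' := mul_left_cancel₀ (mul_ne_zero hs hs') (by linear_combination a2)
  subst h1
  exact mul_right_cancel₀ ht (by linear_combination a1)

end mat

/-- the ambient group -/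
abbrev Y7 : Type := YY chevE7 2

/-- the torus -/
noncomputable abbrev T7 : Subgroup Y7 := TT chevE7 (kb 2)

variable {b : Lat 7} (hb : Rt tE7 b)

theorem sl_inj : Function.Injective (sl 2 hb) :=
  (injective_iff_map_eq_one _).2 fun g hg => center_eq_one (sl_ck hb g hg)

theorem eq_one_of_cz {y : Y7} (hy : y ∈ (sl 2 hb).range) (h : Cz (sl 2 hb) y) : y = 1 := by
  obtain ⟨j, rfl⟩ := hy
  rw [center_eq_one ((sl_ck hb).center_of_cz (DS.Nt.JL.Inn.self j) h), map_one]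

theorem tor_sl {t : Y7} (ht : t ∈ T7) (h : t ∈ (sl 2 hb).range) : ∃ μ : kb 2, μ ≠ 0 ∧ t = sl 2 hb (hS μ) := by
  obtain ⟨j, rfl⟩ := h
  obtain ⟨a, ha, -, h1⟩ := inn_T hb ht
  have h2 := center_eq_one ((sl_ck hb).inn_unique (DS.Nt.JL.Inn.self j) h1)
  exact ⟨a, ha, by rw [inv_mul_eq_one.1 h2]⟩

theorem psiS_h {μ : kb 2} (h0 : μ ≠ 0) (h1 : μ ≠ 1) : PsiS tE7 {sl 2 hb (hS μ)} = Ort b := by
  ext a
  refine and_congr_right fun ha => ?_
  simp only [Set.mem_singleton_iff, forall_eq]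
  rw [ch_sl_hS hb h0 ha]
  refine ⟨fun h => ?_, fun h => by rw [h, zpow_zero]⟩
  have h2 : μ ^ (2 : ℤ) ≠ 1 := fun h3 => h1 (eq_one_of_sq (by rwa [zpow_two] at h3))
  by_cases e1 : a = b
  · rw [e1, cp_self hb] at h
    exact absurd h h2
  by_cases e2 : a = -b
  · rw [e2, cp_neg _ hb, cp_self hb, zpow_neg, inv_eq_one] at h
    exact absurd h h2
  have h3 := abs_le.1 (abs_cp ha hb e1 e2)
  obtain h4 | h4 | h4 : cp tE7 a b = -1 ∨ cp tE7 a b = 0 ∨ cp tE7 a b = 1 := by omega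
  · rw [h4, zpow_neg_one, inv_eq_one] at h
    exact absurd h h1
  · exact h4
  · rw [h4, zpow_one] at h
    exact absurd h h1

variable {L : Type} [Group L]

/-- frames of type `E₇` in characteristic two -/
abbrev F7 (L : Type) [Group L] : Type := Frame tE7 2 1 (sg 7 1) L

theorem g_psiS (E : F7 L) {Q : Set Y7} (hQ : ∀ t ∈ Q, t ∈ T7 ∧ E.F t = t) (a : Lat 7) :
    E.g a ∈ PsiS tE7 Q ↔ a ∈ PsiS tE7 Q := by
  refine ⟨fun h => ⟨(E.fr.root a).1 h.1, fun t ht => ?_⟩, fun h => ⟨(E.fr.root a).2 h.1, fun t ht => ?_⟩⟩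
  · have h1 := boxChi.frob _ _ _ tE7 2 1 _ L E t (hQ t ht).1 a ((E.fr.root a).1 h.1)
    rw [(hQ t ht).2, h.2 t ht, Frame.q] at h1
    have h2 : (ch tE7 a t - 1) ^ 2 ^ E.e = 0 := by rw [sub_pow_char_pow, ← h1, one_pow, sub_self]
    exact sub_eq_zero.1 (pow_eq_zero_iff (by positivity) |>.1 h2)
  · have h1 := boxChi.frob _ _ _ tE7 2 1 _ L E t (hQ t ht).1 a h.1
    rwa [(hQ t ht).2, h.2 t ht, one_pow] at h1

theorem g_pm (re : BoxRE) (E : F7 L) {μ : kb 2} (h0 : μ ≠ 0) (h1 : μ ≠ 1) (hF : sl 2 hb (hS μ) ∈ E.ι.range) :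
    E.g b = b ∨ E.g b = -b := by
  refine re.perp b hb _ ((E.fr.root b).2 hb) fun a ha h => ?_
  have h2 := g_psiS E (Q := {sl 2 hb (hS μ)}) (by
    rintro _ rfl
    obtain ⟨x, hx⟩ := hF
    exact ⟨sl_hS_mem hb h0, by rw [← hx, E.fix]⟩) (E.g.symm a)
  rw [psiS_h hb h0 h1, AddEquiv.apply_symm_apply] at h2
  have h3 := E.gcp (E.g.symm a) b hb
  rw [AddEquiv.apply_symm_apply] at h3
  rw [h3]
  exact (h2.1 ⟨ha, h⟩).2

theorem mem_range (E : F7 L) {y : Y7} (h : E.F y = y) : y ∈ E.ι.range := by simpa using E.idx y h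

theorem cj_q {E E' : F7 L} (h : E.Cj E') : E'.q = E.q := by rw [Frame.q, Frame.q, h.1]

variable [Finite L] {U : Type} [Group U] [Finite U] {τ α β : U →* L} {R R' : Subgroup L}

/-- no non-trivial element of `T` is conjugate into the torus of a root `SL₂` -/
theorem not_tor (re : BoxRE) (p1 : BoxP1) (E : F7 L) (hq : 4 ≤ E.q) (c : Core τ α β R R') {w : L} (hw : w ∈ τ.range)
    (hw1 : w ≠ 1) {z : Y7} {μ : kb 2} (h0 : μ ≠ 0) (h : z * E.ι w * z⁻¹ = sl 2 hb (hS μ)) : False := by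
  obtain ⟨r, hr, hd⟩ := Nat.exists_prime_and_dvd (n := orderOf w) (fun h1 => hw1 (orderOf_eq_one_iff.1 h1))
  obtain ⟨m, hm⟩ := hd
  have ho : orderOf (w ^ m) = r := by
    have h1 : 0 < orderOf w := orderOf_pos w
    have h2 : m ≠ 0 := by rintro rfl; omega
    rw [orderOf_pow' w h2, hm, Nat.gcd_mul_left_left, Nat.mul_div_cancel _ (Nat.pos_of_ne_zero h2)]
  have h1 : z * E.ι (w ^ m) * z⁻¹ = sl 2 hb (hS μ) ^ m := by rw [map_pow, ← conj_pow, h]
  have h2 : sl 2 hb (hS μ) ^ m ∈ T7 := pow_mem (sl_hS_mem hb h0) m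
  obtain ⟨ν, hν, h3⟩ := tor_sl hb h2 (pow_mem (MonoidHom.mem_range.2 ⟨_, rfl⟩) m)
  obtain ⟨E', hE, h4⟩ := E.exists_cj (Q := {w ^ m}) (Set.finite_singleton _) (g := z) (by rintro _ rfl; rwa [h1])
  have h5 : E'.ι (w ^ m) = sl 2 hb (hS ν) := by rw [h4 _ rfl, h1, h3]
  have hν1 : ν ≠ 1 := by
    intro h6
    have h7 : E'.ι (w ^ m) = E'.ι 1 := by rw [h5, h6, hS_one, map_one, map_one]
    rw [E'.inj h7, orderOf_one] at ho
    exact hr.one_lt.ne ho
  refine p1 L E' U τ α β R R' c b hb (g_pm hb re E' hν hν1 ⟨_, h5⟩) (by rwa [cj_q hE]) ((cen_iff E' hb).2 fun y hy => ?_)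
  refine cz_MS_ort hb ?_
  rw [← psiS_h hb hν hν1]
  refine E'.perf_le hr ?_ c.pair.perfect ?_ hy
  · rintro _ rfl
    exact ⟨sl_hS_mem hb hν, by rw [← h5, ← map_pow, ← ho, pow_orderOf_eq_one, map_one]⟩
  · rintro _ rfl y hy
    obtain ⟨v, rfl⟩ := hw
    rw [← h5, ← map_mul, ← map_mul, ← map_pow, c.pair.comm _ y hy]

theorem pgroup_of {E : F7 L} {z : Y7} {S : Set L} {P : Subgroup Y7} (hP : IsPGroup 2 P)
    (h : ∀ x ∈ S, z * E.ι x * z⁻¹ ∈ P) : IsPGroup 2 (closure S) := by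
  refine (hP.comap_of_injective ((MulAut.conj z).toMonoidHom.comp E.ι) ((MulAut.conj z).injective.comp E.inj)).to_le ?_
  rw [closure_le]
  exact h

/-- **Lemma A**: a root element normalizing `T` centralizes `T` -/
theorem lemA (re : BoxRE) (p1 : BoxP1) (E : F7 L) (hq : 4 ≤ E.q) (c : Core τ α β R R') {u : L} {δ : Lat 7}
    (hδ : Rt tE7 δ) (hu : E.ι u ∈ XR chevE7 7 2 δ) (hn : u ∈ normalizer (τ.range : Set L)) :
    ∀ t ∈ τ.range, u * t = t * u := by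
  by_contra hc
  have hu1 : u ≠ 1 := by
    rintro rfl
    exact hc fun t _ => by rw [one_mul, mul_one]
  obtain ⟨t, ht, h2⟩ := exists_pair (p := 2) (range_simple c.simple c.pair.inj) (range_noncomm c.noncomm c.pair.inj) hn hc
  rcases re.pair δ hδ (E.ι t) with h | ⟨z, b, hb, h3, h4⟩
  · refine h2 (pgroup_of (E := E) (z := 1) h ?_)
    rintro _ (rfl | rfl)
    · rw [one_mul, inv_one, mul_one]
      exact mem_sup_left hu
    · rw [one_mul, inv_one, mul_one, map_mul, map_mul, map_inv]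
      exact mem_sup_right ⟨_, hu, rfl⟩
  obtain ⟨s, hs⟩ := (mem_XR hb).1 (h3 _ hu)
  obtain ⟨s', hs'⟩ := (mem_XR hb.neg').1 (h4 _ hu)
  have hι : E.ι u ≠ 1 := fun h => hu1 (E.inj (h.trans (map_one _).symm))
  have n1 : s ≠ 0 := by
    rintro rfl
    rw [xc_zero hb] at hs
    exact hι (by simpa using hs.symm)
  have n2 : s' ≠ 0 := by
    rintro rfl
    rw [xc_zero hb.neg'] at hs'
    exact hι (by simpa using hs'.symm)
  have hu2 : u * u = 1 := by
    obtain ⟨x, hx⟩ := (mem_XR hδ).1 hu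
    exact E.inj (by rw [map_mul, map_one, ← hx, ← pow_two, xc_pow_p hδ])
  obtain ⟨κ, μ, hμ, e⟩ := exists_diag (tr_up_lo n1 n2)
  have e1 : z * E.ι (u * (t * u * t⁻¹)) * z⁻¹ = sl 2 hb (up s * lo s') := by
    rw [map_mul (sl 2 hb), sl_up, sl_lo, hs, hs', map_mul, map_mul, map_mul, map_inv]; group
  refine not_tor hb re p1 E hq c (w := u * (t * u * t⁻¹)) ?_ (fun h0 => ?_) (z := sl 2 hb κ * z) hμ ?_
  · have h5 := mul_mem (conj_mem_of_norm hn ht) (inv_mem ht)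
    rwa [inv_eq_of_mul_eq_one_right hu2, mul_assoc, mul_assoc, ← mul_assoc t] at h5
  · rw [h0, map_one, mul_one, mul_inv_cancel, ← map_one (sl 2 hb)] at e1
    refine tr_up_lo n1 n2 ?_
    rw [← sl_inj hb e1, tr, one00, one11]
    norm_num
  · rw [← e, map_mul (sl 2 hb), map_mul (sl 2 hb), map_inv, ← e1]; group

/-- Lemma A for the images of `α U` -/
theorem lemA' (re : BoxRE) (p1 : BoxP1) (E : F7 L) (hq : 4 ≤ E.q) (c : Core τ α β R R') (θ : MulAut L) {u : L}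
    {δ : Lat 7} (hδ : Rt tE7 δ) (hu : E.ι u ∈ XR chevE7 7 2 δ)
    (hn : u ∈ normalizer ((α.range.map θ.toMonoidHom : Subgroup L) : Set L)) :
    ∀ t ∈ α.range.map θ.toMonoidHom, u * t = t * u := by
  obtain ⟨θ₁, h₁⟩ := c.aconj
  have h2 : (θ.toMonoidHom.comp (θ₁.toMonoidHom.comp τ)).range = α.range.map θ.toMonoidHom := by
    rw [range_comp_equiv, range_comp_equiv, h₁]
  rw [← h2] at hn ⊢
  exact lemA re p1 E hq ((c.map θ₁).map θ) hδ hu hn

/-- **Lemma B**: two root elements normalizing `α U R'` -/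
theorem lemB (re : BoxRE) (p1 : BoxP1) (E : F7 L) (hq : 4 ≤ E.q) (c : Core τ α β R R') {u₁ u₂ : L} {δ : Lat 7}
    (hδ : Rt tE7 δ) (h₁ : E.ι u₁ ∈ XR chevE7 7 2 δ) (h₂ : E.ι u₂ ∈ XR chevE7 7 2 δ) (n₁ : u₁ ≠ 1) (n₂ : u₂ ≠ 1)
    (n₁₂ : u₁ ≠ u₂) (m₁ : u₁ ∈ normalizer ((α.range ⊔ R' : Subgroup L) : Set L))
    (m₂ : u₂ ∈ normalizer ((α.range ⊔ R' : Subgroup L) : Set L)) :
    ∀ a ∈ α.range, ∀ x ∈ XR chevE7 7 2 δ, E.ι a * x = x * E.ι a := by
  have key : ∀ u : L, E.ι u ∈ XR chevE7 7 2 δ → u ≠ 1 → u ∈ normalizer (α.range : Set L) →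
      ∀ a ∈ α.range, ∀ x ∈ XR chevE7 7 2 δ, E.ι a * x = x * E.ι a := fun u hu h1 hn a ha => by
    have h2 := lemA' re p1 E hq c 1 hδ hu (by rwa [stab_one]) a (by rwa [stab_one])
    exact re.cent δ hδ _ hu (fun h => h1 (E.inj (h.trans (map_one _).symm))) _ (by rw [← map_mul, ← h2, map_mul])
  rcases norm_or_comm c.simple c.pair' m₁ with k₁ | k₁
  · exact key u₁ h₁ n₁ k₁
  rcases norm_or_comm c.simple c.pair' m₂ with k₂ | k₂
  · exact key u₂ h₂ n₂ k₂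
  rcases norm_or_comm c.simple c.pair' (mul_mem (inv_mem m₁) m₂) with k₃ | k₃
  · exact key _ (by rw [map_mul, map_inv]; exact mul_mem (inv_mem h₁) h₂) (fun h => n₁₂ (inv_mul_eq_one.1 h)) k₃
  exfalso
  obtain ⟨v, hv⟩ := exists_not_two c.simple c.noncomm
  have ha : α v ∈ α.range := ⟨v, rfl⟩
  have sq : ∀ u : L, E.ι u ∈ XR chevE7 7 2 δ → u⁻¹ = u := fun u hu => by
    obtain ⟨x, hx⟩ := (mem_XR hδ).1 hu
    exact inv_eq_of_mul_eq_one_right (E.inj (by rw [map_mul, map_one, ← hx, ← pow_two, xc_pow_p hδ]))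
  have w : ∀ u : L, E.ι u ∈ XR chevE7 7 2 δ → u * (α v * u * (α v)⁻¹) = u * α v * u⁻¹ * (α v)⁻¹ := fun u hu => by
    rw [sq u hu]; group
  rcases re.pair δ hδ (E.ι (α v)) with h | ⟨z, b, hb, h3, h4⟩
  · have h2 : IsPGroup 2 (closure {u₁, α v * u₁ * (α v)⁻¹} : Subgroup L) := by
      refine pgroup_of (E := E) (z := 1) h ?_
      rintro _ (rfl | rfl)
      · rw [one_mul, inv_one, mul_one]
        exact mem_sup_left h₁
      · rw [one_mul, inv_one, mul_one, map_mul, map_mul, map_inv]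
        exact mem_sup_right ⟨_, h₁, rfl⟩
    obtain ⟨k, hk⟩ := h2 ⟨u₁ * (α v * u₁ * (α v)⁻¹), mul_mem (subset_closure (Or.inl rfl)) (subset_closure (Or.inr rfl))⟩
    have h3 : (u₁ * α v * u₁⁻¹ * (α v)⁻¹) ^ 2 ^ k = 1 := by
      rw [← w u₁ h₁]
      exact congrArg Subtype.val hk
    have h4 : Commute (u₁ * α v * u₁⁻¹) (α v)⁻¹ := k₁ _ ha _ (inv_mem ha)
    rw [h4.mul_pow, conj_pow, inv_pow, mul_inv_eq_one, ← map_pow] at h3
    refine hv k (eq_one_of_comm c.simple c.noncomm fun x => c.pair'.inj ?_)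
    rw [map_mul, map_mul, ← h3]
    exact k₁ _ ⟨_, rfl⟩ _ ⟨x, rfl⟩
  have co : ∀ u : L, E.ι u ∈ XR chevE7 7 2 δ → u ≠ 1 → ∃ s t : kb 2, s ≠ 0 ∧ t ≠ 0 ∧ xc tE7 b s = z * E.ι u * z⁻¹ ∧
      z * E.ι (u * α v * u⁻¹ * (α v)⁻¹) * z⁻¹ = sl 2 hb (up s * lo t) := fun u hu hu1 => by
    obtain ⟨s, hs⟩ := (mem_XR hb).1 (h3 _ hu)
    obtain ⟨s', hs'⟩ := (mem_XR hb.neg').1 (h4 _ hu)
    have hι : E.ι u ≠ 1 := fun h => hu1 (E.inj (h.trans (map_one _).symm))
    refine ⟨s, s', ?_, ?_, hs, ?_⟩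
    · rintro rfl
      rw [xc_zero hb] at hs
      exact hι (by simpa using hs.symm)
    · rintro rfl
      rw [xc_zero hb.neg'] at hs'
      exact hι (by simpa using hs'.symm)
    · rw [← w u hu, map_mul (sl 2 hb), sl_up, sl_lo, hs, hs', map_mul, map_mul, map_mul, map_inv]; group
  obtain ⟨s₁, t₁, hs₁, ht₁, e₁, f₁⟩ := co u₁ h₁ n₁
  obtain ⟨s₂, t₂, hs₂, ht₂, e₂, f₂⟩ := co u₂ h₂ n₂
  have c1 : Commute (u₁ * α v * u₁⁻¹) (α v)⁻¹ := k₁ _ ha _ (inv_mem ha)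
  have c2 : Commute (u₂ * α v * u₂⁻¹) (α v)⁻¹ := k₂ _ ha _ (inv_mem ha)
  have c3 : Commute (u₁ * α v * u₁⁻¹) (u₂ * α v * u₂⁻¹) := by
    have h5 := k₃ _ ha _ ha
    show _ = _
    calc u₁ * α v * u₁⁻¹ * (u₂ * α v * u₂⁻¹) = u₁ * (α v * (u₁⁻¹ * u₂ * α v * (u₁⁻¹ * u₂)⁻¹)) * u₁⁻¹ := by group
      _ = _ := by rw [← h5]; group
  have c4 : Commute (u₁ * α v * u₁⁻¹ * (α v)⁻¹) (u₂ * α v * u₂⁻¹ * (α v)⁻¹) :=
    (c3.mul_right c1).mul_left (c2.symm.mul_right (Commute.refl _))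
  have h5 : s₁ = s₂ := by
    refine eq_of_comm_up_lo hs₁ hs₂ ht₁ (t' := t₂) (sl_inj hb ?_)
    rw [map_mul (sl 2 hb) (up s₁ * lo t₁), map_mul (sl 2 hb) (up s₂ * lo t₂), ← f₁, ← f₂, conj_mul, conj_mul, ← map_mul,
      ← map_mul, c4.eq]
  rw [h5, e₂] at e₁
  exact n₁₂ (E.inj (by simpa using e₁.symm))

end Cfsg.Agent.Cam.Ex.E2
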