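import Cfsg.Agent.Cam.Ex.E2B

/-!
# S3689, S3690, `E₇` in characteristic two: the end (helper53)
-/

set_option autoImplicit false
set_option linter.unusedVariables false
set_option linter.unusedSectionVars false

namespace Cfsg.Agent.Cam.Ex.E2

open CoxeterSystem Cfsg Cfsg.Lie Subgroup
open Cfsg.Agent.ChevalleyStructure.CoxeterGeom Cfsg.Agent.ChevalleyStructure.CoxeterGeomTypes
open Cfsg.Agent.Tits.Roots Cfsg.Agent.Nodes.BNOf Cfsg.Agent.Nodes.RGDChev Cfsg.Agent.Nodes.Coroot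
open Cfsg.Agent.KFacts.RgdChevCoord Cfsg.Agent.BpExc.TorCent Cfsg.Agent.BpExc.LangFr
open Cfsg.Agent.Cam.Spor Cfsg.Agent.Cam.Ex.S2 Cfsg.Agent.Cam.Ex.En Cfsg.Agent.TwoFusion.PerfCore
open Cfsg.Agent.ChevalleyStructure.SL2Hom (up lo)
open Cfsg.Agent.Nodes.RGDFoldSL (hS wS)
open Cfsg.Agent.DS.Nt (RP)
open scoped commutatorElement

/-- frame automorphisms -/
abbrev FA (β : MulAut Y7) (γ : Lat 7 ≃+ Lat 7) : Prop :=
  BpExc.Fr.Fr CoxeterMatrix.E₇.toCoxeterSystem tE7.isCartan (TT chevE7 (kb 2)) (XX chevE7 7 (kb 2)) β γ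

theorem fr_sl {β : MulAut Y7} {γ : Lat 7 ≃+ Lat 7} (F : FA β γ) {c b : Lat 7} (hc : Rt tE7 c) (hb : Rt tE7 b)
    (e : γ c = b) {y : Y7} (hy : y ∈ (sl 2 hc).range) : β y ∈ (sl 2 hb).range := by
  rw [sl_range] at hy ⊢
  refine (F.mem_Sup (S := {c, -c}) (S' := {b, -b}) (by rintro _ (rfl | rfl); exacts [hc, hc.neg']) (fun a => ?_) y).2 hy
  simp only [Set.mem_insert_iff, Set.mem_singleton_iff]
  rw [← e, ← map_neg, γ.injective.eq_iff, γ.injective.eq_iff]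

theorem conj_mem_of_cz {b : Lat 7} (hb : Rt tE7 b) {m y : Y7} (hm : Cz (sl 2 hb) m) (hy : y ∈ (sl 2 hb).range) :
    m * y * m⁻¹ = y := by
  obtain ⟨j, rfl⟩ := hy
  rw [hm j, mul_inv_cancel_right]

/-- an element of `W` fixing orthogonal roots up to sign -/
theorem exists_adj {ι : Type} [Finite ι] {b : ι → Lat 7} (hb : ∀ i, Rt tE7 (b i))
    (ho : ∀ i j, b i = b j ∨ cp tE7 (b i) (b j) = 0) {w : CoxeterMatrix.E₇.Group}
    (hw : ∀ i, wa tE7 w (b i) = b i ∨ wa tE7 w (b i) = -b i) :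
    ∃ w', (∀ i, wa tE7 w' (b i) = b i) ∧ ∀ a, (∀ i, cp tE7 a (b i) = 0) → wa tE7 w' a = wa tE7 w a := by
  classical
  have := Fintype.ofFinite ι
  have key : ∀ s : Finset ι, ∃ w', (∀ i ∈ s, wa tE7 w' (b i) = b i) ∧
      (∀ i, wa tE7 w' (b i) = b i ∨ wa tE7 w' (b i) = -b i) ∧
      ∀ a, (∀ i, cp tE7 a (b i) = 0) → wa tE7 w' a = wa tE7 w a := by
    intro s
    induction s using Finset.induction_on with
    | empty => exact ⟨w, by simp, hw, fun _ _ => rfl⟩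
    | insert i s hi ih =>
      obtain ⟨w', h1, h2, h3⟩ := ih
      rcases h2 i with h4 | h4
      · exact ⟨w', fun j hj => (Finset.mem_insert.1 hj).elim (fun e => e ▸ h4) (h1 j), h2, h3⟩
      obtain ⟨v, -, hv⟩ := exists_refl (hb i) (S := {b i}) rfl
      have v1 : wa tE7 v (b i) = -b i := by rw [hv, cp_self (hb i), two_smul]; abel
      have v2 : ∀ x, cp tE7 x (b i) = 0 → wa tE7 v x = x := fun x hx => by rw [hv, hx, zero_smul, sub_zero]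
      refine ⟨v * w', fun j hj => ?_, fun j => ?_, fun a ha => ?_⟩
      · rw [wa_mul]
        rcases Finset.mem_insert.1 hj with rfl | hj
        · rw [h4, wa_neg, v1, neg_neg]
        · rcases ho j i with e | e
          · have h5 := h1 j hj
            rw [e, h4] at h5
            exact absurd h5.symm (hb i).ne_neg
          · rw [h1 j hj, v2 _ e]
      · rw [wa_mul]
        have h5 : wa tE7 v (b j) = b j ∨ wa tE7 v (b j) = -b j :=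
          (ho j i).elim (fun e => Or.inr (by rw [e, v1])) fun e => Or.inl (v2 _ e)
        rcases h2 j with e | e <;> rcases h5 with e' | e'
        · exact Or.inl (by rw [e, e'])
        · exact Or.inr (by rw [e, e'])
        · exact Or.inr (by rw [e, wa_neg, e'])
        · exact Or.inl (by rw [e, wa_neg, e', neg_neg])
      · rw [wa_mul, v2, h3 a ha]
        have h5 := cp_wa w' a (hb i)
        rw [h4, cp_neg_right _ (hb i), ha i] at h5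
        omega
  obtain ⟨w', h1, -, h3⟩ := key Finset.univ
  exact ⟨w', fun i => h1 i (Finset.mem_univ i), h3⟩

variable {L : Type} [Group L] [Finite L]

/-- the image of a root `SL₂` under an automorphism of `L` -/
theorem loc (fx : BoxFExt) {E E' : F7 L} (hE : E.Cj E') {c : Lat 7} (hc : Rt tE7 c) (θ : MulAut L) {w : L}
    (hw : E.ι w ∈ (sl 2 hc).range) (hw2 : w * w ≠ 1) (hT : E'.ι (θ w) ∈ T7) :
    ∃ (b : Lat 7) (hb : Rt tE7 b) (μ : kb 2), μ ≠ 0 ∧ μ ≠ 1 ∧ E'.ι (θ w) = sl 2 hb (hS μ) ∧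
      ∀ k, E.ι k ∈ (sl 2 hc).range → E'.ι (θ k) ∈ (sl 2 hb).range := by
  obtain ⟨y, β, γ, F, hθ⟩ := fx L E θ
  obtain ⟨-, z, hz⟩ := hE
  obtain ⟨j, hj⟩ := hw
  obtain ⟨κ, ν, hν, e⟩ := exists_diag (j := j) fun h => hw2 (E.inj (by
    rw [map_mul, ← hj, ← map_mul, sq_of_tr h, map_one, map_one]))
  have hγ : Rt tE7 (γ c) := (F.root c).2 hc
  have h1 : ∀ k, E'.ι (θ k) = (z⁻¹ * y * (β (sl 2 hc κ))⁻¹) * β (sl 2 hc κ * E.ι k * (sl 2 hc κ)⁻¹) *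
      (z⁻¹ * y * (β (sl 2 hc κ))⁻¹)⁻¹ := fun k => by
    rw [hz, hθ, map_mul, map_mul, map_inv]; group
  have h2 : sl 2 hc κ * E.ι w * (sl 2 hc κ)⁻¹ = sl 2 hc (hS ν) := by rw [← hj, ← e, map_mul, map_mul, map_inv]
  have h3 : β (sl 2 hc (hS ν)) ∈ T7 := (F.tor _).2 (sl_hS_mem hc hν)
  obtain ⟨m, hm, v, k, hk, e1, e2⟩ := form_one (hp := tE7) h3 hT (n := z⁻¹ * y * (β (sl 2 hc κ))⁻¹) (by rw [h1, h2])
  have hb : Rt tE7 (wa tE7 v (γ c)) := hγ.wa' v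
  have h4 : ∀ x ∈ (sl 2 hc).range, k * β x * k⁻¹ ∈ (sl 2 hb).range := fun x hx =>
    fr_sl hk.fr hγ hb rfl (fr_sl F hc hγ rfl hx)
  obtain ⟨μ, hμ, e3⟩ := tor_sl hb hT (e1 ▸ h4 _ ⟨_, rfl⟩)
  have hμ1 : μ ≠ 1 := fun h => hw2 (by
    have h5 : E'.ι (θ w) = E'.ι (θ 1) := by rw [e3, h, hS_one, map_one, map_one, map_one]
    rw [θ.injective (E'.inj h5), one_mul])
  refine ⟨_, hb, μ, hμ, hμ1, e3, fun x hx => ?_⟩
  rw [e3, psiS_h hb hμ hμ1] at hm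
  have h5 := h4 _ (mul_mem (mul_mem (MonoidHom.mem_range.2 ⟨κ, rfl⟩) hx) (inv_mem (MonoidHom.mem_range.2 ⟨κ, rfl⟩)))
  rw [← conj_mem_of_cz hb (cz_MS_ort hb hm) h5] at h5
  rw [h1, e2]
  convert h5 using 1
  group

/-- two fixed root elements -/
theorem exists_two (E : F7 L) (hq : 4 ≤ E.q) {δ : Lat 7} (hδ : Rt tE7 δ) (hg : E.g δ = δ) :
    ∃ u₁ u₂ : L, E.ι u₁ ∈ XR chevE7 7 2 δ ∧ E.ι u₂ ∈ XR chevE7 7 2 δ ∧ u₁ ≠ 1 ∧ u₂ ≠ 1 ∧ u₁ ≠ u₂ := by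
  obtain ⟨μ, hμ, h1, -⟩ := sl_frob E hδ hg
  obtain ⟨s, hs, e⟩ := exists_fix_pow hμ (two_le_q E)
  have h2 : (E.q - 1).Coprime 2 := by
    have h3 : 2 ∣ E.q := dvd_pow_self 2 E.he.ne'
    exact (Nat.coprime_two_right).2 (Nat.Even.sub_odd (by omega) (even_iff_two_dvd.2 h3) odd_one)
  obtain ⟨ω, hω⟩ := exists_zeta 2 h2
  have hω0 : ω ≠ 0 := hω.ne_zero (by omega)
  have hω1 : ω ≠ 1 := hω.ne_one (by omega)
  have hωq : ω ^ E.q = ω := by rw [show E.q = E.q - 1 + 1 by omega, pow_succ, hω.pow_eq_one, one_mul]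
  obtain ⟨u₁, e₁⟩ := xc_mem_range E hδ (s := s) (by rw [h1, e])
  obtain ⟨u₂, e₂⟩ := xc_mem_range E hδ (s := ω * s) (by rw [h1, mul_pow, hωq, mul_left_comm, e])
  refine ⟨u₁, u₂, e₁ ▸ xc_mem_XR hδ s, e₂ ▸ xc_mem_XR hδ _, fun h => hs ?_, fun h => mul_ne_zero hω0 hs ?_, fun h => ?_⟩
  · exact (xc_eq_one hδ).1 (by rw [← e₁, h, map_one])
  · exact (xc_eq_one hδ).1 (by rw [← e₂, h, map_one])
  · have h3 := xc_injective hδ (e₁.symm.trans (h ▸ e₂))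
    exact hω1 (mul_right_cancel₀ hs (by rw [one_mul, ← h3]))

variable {U : Type} [Group U] [Finite U] {τ α β : U →* L} {R R' : Subgroup L}

section setup

variable (E : F7 L) {c : Lat 7} (hc : Rt tE7 c)

/-- the fixed points of the root `SL₂` -/
noncomputable def KF : Subgroup L := (sl 2 hc).range.comap E.ι

/-- the centralizer of the root `SL₂` -/
noncomputable def CF : Subgroup L := (innSub (sl 2 hc) ⊥).comap E.ι

theorem mem_KF {x : L} : x ∈ KF E hc ↔ E.ι x ∈ (sl 2 hc).range := Iff.rfl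

theorem mem_CF {x : L} : x ∈ CF E hc ↔ Cz (sl 2 hc) (E.ι x) := mem_innSub_bot

theorem KF_comm {k x : L} (hk : k ∈ KF E hc) (hx : x ∈ CF E hc) : k * x = x * k := by
  obtain ⟨j, hj⟩ := hk
  exact E.inj (by rw [map_mul, map_mul, ← hj, (mem_CF E hc).1 hx j])

variable {H : Subgroup L} (hle : H.map E.ι ≤ MS chevE7 7 2 (Lam c))

include hle in
theorem two_CF (A B : Subgroup L) (hA : A ≤ H) (hB : B ≤ H) (hp : ⁅A, A⁆ = A) (h : ∀ a ∈ A, ∀ b ∈ B, a * b = b * a) :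
    A ≤ CF E hc ∨ B ≤ CF E hc := by
  refine or_iff_not_imp_left.2 fun h1 b hb => (mem_CF E hc).2 ?_
  obtain ⟨j, hj⟩ := (spl_lam hc).inn hc (hle (mem_map_of_mem _ (hB hb)))
  refine (sl_ck hc).cz_of_perfect (map_perfect hp E.ι) (fun y hy => (spl_lam hc).inn hc (hle (map_mono hA hy)))
    (fun h2 => h1 fun a ha => (mem_CF E hc).2 (h2 _ (mem_map_of_mem _ ha))) hj ?_
  rintro _ ⟨a, ha, rfl⟩
  rw [← map_mul, ← h a ha b hb, map_mul]

include hle in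
theorem dec_CF (hg : E.g c = c) {e : L} (he : e ∈ H) : ∃ k ∈ KF E hc, k⁻¹ * e ∈ CF E hc := by
  obtain ⟨j, m, hm, e1⟩ := (spl_lam hc).dec hc (hle (mem_map_of_mem _ he))
  rw [off_lam hc] at hm
  have h1 : E.F (sl 2 hc j) ∈ (sl 2 hc).range := fr_sl E.fr hc hc hg ⟨j, rfl⟩
  have h2 : E.F m ∈ MS chevE7 7 2 (Ort c) := by
    refine (E.fr.mem_Sup (S := Ort c) (S' := Ort c) (fun a ha => ha.1) (fun a => ?_) m).2 hm
    have h3 := E.gcp a c hc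
    rw [hg] at h3
    exact and_congr (E.fr.root a) (by rw [h3])
  have h3 := E.fix e
  rw [e1, map_mul] at h3
  have h4 : (sl 2 hc j)⁻¹ * E.F (sl 2 hc j) = m * (E.F m)⁻¹ := by
    rw [inv_mul_eq_iff_eq_mul, ← mul_assoc, ← h3, mul_inv_cancel_right]
  have h5 : (sl 2 hc j)⁻¹ * E.F (sl 2 hc j) = 1 :=
    eq_one_of_cz hc (mul_mem (inv_mem (MonoidHom.mem_range.2 ⟨j, rfl⟩)) h1)
      (by rw [h4]; exact cz_MS_ort hc (mul_mem hm (inv_mem h2)))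
  obtain ⟨k, hk⟩ := mem_range E (inv_mul_eq_one.1 h5).symm
  refine ⟨k, ⟨j, hk.symm⟩, (mem_CF E hc).2 ?_⟩
  rw [map_mul, map_inv, hk, e1, inv_mul_cancel_left]
  exact cz_MS_ort hc hm

end setup

/-- **`E₇` in characteristic two.** -/
theorem e7two (fx : BoxFExt) (re : BoxRE) (p1 : BoxP1) : E7Two := by
  intro L _ _ E U _ _ τ α β R R' co c hc hg hq hle
  set H := α.range ⊔ R' with hH
  have hαp := range_perfect co.simple co.noncomm α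
  have hα0 : α.range ≠ ⊥ := fun h => co.noncomm ⟨⟨fun a b => co.pair'.inj (by
    have h1 : ∀ x, α x = 1 := fun x => mem_bot.1 (h ▸ (⟨x, rfl⟩ : α x ∈ α.range))
    rw [h1, h1])⟩⟩
  obtain ⟨u, -, hu, -, hu1, -⟩ := exists_two E hq hc hg
  have huK : u ∈ KF E hc := X_le_sl hc hu
  -- the images of `α U` centralize `K`
  have s2 : ∀ θ : MulAut L, H.map θ.toMonoidHom = H → α.range.map θ.toMonoidHom ≤ CF E hc := fun θ hθ => by
    have pr := co.pair'.map θ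
    refine (two_CF E hc hle _ (R'.map θ.toMonoidHom) ((map_mono le_sup_left).trans hθ.le)
      ((map_mono le_sup_right).trans hθ.le) (map_perfect hαp _) ?_).resolve_right fun h => hu1 ?_
    · rintro _ ⟨_, ⟨v, rfl⟩, rfl⟩ y hy
      exact pr.comm v y hy
    · have h1 : u ∈ centralizer ((R'.map θ.toMonoidHom : Subgroup L) : Set L) :=
        mem_centralizer_iff.2 fun y hy => (KF_comm E hc huK (h hy)).symm
      have h2 := pr.cnorm h1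
      rw [range_comp_equiv] at h2
      exact pr.cfaith u h1 fun v => lemA' re p1 E hq co θ hc hu h2 _ ⟨_, ⟨v, rfl⟩, rfl⟩
  have sp : Sp H (KF E hc) (CF E hc) :=
    { perf := perfect_sup hαp co.pair'.perfect
      dec := fun e he => dec_CF E hc hle hg he
      disj := fun x hx hx' => E.inj ((eq_one_of_cz hc hx ((mem_CF E hc).1 hx')).trans (map_one _).symm)
      comm := fun k hk x hx => KF_comm E hc hk hx
      two := two_CF E hc hle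
      norm := fun k hk => orbC_le co E.simple E.noncomm hα0 fun θ hθ a ha =>
        (KF_comm E hc hk (s2 θ hθ (mem_map_of_mem _ ha))).symm }
  set P := KF E hc ⊓ H with hP
  have hP0 : P ≠ ⊥ := sp.ne_bot fun h => hu1 (eq_one_of_cent co.pair' fun y hy => KF_comm E hc huK (h hy))
  obtain ⟨r, hr, h5, w, hw, hwr⟩ := exists_five sp.perfect hP0
  have hw2 : w * w ≠ 1 := fun h => by
    have h1 : r ∣ 2 := hwr ▸ orderOf_dvd_of_pow_eq_one (by rwa [pow_two])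
    have := Nat.le_of_dvd two_pos h1
    omega
  -- the orbit of `P`
  let I := {Q : Subgroup L // ∃ θ : MulAut L, H.map θ.toMonoidHom = H ∧ Q = P.map θ.toMonoidHom}
  choose θ hθ hθ' using fun Q : I => Q.2
  have hwQ : ∀ Q : I, θ Q w ∈ Q.1 := fun Q => by rw [hθ' Q]; exact mem_map_of_mem _ hw
  have hII : ∀ Q Q' : I, Q = Q' ∨ ∀ a ∈ Q.1, ∀ b ∈ Q'.1, a * b = b * a := fun Q Q' => by
    rw [Subtype.ext_iff, hθ' Q, hθ' Q']
    exact sp.orb (hθ Q) (hθ Q')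
  have hww : ∀ x ∈ Set.range fun Q : I => θ Q w, ∀ y ∈ Set.range fun Q : I => θ Q w, x * y = y * x := by
    rintro _ ⟨Q, rfl⟩ _ ⟨Q', rfl⟩
    rcases hII Q Q' with rfl | h
    · rfl
    · exact h _ (hwQ Q) _ (hwQ Q')
  have hwp : ∀ Q : I, θ Q w ^ r = 1 := fun Q => by rw [← map_pow, ← hwr, pow_orderOf_eq_one, map_one]
  obtain ⟨E', hE, hT⟩ := E.exists_tor (by norm_num) hr h5 (by omega) (Q := closure (Set.range fun Q : I => θ Q w))
    (DS.Nt.isPGroup_of_comm hww (by rintro _ ⟨Q, rfl⟩; exact ⟨1, by rw [pow_one, hwp]⟩))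
    (fun x hx y hy => by
      have := (isMulCommutative_closure hww).is_comm.comm ⟨x, hx⟩ ⟨y, hy⟩
      exact congrArg Subtype.val this)
  have hT' : ∀ Q : I, E'.ι (θ Q w) ∈ T7 := fun Q => hT _ (subset_closure ⟨Q, rfl⟩)
  choose b hb μ hμ0 hμ1 eb hK using fun Q : I => loc fx hE hc (θ Q) hw.1 hw2 (hT' Q)
  have hQK : ∀ Q : I, ∀ x ∈ Q.1, E'.ι x ∈ (sl 2 (hb Q)).range := fun Q x hx => by
    rw [hθ' Q] at hx
    obtain ⟨k, hk, rfl⟩ := hx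
    exact hK Q k hk.1
  have ho : ∀ Q Q' : I, b Q = b Q' ∨ cp tE7 (b Q) (b Q') = 0 := fun Q Q' => by
    rcases hII Q Q' with rfl | h
    · exact Or.inl rfl
    obtain ⟨a, -, -, ha⟩ := inn_T (hb Q) (hT' Q')
    have h1 : Cz (sl 2 (hb Q)) (E'.ι (θ Q' w)) := by
      refine (sl_ck (hb Q)).cz_of_perfect (R := Q.1.map E'.ι) (map_perfect ?_ _) ?_ (fun h2 => hw2 ?_) ha ?_
      · rw [hθ' Q]
        exact map_perfect sp.perfect _
      · rintro _ ⟨x, hx, rfl⟩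
        obtain ⟨j, hj⟩ := hQK Q x hx
        exact ⟨j, hj ▸ DS.Nt.JL.Inn.self j⟩
      · have h3 := eq_one_of_cz (hb Q) (hQK Q _ (hwQ Q)) (h2 _ (mem_map_of_mem _ (hwQ Q)))
        have h4 : E'.ι (θ Q w) = E'.ι (θ Q 1) := by rw [h3, map_one, map_one]
        rw [(θ Q).injective (E'.inj h4), one_mul]
      · rintro _ ⟨x, hx, rfl⟩
        rw [← map_mul, ← h x hx _ (hwQ Q'), map_mul]
    have h2 : b Q ∈ PsiS tE7 {sl 2 (hb Q') (hS (μ Q'))} :=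
      ⟨hb Q, by rintro _ rfl; rw [← eb]; exact (cz_T (hb Q) (hT' Q')).1 h1⟩
    rw [psiS_h (hb Q') (hμ0 Q') (hμ1 Q')] at h2
    exact Or.inr h2.2
  -- the roots orthogonal to all the `b Q`
  set Z : Set Y7 := Set.range fun Q : I => E'.ι (θ Q w) with hZ
  have hZT : ∀ t ∈ Z, t ∈ T7 ∧ t ^ r = 1 := by
    rintro _ ⟨Q, rfl⟩
    exact ⟨hT' Q, by rw [← map_pow, hwp, map_one]⟩
  have hΘ : ∀ a, a ∈ PsiS tE7 Z ↔ Rt tE7 a ∧ ∀ Q, cp tE7 a (b Q) = 0 := fun a => by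
    refine and_congr_right fun ha => ?_
    rw [hZ, Set.forall_mem_range]
    refine forall_congr' fun Q => ?_
    have h1 := Set.ext_iff.1 (psiS_h (hb Q) (hμ0 Q) (hμ1 Q)) a
    rw [eb]
    exact ⟨fun h => (h1.1 ⟨ha, by rintro _ rfl; exact h⟩).2, fun h => (h1.2 ⟨ha, h⟩).2 _ rfl⟩
  obtain ⟨w₀, hw₀⟩ := E'.gr
  have hw₀' : ∀ a, E'.g a = wa tE7 w₀ a := fun a => by rw [hw₀, sg_apply, Units.val_one, one_smul]
  obtain ⟨w₁, h₁, h₂⟩ := exists_adj hb ho (w := w₀) fun Q => by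
    rw [← hw₀']
    exact g_pm (hb Q) re E' (hμ0 Q) (hμ1 Q) ⟨_, eb Q⟩
  have h₃ : w₁ ∈ WW tE7 (PsiS tE7 Z) := by
    refine mem_WW_of_ch tE7 (by norm_num) hr h5 (fun t ht => ⟨(hZT t ht).1, 1, by rw [pow_one, (hZT t ht).2]⟩) ?_
    rintro a ha _ ⟨Q, rfl⟩
    have h1 := cp_wa w₁ a (hb Q)
    rw [h₁] at h1
    show ch tE7 _ (E'.ι (θ Q w)) = ch tE7 _ (E'.ι (θ Q w))
    rw [eb, ch_sl_hS (hb Q) (hμ0 Q) (ha.wa' w₁), ch_sl_hS (hb Q) (hμ0 Q) ha, h1]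
  obtain ⟨z, hz, hrp⟩ := exists_move_MS E' (S := PsiS tE7 Z) (fun a ha => ha.1)
    (cs_psiS fun t ht => (hZT t ht).1).neg
    (fun a ha => (g_psiS E' (by rintro _ ⟨Q, rfl⟩; exact ⟨hT' Q, E'.fix _⟩) a).2 ha) (inv_mem h₃)
  set E₂ := E'.move z w₁⁻¹ hrp with hE₂
  have hq₂ : 4 ≤ E₂.q := by rwa [hE₂, Frame.move_q, cj_q hE]
  have hzc : ∀ Q : I, Cz (sl 2 (hb Q)) z⁻¹ := fun Q =>
    cz_MS_ort (hb Q) (RGD.Sup_mono (S' := Ort (b Q)) (fun a ha => ⟨ha.1, ((hΘ a).1 ha).2 Q⟩) (inv_mem hz))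
  have hQ₂ : ∀ Q : I, ∀ x ∈ Q.1, E₂.ι x ∈ (sl 2 (hb Q)).range := fun Q x hx => by
    have h1 := conj_mem_of_cz (hb Q) (hzc Q) (hQK Q x hx)
    rw [inv_inv] at h1
    rw [hE₂, Frame.move_ι, h1]
    exact hQK Q x hx
  have hJ : ∀ δ ∈ PsiS tE7 Z, ∀ x : L, E₂.ι x ∈ XR chevE7 7 2 δ → x ∈ normalizer (H : Set L) := fun δ hδ x hx => by
    refine orbC_le co E.simple E.noncomm hP0 fun φ hφ a ha => E₂.inj ?_
    let Q : I := ⟨_, φ, hφ, rfl⟩
    obtain ⟨j, hj⟩ := hQ₂ Q (φ a) (mem_map_of_mem _ ha)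
    rw [map_mul, map_mul, ← hj]
    have h1 : δ ∈ Ort (b Q) := ⟨hδ.1, ((hΘ δ).1 hδ).2 Q⟩
    have h2 : Cz (sl 2 (hb Q)) (E₂.ι x) := cz_ort (hb Q) h1 hx
    rw [h2 j]
  have hB : ∀ a ∈ α.range, MS chevE7 7 2 (PsiS tE7 Z) ≤ centralizer {E₂.ι a} := fun a ha => by
    refine RGD.Sup_le fun δ hδ x hx => mem_centralizer_singleton_iff.2 ?_
    obtain ⟨u₁, u₂, m₁, m₂, n₁, n₂, n₃⟩ := exists_two E₂ hq₂ hδ.1 (by
      rw [hE₂, Frame.move_g, hw₀', ← h₂ δ ((hΘ δ).1 hδ).2, wa_inv_wa])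
    exact (lemB re p1 E₂ hq₂ co hδ.1 m₁ m₂ n₁ n₂ n₃ (hJ δ hδ _ m₁) (hJ δ hδ _ m₂) a ha x hx).symm
  have hM : α.range.map E'.ι ≤ MS chevE7 7 2 (PsiS tE7 Z) := by
    refine E'.perf_le hr hZT hαp ?_
    rintro _ ⟨Q, rfl⟩ y hy
    have h1 := congrArg (θ Q) (KF_comm E hc hw.1 (s2 (θ Q)⁻¹ (stab_inv (hθ Q)) (mem_map_of_mem _ hy)))
    have h2 : θ Q ((θ Q)⁻¹.toMonoidHom y) = y := MulAut.apply_inv_self L (θ Q) y
    rw [map_mul, map_mul, h2] at h1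
    show E'.ι (θ Q w) * _ = _ * E'.ι (θ Q w)
    rw [← map_mul, h1, map_mul]
  refine hα0 (eq_bot_of_perfect_comm hαp fun a ha a' ha' => E₂.inj ?_)
  have h1 : E₂.ι a ∈ MS chevE7 7 2 (PsiS tE7 Z) := by
    rw [hE₂, Frame.move_ι]
    exact mul_mem (mul_mem (inv_mem hz) (hM (mem_map_of_mem _ ha))) hz
  rw [map_mul, map_mul]
  exact mem_centralizer_singleton_iff.1 (hB a' ha' h1)

/-- **`BoxEnd`.** -/
theorem boxEnd (fx : BoxFExt) (re : BoxRE) (p1 : BoxP1) : BoxEnd := boxEnd_of (e7two fx re p1)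

end Cfsg.Agent.Cam.Ex.E2
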