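import Cfsg.Agent.Cam.Ex.E2C
import Cfsg.Agent.Cam.Ex.PGrp
import Cfsg.Agent.Cam.Ex.RE
import Cfsg.Agent.Cam.Ex.FExt

/-!
# S3689, S3690, exceptional rows: `BoxP1` and `BoxEnd` (helper53)
-/

set_option autoImplicit false
set_option linter.unusedVariables false
set_option linter.unusedSectionVars false

namespace Cfsg.Agent.Cam.Ex.E2

open CoxeterSystem Cfsg Cfsg.Lie Subgroup
open Cfsg.Agent.ChevalleyStructure.CoxeterGeom Cfsg.Agent.ChevalleyStructure.CoxeterGeomTypes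
open Cfsg.Agent.Tits.Roots Cfsg.Agent.Nodes.BNOf Cfsg.Agent.Nodes.RGDChev Cfsg.Agent.Nodes.Coroot
open Cfsg.Agent.KFacts.RgdChevCoord Cfsg.Agent.BpExc.TorCent Cfsg.Agent.BpExc.LangFr
open Cfsg.Agent.Cam.Spor Cfsg.Agent.Cam.Ex.S2 Cfsg.Agent.Cam.Ex.En Cfsg.Agent.TwoFusion.PerfCore
open Cfsg.Agent.ChevalleyStructure.SL2Hom (up lo)
open Cfsg.Agent.Nodes.RGDFoldSL (hS wS)
open scoped commutatorElement

theorem frob_sl {D : ChevalleyDatum} {l : ℕ} {M : CoxeterMatrix (Fin l)} {hp : IsType D l M} {p : ℕ} [Fact p.Prime]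
    {d : ℕ} {g0 : Lat l ≃+ Lat l} {L : Type} [Group L] (E : Frame hp p d g0 L) {c : Lat l} (hc : Rt hp c) {μ : kb p}
    (hμ : μ ≠ 0) (h1 : ∀ s, E.F (xc hp c s) = xc hp c (μ * s ^ E.q))
    (h2 : ∀ s, E.F (xc hp (-c) s) = xc hp (-c) (μ⁻¹ * s ^ E.q)) (A : SL (kb p)) :
    E.F (sl p hc A) = sl p hc (P.sgm (iterateFrobenius (kb p) p E.e) hμ A) := by
  have hf : ∀ t : kb p, iterateFrobenius (kb p) p E.e t = t ^ E.q := fun t => iterateFrobenius_def _ _ _
  exact DFunLike.congr_fun (hom_ext (f := E.F.toMonoidHom.comp (sl p hc))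
      (g := (sl p hc).comp (P.sgm (iterateFrobenius (kb p) p E.e) hμ))
      (fun t => by
        show E.F (sl p hc (up t)) = sl p hc (P.sgm _ hμ (up t))
        rw [P.sgm_up, sl_up, sl_up, h1, hf])
      (fun t => by
        show E.F (sl p hc (lo t)) = sl p hc (P.sgm _ hμ (lo t))
        rw [P.sgm_lo, sl_lo, sl_lo, h2, hf])) A

variable {L : Type} [Group L] [Finite L] {U : Type} [Group U] [Finite U] {τ α β : U →* L} {R R' : Subgroup L}

theorem p1_fix (big : Big) (E : F7 L) (co : Core τ α β R R') {c : Lat 7} (hc : Rt tE7 c) (hg : E.g c = c)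
    (hq : 4 ≤ E.q) (hR : ∀ y ∈ R, Cz (sl 2 hc) (E.ι y)) : False := by
  obtain ⟨μ, hμ, h1, h2⟩ := sl_frob E hc hg
  obtain ⟨s, hs, e⟩ := exists_fix_pow hμ (two_le_q E)
  have hf : ∀ t : kb 2, iterateFrobenius (kb 2) 2 E.e t = t ^ E.q := fun t => iterateFrobenius_def _ _ _
  have hF := frob_sl E hc hμ h1 h2
  obtain ⟨r, hr, hd⟩ := Nat.exists_prime_and_dvd (n := E.q - 1) (by omega)
  have hr2 : r.Coprime 2 := by
    have h3 : 2 ∣ E.q := dvd_pow_self 2 E.he.ne'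
    exact Nat.Coprime.coprime_dvd_left hd
      ((Nat.coprime_two_right).2 (Nat.Even.sub_odd (by omega) (even_iff_two_dvd.2 h3) odd_one))
  obtain ⟨ω, hω⟩ := exists_zeta 2 hr2
  have hω0 : ω ≠ 0 := hω.ne_zero hr.ne_zero
  have hω1 : ω ≠ 1 := hω.ne_one hr.one_lt
  have hωq : ω ^ E.q = ω := by
    obtain ⟨m, hm⟩ := hd
    rw [show E.q = r * m + 1 by omega, pow_succ, pow_mul, hω.pow_eq_one, one_pow, one_mul]
  set G₀ := P.fixG (iterateFrobenius (kb 2) 2 E.e) hμ with hG₀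
  have hG : ⁅G₀, G₀⁆ = G₀ := P.fixG_perfect hs (by rw [hf, e]) hω0 (by rw [hf, hωq])
    fun h => hω1 (eq_one_of_sq (by rwa [pow_two] at h))
  have hle : G₀.map (sl 2 hc) ≤ E.ι.range := by
    rintro _ ⟨A, hA, rfl⟩
    exact mem_range E (by rw [hF, P.mem_fixG.1 hA])
  set X := (G₀.map (sl 2 hc)).comap E.ι with hX
  have hXm : X.map E.ι = G₀.map (sl 2 hc) := map_comap_eq_self hle
  have hXp : ⁅X, X⁆ = X := map_injective E.inj (by rw [map_commutator, hXm, map_perfect hG])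
  have hXK : ∀ x ∈ X, x ∈ KF E hc := fun x ⟨A, _, hA⟩ => ⟨A, hA⟩
  have hXT := P.perf_le big co hXp fun x hx => mem_centralizer_iff.2 fun y hy =>
    (KF_comm E hc (hXK x hx) ((mem_CF E hc).2 (hR y hy))).symm
  obtain ⟨w, hw⟩ := hle (mem_map_of_mem _ (P.hS_mem_fixG hω0 (by rw [hf, hωq])))
  obtain ⟨u, rfl⟩ := hXT (show w ∈ X from ⟨_, P.hS_mem_fixG hω0 (by rw [hf, hωq]), hw.symm⟩)
  have hT : E.ι (τ u) ∈ T7 := by rw [hw]; exact sl_hS_mem hc hω0
  have hM : R.map E.ι ≤ MS chevE7 7 2 (PsiS tE7 {E.ι (τ u)}) := by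
    refine E.perf_le hr ?_ co.pair.perfect ?_
    · rintro _ rfl
      exact ⟨hT, by rw [hw, ← map_pow, P.hS_pow hω0, hω.pow_eq_one, hS_one, map_one]⟩
    · rintro _ rfl y hy
      rw [← map_mul, co.pair.comm u y hy, map_mul]
  have h0 := P.eq_bot_of big co
    (J := (centralizer (MS chevE7 7 2 (PsiS tE7 {E.ι (τ u)}) : Set Y7)).comap E.ι) (Q := {u})
    (fun x hx => mem_centralizer_iff.2 fun y hy => E.inj (by
      rw [map_mul, map_mul]
      exact mem_centralizer_iff.1 hx _ (hM (mem_map_of_mem _ hy))))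
    (by rintro _ rfl _ rfl; rfl)
    (fun d hd y hy => mem_centralizer_iff.2 fun m hm => by
      have h3 := mem_centralizer_singleton_iff.1 (inv_mem (co.alpha_mem_cent (hd u rfl)))
      have h4 := DS.Nt.conj_mem_Mz (hp := tE7) (Set.finite_singleton _) (by rintro _ rfl; exact hT)
        (c := E.ι (α d)⁻¹) (by rintro _ rfl; rw [← map_mul, h3, map_mul]) hm
      have h5 := mem_centralizer_iff.1 hy _ h4
      rw [map_inv, inv_inv] at h5
      rw [map_mul, map_mul, map_inv]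
      calc m * (E.ι (α d) * E.ι y * (E.ι (α d))⁻¹) =
            E.ι (α d) * ((E.ι (α d))⁻¹ * m * E.ι (α d) * E.ι y) * (E.ι (α d))⁻¹ := by group
        _ = _ := by rw [h5]; group)
    hXp (fun x hx => mem_centralizer_iff.2 fun m hm => by
      rw [hw, psiS_h hc hω0 hω1] at hm
      obtain ⟨j, hj⟩ := hXK x hx
      rw [← hj, cz_MS_ort hc hm j])
  obtain ⟨x, hx⟩ := hle (mem_map_of_mem _ (P.up_mem_fixG (t := s) (by rw [hf, e])))
  have h3 : x ∈ X := ⟨_, P.up_mem_fixG (t := s) (by rw [hf, e]), hx.symm⟩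
  rw [h0, mem_bot] at h3
  rw [h3, map_one, sl_up] at hx
  exact hs ((xc_eq_one hc).1 hx.symm)

theorem boxP1 (big : Big) : BoxP1 := by
  intro L _ _ E U _ _ τ α β R R' co c hc hg hq hcen
  obtain ⟨E', he, hg', z, hz, hι⟩ := exists_move_fix E hc hg
  refine p1_fix big E' co hc hg' (by rwa [Frame.q, he]) fun y hy => ?_
  have h1 := (cen_iff E hc).1 hcen _ (mem_map_of_mem _ hy)
  rw [← sl_range hc] at hz
  obtain ⟨j, rfl⟩ := hz
  rw [hι, mul_assoc, h1 j, inv_mul_cancel_left]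
  exact h1

/-- **`BoxEnd`.** -/
theorem boxEnd' (big : Big) : BoxEnd := boxEnd FExt.boxFExt RE.boxRE (boxP1 big)

end Cfsg.Agent.Cam.Ex.E2
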