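import Cfsg.Agent.Cam.Ex.CbF4
import Cfsg.Agent.Cam.Ex.CbE6
import Cfsg.Agent.Cam.Ex.CbE7

/-!
# The finite check `BoxFin` (helper12)
-/

set_option autoImplicit false

namespace Cfsg.Agent.Cam.Ex.Cb

/-- **The finite check.** -/
theorem boxFin (hc : BoxConn) : BoxFin where
  g2 := finG2
  d4 := finD4
  f4 := finF4 hc
  e6 := finE6 hc
  e7 := finE7 hc

end Cfsg.Agent.Cam.Ex.Cb
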