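import Cfsg.Agent.Cam.Ex.CbE6
import Cfsg.Agent.Cam.Ex.CbE7
import Cfsg.Agent.Cam.Ex.IfaceB

/-!
# The finite check for `r = 5`: `BoxFin5` (helper12)
-/

set_option autoImplicit false
set_option linter.unusedVariables false
set_option linter.unusedSectionVars false
set_option maxRecDepth 100000

namespace Cfsg.Agent.Cam.Ex.Cb

open CoxeterSystem Cfsg Cfsg.Lie
open Cfsg.Agent.ChevalleyStructure.CoxeterGeom Cfsg.Agent.ChevalleyStructure.CoxeterGeomTypes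
open Cfsg.Agent.Tits.Roots Cfsg.Agent.Nodes.RGDChev Cfsg.Agent.Nodes.Coroot Cfsg.Agent.Nodes.SubComb
open Cfsg.Agent.H931.KC (hr psi psi_apply psi_sr eq_psi)

section gen

variable {D : ChevalleyDatum} {l : ℕ} {M : CoxeterMatrix (Fin l)} {hp : IsType D l M} {d : Dt} (hT : Tab hp d)

include hT in
theorem Tab.ncard_le {K : Type} [AddCommGroup K] (φ : Lat l →+ K) {P : Ent → Bool}
    (hP : ∀ e ∈ d.T, φ (toF l e.b) = 0 → P e = true) : (Psi hp φ).ncard ≤ 2 * cnt P d.T := by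
  classical
  rw [hT.ncard_eq φ (P := fun e => decide (φ (toF l e.b) = 0)) (fun e _ => decide_eq_true_iff), cnt_eq, cnt_eq]
  exact Nat.mul_le_mul_left 2 (List.countP_mono_left fun e he h => hP e he (of_decide_eq_true h))

theorem conj_WW {S S' : Set (Lat l)} {w : M.Group} (h : ∀ a ∈ S, wa hp w a ∈ S') {v : M.Group} (hv : v ∈ WW hp S) :
    w * v * w⁻¹ ∈ WW hp S' := by
  refine WW_ind hp (P := fun v => w * v * w⁻¹ ∈ WW hp S') ?_ (fun u j v h1 h2 => ?_) hv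
  · show w * 1 * w⁻¹ ∈ _
    rw [mul_one, mul_inv_cancel]
    exact one_mem _
  · have e : w * (rfl' M.toCoxeterSystem u j * v) * w⁻¹ = rfl' M.toCoxeterSystem (w * u) j * (w * v * w⁻¹) := by
      unfold rfl'
      group
    show w * (rfl' M.toCoxeterSystem u j * v) * w⁻¹ ∈ _
    rw [e]
    exact mul_mem (rfl_mem hp (by rw [wa_mul]; exact h _ h1)) h2

theorem mem_A2s {a c c' : Lat l} :
    a ∈ A2s c c' ↔ a = c ∨ a = c' ∨ a = c + c' ∨ a = -c ∨ a = -c' ∨ a = -(c + c') := Iff.rfl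

theorem map_A2s {f : Lat l → Lat l} (h1 : ∀ a b, f (a + b) = f a + f b) (h2 : ∀ a, f (-a) = -f a) {a c c' : Lat l}
    (ha : a ∈ A2s c c') : f a ∈ A2s (f c) (f c') := by
  rw [mem_A2s] at ha ⊢
  rcases ha with rfl | rfl | rfl | rfl | rfl | rfl <;> simp only [h1, h2, true_or, or_true]

theorem wa_A2s {w : M.Group} {a c c' : Lat l} (ha : a ∈ A2s c c') : wa hp w a ∈ A2s (wa hp w c) (wa hp w c') :=
  map_A2s (wa_add hp w) (wa_neg hp w) ha

theorem act_of {f f' : Lat l → Lat l} {ε : ℤˣ} {c c' : Lat l} {w : M.Group} (hf : ∀ a, f' a = wa hp w⁻¹ (f (wa hp w a)))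
    (h : ActA2 hp f' ε c c') : ActA2 hp f ε (wa hp w c) (wa hp w c') := by
  obtain ⟨v, hv, h1⟩ := h
  refine ⟨w * v * w⁻¹, conj_WW (fun a ha => wa_A2s ha) hv, fun a ha => ?_⟩
  have h2 : wa hp w⁻¹ a ∈ A2s c c' := by
    have := wa_A2s (hp := hp) (w := w⁻¹) ha
    rwa [wa_inv, wa_inv] at this
  have h3 := h1 _ h2
  rw [hf, wa_inv'] at h3
  rw [wa_mul, wa_mul, ← wa_smul, ← h3, wa_inv']

/-- the second alternative -/
def RD (hp : IsType D l M) (q : ℕ) {r : ℕ} (g : Lat l ≃+ Lat l) (A : Lat l →+ ZMod r) : Prop :=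
  ∃ c c', A2c hp (Psi hp A) c c' ∧ (∀ w, Neg hp w A → ActA2 hp (wa hp w) (-1) c c') ∧
    ∃ ε : ℤˣ, (q : ZMod r) = ((ε : ℤ) : ZMod r) ∧ ActA2 hp g ε c c'

theorem rd_of {q r : ℕ} {g : Lat l ≃+ Lat l} {A : Lat l →+ ZMod r} {w : M.Group}
    (h : RD hp q (gw hp g w) (cw hp A w)) : RD hp q g A := by
  obtain ⟨c, c', ⟨h1, h2, h3, h4, h5⟩, h6, ε, h7, h8⟩ := h
  refine ⟨wa hp w c, wa hp w c', ⟨(mem_cw hp).1 h1, (mem_cw hp).1 h2, by rw [cp_wa hp _ _ h2.1, h3],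
    by rw [cp_wa hp _ _ h1.1, h4], fun a ha => ?_⟩, fun v hv => act_of (fun a => ?_) (h6 _ (neg_conj hp hv w)), ε, h7,
    act_of (gw_apply hp g w) h8⟩
  · have h9 : wa hp w⁻¹ a ∈ Psi hp (cw hp A w) := by rw [mem_cw, wa_inv']; exact ha
    rcases h5 _ h9 with h10 | h10
    · left
      have := wa_A2s (hp := hp) (w := w) h10
      rwa [wa_inv'] at this
    · right
      rw [← cp_wa hp w _ h1.1, ← cp_wa hp w _ h2.1, wa_inv'] at h10
      exact h10
  · rw [wa_mul, wa_mul]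

theorem K5s_act {q r : ℕ} {g : Lat l ≃+ Lat l} {A : Lat l →+ ZMod r} (h : K5s hp q g A) (w : M.Group) :
    K5s hp q (gw hp g w) (cw hp A w) := by
  rintro Z h1 h2 ⟨v, h3, h4⟩
  obtain ⟨c, hc⟩ := h (cw hp Z w⁻¹) (fun a ha => (mem_cw hp).2 (h1 (by rw [mem_cw, wa_inv']; exact ha)))
    (fun a => by rw [cw_apply, cw_apply, ← gw_inv, h2]) ⟨w⁻¹⁻¹ * v * w⁻¹, fun a => by
      have h7 := h3 (wa hp w⁻¹ a)
      rw [cw_apply, cw_apply, wa_inv'] at h7
      rw [inv_inv, wa_mul, wa_mul, h7], neg_conj hp h4 w⁻¹⟩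
  exact ⟨c, fun a => by rw [cw_apply, ← hc, cw_apply, wa_inv]⟩

theorem wd_mem {S : Set (Lat l)} {ω : List ℕ} (h : ∀ k ∈ ω, ∃ i : Fin l, k = i ∧ sr i ∈ S) : wd M ω ∈ WW hp S := by
  induction ω with
  | nil => exact one_mem _
  | cons k ω ih =>
    obtain ⟨i, rfl, h1⟩ := h k List.mem_cons_self
    refine mul_mem (a := sI M i) (b := wd M ω) ?_ (ih fun k hk => h k (List.mem_cons_of_mem _ hk))
    have e : sI M i = rfl' M.toCoxeterSystem 1 i := by
      unfold sI rfl'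
      rw [dif_pos i.2, one_mul, inv_one, mul_one]
    rw [e]
    exact rfl_mem hp (by rw [wa_one]; exact h1)

/-- the images of the `A₂` -/
noncomputable def a2chk (l : ℕ) (d : Dt) (j i1 i2 : ℕ) : Bool :=
  al (fun e => !ieq (gt e.b j) 0 || (leq e.b (uv l i1) || (leq e.b (uv l i2) || (leq e.b (pl (uv l i1) (uv l i2)) ||
    (ieq (dot e.b (row d.C i1)) 0 && ieq (dot e.b (row d.C i2)) 0))))) d.T &&
  (al (fun e => !ieq (gt e.b j) 0 || ieq (dot e.b (row d.C i1)) 0 == ieq (dot e.b (row d.C i2)) 0) d.T &&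
  (an (fun e => ieq (gt e.b j) 1 && (ieq (dot e.b (row d.C i1)) 1 && ieq (dot e.b (row d.C i2)) 0)) d.T &&
  (ieq (gt (row d.C i1) i2) (-1) && (ieq (gt (row d.C i2) i1) (-1) &&
  al (fun e1 => al (fun e2 => al (fun s1 => al (fun s2 => !ieq (s1 * s2 * dot e1.b e2.cv) (-1) ||
    (an (fun e => ieq (dot e.b e1.cv) 0 != ieq (dot e.b e2.cv) 0) (fl (fun e => ieq (gt e.b j) 0) d.T) ||
    (!an (fun e => ieq (gt e.b j) 1 && (ieq (s1 * dot e.b e1.cv) 1 && ieq (dot e.b e2.cv) 0)) d.T ||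
    an (fun ω => al (fun i => ieq (gt (fw d.C ω (uv l i)) i1) (s1 * gt e1.b i) &&
      ieq (gt (fw d.C ω (uv l i)) i2) (s2 * gt e2.b i)) (List.range l))
      [[], [i1], [i2], [i1, i2], [i2, i1], [i1, i2, i1]]))) [1, -1]) [1, -1])
    (fl (fun e => ieq (gt e.b j) 0) d.T)) (fl (fun e => ieq (gt e.b j) 0) d.T)))))

include hT in
theorem Tab.cp_sr_b {e : Ent} (he : e ∈ d.T) (i : Fin l) : cp hp (toF l e.b) (sr i) = dot e.b (row d.C i) := by
  rw [cp_sr, ← hT.car i, hT.psi_b he]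

include hT in
theorem Tab.a2c {K : Type} [AddCommGroup K] {φ : Lat l →+ K} {j i1 i2 : Fin l} (hx : Ex1 hp φ j) (h1 : i1 ≠ j)
    (h2 : i2 ≠ j) (h : a2chk l d j i1 i2 = true) : A2c hp (Psi hp φ) (sr i1) (sr i2) := by
  obtain ⟨k1, h⟩ := Bool.and_eq_true_iff.1 h
  obtain ⟨-, h⟩ := Bool.and_eq_true_iff.1 h
  obtain ⟨-, h⟩ := Bool.and_eq_true_iff.1 h
  obtain ⟨k2, h⟩ := Bool.and_eq_true_iff.1 h
  obtain ⟨k3, -⟩ := Bool.and_eq_true_iff.1 h
  refine ⟨⟨rt_sr hp i1, (hx _ (rt_sr hp i1)).2 (sr_ne h1.symm)⟩, ⟨rt_sr hp i2, (hx _ (rt_sr hp i2)).2 (sr_ne h2.symm)⟩,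
    by rw [cp_sr, psi_sr, ← hT.car, toF_apply, ieq_iff.1 k3], by rw [cp_sr, psi_sr, ← hT.car, toF_apply, ieq_iff.1 k2],
    fun a ha => ?_⟩
  refine hT.of_T (P := fun a => a j = 0 → a ∈ A2s (sr i1) (sr i2) ∨ (cp hp a (sr i1) = 0 ∧ cp hp a (sr i2) = 0))
    (fun a h3 h4 => ?_) (fun e he h3 => ?_) a ha.1 ((hx a ha.1).1 ha.2)
  · rcases h3 (neg_eq_zero.1 h4) with h5 | h5
    · left
      rw [mem_A2s] at h5 ⊢
      rcases h5 with rfl | rfl | rfl | rfl | rfl | rfl <;> simp only [neg_neg, true_or, or_true]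
    · right
      rw [cp_neg hp _ (rt_sr hp i1), cp_neg hp _ (rt_sr hp i2), h5.1, h5.2, neg_zero]
      exact ⟨rfl, rfl⟩
  · have h4 := al_iff.1 k1 e he
    rw [ieq_iff.2 (show gt e.b j = 0 from h3), Bool.not_true, Bool.false_or] at h4
    rcases Bool.or_eq_true_iff.1 h4 with h5 | h4
    · left; rw [leq_iff.1 h5, toF_uv]; exact Or.inl rfl
    rcases Bool.or_eq_true_iff.1 h4 with h5 | h4
    · left; rw [leq_iff.1 h5, toF_uv]; exact Or.inr (Or.inl rfl)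
    rcases Bool.or_eq_true_iff.1 h4 with h5 | h4
    · left; rw [leq_iff.1 h5, toF_pl (length_uv _ _), toF_uv, toF_uv]; exact Or.inr (Or.inr (Or.inl rfl))
    · right
      rw [hT.cp_sr_b he, hT.cp_sr_b he]
      exact ⟨ieq_iff.1 (Bool.and_eq_true_iff.1 h4).1, ieq_iff.1 (Bool.and_eq_true_iff.1 h4).2⟩

include hT in
theorem Tab.sgn {x : Lat l} (hx : Rt hp x) : ∃ e ∈ d.T, ∃ s ∈ ([1, -1] : List ℤ), x = s • toF l e.b ∧
    ∀ a, cp hp a x = s * psi (toF l e.cv) a := by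
  obtain ⟨e, he, h | h⟩ := hT.sur x hx
  · exact ⟨e, he, 1, by simp, by rw [one_smul, h], fun a => by rw [h, hT.cpe e he, one_mul]⟩
  · exact ⟨e, he, -1, by simp, by rw [neg_one_smul, h],
      fun a => by rw [h, cp_neg_right hp _ (hT.rt e he), hT.cpe e he, neg_one_mul]⟩

include hT in
theorem Tab.act_one {j i1 i2 : Fin l} (h1 : i1 ≠ j) (h2 : i2 ≠ j) (h : a2chk l d j i1 i2 = true) {f : Lat l ≃+ Lat l}
    (hr : ∀ a, Rt hp (f a) ↔ Rt hp a) (hcp : ∀ a c, Rt hp c → cp hp (f a) (f c) = cp hp a c)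
    (hj : ∀ a, f a j = a j) : ∃ w ∈ WW hp (A2s (sr i1) (sr i2)), f (sr i1) = wa hp w (sr i1) ∧
      f (sr i2) = wa hp w (sr i2) := by
  obtain ⟨-, h⟩ := Bool.and_eq_true_iff.1 h
  obtain ⟨k1, h⟩ := Bool.and_eq_true_iff.1 h
  obtain ⟨k2, h⟩ := Bool.and_eq_true_iff.1 h
  obtain ⟨-, h⟩ := Bool.and_eq_true_iff.1 h
  obtain ⟨k3, k4⟩ := Bool.and_eq_true_iff.1 h
  obtain ⟨e1, t1, s1, m1, x1, y1⟩ := hT.sgn ((hr _).2 (rt_sr hp i1))
  obtain ⟨e2, t2, s2, m2, x2, y2⟩ := hT.sgn ((hr _).2 (rt_sr hp i2))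
  have n1 : s1 = 1 ∨ s1 = -1 := by simpa using m1
  have n2 : s2 = 1 ∨ s2 = -1 := by simpa using m2
  have z1 : gt e1.b j = 0 := by
    have h3 := hj (sr i1)
    rw [x1, sr_ne h1.symm, Pi.smul_apply, smul_eq_mul, toF_apply] at h3
    rcases n1 with rfl | rfl <;> omega
  have z2 : gt e2.b j = 0 := by
    have h3 := hj (sr i2)
    rw [x2, sr_ne h2.symm, Pi.smul_apply, smul_eq_mul, toF_apply] at h3
    rcases n2 with rfl | rfl <;> omega
  have h3 := al_iff.1 (al_iff.1 (al_iff.1 (al_iff.1 k4 e1 (mem_fl.2 ⟨t1, ieq_iff.2 z1⟩)) e2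
    (mem_fl.2 ⟨t2, ieq_iff.2 z2⟩)) s1 m1) s2 m2
  have h4 : s1 * s2 * dot e1.b e2.cv = -1 := by
    have h5 := hcp (sr i1) _ (rt_sr hp i2)
    rw [y2, x1, map_zsmul, hT.psi_b t1, cp_sr, psi_sr, ← hT.car, toF_apply, ieq_iff.1 k3, smul_eq_mul] at h5
    linear_combination h5
  rw [ieq_iff.2 h4, Bool.not_true, Bool.false_or] at h3
  rcases Bool.or_eq_true_iff.1 h3 with h5 | h3
  · exfalso
    obtain ⟨e, he, h6⟩ := an_iff.1 h5
    obtain ⟨he, h7⟩ := mem_fl.1 he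
    have h8 : Rt hp (f.symm (toF l e.b)) := by rw [← hr, f.apply_symm_apply]; exact hT.rt e he
    have h9 : ∀ a, Rt hp a → a j = 0 → (cp hp a (sr i1) = 0 ↔ cp hp a (sr i2) = 0) := by
      refine hT.of_T (P := fun a => a j = 0 → (cp hp a (sr i1) = 0 ↔ cp hp a (sr i2) = 0)) (fun a h10 h11 => ?_)
        fun e' he' h10 => ?_
      · rw [cp_neg hp _ (rt_sr hp i1), cp_neg hp _ (rt_sr hp i2), neg_eq_zero, neg_eq_zero]
        exact h10 (neg_eq_zero.1 h11)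
      · have h11 := al_iff.1 k1 e' he'
        rw [ieq_iff.2 (show gt e'.b j = 0 from h10), Bool.not_true, Bool.false_or, beq_iff_eq] at h11
        rw [hT.cp_sr_b he', hT.cp_sr_b he', ← ieq_iff, ← ieq_iff, h11]
    have h10 := h9 _ h8 (by rw [← hj (f.symm _), f.apply_symm_apply, toF_apply, ieq_iff.1 h7])
    rw [← hcp _ _ (rt_sr hp i1), ← hcp _ _ (rt_sr hp i2), f.apply_symm_apply, y1, y2, hT.psi_b he, hT.psi_b he] at h10
    have h11 : dot e.b e1.cv = 0 ↔ dot e.b e2.cv = 0 := by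
      rcases n1 with rfl | rfl <;> rcases n2 with rfl | rfl <;> omega
    rw [← ieq_iff, ← ieq_iff, Bool.coe_iff_coe] at h11
    rw [h11, bne_self_eq_false] at h6
    exact Bool.false_ne_true h6
  rcases Bool.or_eq_true_iff.1 h3 with h5 | h3
  · exfalso
    obtain ⟨b, hb, h6⟩ := an_iff.1 k2
    obtain ⟨h7, h6⟩ := Bool.and_eq_true_iff.1 h6
    obtain ⟨h8, h9⟩ := Bool.and_eq_true_iff.1 h6
    obtain ⟨e, he, h10⟩ := hT.sur _ ((hr _).2 (hT.rt b hb))
    have h11 : f (toF l b.b) j = 1 := by rw [hj, toF_apply, ieq_iff.1 h7]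
    have h12 : f (toF l b.b) = toF l e.b := by
      refine h10.resolve_right fun h13 => ?_
      have h14 : 0 ≤ toF l e.b j := hT.pos e he j
      rw [h13, Pi.neg_apply] at h11
      omega
    have h13 := hcp (toF l b.b) _ (rt_sr hp i1)
    have h14 := hcp (toF l b.b) _ (rt_sr hp i2)
    rw [y1, h12, hT.psi_b he, hT.cp_sr_b hb, ieq_iff.1 h8] at h13
    rw [y2, h12, hT.psi_b he, hT.cp_sr_b hb, ieq_iff.1 h9] at h14
    have h15 : dot e.b e2.cv = 0 := by rcases n2 with rfl | rfl <;> omega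
    rw [h12] at h11
    rw [an_iff.2 ⟨e, he, Bool.and_eq_true_iff.2 ⟨ieq_iff.2 h11, Bool.and_eq_true_iff.2
      ⟨ieq_iff.2 h13, ieq_iff.2 h15⟩⟩⟩] at h5
    exact Bool.false_ne_true h5
  · obtain ⟨ω, hω, h5⟩ := an_iff.1 h3
    refine ⟨wd M ω, wd_mem fun k hk => ?_, ?_, ?_⟩
    · have h6 : k = i1 ∨ k = i2 := by
        simp only [List.mem_cons, List.not_mem_nil, or_false] at hω
        rcases hω with rfl | rfl | rfl | rfl | rfl | rfl <;> simp only [List.mem_cons, List.not_mem_nil, or_false] at hk <;>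
          tauto
      rcases h6 with h6 | h6
      · exact ⟨i1, h6, Or.inl rfl⟩
      · exact ⟨i2, h6, Or.inr (Or.inl rfl)⟩
    · funext i
      rw [hT.wd_apply, psi_sr, toF_apply, ieq_iff.1 (Bool.and_eq_true_iff.1 (al_iff.1 h5 i (List.mem_range.2 i.2))).1, x1]
      rfl
    · funext i
      rw [hT.wd_apply, psi_sr, toF_apply, ieq_iff.1 (Bool.and_eq_true_iff.1 (al_iff.1 h5 i (List.mem_range.2 i.2))).2, x2]
      rfl

include hT in
theorem Tab.actA2 {j i1 i2 : Fin l} (h1 : i1 ≠ j) (h2 : i2 ≠ j) (h : a2chk l d j i1 i2 = true) {f : Lat l ≃+ Lat l}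
    (hr : ∀ a, Rt hp (f a) ↔ Rt hp a) (hcp : ∀ a c, Rt hp c → cp hp (f a) (f c) = cp hp a c) {ε : ℤˣ}
    (hj : ∀ a, f a j = ε * a j) : ActA2 hp f ε (sr i1) (sr i2) := by
  have hr' : ∀ a, Rt hp ((ε : ℤ) • a) ↔ Rt hp a := by
    intro a
    rcases Int.units_eq_one_or ε with rfl | rfl
    · rw [Units.val_one, one_smul]
    · rw [Units.val_neg, Units.val_one, neg_one_smul]
      exact ⟨fun h => by have := h.neg; rwa [neg_neg] at this, fun h => h.neg⟩
  obtain ⟨w, hw, h3, h4⟩ := hT.act_one h1 h2 h (f := f.trans (sg l ε))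
    (fun a => by rw [AddEquiv.trans_apply, sg_apply, hr', hr]) (fun a c hc => by
      rw [AddEquiv.trans_apply, AddEquiv.trans_apply, sg_apply, sg_apply, ← hcp a c hc]
      rcases Int.units_eq_one_or ε with rfl | rfl
      · rw [Units.val_one, one_smul, one_smul]
      · rw [Units.val_neg, Units.val_one, neg_one_smul, neg_one_smul, cp_neg_right hp _ ((hr c).2 hc),
          cp_neg hp _ ((hr c).2 hc), neg_neg])
    (fun a => by
      rw [AddEquiv.trans_apply, sg_apply, Pi.smul_apply, hj, smul_eq_mul, ← mul_assoc, Int.units_coe_mul_self, one_mul])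
  rw [AddEquiv.trans_apply, sg_apply] at h3 h4
  have h5 : f (sr i1) = (ε : ℤ) • wa hp w (sr i1) := by rw [← h3, smul_smul, Int.units_coe_mul_self, one_smul]
  have h6 : f (sr i2) = (ε : ℤ) • wa hp w (sr i2) := by rw [← h4, smul_smul, Int.units_coe_mul_self, one_smul]
  refine ⟨w, hw, fun a ha => ?_⟩
  rcases mem_A2s.1 ha with rfl | rfl | rfl | rfl | rfl | rfl <;>
    simp only [map_add, map_neg, h5, h6, smul_add, smul_neg]

include hT in
theorem Tab.rd {p q r : ℕ} {g : Lat l ≃+ Lat l} {A B : Lat l →+ ZMod r} (C : Cm hp p q r g A B) {j i1 i2 : Fin l}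
    (hx : Ex1 hp A j) (h1 : i1 ≠ j) (h2 : i2 ≠ j) (h : a2chk l d j i1 i2 = true) : RD hp q g A := by
  have := Fact.mk C.prime
  refine ⟨_, _, hT.a2c hx h1 h2 h, fun w hw => ?_, ?_⟩
  · rcases hx.res (BpExc.Fr.repAut M.toCoxeterSystem hp.isCartan w) (rt_wa hp w) (e := -1)
      (fun a => by rw [neg_one_mul]; exact hw a) with h3 | h3
    · exact absurd (by push_cast; linear_combination -h3.1) (un6 C.prime C.five (n := 2) (by norm_num))
    · exact hT.actA2 h1 h2 h (f := BpExc.Fr.repAut M.toCoxeterSystem hp.isCartan w) (rt_wa hp w)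
        (fun a c hc => cp_wa hp w a hc) fun a => by rw [h3.2, Units.val_neg, Units.val_one, neg_one_mul]
  · rcases hx.res g C.root C.frA with h3 | h3
    · exact ⟨1, by rw [h3.1, Units.val_one, Int.cast_one],
        hT.actA2 h1 h2 h C.root C.gcp fun a => by rw [h3.2, Units.val_one, one_mul]⟩
    · exact ⟨-1, by rw [h3.1, Units.val_neg, Units.val_one, Int.cast_neg, Int.cast_one],
        hT.actA2 h1 h2 h C.root C.gcp fun a => by rw [h3.2, Units.val_neg, Units.val_one, neg_one_mul]⟩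

end gen

theorem no_poly5 (e : ZMod 5) : ¬ (e ^ 2 - e + 1 = 0 ∨ e ^ 2 + e + 1 = 0) := by
  revert e
  decide

theorem e7_five (hc : BoxConn) {μ : V} {J : List ℕ} {L : List V} (h : pchk 7 dE7 μ μ J L = true) {G : List V}
    (hG : gchk 7 dE7 μ G = true) {j : Fin 7} (hj : toF 7 μ = sr j) {CT : List (V × Bool × List V)}
    {SV : List V} (hk : kchk 7 dE7 5 1 μ μ G CT L SV = true)
    (he : al (fun lam => an (endR dE7 5 1 (pl μ lam) (mi μ lam)) dE7.T ||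
      Nat.blt (cnt (fun e => !nz 5 1 (dot e.b (pl μ lam))) dE7.T) 16) SV = true) {p q : ℕ}
    {g : Lat 7 ≃+ Lat 7} {A B : Lat 7 →+ ZMod 5} (C : Cm tE7 p q 5 g A B) (hκ : Exa tE7 (A + B) μ)
    (hA : 32 ≤ (Psi tE7 A).ncard) : EndE7 q g A B := by
  obtain ⟨u, lam, hlam, c, hc0, h1, -, h2⟩ := e7_surv hc h hG hj hk md5 C hκ
  rcases Bool.or_eq_true_iff.1 (al_iff.1 he lam hlam) with h3 | h3
  · exact h2 h3
  · have h4 := tabE7.ncard_le (cw tE7 A u) (P := fun e => !nz 5 1 (dot e.b (pl μ lam))) fun e he h5 =>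
      h1.not_nz C.prime hc0 (tabE7.lb e he) md5 h5
    rw [ncard_cw] at h4
    rw [Nat.blt_eq] at h3
    omega

theorem end_five (hc : BoxConn) {p q : ℕ} {g : Lat 7 ≃+ Lat 7} {A B : Lat 7 →+ ZMod 5} (C0 : Cm tE7 p q 5 g A B)
    (hA : 32 ≤ (Psi tE7 A).ncard) : EndE7 q g A B := by
  obtain ⟨w, h⟩ := typesE7 C0.prime C0.five C0.x0 C0.k1x C0.root C0.gcp C0.frX
  have C := C0.act w
  rw [← ncard_cw tE7 A w] at hA
  refine endE7_of (w := w) ?_
  rcases h with h | h | h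
  swap
  · exact absurd h (not_T2 C)
  swap
  · exact absurd h (not_T3 hc C)
  rcases h with h | h | h | h | h | h
  · exact e7_five hc pE7_0000001 gE7_6 (toF_uv (l := 7) 6) kE7_0000001_5 eE7_0000001_5 C h.cw_add hA
  · exact e7_five hc pE7_0000010 gE7_5 (toF_uv (l := 7) 5) kE7_0000010_5 eE7_0000010_5 C h.cw_add hA
  · exact e7_five hc pE7_0100000 gE7_1 (toF_uv (l := 7) 1) kE7_0100000_5 eE7_0100000_5 C h.cw_add hA
  · exact e7_five hc pE7_0010000 gE7_2 (toF_uv (l := 7) 2) kE7_0010000_5 eE7_0010000_5 C h.cw_add hA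
  · exact e7_five hc pE7_0000100 gE7_4 (toF_uv (l := 7) 4) kE7_0000100_5 eE7_0000100_5 C h.cw_add hA
  · exact e7_five hc pE7_0001000 gE7_3 (toF_uv (l := 7) 3) kE7_0001000_5 eE7_0001000_5 C h.cw_add hA

theorem finE7_five (hc : BoxConn) (p q : ℕ) (g0 g : Lat 7 ≃+ Lat 7) (A B : Lat 7 →+ ZMod 5)
    (C0 : Cmb tE7 p q 5 g0 g A B) (hK : K5s tE7 q g A) : EndE7 q g A B ∨ RD tE7 q g A := by
  have := Fact.mk C0.prime
  obtain ⟨w, h⟩ := typesE7 C0.prime C0.five C0.a0 C0.k1a C0.root C0.gcp C0.frA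
  have C := (cm_of C0).act w
  have key : ∀ κ : V, Exa tE7 (cw tE7 A w) κ → Nat.ble 16 (cnt (fun e => ieq (dot e.b κ) 0) dE7.T) = true →
      EndE7 q g A B := fun κ h1 h2 => end_five hc (cm_of C0) (by
    rw [← ncard_cw tE7 A w, tabE7.ncard_ex h1]
    rw [Nat.ble_eq] at h2
    omega)
  rcases h with h | h | h
  · rcases h with h | h | h | h | h | h
    · exact Or.inl (key _ h (by decide +kernel))
    · exact Or.inl (key _ h (by decide +kernel))
    · exact Or.inl (key _ h (by decide +kernel))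
    · exact Or.inl (key _ h (by decide +kernel))
    · exact Or.inr (rd_of (w := w) (tabE7.rd C (h.ex1 (toF_uv (l := 7) 4)) (i1 := 6) (i2 := 5) (by decide) (by decide)
        (by decide +kernel)))
    · exact Or.inr (rd_of (w := w) (tabE7.rd C (h.ex1 (toF_uv (l := 7) 3)) (i1 := 0) (i2 := 2) (by decide) (by decide)
        (by decide +kernel)))
  · exfalso
    obtain ⟨κ, i, j, hij, -, h1, -, h2, -⟩ := h
    obtain ⟨w0, hw0⟩ := exists_negE7
    obtain ⟨c, h3⟩ := K5s_act hK w (red 5 (sr j))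
      (fun a ha => ⟨ha.1, by rw [red_apply, psi_sr', ((h1 a ha.1).1 ha.2).2, Int.cast_zero]⟩)
      (fun a => by rw [red_apply, red_apply, psi_sr', psi_sr', h2]) ⟨w0, neg_of_word hw0 _, neg_of_word hw0 _⟩
    have h4 := h3 (sr i)
    have h5 := h3 (sr j)
    rw [red_apply, psi_sr', sr_ne hij.symm, Int.cast_zero] at h4
    rw [(mul_eq_zero.1 h4.symm).resolve_right h1.ne1, zero_mul, red_apply, psi_sr', sr_self, Int.cast_one] at h5
    exact one_ne_zero h5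
  · exact absurd h.2.1 (no_poly5 _)

/-- **The finite check for `r = 5`.** -/
theorem boxFin5 (hc : BoxConn) : BoxFin5 where
  e6 := finE6_five hc
  e7 := finE7_five hc

end Cfsg.Agent.Cam.Ex.Cb
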