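import Cfsg.Agent.Cam.Ex.Five2A

/-!
# Exceptional rows, `r = 5`, characteristic two: the case `E₆` (helper33)

* `cent_triv` : a fixed point of the Frobenius map of an untwisted frame centralizing `L` is trivial;
* `fix_range`, `eq_one_of_fix` : automorphisms of `L` fixing `R` pointwise;
* `e6` : no toral triangle in `E₆` and `²E₆`.
-/

set_option autoImplicit false
set_option linter.unusedVariables false
set_option linter.unusedSectionVars false

namespace Cfsg.Agent.Cam.Ex.Five2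

open CoxeterSystem Cfsg Cfsg.Lie Subgroup
open Cfsg.Agent.ChevalleyStructure.CoxeterGeom Cfsg.Agent.ChevalleyStructure.CoxeterGeomTypes
open Cfsg.Agent.Tits.Roots Cfsg.Agent.Nodes.BNOf Cfsg.Agent.Nodes.RGDChev Cfsg.Agent.Nodes.Coroot
open Cfsg.Agent.KFacts.RgdChevCoord Cfsg.Agent.BpExc.TorCent Cfsg.Agent.BpExc.LangFr Cfsg.Agent.BpExc.SubBN
open Cfsg.Agent.Cam.Spor Cfsg.Agent.TwoFusion.PerfCore
open Cfsg.Agent.DS.Nt (RP)
open scoped commutatorElement

variable {D : ChevalleyDatum} {l : ℕ} {M : CoxeterMatrix (Fin l)} {hp : IsType D l M} {p : ℕ} [Fact p.Prime]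
  {d : ℕ} {g0 : Lat l ≃+ Lat l} {L : Type} [Group L] [Finite L] {U : Type} [Group U] [Finite U]
  {τ α β : U →* L} {R R' : Subgroup L}

section cent

/-- an element commuting with a non-trivial element of every root group is trivial -/
theorem eq_one_of_xc (hp : IsType D l M) {z : YY D p}
    (h : ∀ a, Rt hp a → ∃ s : kb p, s ≠ 0 ∧ z * xc hp a s = xc hp a s * z) : z = 1 := by
  have := finite_WW hp
  have H := DS.Nt.tw hp p
  have C := BpExc.TowChev.coordsL hp M.toCoxeterSystem (H469.Exc.locFin p) p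
  have lev : ∀ a, Rt hp a → ∃ j, ∃ u ∈ BpExc.TowChev.Xj hp j a, u ≠ 1 ∧ z * u = u * z := by
    intro a ha
    obtain ⟨s, hs, e⟩ := h a ha
    have h1 := DS.Nt.xc_mem (hp := hp) ha s
    rw [← DS.Nt.XLe hp p] at h1
    obtain ⟨j, hj⟩ := H.mem_XL.1 h1
    exact ⟨j, _, hj, (C.coord a ha).ne_one hs, e⟩
  choose j1 u1 h1 h1' using fun i : Fin l => lev _ (rt_sr hp i)
  choose j2 u2 h2 h2' using fun i : Fin l => lev _ (rt_sr hp i).neg
  obtain ⟨j0, hj0⟩ := H.mem_GG.1 (show z ∈ _ by rw [DS.Nt.GGW hp p]; exact mem_top z)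
  have : IsDirectedOrder (BpExc.TowChev.Lev (kb p)) := ⟨H.dir⟩
  have := H.ne
  obtain ⟨k1, hk1⟩ := Finite.exists_le j1
  obtain ⟨k2, hk2⟩ := Finite.exists_le j2
  obtain ⟨k3, hk3, hk3'⟩ := H.dir k1 k2
  obtain ⟨k, hk, hk'⟩ := H.dir k3 j0
  have hT : z ∈ TT D (kb p) := by
    rw [← DS.Nt.TLe hp p]
    exact BpExc.Tow.le_TL k (BpExc.FamCent.mem_T_of_comm (H.rgd k) (H.mono_GG hk' hj0)
      (fun i => ⟨u1 i, H.monoX _ (((hk1 i).trans hk3).trans hk) (h1 i), h1' i⟩)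
      (fun i => ⟨u2 i, H.monoX _ (((hk2 i).trans hk3').trans hk) (h2 i), h2' i⟩))
  refine chi_sep (hp := hp) hT (one_mem _) fun a ha => ?_
  obtain ⟨s, hs, e⟩ := h a ha
  rw [ch_one ha, ← cX_rt hT ha]
  exact DS.Nt.cX_eq_one_of_comm hT ha hs e

theorem conj_mem_range (E : Frame hp p d g0 L) {y : YY D p} (hy : E.F y = y) (x : L) :
    y * E.ι x * y⁻¹ ∈ E.ι.range := by
  have h1 : y * E.ι x * y⁻¹ = ⁅y, E.ι x⁆ * E.ι x := by rw [commutatorElement_def]; group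
  rw [h1]
  exact mul_mem (E.der _ _ hy (E.fix x)) ⟨x, rfl⟩

/-- a fixed point centralizing `L` centralizes all fixed points -/
theorem comm_fix (E : Frame hp p d g0 L) {z : YY D p} (hz : E.F z = z) (hc : ∀ x, z * E.ι x = E.ι x * z)
    {y : YY D p} (hy : E.F y = y) : z * y = y * z := by
  obtain ⟨x, hx⟩ := E.der y z hy hz
  have h1 : x = 1 := by
    refine eq_one_of_comm E.simple E.noncomm fun w => E.inj ?_
    obtain ⟨w', hw'⟩ := conj_mem_range E (y := y⁻¹) (by rw [map_inv, hy]) w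
    have h2 : z⁻¹ * E.ι w = E.ι w * z⁻¹ := (Commute.inv_left (hc w)).eq
    rw [map_mul, map_mul, hx, commutatorElement_def]
    calc y * z * y⁻¹ * z⁻¹ * E.ι w = y * (z * (y⁻¹ * E.ι w * y⁻¹⁻¹)) * y⁻¹ * z⁻¹ := by
          rw [mul_assoc _ z⁻¹, h2]
          group
      _ = y * ((y⁻¹ * E.ι w * y⁻¹⁻¹) * z) * y⁻¹ * z⁻¹ := by rw [← hw', hc]
      _ = _ := by group
  rw [h1, map_one] at hx
  exact (commutatorElement_eq_one_iff_mul_comm.1 hx.symm).symm

theorem cent_triv' (E : Frame hp p d g0 L) (hg : ∀ a, E.g a = a) {z : YY D p} (hz : E.F z = z)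
    (hc : ∀ x, z * E.ι x = E.ι x * z) : z = 1 := by
  refine eq_one_of_xc hp fun a ha => ?_
  obtain ⟨c, hc0, h⟩ := E.pw a ha
  have hq : 2 ≤ p ^ E.e := E.two_le
  obtain ⟨s, hs⟩ := IsAlgClosed.exists_pow_nat_eq c⁻¹ (show 0 < p ^ E.e - 1 by omega)
  have hs0 : s ≠ 0 := by
    rintro rfl
    rw [zero_pow (by omega)] at hs
    exact inv_ne_zero hc0 hs.symm
  refine ⟨s, hs0, comm_fix E hz hc ?_⟩
  rw [h, hg, show p ^ E.e = p ^ E.e - 1 + 1 by omega, pow_succ, hs, mul_inv_cancel_left₀ hc0]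

/-- **The centralizer of `L` in the fixed points is trivial** (untwisted frames). -/
theorem cent_triv (E : Frame hp p d (sg l 1) L) {z : YY D p} (hz : E.F z = z) (hc : ∀ x, z * E.ι x = E.ι x * z) :
    z = 1 := by
  obtain ⟨w, hw⟩ := E.gr
  obtain ⟨n, hn⟩ := DS.Nt.exists_RP hp p w⁻¹
  obtain ⟨y, hy⟩ := E.exists_move n
  rw [← hy] at hn
  have h1 := cent_triv' (E.move y w⁻¹ hn) (fun a => by
    rw [Frame.move_g, hw, wa_inv_wa, sg_apply, Units.val_one, one_smul]) (z := y⁻¹ * z * y) (by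
    rw [Frame.move_fix, show y * (y⁻¹ * z * y) * y⁻¹ = z by group, hz]) fun x => by
    rw [Frame.move_ι]
    calc y⁻¹ * z * y * (y⁻¹ * E.ι x * y) = y⁻¹ * (z * E.ι x) * y := by group
      _ = y⁻¹ * (E.ι x * z) * y := by rw [hc]
      _ = _ := by group
  calc z = y * (y⁻¹ * z * y) * y⁻¹ := by group
    _ = 1 := by rw [h1, mul_one, mul_inv_cancel]

/-- the automorphism of `L` induced by a fixed point -/
theorem exists_aut (E : Frame hp p d g0 L) {z : YY D p} (hz : E.F z = z) :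
    ∃ σ : MulAut L, ∀ (k : ℕ) (x : L), E.ι ((σ ^ k) x) = z ^ k * E.ι x * (z ^ k)⁻¹ := by
  choose f hf using fun x => conj_mem_range E hz x
  choose f' hf' using fun x => conj_mem_range E (y := z⁻¹) (by rw [map_inv, hz]) x
  let σ : MulAut L :=
    { toFun := f
      invFun := f'
      left_inv := fun x => E.inj (by rw [hf', hf]; group)
      right_inv := fun x => E.inj (by rw [hf, hf']; group)
      map_mul' := fun x y => E.inj (by rw [map_mul, hf, hf, hf, map_mul]; group) }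
  refine ⟨σ, fun k => ?_⟩
  induction k with
  | zero => intro x; rw [pow_zero, pow_zero, MulAut.one_apply, one_mul, inv_one, mul_one]
  | succ k ih =>
    intro x
    rw [pow_succ, MulAut.mul_apply, ih, show E.ι (σ x) = z * E.ι x * z⁻¹ from hf x, pow_succ]
    group

end cent

section grp

/-- an automorphism of odd order fixing `R`, `τ u` and `τ v` fixes `τ U` -/
theorem fix_range (big : Big) (c : Core τ α β R R') (h5 : ∀ u t : U, orderOf u = 5 → t * u = u * t → t ∈ zpowers u)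
    (ho : ∀ σ : MulAut U, Odd (orderOf σ) → ∃ t : U, σ = MulAut.conj t) {u v : U} (hu : orderOf u = 5)
    (hv : v * u * v⁻¹ = u⁻¹) {σ : MulAut L} {m : ℕ} (hm : Odd m) (hσ : σ ^ m = 1) (hR : ∀ r ∈ R, σ r = r)
    (hσu : σ (τ u) = τ u) (hσv : σ (τ v) = τ v) (w : U) : σ (τ w) = τ w := by
  have hc : (σ.toMonoidHom.comp τ).range ≤ centralizer (R : Set L) := by
    rintro _ ⟨w, rfl⟩
    rw [mem_centralizer_iff]
    intro r hr
    show r * σ (τ w) = σ (τ w) * r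
    rw [← hR r hr, ← map_mul, ← map_mul, c.pair.comm w r hr]
  have h1 : ∀ w, ∃ w', τ w' = σ (τ w) := by
    intro w
    obtain ⟨_, ⟨t, rfl⟩, ht⟩ := Rd.inner_of_perfect big (range_simple c.simple c.pair.inj)
      (range_perfect c.simple c.noncomm (σ.toMonoidHom.comp τ)) (hc.trans c.pair.cnorm) ⟨w, rfl⟩
    exact ⟨t, inv_mul_eq_one.1 (c.pair.cfaith _ (mul_mem (inv_mem (c.pair.tau_mem_cent t)) (hc ⟨w, rfl⟩))
      fun s => (mem_centralizer_iff.1 ht _ ⟨s, rfl⟩).symm)⟩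
  choose f hf using h1
  let φ : U →* U := MonoidHom.mk' f fun a b => c.pair.inj (by rw [map_mul, hf, hf, hf, map_mul, map_mul])
  have hφ : Function.Injective φ := fun a b h => c.pair.inj (σ.injective (by
    rw [← hf, ← hf]
    exact congrArg τ h))
  let ρ : MulAut U := MulEquiv.ofBijective φ (Finite.injective_iff_bijective.1 hφ)
  have hρ : ∀ w, τ (ρ w) = σ (τ w) := hf
  have hρk : ∀ (k : ℕ) (w : U), τ ((ρ ^ k) w) = (σ ^ k) (τ w) := by
    intro k
    induction k with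
    | zero => intro w; rfl
    | succ k ih => intro w; rw [pow_succ, pow_succ, MulAut.mul_apply, MulAut.mul_apply, ih, hρ]
  have hρm : ρ ^ m = 1 := MulEquiv.ext fun w => c.pair.inj (by rw [hρk, hσ]; rfl)
  obtain ⟨t, ht⟩ := ho ρ (hm.of_dvd_nat (orderOf_dvd_of_pow_eq_one hρm))
  have e : ∀ {s : U}, σ (τ s) = τ s → t * s = s * t := fun {s} hs => by
    have h2 : ρ s = s := c.pair.inj (by rw [hρ, hs])
    rw [ht, MulAut.conj_apply] at h2
    exact mul_inv_eq_iff_eq_mul.1 h2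
  obtain ⟨k, hk⟩ := h5 u t hu (e hσu)
  have hk' : u ^ k = t := hk
  have h2 : v * t * v⁻¹ = t⁻¹ := by rw [← hk', ← conj_zpow, hv, inv_zpow]
  rw [← e hσv, mul_inv_cancel_right] at h2
  have h3 : t ^ 5 = 1 := by rw [← hk', ← zpow_natCast, ← zpow_mul, mul_comm, zpow_mul, zpow_natCast, ← hu,
    pow_orderOf_eq_one, one_zpow]
  have h4 : t = 1 := by
    have h5 : t * t = 1 := by
      nth_rewrite 1 [h2]
      exact inv_mul_cancel t
    calc t = t ^ 5 * ((t * t) * (t * t))⁻¹ := by group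
      _ = 1 := by rw [h3, h5]; group
  rw [← hρ, ht, h4, map_one]
  rfl

/-- an automorphism of order three fixing `τ U` and `R`, when `Out L` has only one subgroup of order three -/
theorem eq_one_of_fix (c : Core τ α β R R')
    (o3 : ∀ a b : Cfsg.Out L, orderOf a = 3 → orderOf b = 3 → b ∈ zpowers a) {σ : MulAut L} (h3 : σ ^ 3 = 1)
    (h1 : σ ≠ 1) (hT : ∀ w, σ (τ w) = τ w) (hR : ∀ r ∈ R, σ r = r) {u : U} (hu : σ (α u) = α u) : u = 1 := by
  have : Fact (Nat.Prime 3) := ⟨Nat.prime_three⟩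
  have key : ∀ ρ : MulAut L, (∀ y ∈ τ.range ⊔ R, ρ y = y) → ρ ∈ Cfsg.Inn L → ρ = 1 := by
    rintro _ h ⟨x, rfl⟩
    have h2 : ∀ y ∈ τ.range ⊔ R, x * y = y * x := fun y hy => mul_inv_eq_iff_eq_mul.1 (h y hy)
    rw [c.pair.cfaith x (mem_centralizer_iff.2 fun r hr => (h2 r (mem_sup_right hr)).symm)
      fun w => h2 _ (mem_sup_left ⟨w, rfl⟩), map_one]
  have ord : ∀ ρ : MulAut L, (∀ y ∈ τ.range ⊔ R, ρ y = y) → ρ ^ 3 = 1 → ρ ≠ 1 →
      orderOf (ρ : Cfsg.Out L) = 3 := fun ρ h h3 h1 =>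
    orderOf_eq_prime (by rw [← QuotientGroup.mk_pow, h3, QuotientGroup.mk_one])
      fun h2 => h1 (key ρ h ((QuotientGroup.eq_one_iff _).1 h2))
  have fixk : ∀ (k : ℕ) (y : L), σ y = y → (σ ^ k) y = y := by
    intro k y hy
    induction k with
    | zero => rfl
    | succ k ih => rw [pow_succ, MulAut.mul_apply, hy, ih]
  let Y : Subgroup L := σ.toMonoidHom.eqLocus (MonoidHom.id L)
  have hS : τ.range ⊔ R ≤ Y := sup_le (by rintro _ ⟨w, rfl⟩; exact hT w) hR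
  refine c.anorm u (c.max Y (fun h => h1 (MulEquiv.ext fun y => (show y ∈ Y from h ▸ mem_top y))) (fun θ hθ => ?_) hu)
  have h2 : ∀ y ∈ τ.range ⊔ R, (θ * σ * θ⁻¹) y = y := by
    intro y hy
    rw [← hθ] at hy
    obtain ⟨y, hy', rfl⟩ := hy
    show θ (σ (θ⁻¹ (θ y))) = θ y
    rw [MulAut.inv_apply_self, show σ y = y from hS hy']
  have := Finite.of_injective (fun f : MulAut L => (f : L → L)) DFunLike.coe_injective
  obtain ⟨k, hk⟩ := (mem_powers_iff_mem_zpowers.2 (o3 _ _ (ord σ hS h3 h1) (ord _ h2 (by rw [conj_pow, h3]; group)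
    fun h => h1 (by rwa [mul_inv_eq_one, mul_eq_left] at h))) : _ ∈ Submonoid.powers _)
  have hk' : ((σ ^ k : MulAut L) : Cfsg.Out L) = (θ * σ * θ⁻¹ : MulAut L) := by
    rw [QuotientGroup.mk_pow]
    exact hk
  have h4 : σ ^ k = θ * σ * θ⁻¹ := inv_mul_eq_one.1 (key _ (fun y hy => by
    rw [MulAut.mul_apply, h2 y hy]
    exact (σ ^ k).injective (by rw [MulAut.apply_inv_self, fixk k y (hS hy)])) (QuotientGroup.eq.1 hk'))
  refine (eq_of_le_of_card_ge (H := Y) (K := Y.map θ.toMonoidHom) (fun y hy => ?_)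
    (card_map_of_injective θ.injective).le).symm
  refine ⟨θ⁻¹ y, θ.injective ?_, MulAut.apply_inv_self _ θ y⟩
  have h5 := fixk k y hy
  rw [h4] at h5
  exact h5.trans (MulAut.apply_inv_self _ θ y).symm

end grp

theorem exists_order {q e : ℕ} (hq : q = 2 ^ e) (h4 : 4 ≤ q) (ε : ℤˣ) :
    ∃ m : ℕ, (q : ℤ) = m + ε ∧ Odd m ∧ 3 ≤ m ∧ (m = 3 → ε = 1 ∧ q = 4) := by
  have h2 : Even q := by
    rw [hq, Nat.even_pow]
    refine ⟨even_two, ?_⟩
    rintro rfl
    omega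
  obtain ⟨k, hk⟩ := h2
  rcases Int.units_eq_one_or ε with rfl | rfl
  · exact ⟨q - 1, by rw [Units.val_one]; omega, ⟨k - 1, by omega⟩, by omega, fun h => ⟨rfl, by omega⟩⟩
  · exact ⟨q + 1, by rw [Units.val_neg, Units.val_one]; omega, ⟨k, by omega⟩, by omega, fun h => by omega⟩

/-- **`E₆`, characteristic two, `r = 5`.** -/
theorem e6 (big : Big) (f5 : BoxFin5) (g5 : BoxGrp5) (o3 : BoxOut3) {d : ℕ} (hd : d ∣ 3) {ε : ℤˣ}
    (E : Frame tE6 2 d (sg 6 ε) L) {ζ : kb 2} {u v : U} {A B : Lat 6 →+ ZMod 5} (h : Dat E τ α β R R' 5 ζ u v A B)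
    (hc : Cmb tE6 2 E.q 5 (sg 6 ε) E.g A B) : ¬ ∀ r : ℕ, r.Prime → 7 ≤ r → r ∣ Nat.card U → r = 2 := by
  intro h7
  obtain ⟨h5, ho⟩ := g5 U h.core.simple h.core.noncomm (primes_le h7)
  have hζ := h.prim
  obtain ⟨hq, θ, ⟨a0, ha0, hθ0⟩, hψ, hneg, hg⟩ := f5.e6 _ _ _ _ _ _ hc
  obtain ⟨m, hm, hodd, hm3, hm4⟩ := exists_order (q := E.q) rfl (four_le E.two_le hq) ε
  obtain ⟨c, hcm⟩ := exists_zeta 2 (m := m) (Nat.coprime_two_right.2 hodd)
  have hc0 : c ≠ 0 := hcm.ne_zero (by omega)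
  obtain ⟨z, hz, hzc⟩ := exists_tor_all tE6 (DS.Nt.isMC_zpow hc0 θ)
  have hch : ∀ a, Rt tE6 a → ch tE6 a z = c ^ θ a := fun a ha => (cX_rt hz ha).symm.trans (hzc a)
  have hpow : ∀ n : ℤ, (c ^ n) ^ m = 1 := fun n => by
    rw [← zpow_natCast, ← zpow_mul, mul_comm, zpow_mul, zpow_natCast, hcm.pow_eq_one, one_zpow]
  have hF : E.F z = z := fix_of_ch E hz fun a ha => by
    rw [hch _ ((E.fr.root a).2 ha), hch a ha, hg, ← zpow_natCast, hm, zpow_add₀ (zpow_ne_zero _ hc0), zpow_natCast,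
      hpow, one_mul, ← zpow_mul, mul_comm]
  have hzm : z ^ m = 1 := chi_sep (hp := tE6) (pow_mem hz m) (one_mem _) fun a ha => by
    rw [ch_pow ha hz, hch a ha, hpow, ch_one ha]
  have hu5 : τ u ^ 5 = 1 := by rw [← map_pow, ← h.ord, pow_orderOf_eq_one, map_one]
  have hk : ∀ a ∈ PsiS tE6 {E.ι (τ u)}, ch tE6 a z = 1 := fun a ha => by
    rw [h.chiX.psiS hζ] at ha
    rw [hch a ha.1, (hψ ha).2, zpow_zero]
  have hzR : ∀ r ∈ R, z * E.ι r = E.ι r * z := fun r hr =>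
    comm_of_psi hz hk (le_MS E h.chiX.1 hu5 h.core.pair.perfect (h.core.pair.comm u) hr)
  have hn : E.ι (τ v) * E.ι (τ u) * (E.ι (τ v))⁻¹ = (E.ι (τ u))⁻¹ := by
    rw [← map_inv, ← map_mul, ← map_mul, ← map_inv, ← map_mul, ← map_mul, h.inv, map_inv, map_inv]
  have hzv : z * E.ι (τ v) = E.ι (τ v) * z := by
    obtain ⟨w, hw⟩ := exists_weyl (hp := tE6) boxChi (E.ι (τ v))
    have h1 := hw _ h.chiX.1 (by rw [hn]; exact inv_mem h.chiX.1)
    rw [hn] at h1
    have h2 : Neg tE6 w (A + B) := fun a => by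
      have h6 := h.chiX.of_conj hζ (h.chiX.inv hζ) h1 a
      rw [AddMonoidHom.neg_apply] at h6
      exact neg_eq_iff_eq_neg.1 h6
    obtain ⟨k, hk'⟩ := DS.Nt.exists_RP tE6 2 w
    have h3 : k * z * k⁻¹ = z := conj_of_rp hk' hz hz fun a ha => by
      rw [hch _ (ha.wa' w), hch a ha, hneg w h2]
    have h4 := conj_eq_of_inv (hp := tE6) (by norm_num) h.chiX.1 (by rw [← map_pow, hu5, map_one]) hn
      (conj_of_rp hk' h.chiX.1 (inv_mem h.chiX.1) h1) (y := z) (by rw [h3]; exact hz) (by rw [h3]; exact hk)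
    rw [h3] at h4
    exact (mul_inv_eq_iff_eq_mul.1 h4).symm
  obtain ⟨σ, hσ⟩ := exists_aut E hF
  have fix : ∀ {x : L}, σ x = x ↔ z * E.ι x = E.ι x * z := fun {x} => by
    have h1 := hσ 1 x
    rw [pow_one, pow_one] at h1
    rw [← mul_inv_eq_iff_eq_mul, ← h1, E.inj.eq_iff]
  have triv : ∀ {n : ℕ}, z ^ n = 1 → σ ^ n = 1 := fun {n} hn => MulEquiv.ext fun x => E.inj (by
    rw [hσ, hn, one_mul, inv_one, mul_one]
    rfl)
  have hT := fix_range big h.core h5 ho h.ord h.inv hodd (triv hzm) (fun r hr => fix.2 (hzR r hr))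
    (fix.2 (tcomm tE6 hz h.chiX.1)) (fix.2 hzv)
  have dvd : ∀ {n : ℕ}, z ^ n = 1 → m ∣ n := fun {n} hn => by
    have h1 := ch_pow ha0 hz n
    rw [hn, ch_one ha0, hch a0 ha0, hθ0, zpow_one] at h1
    exact hcm.dvd_of_pow_eq_one n h1.symm
  have hz3 : z ^ 3 = 1 := by
    obtain ⟨j, hj⟩ := hd
    obtain ⟨x, hx⟩ : z ^ 3 ∈ E.ι.range := by
      rw [hj, pow_mul]
      exact pow_mem (E.idx z hF) j
    have h1 : ∀ {y : L}, z * E.ι y = E.ι y * z → x * y = y * x := fun {y} hy => E.inj (by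
      rw [map_mul, map_mul, hx]
      exact (Commute.pow_left hy 3).eq)
    rw [← hx, h.core.pair.cfaith x (mem_centralizer_iff.2 fun r hr => (h1 (hzR r hr)).symm)
      fun w => h1 (fix.1 (hT w)), map_one]
  obtain ⟨rfl, hq4⟩ := hm4 (le_antisymm (Nat.le_of_dvd (by norm_num) (dvd hz3)) hm3)
  have h1 := eq_one_of_fix h.core (o3 d L E hq4) (triv hz3) (fun h1 => by
    have h2 := cent_triv E hF fun x => fix.1 (by rw [h1]; rfl)
    have h3 := Nat.le_of_dvd one_pos (dvd (n := 1) (by rw [h2, one_pow]))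
    omega) hT (fun r hr => fix.2 (hzR r hr)) (fix.2 (tcomm tE6 hz h.chiA.1))
  have h2 := h.ord
  rw [h1, orderOf_one] at h2
  omega

end Cfsg.Agent.Cam.Ex.Five2
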