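import Cfsg.Agent.Cam.Ex.Root

/-!
# S3689, S3690, exceptional rows: `K3` and `K5` (helper53)
-/

set_option autoImplicit false
set_option linter.unusedVariables false
set_option linter.unusedSectionVars false

namespace Cfsg.Agent.Cam.Ex

open CoxeterSystem Cfsg Cfsg.Lie Subgroup
open Cfsg.Agent.ChevalleyStructure.CoxeterGeom Cfsg.Agent.ChevalleyStructure.CoxeterGeomTypes
open Cfsg.Agent.Tits.Roots Cfsg.Agent.Nodes.BNOf Cfsg.Agent.Nodes.RGDChev Cfsg.Agent.Nodes.Coroot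
open Cfsg.Agent.KFacts.RgdChevCoord Cfsg.Agent.BpExc.TorCent Cfsg.Agent.BpExc.LangFr Cfsg.Agent.BpExc.SubBN
open Cfsg.Agent.Cam.Spor Cfsg.Agent.Cam.Ex.S2
open Cfsg.Agent.DS.Nt (RP)
open scoped commutatorElement

variable {D : ChevalleyDatum} {l : ℕ} {M : CoxeterMatrix (Fin l)} {hp : IsType D l M} {p : ℕ} [Fact p.Prime]

theorem map_perf {G H : Type*} [Group G] [Group H] (f : G →* H) {R : Subgroup G} (h : ⁅R, R⁆ = R) :
    ⁅R.map f, R.map f⁆ = R.map f := by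
  rw [← map_commutator, h]

theorem psi_neg {K : Type} [AddCommGroup K] (φ : Lat l →+ K) : Psi hp (-φ) = Psi hp φ := by
  ext a
  exact and_congr_right fun _ => by rw [AddMonoidHom.neg_apply, neg_eq_zero]

/-- the root groups of `PsiS Q` centralize `Q` -/
theorem MS_comm {Q : Set (YY D p)} (hQ : ∀ t ∈ Q, t ∈ TT D (kb p)) {m : YY D p} (hm : m ∈ MS D l p (PsiS hp Q))
    {t : YY D p} (ht : t ∈ Q) : m * t = t * m := DS.Nt.Mz_comm (hp := hp) hQ hm ht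

/-- an element conjugating a torus element to a torus element -/
theorem form_one {s t n : YY D p} (hs : s ∈ TT D (kb p)) (ht : t ∈ TT D (kb p)) (h : n * s * n⁻¹ = t) :
    ∃ m ∈ MS D l p (PsiS hp {t}), ∃ w k, RP hp p w k ∧ k * s * k⁻¹ = t ∧ n = m * k := by
  obtain ⟨m, hm, w, k, hk, e, rfl⟩ := DS.Nt.form₂ hp (ι := Unit) (s := fun _ => s) (t := fun _ => t) (c := n)
    (fun _ => hs) (fun _ => ht) (fun _ => by rw [← h]; group)
  rw [Set.range_const] at hm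
  exact ⟨m, hm, w, k, hk, by rw [e ()]; group, rfl⟩

theorem ch_sq_of_cz {c : Lat l} (hc : Rt hp c) {n t : YY D p} (hn : Cz (sl p hc) n) (ht : t ∈ TT D (kb p))
    (h : n * t * n⁻¹ = t⁻¹) : ch hp c t⁻¹ = ch hp c t := by
  have h0 : ∀ s, n * xc hp c s = xc hp c s * n := fun s => by rw [← sl_up hc]; exact hn _
  have h1 := ch_act hc ht 1
  have h2 := ch_act hc (inv_mem ht) 1
  rw [mul_one] at h1 h2
  refine xc_injective hc ?_
  rw [← h2, ← h]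
  calc n * t * n⁻¹ * xc hp c 1 * (n * t * n⁻¹)⁻¹ = n * t * (n⁻¹ * (xc hp c 1 * n)) * t⁻¹ * n⁻¹ := by group
    _ = n * (t * xc hp c 1 * t⁻¹) * n⁻¹ := by rw [← h0]; group
    _ = _ := by rw [h1, h0, mul_inv_cancel_right]

variable {d : ℕ} {g0 : Lat l ≃+ Lat l} {L : Type} [Group L]

theorem cen_iff (E : Frame hp p d g0 L) {c : Lat l} (hc : Rt hp c) {R : Subgroup L} :
    Cen E R {c, -c} ↔ ∀ r ∈ R.map E.ι, Cz (sl p hc) r := by
  constructor
  · rintro h _ ⟨x, hx, rfl⟩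
    exact (cz_iff hc).2 fun a ha y hy => h a ha y hy x hx
  · intro h a ha y hy x hx
    exact (cz_iff hc).1 (h _ (mem_map_of_mem _ hx)) a ha y hy

/-- a perfect subgroup centralizing a toral element of prime order -/
theorem Frame.perf_le (E : Frame hp p d g0 L) {r : ℕ} (hr : r.Prime) {Q : Set (YY D p)}
    (hQ : ∀ t ∈ Q, t ∈ TT D (kb p) ∧ t ^ r = 1) {R : Subgroup L} (hR : ⁅R, R⁆ = R)
    (hc : ∀ t ∈ Q, ∀ y ∈ R, t * E.ι y = E.ι y * t) : R.map E.ι ≤ MS D l p (PsiS hp Q) := by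
  refine chi_perf hp hr (fun t ht => ⟨(hQ t ht).1, 1, by rw [pow_one, (hQ t ht).2]⟩) (map_perf _ hR) ?_
  rintro _ ⟨y, hy, rfl⟩
  exact mem_centralizer_iff.2 fun t ht => hc t ht y hy

/-- fixed points of order prime to `d` lie in `L` -/
theorem Frame.mem_range (E : Frame hp p d g0 L) {y : YY D p} (hy : E.F y = y) {m : ℕ} (hm : d.Coprime m)
    (h : y ^ m = 1) : y ∈ E.ι.range :=
  DS.Nt.mem_of_pow_coprime (E.idx y hy) (by rw [h]; exact one_mem _) hm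

theorem Frame.cop_of_five (E : Frame hp p d g0 L) {r : ℕ} (hr : r.Prime) (h5 : 5 ≤ r) : d.Coprime r := by
  rcases E.dle with h | h | h <;> rw [h]
  · exact Nat.coprime_one_left r
  · exact (Nat.coprime_primes Nat.prime_two hr).2 (by omega)
  · exact (Nat.coprime_primes Nat.prime_three hr).2 (by omega)

/-- a torus element whose character is an eigenvector is fixed -/
theorem Frame.fix_of_ch (E : Frame hp p d g0 L) {t : YY D p} (ht : t ∈ TT D (kb p))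
    (h : ∀ a, Rt hp a → ch hp (E.g a) t = ch hp a t ^ E.q) : E.F t = t := by
  refine chi_sep (hp := hp) ((E.fr.tor t).2 ht) ht fun a ha => ?_
  have h1 : Rt hp (E.g.symm a) := (E.fr.root _).1 (by rwa [AddEquiv.apply_symm_apply])
  have h2 := boxChi.frob D l M hp p d g0 L E t ht _ h1
  rw [← h _ h1, AddEquiv.apply_symm_apply] at h2
  exact h2

theorem Frame.fix_of_chi (E : Frame hp p d g0 L) {m : ℕ} [NeZero m] {ζ : kb p} (hζ : IsPrimitiveRoot ζ m)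
    {t : YY D p} {φ : Lat l →+ ZMod m} (h : Chi hp ζ t φ) (hφ : ∀ a, φ (E.g a) = (E.q : ZMod m) * φ a) :
    E.F t = t :=
  E.fix_of_ch h.1 fun a ha => by rw [h.2 _ ((E.fr.root a).2 ha), h.2 a ha, hφ, zeta_nsmul hζ]

theorem conj_of_neg {m : ℕ} [NeZero m] {ζ : kb p} (hζ : IsPrimitiveRoot ζ m) {t k : YY D p} {φ : Lat l →+ ZMod m}
    (h : Chi hp ζ t φ) {w : M.Group} (hk : RP hp p w k) (hw : Neg hp w φ) : k * t * k⁻¹ = t⁻¹ := by
  refine chi_sep (hp := hp) (hk.conj_mem h.1) (inv_mem h.1) fun a ha => ?_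
  have h1 := ch_rp hk h.1 (ha.wa' w⁻¹)
  rw [wa_wa_inv] at h1
  have h2 := hw (wa hp w⁻¹ a)
  rw [wa_wa_inv] at h2
  rw [h1, h.2 _ (ha.wa' w⁻¹), (h.inv hζ).2 a ha, AddMonoidHom.neg_apply, h2, neg_neg]

theorem neg_of_conj {m : ℕ} [NeZero m] {ζ : kb p} (hζ : IsPrimitiveRoot ζ m) {t k : YY D p} {φ : Lat l →+ ZMod m}
    (h : Chi hp ζ t φ) {w : M.Group} (hk : RP hp p w k) (e : k * t * k⁻¹ = t⁻¹) : Neg hp w φ := fun a => by
  have := Chi.of_conj hζ h (h.inv hζ) (w := w) (fun a ha => by rw [← e]; exact ch_rp hk h.1 ha) a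
  rw [AddMonoidHom.neg_apply] at this
  rw [← this, neg_neg]

theorem eq_zero_of_neg {r : ℕ} (hr : r.Prime) (h5 : 5 ≤ r) {x : ZMod r} (h : -x = x) : x = 0 := by
  have := Fact.mk hr
  have h2 : (2 : ZMod r) ≠ 0 := by
    intro h0
    have := (ZMod.natCast_eq_zero_iff 2 r).1 (by exact_mod_cast h0)
    have := Nat.le_of_dvd two_pos this
    omega
  have h3 : (2 : ZMod r) * x = 0 := by linear_combination -h
  exact (mul_eq_zero.1 h3).resolve_left h2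

/-- `K3` for any toral element `x` of prime order: an element `n` that inverts `x` and centralizes a perfect group
`R ≤ C(x)` acting non-trivially on the `A₁`-component `c` centralizes that component -/
theorem Frame.cz_of_inv (E : Frame hp p d g0 L) {r : ℕ} (hr : r.Prime) {ζ : kb p} (hζ : IsPrimitiveRoot ζ r)
    {x n : L} {X : Lat l →+ ZMod r} (hx : Chi hp ζ (E.ι x) X) {R : Subgroup L} (hR : ⁅R, R⁆ = R)
    (hxR : ∀ y ∈ R, x * y = y * x) (hnR : ∀ y ∈ R, n * y = y * n) (hn : n * x * n⁻¹ = x⁻¹) {c : Lat l}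
    (hc : A1c hp (Psi hp X) c) (hw : ∀ w, Neg hp w X → wa hp w c = c ∨ wa hp w c = -c) (hcen : ¬ Cen E R {c, -c}) :
    Cz (sl p hc.1.1) (E.ι n) := by
  have : NeZero r := ⟨hr.ne_zero⟩
  have hS := spl_psi (p := p) hc.1.1 hc
  have h1 : R.map E.ι ≤ MS D l p (Psi hp X) := by
    rw [← hx.psiS hζ]
    refine E.perf_le hr ?_ hR ?_
    · rintro _ rfl
      exact ⟨hx.1, hx.pow_eq_one hζ⟩
    · rintro _ rfl y hy
      rw [← map_mul, hxR y hy, map_mul]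
  obtain ⟨m, hm, w, k, hk, e, e'⟩ := form_one (hp := hp) (n := E.ι n) hx.1 (inv_mem hx.1)
    (by rw [← map_inv, ← map_mul, ← map_mul, hn, map_inv])
  rw [(hx.inv hζ).psiS hζ, psi_neg] at hm
  obtain ⟨j, hj⟩ := hS.inn _ hm
  obtain ⟨j', hj'⟩ := inn_rp hc.1.1 hk (hw w (neg_of_conj hζ hx hk e))
  refine (sl_ck hc.1.1).cz_of_perfect (map_perf _ hR) (fun y hy => hS.inn _ (h1 hy))
    (fun h => hcen ((cen_iff E hc.1.1).2 h)) (e' ▸ hj.mul hj') ?_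
  rintro _ ⟨y, hy, rfl⟩
  rw [← map_mul, hnR y hy, map_mul]

variable [Finite L] {U : Type} [Group U] [Finite U] {τ α β : U →* L} {R R' : Subgroup L} {E : Frame hp p d g0 L}
  {r : ℕ} {ζ : kb p} {u v : U} {A B : Lat l →+ ZMod r}

theorem Dat.k3 (bp : BoxP) (hl : l ≤ 7) (hB2 : D ≠ chevB2) (h : Dat E τ α β R R' r ζ u v A B) {c : Lat l}
    (hc : A1c hp (Psi hp (A + B)) c) (hw : ∀ w, Neg hp w (A + B) → wa hp w c = c ∨ wa hp w c = -c)
    (hq : 4 ≤ E.q ∨ (E.g c ≠ c ∧ E.g c ≠ -c)) : A c = 0 := by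
  have : NeZero r := ⟨h.prime.ne_zero⟩
  have hcen := bp.a1 D l M hp hl hB2 p d g0 L E U τ α β R R' h.core r h.prime h.five h.ne u h.ord h.chiX.1 c
    (by rwa [h.chiX.psiS h.prim]) hq
  have h1 := E.cz_of_inv h.prime h.prim h.chiX h.core.pair.perfect (h.core.pair.comm u) (h.core.pair.comm v)
    (by rw [← map_inv, ← map_mul, ← map_mul, h.inv, map_inv]) hc hw hcen
  have h2 := ch_sq_of_cz hc.1.1 h1 h.chiA.1
    (by rw [← map_inv, ← map_mul, ← map_mul, h.core.conj_alpha, h.inv, map_inv, map_inv])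
  rw [(h.chiA.inv h.prim).2 c hc.1.1, h.chiA.2 c hc.1.1] at h2
  exact eq_zero_of_neg h.prime h.five (zeta_inj h.prim h2)

/-- **`K5`**: the element with the character `2 Z` lies in `T` and is inverted by `v` -/
theorem k5_elt (hl : l ≤ 7) (pr : Pair τ R) (hr : r.Prime) (h5 : 5 ≤ r) (hζ : IsPrimitiveRoot ζ r)
    (hv : v * u * v⁻¹ = u⁻¹) {X : Lat l →+ ZMod r} (hx : Chi hp ζ (E.ι (τ u)) X) {Z : Lat l →+ ZMod r}
    (hZ : Psi hp X ⊆ Psi hp Z) (hg : ∀ a, Z (E.g a) = (E.q : ZMod r) * Z a) (hw : ∃ w, Neg hp w X ∧ Neg hp w Z) :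
    ∃ u' : U, Chi hp ζ (E.ι (τ u')) (Z + Z) ∧ v * u' * v⁻¹ = u'⁻¹ := by
  have : NeZero r := ⟨hr.ne_zero⟩
  obtain ⟨s, hs⟩ := chi_sur hp hζ Z
  obtain ⟨s₀, rfl⟩ := E.mem_range (E.fix_of_chi hζ hs hg) (E.cop_of_five hr h5) (hs.pow_eq_one hζ)
  have hxQ : ∀ t ∈ ({E.ι (τ u)} : Set (YY D p)), t ∈ TT D (kb p) ∧ t ^ r = 1 := by
    rintro _ rfl
    exact ⟨hx.1, hx.pow_eq_one hζ⟩
  have hM : ∀ m ∈ MS D l p (PsiS hp {E.ι (τ u)}), m * E.ι s₀ = E.ι s₀ * m := fun m hm => by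
    refine MS_comm (hp := hp) (Q := {E.ι s₀}) (by rintro _ rfl; exact hs.1) ?_ rfl
    rw [hx.psiS hζ] at hm
    rw [hs.psiS hζ]
    exact RGD.Sup_mono hZ hm
  have h1 : s₀ ∈ centralizer (R : Set L) := by
    refine mem_centralizer_iff.2 fun y hy => E.inj ?_
    rw [map_mul, map_mul]
    refine hM _ (E.perf_le hr hxQ pr.perfect ?_ (mem_map_of_mem _ hy))
    rintro _ rfl y hy
    rw [← map_mul, pr.comm u y hy, map_mul]
  obtain ⟨w, hw1, hw2⟩ := hw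
  obtain ⟨k, hk⟩ := DS.Nt.exists_RP hp p w
  have e1 := conj_of_neg hζ hx hk hw1
  have e2 := conj_of_neg hζ hs hk hw2
  have e3 : E.ι (τ v) * E.ι (τ u) * (E.ι (τ v))⁻¹ = (E.ι (τ u))⁻¹ := by
    rw [← map_inv, ← map_inv, ← map_mul, ← map_mul, ← map_mul, ← map_mul, hv, map_inv, map_inv]
  obtain ⟨m, hm, t, ht, e4⟩ := mem_MT_of_comm hp hl hr h5 (Set.finite_singleton (E.ι (τ u)))
    (fun t ht => ⟨(hxQ t ht).1, 1, by rw [pow_one, (hxQ t ht).2]⟩) (c := (E.ι (τ v))⁻¹ * k) (by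
      rintro _ rfl
      calc (E.ι (τ v))⁻¹ * k * E.ι (τ u) = (E.ι (τ v))⁻¹ * (k * E.ι (τ u) * k⁻¹) * k := by group
        _ = _ := by rw [e1, ← e3]; group)
  have e5 : E.ι (τ v) * E.ι s₀ * (E.ι (τ v))⁻¹ = (E.ι s₀)⁻¹ := by
    have e6 : k = E.ι (τ v) * (m * t) := by rw [← e4]; group
    rw [← e2, e6]
    calc E.ι (τ v) * E.ι s₀ * (E.ι (τ v))⁻¹ = E.ι (τ v) * (E.ι s₀ * m * t * (m * t)⁻¹) * (E.ι (τ v))⁻¹ := by group
      _ = _ := by rw [← hM m hm, mul_assoc m, T_comm hp hs.1 ht]; group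
  have e7 : τ v * s₀ * (τ v)⁻¹ = s₀⁻¹ := E.inj (by rw [map_mul, map_mul, map_inv, map_inv, e5])
  obtain ⟨u₁, hu₁⟩ := conj_mem_of_norm (pr.cnorm h1) (⟨v, rfl⟩ : τ v ∈ τ.range)
  have e8 : τ (u₁ * v⁻¹) = s₀ * s₀ := by
    rw [map_mul, map_inv, hu₁]
    calc s₀ * τ v * s₀⁻¹ * (τ v)⁻¹ = s₀ * (τ v * s₀ * (τ v)⁻¹)⁻¹ := by group
      _ = _ := by rw [e7, inv_inv]
  refine ⟨u₁ * v⁻¹, by rw [e8, map_mul]; exact hs.mul hζ hs, pr.inj ?_⟩
  rw [map_mul, map_mul, map_inv, map_inv, e8]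
  calc τ v * (s₀ * s₀) * (τ v)⁻¹ = (τ v * s₀ * (τ v)⁻¹) * (τ v * s₀ * (τ v)⁻¹) := by group
    _ = _ := by rw [e7]; group

theorem psi_two (hr : r.Prime) (h5 : 5 ≤ r) (Z : Lat l →+ ZMod r) : Psi hp (Z + Z) = Psi hp Z := by
  ext a
  refine and_congr_right fun _ => ⟨fun h => ?_, fun h => by rw [AddMonoidHom.add_apply, h, add_zero]⟩
  exact eq_zero_of_neg hr h5 (neg_eq_of_add_eq_zero_left h)

theorem Dat.k5 (hl : l ≤ 7) (h : Dat E τ α β R R' r ζ u v A B) {Z : Lat l →+ ZMod r} (hZ0 : Z ≠ 0)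
    (hZ : Psi hp (A + B) ⊆ Psi hp Z) (hg : ∀ a, Z (E.g a) = (E.q : ZMod r) * Z a)
    (hw : ∃ w, Neg hp w (A + B) ∧ Neg hp w Z) : (Psi hp Z).ncard ≤ (Psi hp (A + B)).ncard := by
  have : NeZero r := ⟨h.prime.ne_zero⟩
  have := Fact.mk h.prime
  obtain ⟨u', h1, h2⟩ := k5_elt hl h.core.pair h.prime h.five h.prim h.inv h.chiX hZ hg hw
  have h3 : orderOf u' = r := by
    refine orderOf_eq_prime (h.core.pair.inj (E.inj ?_)) ?_
    · rw [map_pow, map_pow, h1.pow_eq_one h.prim, map_one, map_one]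
    · rintro rfl
      rw [map_one, map_one] at h1
      have h4 := h1.unique h.prim (chi_one h.prim)
      refine hZ0 (AddMonoidHom.ext fun a => ?_)
      exact eq_zero_of_neg h.prime h.five (neg_eq_of_add_eq_zero_left (DFunLike.congr_fun h4 a))
  have h5 := h.ext 1 u' v h3 h2 1
  rw [inv_one, one_mul, mul_one, MulAut.one_apply] at h5
  have h6 := h5 h1.1
  rwa [h1.psiS h.prim, psi_two h.prime h.five] at h6

/-- **`BoxK`.** -/
theorem boxK (bp : BoxP) : BoxK where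
  k3 D l M hp hl hB2 p _ d g0 L _ _ E U _ _ τ α β R R' r ζ u v A B h c hc hw hq := h.k3 bp hl hB2 hc hw hq
  k5 D l M hp hl hB2 p _ d g0 L _ _ E U _ _ τ α β R R' r ζ u v A B h Z hZ0 hZ hg hw := h.k5 hl hZ0 hZ hg hw

end Cfsg.Agent.Cam.Ex
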