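import Cfsg.Agent.Cam.Ex.Move
import Cfsg.Agent.Cam.Ex.Chi
import Cfsg.Agent.Cam.Ex.Frame

/-!
# Exceptional rows: an untwisted frame determines the group (helper37)

`rigid` : an automorphism of `YY D p` acting linearly on all root groups and trivially on the simple ones is trivial;
`exists_std` : every untwisted frame is conjugate to one with the standard Frobenius map;
`frame_iso` : the group of an untwisted frame is the Chevalley group over the field with `q` elements.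
-/

set_option autoImplicit false
set_option linter.unusedVariables false
set_option linter.unusedSectionVars false

namespace Cfsg.Agent.Cam.Ex.Out3

open CoxeterSystem Cfsg Cfsg.Lie Subgroup
open Cfsg.Agent.ChevalleyStructure.CoxeterGeom Cfsg.Agent.ChevalleyStructure.CoxeterGeomTypes
open Cfsg.Agent.Tits.Roots Cfsg.Agent.Nodes.BNOf Cfsg.Agent.Nodes.RGDChev Cfsg.Agent.Nodes.Coroot
open Cfsg.Agent.KFacts.RgdChevCoord Cfsg.Agent.BpExc.TorCent Cfsg.Agent.BpExc.LangFr Cfsg.Agent.BpExc.SubBN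
open Cfsg.Agent.BpExc Cfsg.Agent.BpExc.TowChev Cfsg.Agent.KFacts.RgdDiag Cfsg.Agent.KFacts.RgdRigid
open Cfsg.Agent.GpExc.Field (emb emb_injective)
open scoped commutatorElement

variable {D : ChevalleyDatum} {l : ℕ} {M : CoxeterMatrix (Fin l)} {hp : IsType D l M} {p : ℕ} [Fact p.Prime]
  {d : ℕ} {L : Type} [Group L]

theorem mem_Xj {E : Lev (kb p)} {a : Lat l} (ha : Rt hp a) {y : YY D p} :
    y ∈ Xj hp E a ↔ ∃ s ∈ E.1, xc hp a s = y := by
  have := charP_lev p E.1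
  have C := coords (K := ↥E.1) hp M.toCoxeterSystem p
  constructor
  · rintro ⟨u, hu, rfl⟩
    obtain ⟨s, rfl⟩ := ((C.coord a ha).mem u).1 hu
    exact ⟨s, s.2, (emb_xc hp E.1.subtype a s).symm⟩
  · rintro ⟨s, hs, rfl⟩
    exact ⟨xc hp a (⟨s, hs⟩ : ↥E.1), ((C.coord a ha).mem _).2 ⟨_, rfl⟩, emb_xc hp _ a _⟩

/-- **Rigidity.** -/
theorem rigid {β : MulAut (YY D p)} (hT : ∀ t ∈ TT D (kb p), β t ∈ TT D (kb p))
    (hx : ∀ a, Rt hp a → ∃ c : kb p, c ≠ 0 ∧ ∀ s, β (xc hp a s) = xc hp a (c * s))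
    (h1 : ∀ i s, β (xc hp (sr i) s) = xc hp (sr i) s) : β = 1 := by
  have := finite_WW hp
  have hfix : ∀ t ∈ TT D (kb p), β t = t := by
    intro t ht
    refine chi_sep (hp := hp) (hT t ht) ht fun a ha => ?_
    obtain ⟨c, hc, e⟩ := hx a ha
    have h2 := congrArg β (ch_act ha ht 1)
    rw [map_mul, map_mul, map_inv, e, e, ch_act ha (hT t ht)] at h2
    have h3 := xc_injective ha h2
    rw [mul_one, mul_one, mul_comm c] at h3
    exact mul_right_cancel₀ hc h3
  choose c hc0 hc using fun i : Fin l => hx (-sr i) (rt_sr hp i).neg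
  have key : ∀ a, Rt hp a → ∀ s : kb p, β (xc hp a s) = xc hp a s := by
    intro a ha s
    obtain ⟨E, hE⟩ := exists_lev (H469.Exc.locFin p) (insert s (Set.range c)) ((Set.finite_range c).insert s)
    have R := (DS.Nt.tw hp p).rgd E
    have hcE : ∀ i, c i ∈ E.1 := fun i => hE (Set.mem_insert_of_mem _ ⟨i, rfl⟩)
    have hpos : ∀ i, ∀ x ∈ Xj hp E (sr i), β x = x := by
      intro i x hx
      obtain ⟨u, -, rfl⟩ := (mem_Xj (rt_sr hp i)).1 hx
      exact h1 i u
    have hTj : ∀ t ∈ Tj hp E, β t = t := fun t ht => hfix t (by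
      rw [← DS.Nt.TLe hp p]
      exact Tow.le_TL E ht)
    have Dβ : KFacts.RgdDiag.Diag (Tj hp E) (Xj hp E) β 1 := by
      refine ⟨fun t => ⟨fun h => ?_, fun h => ?_⟩, fun i x => ⟨fun h => ?_, fun h => ?_⟩,
        fun i x => ⟨fun h => ?_, fun h => ?_⟩⟩
      · rwa [β.injective (hTj _ h)] at h
      · rwa [hTj _ h]
      · rwa [β.injective (hpos i _ h)] at h
      · rw [hpos i _ h]
        exact h
      · obtain ⟨u, hu, e⟩ := (mem_Xj (rt_sr hp i).neg).1 h
        refine (mem_Xj (rt_sr hp i).neg).2 ⟨(c i)⁻¹ * u, mul_mem (inv_mem (hcE i)) hu, β.injective ?_⟩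
        rw [hc, mul_inv_cancel_left₀ (hc0 i), e]
      · obtain ⟨u, hu, rfl⟩ := (mem_Xj (rt_sr hp i).neg).1 h
        exact (mem_Xj (rt_sr hp i).neg).2 ⟨c i * u, mul_mem (hcE i) hu, (hc i u).symm⟩
    have h2 : RGD.Sup (Xj hp E) {x | IsRoot M.toCoxeterSystem hp.isCartan x} ≤
        β.toMonoidHom.eqLocus (MonoidHom.id (YY D p)) :=
      Sup_le_of_simple R (fun i x hx => hpos i x hx) (fun i x hx => KFacts.RgdRigid.Diag.apply_neg R Dβ (hpos i) hx)
    exact h2 (RGD.le_Sup (X := Xj hp E) (S := {x | IsRoot M.toCoxeterSystem hp.isCartan x}) ha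
      ((mem_Xj ha).2 ⟨s, hE (Set.mem_insert _ _), rfl⟩))
  ext1 y
  induction y using FamExt.group_induction hp with
  | h1 => rw [map_one, map_one]
  | hm a b ha hb => rw [map_mul, map_mul, ha, hb]
  | hi a ha => rw [map_inv, map_inv, ha]
  | hx r hr t => exact key _ ((isRoot_iff hp M.toCoxeterSystem _).2 ⟨r, hr, rfl⟩) t

theorem phi_xc (e : ℕ) {a : Lat l} (ha : Rt hp a) (s : kb p) :
    FamUntw.phi D (kb p) p e (xc hp a s) = xc hp a (s ^ p ^ e) := by
  obtain ⟨r, hr, rfl⟩ := (isRoot_iff hp M.toCoxeterSystem a).1 ha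
  unfold FamUntw.phi
  rw [CpAut.RgdUntw.fld_xc hp _ hr, FamField.frb_apply]

/-- a frame acting trivially on the roots: the Frobenius map is standard up to a torus element -/
theorem exists_tor_phi {g0 : Lat l ≃+ Lat l} (E : Frame hp p d g0 L) (hg : ∀ a, E.g a = a) :
    ∃ t ∈ TT D (kb p), E.F = MulAut.conj t * FamUntw.phi D (kb p) p E.e := by
  choose c hc0 hc using fun i : Fin l => E.pw (sr i) (rt_sr hp i)
  obtain ⟨t, ht, hch⟩ := boxChi.sur D l M hp p c hc0
  have hsr : ∀ i, ch hp (sr i) t = c i := by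
    intro i
    rw [hch _ (rt_sr hp i), Finset.prod_eq_single i]
    · rw [sr_self, zpow_one]
    · intro j _ hj
      rw [sr_ne hj, zpow_zero]
    · intro h
      exact absurd (Finset.mem_univ i) h
  obtain ⟨ψ, hψ⟩ : ∃ ψ, ψ = MulAut.conj t * FamUntw.phi D (kb p) p E.e := ⟨_, rfl⟩
  have hψx : ∀ a, Rt hp a → ∀ s, ψ (xc hp a s) = xc hp a (ch hp a t * s ^ p ^ E.e) := by
    intro a ha s
    rw [hψ, MulAut.mul_apply, phi_xc E.e ha, MulAut.conj_apply, ch_act ha ht]
  have hinv : ∀ a, Rt hp a → ∀ u, ∃ s, ψ⁻¹ (xc hp a u) = xc hp a s ∧ s ^ p ^ E.e = (ch hp a t)⁻¹ * u := by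
    intro a ha u
    obtain ⟨s, hs⟩ := (FamField.frb (kb p) p E.e).surjective ((ch hp a t)⁻¹ * u)
    rw [FamField.frb_apply] at hs
    refine ⟨s, ψ.injective ?_, hs⟩
    rw [MulAut.apply_inv_self, hψx a ha, hs, mul_inv_cancel_left₀ (ch_ne_zero ha ht)]
  have hfr := E.fr.mul (((DS.Nt.RP.of_mem (hp := hp) ht).fr.mul
    (FamInst.phi_fr hp M.toCoxeterSystem p (H469.Exc.locFin p) E.e)).inv)
  rw [← hψ] at hfr
  have h1 : E.F * ψ⁻¹ = 1 := by
    refine rigid (hp := hp) (fun s hs => (hfr.tor s).2 hs) (fun a ha => ?_) fun i u => ?_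
    · obtain ⟨b, hb0, hb⟩ := E.pw a ha
      refine ⟨b * (ch hp a t)⁻¹, mul_ne_zero hb0 (inv_ne_zero (ch_ne_zero ha ht)), fun u => ?_⟩
      obtain ⟨s, h2, h3⟩ := hinv a ha u
      rw [MulAut.mul_apply, h2, hb, hg, h3, mul_assoc]
    · obtain ⟨s, h2, h3⟩ := hinv _ (rt_sr hp i) u
      rw [MulAut.mul_apply, h2, hc, hg, h3, hsr, mul_inv_cancel_left₀ (hc0 i)]
  exact ⟨t, ht, by rw [← hψ]; exact mul_inv_eq_one.1 h1⟩

/-- **Every untwisted frame is conjugate to a standard one.** -/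
theorem exists_std (E : Frame hp p d (sg l 1) L) :
    ∃ E' : Frame hp p d (sg l 1) L, E'.e = E.e ∧ E'.F = FamUntw.phi D (kb p) p E.e := by
  obtain ⟨w, hw⟩ := E.gr
  obtain ⟨n, hn⟩ := DS.Nt.exists_RP hp p w⁻¹
  obtain ⟨z, hz⟩ := E.exists_move n
  rw [← hz] at hn
  obtain ⟨t, ht, hF⟩ := exists_tor_phi (E.move z w⁻¹ hn) fun a => by
    rw [Frame.move_g, hw, wa_inv_wa, sg_apply, Units.val_one, one_smul]
  obtain ⟨z', hz'⟩ := (E.move z w⁻¹ hn).exists_move t⁻¹
  have hn' : DS.Nt.RP hp p 1 (z'⁻¹ * (E.move z w⁻¹ hn).F z') := by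
    rw [hz']
    exact DS.Nt.RP.of_mem (inv_mem ht)
  refine ⟨(E.move z w⁻¹ hn).move z' 1 hn', rfl, ?_⟩
  rw [Frame.move_F, hz', hF, ← mul_assoc, ← map_mul, inv_mul_cancel, map_one, one_mul]
  rfl

theorem range_le {K K' Y : Type*} [Group K] [Group K'] [Group Y] (hK : IsSimpleGroup K) (hn : ¬ IsMulCommutative K)
    {ι : K →* Y} {ι' : K' →* Y} (h : ∀ x y, ⁅ι x, ι y⁆ ∈ ι'.range) : ι.range ≤ ι'.range := by
  have h1 : commutator K = ⊤ := by
    rcases hK.eq_bot_or_eq_top_of_normal (commutator K) inferInstance with h1 | h1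
    · refine absurd ⟨⟨fun x y => commutatorElement_eq_one_iff_mul_comm.1 ?_⟩⟩ hn
      rw [← mem_bot, ← h1]
      exact commutator_mem_commutator (mem_top x) (mem_top y)
    · exact h1
  have h2 : commutator K ≤ ι'.range.comap ι := by
    rw [_root_.commutator_def, commutator_le]
    intro x _ y _
    rw [mem_comap, map_commutatorElement]
    exact h x y
  rintro _ ⟨x, rfl⟩
  exact h2 (h1 ▸ mem_top x)

/-- **The group of an untwisted frame.** -/
theorem frame_iso (E : Frame hp p d (sg l 1) L) {d' : ℕ} {B : Fin l → Fin l → ℤ} (hB : H129.TorusChar.InvC D l d' B)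
    (hd : d' ≠ 0) (hd1 : d' = 1 ∨ d'.Prime) (F : Type) [Field F] [Fintype F] [CharP F p]
    (hF : Nat.card F = p ^ E.e) (hK : IsSimpleGroup ↥(D.group F) ∧ ¬ IsMulCommutative ↥(D.group F)) :
    Nonempty (L ≃* ↥(D.group F)) := by
  obtain ⟨E', -, hE'⟩ := exists_std E
  obtain ⟨f⟩ := RowsUntw.exists_emb p F
  have hq : Fintype.card F = p ^ E.e := by rw [← hF, Nat.card_eq_fintype_card]
  obtain ⟨m, h1, h2, -, -⟩ := H28.GenF.mdata_std' (r := p) hp F hB hd hd1 f E.he hF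
  have hspl : Frm.Spl m := by
    intro y hy
    rw [h1]
    refine H129.TorusUntw.fix_split hp f hq ?_
    apply Subtype.ext
    rw [H129.TorusUntw.coe_phi]
    rw [h2] at hy
    refine Eq.trans ?_ (congrArg Subtype.val hy)
    apply Units.ext
    ext i j
    exact (iterateFrobenius_def p E.e _).trans (FamField.frb_apply _ p E.e _).symm
  have hσ : m.σ = E'.F := h2.trans hE'.symm
  have h3 : E'.ι.range = m.ι.range := by
    apply le_antisymm
    · exact range_le E'.simple E'.noncomm fun x y =>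
        Frm.der_of_spl hspl (by rw [hσ, E'.fix]) (by rw [hσ, E'.fix])
    · exact range_le hK.1 hK.2 fun x y => E'.der _ _ (by rw [← hσ, m.fix]) (by rw [← hσ, m.fix])
  exact ⟨(MonoidHom.ofInjective E'.inj).trans ((MulEquiv.subgroupCongr h3).trans (MonoidHom.ofInjective m.inj).symm)⟩

end Cfsg.Agent.Cam.Ex.Out3
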