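import Cfsg.Agent.Cam.Ex.IfaceB
import Cfsg.Agent.Cam.Ex.Out3A
import Cfsg.Agent.S2123
import Cfsg.Agent.S2159

/-!
# Exceptional rows: `Out E₆(4)` has a single subgroup of order three (helper37)

`boxOut3 : BoxOut3`, from S2123 (the order is `12`) and S2159 (the structure).
-/

set_option autoImplicit false
set_option linter.unusedVariables false
set_option linter.unusedSectionVars false

namespace Cfsg.Agent.Cam.Ex.Out3

open CoxeterSystem Cfsg Cfsg.Lie Subgroup
open Cfsg.Agent.ChevalleyStructure.Elts Cfsg.Agent.ChevalleyStructure.CoxeterGeomTypes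
open Cfsg.Agent.KFacts.RgdChevCoord Cfsg.Agent.BpExc Cfsg.Agent.Nodes.RGDChev

section twelve

variable {O : Type*} [Group O]

theorem mem_of_sq {K : Subgroup O} {a : O} (ha : orderOf a = 3) (h : a * a ∈ K) : a ∈ K := by
  have h1 : a ^ 3 = 1 := by rw [← ha, pow_orderOf_eq_one]
  have h2 : a = (a * a) * (a * a) * (a ^ 3)⁻¹ := by group
  rw [h2, h1, inv_one, mul_one]
  exact mul_mem h h

theorem of_index_two (h12 : Nat.card O = 12) {K : Subgroup O} (hK : K.index = 2) {a b : O} (ha : orderOf a = 3)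
    (hb : orderOf b = 3) : b ∈ zpowers a := by
  have haK : a ∈ K := mem_of_sq ha (mul_self_mem_of_index_two hK a)
  have hbK : b ∈ K := mem_of_sq hb (mul_self_mem_of_index_two hK b)
  have h1 : (zpowers a).index = 4 := by
    have h2 := (zpowers a).card_mul_index
    rw [Nat.card_zpowers, ha, h12] at h2
    omega
  have h2 := relIndex_mul_index (zpowers_le.2 haK)
  rw [h1, hK] at h2
  have h3 : ((zpowers a).subgroupOf K).index = 2 := by
    change (zpowers a).relIndex K = 2
    omega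
  exact mem_of_sq hb (mem_subgroupOf.1 (mul_self_mem_of_index_two h3 ⟨b, hbK⟩))

theorem of_index_six (h12 : Nat.card O = 12) {N : Subgroup O} (hN : N.Normal) (h6 : N.index = 6) {a b : O}
    (ha : orderOf a = 3) (hb : orderOf b = 3) : b ∈ zpowers a := by
  have h2 : Nat.card N = 2 := by
    have h2 := N.card_mul_index
    rw [h6, h12] at h2
    omega
  obtain ⟨z, hz1, hz⟩ := (Nat.card_eq_two_iff' (1 : N)).1 h2
  have hz1' : (z : O) ≠ 1 := fun h => hz1 (Subtype.ext h)
  have h3 : a * z * a⁻¹ = z := by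
    refine congrArg Subtype.val (hz ⟨a * z * a⁻¹, hN.conj_mem _ z.2 a⟩ fun h => hz1' ?_)
    have h4 : a * z * a⁻¹ = 1 := congrArg Subtype.val h
    have h5 : (z : O) = a⁻¹ * (a * z * a⁻¹) * a := by group
    rw [h5, h4]
    group
  have h4 : orderOf (z : O) = 2 := by
    refine orderOf_eq_prime ?_ hz1'
    have h5 := pow_card_eq_one' (x := z)
    rw [h2] at h5
    exact congrArg Subtype.val h5
  have h5 : Commute a (z : O) := mul_inv_eq_iff_eq_mul.1 h3
  have h7 : orderOf (a * z) = 6 := by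
    rw [h5.orderOf_mul_eq_mul_orderOf_of_coprime (by rw [ha, h4]; norm_num), ha, h4]
  refine of_index_two h12 (K := zpowers (a * z)) ?_ ha hb
  have h8 := (zpowers (a * z)).card_mul_index
  rw [Nat.card_zpowers, h7, h12] at h8
  omega

theorem of_index_one (h12 : Nat.card O = 12) {A B : Subgroup O} (hA : A.Normal) (hc : IsMulCommutative A)
    (hB : ∀ x ∈ B, x * x = 1) (h1 : (A ⊔ B).index = 1) {a b : O} (ha : orderOf a = 3) (hb : orderOf b = 3) :
    b ∈ zpowers a := by
  have hfin : Finite O := Nat.finite_of_card_ne_zero (by omega)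
  have hsq : ∀ x : O, x * x ∈ A := by
    intro x
    have h2 : x ∈ A ⊔ B := by
      rw [index_eq_one.1 h1]
      exact mem_top x
    rw [← SetLike.mem_coe, normal_mul] at h2
    obtain ⟨u, hu, v, hv, rfl⟩ := h2
    have h3 : u * v * (u * v) = u * (v * u * v⁻¹) * (v * v) := by group
    show u * v * (u * v) ∈ A
    rw [h3, hB v hv, mul_one]
    exact mul_mem hu (hA.conj_mem u hu v)
  let S : Subgroup O :=
    { carrier := {x | x ∈ A ∧ x ^ 3 = 1}
      one_mem' := ⟨one_mem _, one_pow _⟩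
      mul_mem' := fun {x y} hx hy => ⟨mul_mem hx.1 hy.1, by
        have h2 : Commute x y := congrArg Subtype.val (hc.is_comm.comm (⟨x, hx.1⟩ : A) ⟨y, hy.1⟩)
        rw [h2.mul_pow, hx.2, hy.2, one_mul]⟩
      inv_mem' := fun {x} hx => ⟨inv_mem hx.1, by rw [inv_pow, hx.2, inv_one]⟩ }
  have hmem : ∀ x : O, orderOf x = 3 → x ∈ S := fun x hx =>
    ⟨mem_of_sq hx (hsq x), by rw [← hx, pow_orderOf_eq_one]⟩
  have hS : IsPGroup 3 S := fun x => ⟨1, Subtype.ext (by rw [pow_one]; exact x.2.2)⟩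
  have : Fact (Nat.Prime 3) := ⟨Nat.prime_three⟩
  obtain ⟨k, hk⟩ := IsPGroup.iff_card.1 hS
  have h2 : 3 ^ k ∣ 12 := by
    rw [← hk, ← h12]
    exact S.card_subgroup_dvd_card
  have h3 : k ≤ 1 := by
    by_contra h
    have h4 : 3 ^ 2 ∣ 12 := (pow_dvd_pow 3 (by omega)).trans h2
    norm_num at h4
  have h4 : zpowers a = S := by
    refine eq_of_le_of_card_ge (zpowers_le.2 (hmem a ha)) ?_
    rw [Nat.card_zpowers, ha, hk]
    calc 3 ^ k ≤ 3 ^ 1 := Nat.pow_le_pow_right (by norm_num) h3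
      _ = 3 := pow_one 3
  rw [h4]
  exact hmem b hb

end twelve

/-- transport of outer automorphisms -/
theorem out_congr {K K' : Type*} [Group K] [Group K'] (e : K ≃* K') : Nonempty (Cfsg.Out K ≃* Cfsg.Out K') := by
  refine ⟨QuotientGroup.congr _ _ (MulAut.congr e) ?_⟩
  ext φ
  constructor
  · rintro ⟨_, ⟨g, rfl⟩, rfl⟩
    refine ⟨e g, ?_⟩
    ext x
    simp
  · rintro ⟨g, rfl⟩
    refine ⟨MulAut.conj (e.symm g), ⟨_, rfl⟩, ?_⟩
    ext x
    simp

variable {D : ChevalleyDatum} {l : ℕ} {M : CoxeterMatrix (Fin l)} (hp : IsType D l M) {F : Type} [Field F]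

include hp in
/-- products of field automorphisms over a field all of whose automorphisms are involutions -/
theorem sq_field (hF : ∀ (σ : F ≃+* F) (t : F), σ (σ t) = t) {φ : MulAut ↥(D.group F)}
    (hφ : φ ∈ closure {φ : MulAut ↥(D.group F) | D.IsFieldAut φ}) : φ * φ = 1 := by
  have key : ∃ σ : F ≃+* F, ∀ r, r < D.nroots → ∀ t, φ (xc hp (vec D l r) t) = xc hp (vec D l r) (σ t) := by
    induction hφ using closure_induction with
    | mem φ h =>
      obtain ⟨σ, hσ⟩ := h
      refine ⟨σ, fun r hr t => Subtype.ext (Units.ext ?_)⟩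
      rw [hσ _ r t hr (by rw [coe_xc hp hr, coe_xG]), coe_xc hp hr, coe_xG]
    | one => exact ⟨RingEquiv.refl F, fun _ _ _ => rfl⟩
    | mul φ ψ _ _ h h' =>
      obtain ⟨σ, hσ⟩ := h
      obtain ⟨τ, hτ⟩ := h'
      exact ⟨τ.trans σ, fun r hr t => by rw [MulAut.mul_apply, hτ r hr, hσ r hr, RingEquiv.trans_apply]⟩
    | inv φ _ h =>
      obtain ⟨σ, hσ⟩ := h
      exact ⟨σ, fun r hr t => φ.injective (by rw [MulAut.apply_inv_self, hσ r hr, hF])⟩
  obtain ⟨σ, hσ⟩ := key
  ext1 y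
  induction y using FamExt.group_induction hp with
  | h1 => rw [map_one, map_one]
  | hm a b ha hb => rw [map_mul, map_mul, ha, hb]
  | hi a ha => rw [map_inv, map_inv, ha]
  | hx r hr t => rw [MulAut.mul_apply, hσ r hr, hσ r hr, hF, MulAut.one_apply]

theorem out_e6 [Fintype F] [CharP F 2] (hF : Nat.card F = 2 ^ 2) {a b : Cfsg.Out ↥(chevE6.group F)}
    (ha : orderOf a = 3) (hb : orderOf b = 3) : b ∈ zpowers a := by
  have h12 : Nat.card (Cfsg.Out ↥(chevE6.group F)) = 12 := by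
    rw [S2123.result 2 2 (by rw [← hF, Nat.card_eq_fintype_card])]
    norm_num
  obtain ⟨h1, h2, -, h3, h4⟩ := S2159.result (F := F) chevE6 (by simp) _ _ rfl rfl
  rcases h4 with h4 | h4 | h4
  · refine of_index_one h12 h1 h2 ?_ h4 ha hb
    rintro _ ⟨φ, hφ, rfl⟩
    rw [← map_mul, sq_field tE6 (fun σ t => ?_) hφ, map_one]
    obtain ⟨j, hj⟩ := FamField.exists_pow_eq 2 σ
    rw [hj, hj, ← pow_mul, ← pow_add]
    exact (FamField.forall_pow_iff 2 hF _).2 ⟨j, by ring⟩ t
  · exact of_index_two h12 h4 ha hb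
  · exact of_index_six h12 h3 h4.1 ha hb

/-- **`BoxOut3`.** -/
theorem boxOut3 : BoxOut3 := by
  intro d L _ _ E hq a b ha hb
  have he : E.e = 2 := Nat.pow_right_injective (le_refl 2) hq
  have := Fintype.ofFinite (GaloisField 2 2)
  have hF : Nat.card (GaloisField 2 2) = 2 ^ 2 := GaloisField.card 2 2 (by norm_num)
  obtain ⟨e⟩ := frame_iso E H129.TorusChar.invC_E6 (by norm_num) (Or.inr Nat.prime_three) (GaloisField 2 2)
    (by rw [he]; exact hF) (S1054.result _ (by simp))
  obtain ⟨f⟩ := out_congr e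
  obtain ⟨k, hk⟩ := out_e6 hF ((f.orderOf_eq a).trans ha) ((f.orderOf_eq b).trans hb)
  refine ⟨k, f.injective ?_⟩
  rw [← hk]
  exact map_zpow f a k

end Cfsg.Agent.Cam.Ex.Out3
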