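import Cfsg.Agent.Cam.Ex.PFr
import Cfsg.Agent.Cam.Ex.SL3

/-!
# Exceptional rows, `BoxP`: subsystems of type `A₂` (helper65)

* `heis_perf` : the Sylow subgroup of `SU₃(3)`;
* `ax_split`, `ax_tw` : the perfect groups `SL₃(q)` and `SU₃(3)`;
* `a2` : `BoxP.a2`.
-/

set_option autoImplicit false
set_option linter.unusedVariables false
set_option linter.unusedSectionVars false

namespace Cfsg.Agent.Cam.Ex.P

open CoxeterSystem Cfsg Cfsg.Lie Subgroup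
open Cfsg.Agent.ChevalleyStructure.CoxeterGeom Cfsg.Agent.ChevalleyStructure.CoxeterGeomTypes
open Cfsg.Agent.Tits.Roots Cfsg.Agent.Nodes.BNOf Cfsg.Agent.Nodes.RGDChev Cfsg.Agent.Nodes.Coroot
open Cfsg.Agent.KFacts.RgdChevCoord Cfsg.Agent.BpExc.TorCent Cfsg.Agent.BpExc.LangFr Cfsg.Agent.BpExc.SubBN
open Cfsg.Agent.Cam.Spor Cfsg.Agent.Cam.Ex.S2
open Cfsg.Agent.Cam.Ex.SL3 (P2 Pi3 ev S3 mem_A2s ev01 ev12 ev02)
open Cfsg.Agent.ChevalleyStructure.SL2Hom (up lo)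
open Cfsg.Agent.Nodes.RGDFoldSL (hS wS)
open Cfsg.Agent.DS.Nt (RP)
open Cfsg.Agent.H428.OT.Lin (tv tv_coe slext cmul)
open scoped commutatorElement

section heis

variable {k : Type*} [Field k]

theorem exists_cubic [IsAlgClosed k] {κ : k} (hκ : κ ≠ 0) (c : k) : ∃ w : k, κ * w ^ 3 = w + c := by
  obtain ⟨w, hw⟩ := IsAlgClosed.exists_root (Polynomial.C κ * Polynomial.X ^ 3 - Polynomial.X - Polynomial.C c) (by
    have h : (Polynomial.C κ * Polynomial.X ^ 3 - Polynomial.X - Polynomial.C c).degree = 3 := by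
      compute_degree!
    rw [h]
    decide)
  refine ⟨w, ?_⟩
  simp only [Polynomial.IsRoot, Polynomial.eval_sub, Polynomial.eval_mul, Polynomial.eval_C, Polynomial.eval_pow,
    Polynomial.eval_X] at hw
  linear_combination hw

/-- the fixed points in a Heisenberg group in characteristic three -/
theorem heis_perf [IsAlgClosed k] [CharP k 3] {Y : Type*} [Group Y] {η : k → k → k → Y}
    (hmul : ∀ s t u s' t' u', η s t u * η s' t' u' = η (s + s') (t + t') (u + u' + s * t'))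
    (hinj : ∀ u u', η 0 0 u = η 0 0 u' → u = u') {F : MulAut Y} {κ κ' κ'' : k} (h1 : κ ≠ 0) (h2 : κ' ≠ 0) (h3 : κ'' ≠ 0)
    (hF : ∀ s t u, F (η s t u) = η (κ' * t ^ 3) (κ * s ^ 3) (κ'' * (u - s * t) ^ 3)) {h : Y}
    (hh : ∀ s t u, h * η s t u * h⁻¹ = η (-s) (-t) u) {X : Subgroup Y} (hhX : h ∈ X) (hX : ∀ y ∈ X, F y = y)
    (hη : ∀ s t u, F (η s t u) = η s t u → η s t u ∈ X) {s t u : k} (hy : F (η s t u) = η s t u) :
    η s t u ∈ ⁅X, X⁆ := by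
  have c3 : (3 : k) = 0 := CharP.ofNat_eq_zero k 3
  have e0 : η 0 0 0 = 1 := by
    have h4 := hmul 0 0 0 0 0 0
    rw [add_zero, mul_zero, add_zero] at h4
    exact mul_eq_left.1 h4
  have hex : ∀ s, κ' * κ ^ 3 * s ^ 9 = s → ∃ u, η s (κ * s ^ 3) u ∈ X := fun s hs => by
    obtain ⟨w, hw⟩ := exists_cubic h3 (s * (κ * s ^ 3))
    refine ⟨w + s * (κ * s ^ 3), hη _ _ _ ?_⟩
    rw [hF, add_sub_cancel_right, hw]
    congr 1
    linear_combination hs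
  have hz : ∀ u, η 0 0 u ∈ X → κ'' * u ^ 3 = u := fun u hu => by
    have h4 := hX _ hu
    rw [hF, zero_pow three_ne_zero, mul_zero, mul_zero, mul_zero, sub_zero] at h4
    exact hinj _ _ h4
  obtain ⟨s₀, hs0, hs⟩ := exists_fix (mul_ne_zero h2 (pow_ne_zero 3 h1)) (Q := 9) (by norm_num)
  obtain ⟨i, hi⟩ := IsAlgClosed.exists_pow_nat_eq (-1 : k) two_pos
  have hi0 : i ≠ 0 := by
    rintro rfl
    rw [zero_pow two_ne_zero] at hi
    exact one_ne_zero (neg_eq_zero.1 hi.symm)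
  obtain ⟨u₀, ha⟩ := hex s₀ hs
  obtain ⟨u₁, hb⟩ := hex (i * s₀) (by
    linear_combination i * hs + κ' * κ ^ 3 * s₀ ^ 9 * i * (i ^ 6 - i ^ 4 + i ^ 2 - 1) * hi)
  have h5 : η 0 0 (i * κ * s₀ ^ 4) ∈ ⁅X, X⁆ := by
    have e : η 0 0 (i * κ * s₀ ^ 4) = ⁅(η s₀ (κ * s₀ ^ 3) u₀)⁻¹, (η (i * s₀) (κ * (i * s₀) ^ 3) u₁)⁻¹⁆ := by
      rw [commutatorElement_def, inv_inv, inv_inv, ← mul_inv_rev, mul_assoc (_⁻¹), eq_inv_mul_iff_mul_eq,
        hmul, hmul, hmul]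
      congr 1
      · ring
      · ring
      · linear_combination i * κ * s₀ ^ 4 * c3 - i * κ * s₀ ^ 4 * hi
    rw [e]
    exact commutator_mem_commutator (inv_mem ha) (inv_mem hb)
  have h6 : ∀ u, η 0 0 u ∈ X → η 0 0 u ∈ ⁅X, X⁆ := fun u hu => by
    have h7 := hz u hu
    have h8 := hz _ (commutator_le_self X h5)
    have h9 : i * κ * s₀ ^ 4 ≠ 0 := mul_ne_zero (mul_ne_zero hi0 h1) (pow_ne_zero 4 hs0)
    generalize i * κ * s₀ ^ 4 = v at h5 h8 h9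
    have h10 : u * ((u - v) * (u + v)) = 0 := by
      refine mul_left_cancel₀ (mul_ne_zero h3 h9) ?_
      linear_combination v * h7 - u * h8
    rcases mul_eq_zero.1 h10 with h | h
    · rw [h, e0]
      exact one_mem _
    rcases mul_eq_zero.1 h with h | h
    · rwa [sub_eq_zero.1 h]
    · have e : η 0 0 u = (η 0 0 v)⁻¹ := by
        rw [eq_inv_iff_mul_eq_one, hmul, h, ← e0]
        congr 1 <;> ring
      rw [e]
      exact inv_mem h5
  have hy' := hη s t u hy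
  have h11 : η s t u * (h * η s t u * h⁻¹) = η 0 0 (u + u - s * t) := by
    rw [hh, hmul]
    congr 1 <;> ring
  have h12 := h6 _ (h11 ▸ mul_mem hy' (mul_mem (mul_mem hhX hy') (inv_mem hhX)))
  have h13 : η s t u * η s t u * η s t u = 1 := by
    rw [hmul, hmul, ← e0]
    congr 1
    · linear_combination s * c3
    · linear_combination t * c3
    · linear_combination (u + s * t) * c3
  have h14 : η s t u = (η s t u * (h * η s t u * h⁻¹) * ⁅h, (η s t u)⁻¹⁆)⁻¹ := by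
    rw [eq_inv_iff_mul_eq_one, ← h13, commutatorElement_def]
    group
  rw [h14, h11]
  exact inv_mem (mul_mem h12 (commutator_mem_commutator hhX (inv_mem hy')))

/-- unitriangular matrices -/
def Hm (s t u : k) : S3 k := ⟨!![1, s, u; 0, 1, t; 0, 0, 1], by simp [Matrix.det_fin_three]⟩

theorem Hm_mul (s t u s' t' u' : k) : Hm s t u * Hm s' t' u' = Hm (s + s') (t + t') (u + u' + s * t') := by
  apply slext
  rw [cmul]
  ext i j
  fin_cases i <;> fin_cases j <;> simp [Hm, Matrix.mul_apply, Fin.sum_univ_three] <;> ring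

theorem Hm_01 (s : k) : Hm s 0 0 = tv (i := 0) (j := 1) (by decide) s := by
  apply slext
  rw [tv_coe]
  ext i j
  fin_cases i <;> fin_cases j <;> simp [Hm]

theorem Hm_12 (t : k) : Hm 0 t 0 = tv (i := 1) (j := 2) (by decide) t := by
  apply slext
  rw [tv_coe]
  ext i j
  fin_cases i <;> fin_cases j <;> simp [Hm]

theorem Hm_02 (u : k) : Hm 0 0 u = tv (i := 0) (j := 2) (by decide) u := by
  apply slext
  rw [tv_coe]
  ext i j
  fin_cases i <;> fin_cases j <;> simp [Hm]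

theorem Hm_dec (s t u : k) : Hm s t u = Hm s 0 0 * Hm 0 t 0 * Hm 0 0 (u - s * t) := by
  rw [Hm_mul, Hm_mul]
  congr 1 <;> ring

end heis

variable {D : ChevalleyDatum} {l : ℕ} {M : CoxeterMatrix (Fin l)} {hp : IsType D l M} {p : ℕ} [Fact p.Prime]
  {a b b' c c' : Lat l} {S : Set (Lat l)}

theorem p2_symm (h : P2 hp c c') : P2 hp c' c := ⟨h.r2, h.r1, h.c2, h.c1⟩

theorem p2_neg (h : P2 hp c c') : P2 hp (-c) (-c') :=
  ⟨h.r1.neg', h.r2.neg', by rw [cp_neg _ h.r2.neg', cp_neg_right _ h.r2, h.c1, neg_neg],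
    by rw [cp_neg _ h.r1.neg', cp_neg_right _ h.r1, h.c2, neg_neg]⟩

theorem p2_tw (h : P2 hp c c') : P2 hp (-c') (c + c') :=
  ⟨h.r2.neg', (h.sum 0).1, by rw [(h.sum _).2, cp_neg _ h.r1, cp_neg _ h.r2, h.c2, cp_self h.r2]; rfl,
    by rw [cp_neg_right _ h.r2, cp_add _ _ h.r2, h.c1, cp_self h.r2]; rfl⟩

theorem mem_a2 : a ∈ A2s c c' ↔ a = c ∨ a = c' ∨ a = c + c' ∨ a = -c ∨ a = -c' ∨ a = -(c + c') := Iff.rfl

theorem a2_symm (c c' : Lat l) : A2s c' c = A2s c c' := by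
  ext a
  rw [mem_a2, mem_a2, add_comm]
  tauto

theorem a2_tw (c c' : Lat l) : A2s (-c') (c + c') = A2s c c' := by
  ext a
  rw [mem_a2, mem_a2, neg_neg, show -c' + (c + c') = c by abel]
  tauto

theorem a2_rt (h : P2 hp c c') : ∀ a ∈ A2s c c', Rt hp a := by
  intro a ha
  obtain ⟨i, j, hij, rfl⟩ := mem_A2s.1 ha
  exact (h.right hij 0).1

theorem a2_neg : ∀ a ∈ A2s c c', -a ∈ A2s c c' := by
  intro a ha
  obtain ⟨i, j, hij, rfl⟩ := mem_A2s.1 ha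
  exact mem_A2s.2 ⟨j, i, hij.symm, neg_sub _ _⟩

theorem a2_ind {f : Lat l ≃+ Lat l} {ε : ℤ} (h1 : f c = ε • c) (h2 : f c' = ε • c') : ∀ a ∈ A2s c c', f a = ε • a := by
  rintro _ (rfl | rfl | rfl | rfl | rfl | rfl) <;> simp only [map_add, map_neg, h1, h2, smul_add, smul_neg]

theorem far_a2 (hl : 4 ≤ l) (h : P2 hp c c') (ha : Rt hp a) (h0 : cp hp a c = 0) (h1 : Even (cp hp a c')) :
    Far hp p a c := by
  refine ⟨h0, Or.inr fun hac => ?_⟩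
  have h2 := fm_lt ha h.r1 h0
  have h3 := cp_le2 hl hac h.r2
  have h4 := cp_fm h.r1 h.r2
  obtain ⟨n, hn⟩ := h1
  have h5 := fm_le hac h.r2 (by
    rw [cp_add _ _ h.r2, h.c1, hn] at h3 ⊢
    omega)
  rw [h.c1, h.c2] at h4
  omega

variable {d : ℕ} {g0 : Lat l ≃+ Lat l} {L : Type} [Group L] (E : Frame hp p d g0 L)

/-- a perfect group of fixed points containing the fixed points of the root groups of `± c` -/
def AX (E : Frame hp p d g0 L) (c : Lat l) (S : Set (Lat l)) : Prop :=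
  ∃ X : Subgroup (YY D p), ⁅X, X⁆ = X ∧ (∀ y ∈ X, E.F y = y) ∧ X ≤ MS D l p S ∧
    ∀ y, (y ∈ XR D l p c ∨ y ∈ XR D l p (-c)) → E.F y = y → y ∈ X

theorem fix_closure {Z : Set (YY D p)} (h : ∀ y ∈ Z, E.F y = y) : ∀ y ∈ closure Z, E.F y = y := fun y hy =>
  (closure_le (E.F.toMonoidHom.eqLocus (MonoidHom.id _))).2 h hy

theorem exists_fix_xc (hc : Rt hp c) (hg : E.g c = c) : ∃ v : kb p, v ≠ 0 ∧ E.F (xc hp c v) = xc hp c v := by
  obtain ⟨κ, hκ, h⟩ := E.pw c hc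
  obtain ⟨v, hv0, hv⟩ := exists_fix hκ (En.two_le_q E)
  exact ⟨v, hv0, by rw [h, hg]; exact congrArg _ hv⟩

theorem AX.to_hp {E : Frame hp p d g0 L} (h : AX E c S) (hc : Rt hp c) (hg : E.g c = c) : HP E S := by
  obtain ⟨X, h1, h2, h3, h4⟩ := h
  obtain ⟨v, hv0, hv⟩ := exists_fix_xc E hc hg
  refine hp_of E (fun h0 => hv0 ((xc_eq_one hc).1 (mem_bot.1 ?_))) h1 h2 h3
  rw [← h0]
  exact h4 _ (Or.inl (xc_mem_XR hc v)) hv

/-- **`SL₃(q)`.** -/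
theorem ax_split (hG : D ≠ chevG2) (h : P2 hp c c') (hg : E.g c = c) (hg' : E.g c' = c') : AX E c (A2s c c') := by
  obtain ⟨π, s, P⟩ := h.exists_pi p hG
  have h1 : ∀ a ∈ A2s c c', E.g a = a := fun a ha => by
    rw [a2_ind (ε := 1) (by rwa [one_smul]) (by rwa [one_smul]) a ha, one_smul]
  let Z : Set (YY D p) := {y | ∃ a ∈ A2s c c', y ∈ XR D l p a ∧ E.F y = y}
  refine ⟨closure Z, le_antisymm (commutator_le_self _) ((closure_le _).2 ?_), fix_closure E fun y ⟨_, _, _, h⟩ => h,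
    (closure_le _).2 fun y ⟨a, ha, hy, _⟩ => RGD.le_Sup ha hy, fun y hy hF => subset_closure ?_⟩
  · rintro y ⟨a, ha, hy, hF⟩
    obtain ⟨i, j, hij, rfl⟩ := mem_A2s.1 ha
    obtain ⟨k, hik, hkj⟩ := (by decide : ∀ i j : Fin 3, ∃ k : Fin 3, i ≠ k ∧ k ≠ j) i j
    have r1 := (h.right hij 0).1
    have r2 := (h.right hik 0).1
    have r3 := (h.right hkj 0).1
    have m2 := mem_A2s.2 ⟨i, k, hik, (rfl : ev c c' i - ev c c' k = _)⟩
    have m3 := mem_A2s.2 ⟨k, j, hkj, (rfl : ev c c' k - ev c c' j = _)⟩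
    have key : ∀ v w, ⁅xc hp (ev c c' i - ev c c' k) v, xc hp (ev c c' k - ev c c' j) w⁆ =
        xc hp (ev c c' i - ev c c' j) ((s i j * s i k * s k j * v : kb p) * w) := fun v w => by
      rw [P.xc_eq hik, P.xc_eq hkj, ← map_commutatorElement, LieClassical.SLGen.commutator_transvection hij, P.tv]
      congr 1
      ring
    obtain ⟨u, rfl⟩ := (mem_XR r1).1 hy
    obtain ⟨v, hv0, hv⟩ := exists_fix_xc E r2 (h1 _ m2)
    have h2 : (s i j * s i k * s k j * v : kb p) ≠ 0 :=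
      mul_ne_zero (mul_ne_zero (mul_ne_zero (P.ne hij) (P.ne hik)) (P.ne hkj)) hv0
    obtain ⟨w, rfl⟩ : ∃ w, u = (s i j * s i k * s k j * v : kb p) * w := ⟨_, (mul_div_cancel₀ u h2).symm⟩
    obtain ⟨κ, -, h3⟩ := E.pw _ r3
    rw [h1 _ m3] at h3
    have h4 := hF
    rw [← key, map_commutatorElement, hv, h3, key, key] at h4
    rw [← key]
    refine commutator_mem_commutator (subset_closure ⟨_, m2, xc_mem_XR r2 v, hv⟩)
      (subset_closure ⟨_, m3, xc_mem_XR r3 w, ?_⟩)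
    rw [h3, mul_left_cancel₀ h2 (xc_injective r1 h4)]
  · rcases hy with hy | hy
    · exact ⟨c, Or.inl rfl, hy, hF⟩
    · exact ⟨-c, Or.inr (Or.inr (Or.inr (Or.inl rfl))), hy, hF⟩

theorem eq_of_q {r : ℕ} (hr : r.Prime) (hq : E.q = r) : p = r :=
  (Nat.prime_dvd_prime_iff_eq Fact.out hr).1 (hq ▸ dvd_pow_self p E.he.ne')

theorem tw_half (hG : D ≠ chevG2) (hq : E.q = 3) (h : P2 hp b b') (hg : E.g b = b') (hg' : E.g b' = b) {t : YY D p}
    (ht : t ∈ TT D (kb p)) (h1 : ch hp b t = -1) (h2 : ch hp b' t = -1) (h3 : ch hp (b + b') t = 1)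
    {X : Subgroup (YY D p)} (htX : t ∈ X) (hX : ∀ y ∈ X, E.F y = y)
    (hU : ∀ y ∈ MS D l p {b, b', b + b'}, E.F y = y → y ∈ X) {y : YY D p} (hy : y ∈ MS D l p {b, b', b + b'})
    (hF : E.F y = y) : y ∈ ⁅X, X⁆ := by
  obtain rfl : p = 3 := eq_of_q E Nat.prime_three hq
  obtain ⟨π, s, P⟩ := h.exists_pi 3 hG
  have r3 := (h.sum 0).1
  have n01 : (0 : Fin 3) ≠ 1 := by decide
  have n12 : (1 : Fin 3) ≠ 2 := by decide
  have n02 : (0 : Fin 3) ≠ 2 := by decide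
  have e1 : ∀ u, π (Hm u 0 0) = xc hp b (s 0 1 * u) := fun u => by rw [Hm_01, P.tv, ev01]
  have e2 : ∀ u, π (Hm 0 u 0) = xc hp b' (s 1 2 * u) := fun u => by rw [Hm_12, P.tv, ev12]
  have e3 : ∀ u, π (Hm 0 0 u) = xc hp (b + b') (s 0 2 * u) := fun u => by rw [Hm_02, P.tv, ev02]
  have q1 := P.sq 0 1 n01
  have q2 := P.sq 1 2 n12
  have q3 := P.sq 0 2 n02
  have hm : ∀ x y z, π (Hm x y z) ∈ MS D l 3 {b, b', b + b'} := fun x y z => by
    rw [Hm_dec, map_mul, map_mul, e1, e2, e3]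
    exact mul_mem (mul_mem (RGD.le_Sup (S := {b, b', b + b'}) (Or.inl rfl) (xc_mem_XR h.r1 _))
      (RGD.le_Sup (S := {b, b', b + b'}) (Or.inr (Or.inl rfl)) (xc_mem_XR h.r2 _)))
      (RGD.le_Sup (S := {b, b', b + b'}) (Or.inr (Or.inr rfl)) (xc_mem_XR r3 _))
  have h0 : (Hm 0 0 0 : S3 (kb 3)) = 1 := by rw [Hm_01, H428.OT.Lin.tv_zero]
  let K : Subgroup (YY D 3) :=
    { carrier := {y | ∃ x₁ x₂ x₃, π (Hm x₁ x₂ x₃) = y}
      one_mem' := ⟨0, 0, 0, by rw [h0, map_one]⟩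
      mul_mem' := by
        rintro _ _ ⟨x₁, x₂, x₃, rfl⟩ ⟨y₁, y₂, y₃, rfl⟩
        exact ⟨_, _, _, by rw [← map_mul, Hm_mul]⟩
      inv_mem' := by
        rintro _ ⟨x₁, x₂, x₃, rfl⟩
        refine ⟨-x₁, -x₂, x₁ * x₂ - x₃, ?_⟩
        rw [eq_inv_iff_mul_eq_one, ← map_mul, Hm_mul, ← map_one π, ← h0]
        congr 2 <;> ring }
  have hK : MS D l 3 {b, b', b + b'} ≤ K := by
    refine RGD.Sup_le ?_
    rintro _ (rfl | rfl | rfl) y hy
    · obtain ⟨u, rfl⟩ := (mem_XR h.r1).1 hy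
      exact ⟨s 0 1 * u, 0, 0, by rw [e1, ← mul_assoc, q1, one_mul]⟩
    · obtain ⟨u, rfl⟩ := (mem_XR h.r2).1 hy
      exact ⟨0, s 1 2 * u, 0, by rw [e2, ← mul_assoc, q2, one_mul]⟩
    · obtain ⟨u, rfl⟩ := (mem_XR r3).1 hy
      exact ⟨0, 0, s 0 2 * u, by rw [e3, ← mul_assoc, q3, one_mul]⟩
  obtain ⟨x₁, x₂, x₃, rfl⟩ := hK hy
  obtain ⟨κ₁, k1, f1⟩ := E.pw b h.r1
  obtain ⟨κ₂, k2, f2⟩ := E.pw b' h.r2
  obtain ⟨κ₃, k3, f3⟩ := E.pw _ r3
  rw [show 3 ^ E.e = 3 from hq] at f1 f2 f3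
  rw [hg] at f1
  rw [hg'] at f2
  rw [map_add, hg, hg', add_comm b' b] at f3
  refine heis_perf (η := fun x y z => π (Hm x y z)) (fun _ _ _ _ _ _ => by rw [← map_mul, Hm_mul])
    (fun u u' e => ?_) (κ := s 1 2 * κ₁ * s 0 1) (κ' := s 0 1 * κ₂ * s 1 2) (κ'' := κ₃)
    (mul_ne_zero (mul_ne_zero (P.ne n12) k1) (P.ne n01)) (mul_ne_zero (mul_ne_zero (P.ne n01) k2) (P.ne n12)) k3
    (fun x y z => ?_) (fun x y z => ?_) htX hX (fun x y z => hU _ (hm x y z)) hF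
  · rw [e3, e3] at e
    exact mul_left_cancel₀ (P.ne n02) (xc_injective r3 e)
  · have e : (Hm (s 0 1 * κ₂ * s 1 2 * y ^ 3) (s 1 2 * κ₁ * s 0 1 * x ^ 3) (κ₃ * (z - x * y) ^ 3) : S3 (kb 3)) =
        Hm 0 (s 1 2 * κ₁ * s 0 1 * x ^ 3) 0 * Hm (s 0 1 * κ₂ * s 1 2 * y ^ 3) 0 0 * Hm 0 0 (κ₃ * (z - x * y) ^ 3) := by
      rw [Hm_mul, Hm_mul]
      congr 1 <;> ring
    rw [e, Hm_dec x y z]
    simp only [map_mul, e1, e2, e3, f1, f2, f3]
    congr 2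
    · congr 1
      linear_combination κ₁ * s 0 1 * x ^ 3 * q1 - κ₁ * s 0 1 * x ^ 3 * q2
    · congr 1
      linear_combination κ₂ * s 1 2 * y ^ 3 * q2 - κ₂ * s 1 2 * y ^ 3 * q1
    · linear_combination κ₃ * s 0 2 * (z - x * y) ^ 3 * q3
  · rw [Hm_dec x y z, Hm_dec (-x) (-y) z]
    simp only [map_mul, e1, e2, e3]
    rw [show ∀ x y z : YY D 3, t * (x * y * z) * t⁻¹ = t * x * t⁻¹ * (t * y * t⁻¹) * (t * z * t⁻¹) from
      fun x y z => by group, ch_act h.r1 ht, ch_act h.r2 ht, ch_act r3 ht, h1, h2, h3]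
    congr 2
    · congr 1
      ring
    · congr 1
      ring
    · ring

/-- **`SU₃(3)`.** -/
theorem ax_tw (hG : D ≠ chevG2) (hq : E.q = 3) (h : P2 hp b b') (hg : E.g b = b') (hg' : E.g b' = b) :
    AX E (b + b') (A2s b b') := by
  have r3 := (h.sum 0).1
  have h1 : (-1 : kb p) ≠ 0 := neg_ne_zero.2 one_ne_zero
  let Z : Set (YY D p) := {y | E.F y = y ∧ (y ∈ MS D l p {b, b', b + b'} ∨ y ∈ MS D l p {-b, -b', -b + -b'})}
  have h2 : ∀ y, (y ∈ XR D l p (b + b') ∨ y ∈ XR D l p (-(b + b'))) → E.F y = y → y ∈ closure Z := fun y hy hF =>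
    subset_closure ⟨hF, hy.imp (RGD.le_Sup (S := {b, b', b + b'}) (Or.inr (Or.inr rfl)) ·)
      (RGD.le_Sup (S := {-b, -b', -b + -b'}) (Or.inr (Or.inr (neg_add b b'))) ·)⟩
  have hF := fix_closure E (Z := Z) fun y hy => hy.1
  have h3 : sl p r3 (hS (-1)) ∈ closure Z := by
    obtain ⟨κ, hκ, e⟩ := act_sl E.frob E.fr r3 r3 (by rw [map_add, hg, hg', add_comm])
    obtain ⟨v, hv0, hv⟩ := exists_fix hκ (En.two_le_q E)
    have m1 : sl p r3 (up v) ∈ closure Z := h2 _ (Or.inl (by rw [sl_up]; exact xc_mem_XR r3 v))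
      (by rw [e, sgm_up, fb_apply]; exact congrArg _ (congrArg _ hv))
    have m2 : sl p r3 (lo (-v⁻¹)) ∈ closure Z := h2 _ (Or.inr (by rw [sl_lo]; exact xc_mem_XR r3.neg' _))
      (by rw [e, sgm_lo, map_neg, map_inv₀, mul_neg, ← mul_inv, fb_apply]; exact congrArg (fun x => sl p r3 (lo (-x⁻¹))) hv)
    rw [← n_sq hv0]
    simp only [map_mul]
    exact mul_mem (mul_mem (mul_mem m1 m2) m1) (mul_mem (mul_mem m1 m2) m1)
  have c1 : cp hp b (b + b') = 1 := by rw [(h.sum _).2, cp_self h.r1, h.c1]; rfl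
  have c2 : cp hp b' (b + b') = 1 := by rw [(h.sum _).2, cp_self h.r2, h.c2]; rfl
  refine ⟨closure Z, le_antisymm (commutator_le_self _) ((closure_le _).2 ?_), hF, (closure_le _).2 ?_, h2⟩
  · rintro y ⟨h4, h5 | h5⟩
    · exact tw_half E hG hq h hg hg' (sl_hS_mem r3 h1) (by rw [ch_sl_hS r3 h1 h.r1, c1, zpow_one])
        (by rw [ch_sl_hS r3 h1 h.r2, c2, zpow_one]) (by rw [ch_sl_hS r3 h1 r3, cp_self r3]; norm_num) h3 hF
        (fun y hy hF => subset_closure ⟨hF, Or.inl hy⟩) h5 h4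
    · exact tw_half E hG hq (p2_neg h) (by rw [map_neg, hg]) (by rw [map_neg, hg']) (sl_hS_mem r3 h1)
        (by rw [ch_sl_hS r3 h1 h.r1.neg', cp_neg _ r3, c1]; norm_num)
        (by rw [ch_sl_hS r3 h1 h.r2.neg', cp_neg _ r3, c2]; norm_num)
        (by rw [← neg_add, ch_sl_hS r3 h1 r3.neg', cp_neg _ r3, cp_self r3]; norm_num) h3 hF
        (fun y hy hF => subset_closure ⟨hF, Or.inr hy⟩) h5 h4
  · rintro y ⟨-, h5 | h5⟩
    · refine RGD.Sup_mono ?_ h5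
      rintro _ (rfl | rfl | rfl)
      exacts [Or.inl rfl, Or.inr (Or.inl rfl), Or.inr (Or.inr (Or.inl rfl))]
    · refine RGD.Sup_mono ?_ h5
      rintro _ (rfl | rfl | rfl)
      exacts [a2_neg _ (Or.inl rfl), a2_neg _ (Or.inr (Or.inl rfl)),
        (neg_add b b') ▸ a2_neg _ (Or.inr (Or.inr (Or.inl rfl)))]

/-- moving the first root into place -/
theorem a2_trans (h : P2 hp c c') (ha : a ∈ A2s c c') : ∃ w ∈ WW hp (A2s c c'), wa hp w a = c := by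
  obtain ⟨v, hv, e⟩ := exists_refl h.r1
  obtain ⟨v', hv', e'⟩ := exists_refl h.r2
  have m := hv (A2s c c') (Or.inl rfl)
  have m' := hv' (A2s c c') (Or.inr (Or.inl rfl))
  have e1 : wa hp v (-c) = c := by rw [e, refl_neg h.r1]
  have e2 : wa hp v c' = c + c' := by
    rw [e, h.c2]
    module
  have e3 : wa hp v' (c + c') = c := by
    rw [e', cp_add _ _ h.r2, h.c1, cp_self h.r2]
    module
  rcases ha with rfl | rfl | rfl | rfl | rfl | rfl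
  · exact ⟨1, one_mem _, wa_one _⟩
  · exact ⟨v' * v, mul_mem m' m, by rw [wa_mul, e2, e3]⟩
  · exact ⟨v', m', e3⟩
  · exact ⟨v, m, e1⟩
  · exact ⟨v * (v' * v), mul_mem m (mul_mem m' m), by rw [wa_mul, wa_neg, wa_mul, e2, e3, e1]⟩
  · exact ⟨v * v', mul_mem m m', by rw [wa_mul, wa_neg, e3, e1]⟩

theorem a2_refl (h : P2 hp c c') : ∀ b ∈ A2s c c', ∀ a ∈ A2s c c', a - cp hp a b • b ∈ A2s c c' := by
  intro b hb a ha
  obtain ⟨w, hw, e⟩ := exists_refl (a2_rt h b hb)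
  obtain ⟨τ, hτ⟩ := h.act_WW (hw _ hb)
  obtain ⟨i, j, hij, rfl⟩ := mem_A2s.1 ha
  rw [← e, hτ]
  exact mem_A2s.2 ⟨_, _, τ.injective.ne hij, rfl⟩

theorem a2_cp (h : P2 hp c c') (ha : a ∈ A2s c c') (h1 : cp hp a c = -1) : a = c' ∨ a = -(c + c') := by
  have e1 := cp_self h.r1
  have e2 := h.c2
  rcases ha with rfl | rfl | rfl | rfl | rfl | rfl
  · omega
  · exact Or.inl rfl
  · rw [cp_add _ _ h.r1] at h1
    omega
  · rw [cp_neg _ h.r1] at h1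
    omega
  · rw [cp_neg _ h.r1] at h1
    omega
  · exact Or.inr rfl

/-- **The automorphisms of `A₂`.** -/
theorem a2_norm (h : P2 hp c c') (hA : ∀ a ∈ A2s c c', E.g a ∈ A2s c c') : ∃ w ∈ WW hp (A2s c c'), ∃ ε : ℤˣ,
    wa hp w (E.g c) = (ε : ℤ) • c ∧ wa hp w (E.g c') = (ε : ℤ) • c' := by
  obtain ⟨w, hw, e⟩ := a2_trans h (hA c (Or.inl rfl))
  have h1 := (WW_stab (a2_rt h) (a2_refl h) hw _).2 (hA c' (Or.inr (Or.inl rfl)))
  have h2 : cp hp (wa hp w (E.g c')) c = -1 := by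
    conv_lhs => rw [← e]
    rw [e, ← h.c2, ← E.gcp c' c h.r1, ← cp_wa w _ (rt_g E h.r1), e]
  rcases a2_cp h h1 h2 with h3 | h3
  · exact ⟨w, hw, 1, by rw [e, Units.val_one, one_smul], by rw [h3, Units.val_one, one_smul]⟩
  · obtain ⟨v, hv, e'⟩ := exists_refl h.r1
    refine ⟨v * w, mul_mem (hv _ (Or.inl rfl)) hw, -1, ?_, ?_⟩
    · rw [wa_mul, e, e', refl_self h.r1, Units.val_neg, Units.val_one, neg_smul, one_smul]
    · rw [wa_mul, e', h2, h3, Units.val_neg, Units.val_one]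
      module

variable [Finite L] {U : Type} [Group U] [Finite U] {τ α β : U →* L} {R R' : Subgroup L}

theorem AX.kt {E : Frame hp p d g0 L} (h : AX E c S) (hc : Rt hp c) (hi : Function.Injective (sl p hc)) (hg : E.g c = c)
    (H : ∀ X : Subgroup L, ⁅X, X⁆ = X → X.map E.ι ≤ MS D l p S → X ≤ τ.range) : KT E τ c := by
  obtain ⟨X, h1, h2, h3, h4⟩ := h
  obtain ⟨X', h5, rfl⟩ := pull E h1 h2
  obtain ⟨κ, hκ, e⟩ := act_sl E.frob E.fr hc hc hg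
  obtain ⟨v, hv0, hv⟩ := exists_fix hκ (En.two_le_q E)
  intro y hy hF
  rw [← sl_range hc] at hy
  obtain ⟨A, rfl⟩ := hy
  rw [e] at hF
  obtain ⟨x, hx, h6⟩ : A ∈ (X'.map E.ι).comap (sl p hc) := fix_mem (hκ := hκ) hv0 (by rw [fb_apply]; exact hv)
    (fun t ht => h4 _ (Or.inl (by rw [sl_up]; exact xc_mem_XR hc t)) (by rw [e, sgm_up, ht]))
    (fun t ht => h4 _ (Or.inr (by rw [sl_lo]; exact xc_mem_XR hc.neg' t)) (by rw [e, sgm_lo, ht])) (mem_fixG.2 (hi hF))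
  obtain ⟨u, rfl⟩ := H X' h5 h3 hx
  exact ⟨u, h6⟩

theorem ne_G2 (hp : IsType D l M) (hl : 4 ≤ l) : D ≠ chevG2 := fun e => by
  have := (typ_cases hp).2.1 e
  omega

theorem kt_a2 (big : Big) (hl : 4 ≤ l) (co : Core τ α β R R') (h : P2 hp c c') {ε : ℤˣ} (hg : E.g c = (ε : ℤ) • c)
    (hg' : E.g c' = (ε : ℤ) • c') (hq : ε = 1 ∨ 3 ≤ E.q) (H : Cen E R (A2s c c')) : KT E τ c := by
  have hi : Function.Injective (sl p h.r1) := sl_inj h.r1 (Or.inr ⟨c', h.r2, by rw [h.c2]; decide⟩)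
  have hle : MS D l p {c, -c} ≤ MS D l p (A2s c c') := pm_le a2_neg (Or.inl rfl)
  have key : ∀ E : Frame hp p d g0 L, Cen E R (A2s c c') →
      ∀ X : Subgroup L, ⁅X, X⁆ = X → X.map E.ι ≤ MS D l p (A2s c c') → X ≤ τ.range := fun E H X hX h1 =>
    perf_le big co hX ((map_le_iff_le_comap.1 h1).trans (cen_le E H))
  rcases Int.units_eq_one_or ε with rfl | rfl
  · rw [Units.val_one, one_smul] at hg hg'
    exact (ax_split E (ne_G2 hp hl) h hg hg').kt h.r1 hi hg (key E H)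
  have h3 : 3 ≤ E.q := hq.resolve_left (by decide)
  by_cases h4 : 4 ≤ E.q
  · exact kt_of E h.r1 hi (pm_of hg) h4 fun X hX h1 => key E H X hX (h1.trans hle)
  rw [Units.val_neg, Units.val_one, neg_smul, one_smul] at hg hg'
  obtain ⟨z, hz, w, e, h5⟩ := exists_tw E h.r1 (Or.inr hg)
  have h6 := ax_tw (E.move z w h5) (ne_G2 hp hl) (by rw [E.move_q]; omega) (p2_tw h)
    (by
      rw [E.move_g, map_neg, hg', neg_neg, e, h.c2]
      module)
    (by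
      rw [E.move_g, map_add, hg, hg', e, cp_add _ _ h.r1, cp_neg _ h.r1, cp_neg _ h.r1, h.c2, cp_self h.r1]
      module)
  rw [a2_tw, show -c' + (c + c') = c by abel] at h6
  exact (kt_move E hz).1 (h6.kt h.r1 hi (by rw [E.move_g, hg, e, refl_neg h.r1]) (key _ (cen_move E H (hle hz))))

theorem exists_pp {N : ℤ} (h : 3 ≤ N) : ∃ r n : ℕ, r.Prime ∧ 3 ≤ r ^ n ∧ ((r ^ n : ℕ) : ℤ) ∣ N := by
  obtain ⟨r, hr, hd⟩ := Nat.exists_prime_and_dvd (n := N.natAbs) (by omega)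
  have h1 : (r : ℤ) ∣ N := Int.natCast_dvd.2 hd
  have h2 := hr.two_le
  by_cases h3 : r = 2
  · subst h3
    obtain ⟨N', rfl⟩ := h1
    obtain ⟨r, hr, hd⟩ := Nat.exists_prime_and_dvd (n := N'.natAbs) (by omega)
    have h1 : (r : ℤ) ∣ N' := Int.natCast_dvd.2 hd
    have h2 := hr.two_le
    by_cases h3 : r = 2
    · subst h3
      exact ⟨2, 2, Nat.prime_two, by norm_num, by omega⟩
    · exact ⟨r, 1, hr, by rw [pow_one]; omega, by rw [pow_one]; exact h1.mul_left _⟩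
  · exact ⟨r, 1, hr, by rw [pow_one]; omega, by rwa [pow_one]⟩

theorem a2_big (big : Big) (hl : 4 ≤ l) (co : Core τ α β R R') (h : P2 hp c c') {ε : ℤˣ} (hg : E.g c = (ε : ℤ) • c)
    (hg' : E.g c' = (ε : ℤ) • c') (hK : KT E τ c) (hK' : KT E τ c') (hq : 3 ≤ (E.q : ℤ) - ε) : False := by
  obtain ⟨r, n, hr, h3, hd⟩ := exists_pp hq
  have hrp : r ≠ p := by
    rintro rfl
    have h1 : (r : ℤ) ∣ E.q - ε := by
      refine Dvd.dvd.trans ?_ hd
      rw [Nat.cast_pow]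
      refine dvd_pow_self _ ?_
      rintro rfl
      rw [pow_zero] at h3
      omega
    have h2 : (r : ℤ) ∣ E.q := Int.natCast_dvd_natCast.2 (dvd_pow_self r E.he.ne')
    exact hr.not_isUnit (Int.ofNat_isUnit.1 (isUnit_of_dvd_unit ((dvd_sub_right h2).1 h1) ε.isUnit))
  obtain ⟨ζ, hζ⟩ := exists_zeta p (m := r ^ n) (((Nat.coprime_primes hr Fact.out).2 hrp).pow_left n)
  have h0 : ζ ≠ 0 := hζ.ne_zero (by omega)
  obtain ⟨u, hu⟩ := hK _ (sl_mem h.r1 _) (fix_h E h.r1 hg hζ h0 hd)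
  obtain ⟨u', hu'⟩ := hK' _ (sl_mem h.r2 _) (fix_h E h.r2 hg' hζ h0 hd)
  refine fin_K E co h.r1 (pm_of hg) hK hr (Q := {u, u'}) ?_ fun a ha h1 => ?_
  · rintro _ (rfl | rfl)
    · rw [hu]
      exact ⟨sl_hS_mem h.r1 h0, n, h_pow h.r1 h0 hζ.pow_eq_one⟩
    · rw [hu']
      exact ⟨sl_hS_mem h.r2 h0, n, h_pow h.r2 h0 hζ.pow_eq_one⟩
  · have h2 := h1 u (Or.inl rfl)
    have h4 := h1 u' (Or.inr rfl)
    rw [hu, ch_sl_hS h.r1 h0 ha, hζ.zpow_eq_one_iff_dvd] at h2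
    rw [hu', ch_sl_hS h.r2 h0 ha, hζ.zpow_eq_one_iff_dvd] at h4
    have h5 := cp_le2 hl ha h.r1
    have h6 := cp_le2 hl ha h.r2
    refine far_a2 hl h ha (Int.eq_zero_of_abs_lt_dvd h2 (by rw [abs_lt]; omega)) ?_
    rw [Int.eq_zero_of_abs_lt_dvd h4 (by rw [abs_lt]; omega)]
    exact Even.zero

theorem a2_small (big : Big) (hl : 4 ≤ l) (co : Core τ α β R R') (h : P2 hp c c') (hg : E.g c = c) (hg' : E.g c' = c')
    (hK : KT E τ c) (hK' : KT E τ c') (hq : E.q = 2 ∨ E.q = 3) : False := by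
  obtain ⟨r, n, hr, hrp, hn⟩ : ∃ r n : ℕ, r.Prime ∧ r ≠ p ∧ r ^ n = (E.q + 1) * (E.q - 1) := by
    rcases hq with hq | hq
    · exact ⟨3, 1, Nat.prime_three, by rw [eq_of_q E Nat.prime_two hq]; decide, by rw [hq]; rfl⟩
    · exact ⟨2, 3, Nat.prime_two, by rw [eq_of_q E Nat.prime_three hq]; decide, by rw [hq]; rfl⟩
  obtain ⟨ζ, hζ⟩ := exists_zeta p (m := r ^ n) (((Nat.coprime_primes hr Fact.out).2 hrp).pow_left n)
  have hpos : 0 < r ^ n := pow_pos hr.pos n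
  have h0 : ζ ≠ 0 := hζ.ne_zero hpos.ne'
  have h0' : ζ ^ (E.q + 1) ≠ 0 := pow_ne_zero _ h0
  have g1 : E.g c = ((1 : ℤˣ) : ℤ) • c := by rwa [Units.val_one, one_smul]
  have g2 : E.g c' = ((1 : ℤˣ) : ℤ) • c' := by rwa [Units.val_one, one_smul]
  have hT := sl_hS_mem h.r1 h0
  have hT' := sl_hS_mem h.r2 h0'
  have hF' := fix_h E h.r2 g2 (hζ.pow hpos hn) h0' (by
    rw [Units.val_one, Nat.cast_sub (by omega), Nat.cast_one])
  obtain ⟨z, hz, w, e, h5⟩ := exists_tw E h.r1 (Or.inl hg)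
  have hch : ∀ a, Rt hp a → ch hp a (sl p h.r1 (hS ζ) * sl p h.r2 (hS (ζ ^ (E.q + 1)))) =
      ζ ^ (cp hp a c + (E.q + 1) * cp hp a c') := fun a ha => by
    rw [ch_mul ha hT hT', ch_sl_hS _ h0 ha, ch_sl_hS _ h0' ha, zpow_add₀ h0, ← zpow_natCast, ← zpow_mul]
    push_cast
    rfl
  have h6 := (E.move z w h5).fix_of_ch (mul_mem hT hT') fun a ha => by
    rw [hch a ha, hch _ (rt_g _ ha), ← zpow_natCast, ← zpow_mul, E.move_g, E.move_q, e, cp_sub _ _ h.r1,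
      cp_sub _ _ h.r2, cp_smul _ _ h.r1, cp_smul _ _ h.r2, cp_self h.r1, h.c1, cp_g E h.r1 g1, cp_g E h.r2 g2,
      Units.val_one]
    refine zpow_q hζ h0 ⟨-cp hp a c', ?_⟩
    rw [hn, Nat.cast_mul, Nat.cast_sub (by omega)]
    push_cast
    ring
  rw [E.move_fix] at h6
  obtain ⟨u', hu'⟩ := hK' _ (sl_mem h.r2 _) hF'
  obtain ⟨u, hu⟩ := hK (z * (sl p h.r1 (hS ζ) * sl p h.r2 (hS (ζ ^ (E.q + 1)))) * z⁻¹ * (sl p h.r2 (hS (ζ ^ (E.q + 1))))⁻¹)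
    (by
      rw [show ∀ x y : YY D p, z * (x * y) * z⁻¹ * y⁻¹ = z * x * (y * z⁻¹ * y⁻¹) from fun x y => by group]
      exact mul_mem (mul_mem hz (sl_mem h.r1 _)) (DS.Ex.Tor.T_conj_MS (hp := hp) (pm_rt h.r1) hT' (inv_mem hz)))
    (by rw [map_mul, h6, map_inv, hF'])
  have h7 : (E.move z w h5).ι (τ (u * u')) = sl p h.r1 (hS ζ) * sl p h.r2 (hS (ζ ^ (E.q + 1))) := by
    rw [E.move_ι, map_mul, map_mul, hu, hu']
    group
  refine fin_K (E.move z w h5) co h.r1 (Or.inr (by rw [E.move_g, hg, e, refl_self h.r1])) ((kt_move E hz).2 hK) hr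
    (Q := {u * u'}) ?_ fun a ha h1 => ?_
  · rintro _ rfl
    rw [h7]
    refine ⟨mul_mem hT hT', n, ?_⟩
    rw [Commute.mul_pow (T_comm hp hT hT'), h_pow _ h0 hζ.pow_eq_one, h_pow _ h0' (by
      rw [← pow_mul, mul_comm, pow_mul, hζ.pow_eq_one, one_pow]), mul_one]
  · have h2 := h1 _ rfl
    rw [h7, hch a ha, hζ.zpow_eq_one_iff_dvd, hn] at h2
    have h3 := cp_le2 hl ha h.r1
    rcases hq with hq | hq <;> rw [hq] at h2
    · exact ⟨by omega, Or.inl (eq_of_q E Nat.prime_two hq)⟩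
    · exact far_a2 hl h ha (by omega) (Int.even_iff.2 (by omega))

/-- **`BoxP.a2`.** -/
theorem a2 (big : Big) (hl : 4 ≤ l) (co : Core τ α β R R') (h : P2 hp c c') (hA : ∀ a ∈ A2s c c', E.g a ∈ A2s c c')
    (hq : 3 ≤ E.q ∨ ∃ w ∈ WW hp (A2s c c'), ∀ a ∈ A2s c c', E.g a = wa hp w a) : ¬ Cen E R (A2s c c') := by
  intro H
  obtain ⟨w, hw, ε, h1, h2, h3⟩ : ∃ w ∈ WW hp (A2s c c'), ∃ ε : ℤˣ, wa hp w (E.g c) = (ε : ℤ) • c ∧
      wa hp w (E.g c') = (ε : ℤ) • c' ∧ (ε = 1 ∨ 3 ≤ E.q) := by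
    rcases hq with hq | ⟨w, hw, e⟩
    · obtain ⟨w, hw, ε, h1, h2⟩ := a2_norm E h hA
      exact ⟨w, hw, ε, h1, h2, Or.inr hq⟩
    · exact ⟨w⁻¹, inv_mem hw, 1, by rw [e _ (Or.inl rfl), wa_inv_wa, Units.val_one, one_smul],
        by rw [e _ (Or.inr (Or.inl rfl)), wa_inv_wa, Units.val_one, one_smul], Or.inl rfl⟩
  obtain ⟨z, hz, h4⟩ := En.exists_move_MS E (a2_rt h) a2_neg hA hw
  have H' := cen_move E (h := h4) H hz
  have k1 := kt_a2 (E.move z w h4) big hl co h h1 h2 h3 H'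
  have k2 := kt_a2 (E.move z w h4) big hl co (p2_symm h) h2 h1 h3 (by rwa [a2_symm])
  by_cases h5 : 3 ≤ (E.q : ℤ) - ε
  · exact a2_big (E.move z w h4) big hl co h h1 h2 k1 k2 h5
  have h6 := En.two_le_q E
  rcases Int.units_eq_one_or ε with rfl | rfl
  · rw [Units.val_one] at h5
    rw [Units.val_one, one_smul] at h1 h2
    exact a2_small (E.move z w h4) big hl co h h1 h2 k1 k2 (by rw [E.move_q]; omega)
  · rw [Units.val_neg, Units.val_one] at h5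
    omega

end Cfsg.Agent.Cam.Ex.P
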