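import Cfsg.Agent.Cam.Ex.K
import Cfsg.Agent.DS.Ex.Rank
import Cfsg.Agent.DS.NT.StepA
import Cfsg.Agent.H397.ZTwo

/-!
# Exceptional rows, `BoxU`: the rank and the group theory (helper53)

* `rank_le` : a direct power `U ^ n` inside `Y` has `n ≤ l`;
* `exists_aut` : an abelian `r`-subgroup with an induced automorphism of prime order;
* `sq_dvd` : the square of this prime divides the order of the Weyl group.
-/

set_option autoImplicit false
set_option linter.unusedVariables false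
set_option linter.unusedSectionVars false

namespace Cfsg.Agent.Cam.Ex.Ub

open CoxeterSystem Cfsg Cfsg.Lie Subgroup
open Cfsg.Agent.ChevalleyStructure.CoxeterGeom Cfsg.Agent.ChevalleyStructure.CoxeterGeomTypes
open Cfsg.Agent.Tits.Roots Cfsg.Agent.Nodes.BNOf Cfsg.Agent.Nodes.RGDChev
open Cfsg.Agent.KFacts.RgdChevCoord
open Cfsg.Agent.Cam.Spor Cfsg.Agent.TwoFusion.PerfCore
open Cfsg.Agent.DS.Nt (RP DZ)
open scoped commutatorElement

variable {D : ChevalleyDatum} {l : ℕ} {M : CoxeterMatrix (Fin l)} {hp : IsType D l M} {p : ℕ} [Fact p.Prime]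

/-- a toral set of elements of order `r` and an element of order `r` of a perfect group centralizing it -/
theorem tor_perf (hp : IsType D l M) {r : ℕ} (hr : r.Prime) (hrp : r ≠ p) {Z : Set (YY D p)} (hfin : Z.Finite)
    {z : YY D p} (hZ : ∀ t ∈ Z, z * t * z⁻¹ ∈ TT D (kb p) ∧ t ^ r = 1) {J : Subgroup (YY D p)} (hJ : ⁅J, J⁆ = J)
    (hc : ∀ j ∈ J, ∀ t ∈ Z, j * t = t * j) {x : YY D p} (hx : x ∈ J) (hxr : x ^ r = 1) :
    ∃ g : YY D p, (∀ t ∈ Z, g * t * g⁻¹ ∈ TT D (kb p)) ∧ g * x * g⁻¹ ∈ TT D (kb p) := by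
  have hsq : ∀ y : YY D p, y ^ r = 1 → (z * y * z⁻¹) ^ r ^ 1 = 1 := fun y hy => by
    rw [pow_one, conj_pow, hy, mul_one, mul_inv_cancel]
  have hT : ∀ t ∈ (fun t => z * t * z⁻¹) '' Z, t ∈ TT D (kb p) ∧ t ^ r ^ 1 = 1 := by
    rintro _ ⟨t, ht, rfl⟩
    exact ⟨(hZ t ht).1, hsq t (hZ t ht).2⟩
  have hcz : ∀ j ∈ J, ∀ t ∈ (fun t => z * t * z⁻¹) '' Z, z * j * z⁻¹ * t = t * (z * j * z⁻¹) := by
    rintro j hj _ ⟨t, ht, rfl⟩
    rw [show z * j * z⁻¹ * (z * t * z⁻¹) = z * (j * t) * z⁻¹ by group, hc j hj t ht]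
    group
  have h1 := chi_perf hp hr (Q := (fun t => z * t * z⁻¹) '' Z) (fun t ht => ⟨(hT t ht).1, 1, (hT t ht).2⟩)
    (map_perfect hJ (MulAut.conj z).toMonoidHom) (by
    rintro _ ⟨j, hj, rfl⟩
    exact mem_centralizer_iff.2 fun t ht => (hcz j hj t ht).symm)
  have hQ : IsPGroup r (closure (insert (z * x * z⁻¹) ((fun t => z * t * z⁻¹) '' Z))) := DS.Nt.isPGroup_of_comm (by
    rintro a (rfl | ha) b (rfl | hb)
    · rfl
    · exact hcz x hx b hb
    · exact (hcz x hx a ha).symm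
    · exact T_comm hp (hT a ha).1 (hT b hb).1) (by
    rintro a (rfl | ha)
    · exact ⟨1, hsq x hxr⟩
    · exact ⟨1, (hT a ha).2⟩)
  obtain ⟨g, hg⟩ := DS.Nt.toral_step (hp := hp) (n := 1) hr hrp (hfin.image fun t => z * t * z⁻¹)
    (fun t ht => (hT t ht).1) (DS.Nt.Mz_le_DZ (h1 ⟨x, hx, rfl⟩)) (hsq x hxr) hQ le_rfl
  refine ⟨g * z, fun t ht => ?_, ?_⟩
  · have h3 := hg _ (subset_closure (Or.inr ⟨t, ht, rfl⟩))
    rwa [show g * (z * t * z⁻¹) * g⁻¹ = g * z * t * (g * z)⁻¹ by group] at h3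
  · have h3 := hg _ (subset_closure (Or.inl rfl))
    rwa [show g * (z * x * z⁻¹) * g⁻¹ = g * z * x * (g * z)⁻¹ by group] at h3

/-- **The rank.** -/
theorem rank_le (hp : IsType D l M) {U : Type} [Group U] [Finite U] [hs : IsSimpleGroup U] (hn : ¬ IsMulCommutative U)
    {n : ℕ} (f : (Fin n → U) →* YY D p) (hf : Function.Injective f) : n ≤ l := by
  classical
  obtain ⟨r, hr, hrp, hd⟩ := DS.NT.exists_prime_ne hn p
  have : Fact r.Prime := ⟨hr⟩
  obtain ⟨u, hu⟩ := exists_prime_orderOf_dvd_card' r hd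
  have hur : u ^ r = 1 := by rw [← hu, pow_orderOf_eq_one]
  let e : Fin n → U →* YY D p := fun i => f.comp (MonoidHom.mulSingle (fun _ => U) i)
  have key : ∀ s : Finset (Fin n), ∃ z : YY D p, ∀ i ∈ s, z * e i u * z⁻¹ ∈ TT D (kb p) := by
    intro s
    induction s using Finset.induction_on with
    | empty => exact ⟨1, fun i hi => absurd hi (Finset.notMem_empty i)⟩
    | insert j s hj ih =>
      obtain ⟨z, hz⟩ := ih
      obtain ⟨g, h1, h2⟩ := tor_perf hp hr hrp (Z := (fun i => e i u) '' s) (s.finite_toSet.image _) (z := z) (by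
        rintro _ ⟨i, hi, rfl⟩
        exact ⟨hz i hi, by rw [← map_pow, hur, map_one]⟩) (range_perfect hs hn (e j)) (by
        rintro _ ⟨y, rfl⟩ _ ⟨i, hi, rfl⟩
        have h3 : j ≠ i := fun h => hj (h ▸ hi)
        exact ((Pi.mulSingle_commute (f := fun _ => U) h3 y u).map f).eq) (x := e j u) ⟨u, rfl⟩
        (by rw [← map_pow, hur, map_one])
      refine ⟨g, fun i hi => ?_⟩
      rcases Finset.mem_insert.1 hi with rfl | hi
      · exact h2
      · exact h1 _ ⟨i, hi, rfl⟩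
  obtain ⟨z, hz⟩ := key Finset.univ
  let B : Subgroup (Fin n → U) := Subgroup.pi Set.univ fun _ => zpowers u
  have h1 : B ≤ (TT D (kb p)).comap ((MulAut.conj z).toMonoidHom.comp f) := by
    refine pi_le_iff.2 fun i => ?_
    rw [map_le_iff_le_comap, zpowers_le]
    exact hz i (Finset.mem_univ i)
  have h2 := DS.Rank.card_toral_le hp hr.pos (B.map f) z (by
    rintro _ ⟨x, hx, rfl⟩
    exact h1 hx) (by
    rintro _ ⟨x, hx, rfl⟩
    rw [← map_pow, show x ^ r = 1 from funext fun i => ?_, map_one]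
    obtain ⟨k, hk⟩ := hx i (Set.mem_univ i)
    have hk' : u ^ k = x i := hk
    rw [Pi.pow_apply, ← hk', ← zpow_natCast, ← zpow_mul, mul_comm, zpow_mul, zpow_natCast, hur, one_zpow, Pi.one_apply])
  have : Finite (B.map f) := Finite.of_surjective _ (f.subgroupMap_surjective B)
  have h3 : Nat.card (Fin n → zpowers u) ≤ Nat.card (B.map f) :=
    Nat.card_le_card_of_injective (fun x => ⟨f fun i => x i, _, fun i _ => (x i).2, rfl⟩) fun x y h =>
      funext fun i => Subtype.ext (congrFun (hf (congrArg Subtype.val h)) i)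
  rw [Nat.card_fun, Nat.card_zpowers, hu, Nat.card_eq_fintype_card, Fintype.card_fin] at h3
  exact (Nat.pow_le_pow_iff_right hr.one_lt).1 (h3.trans h2)

section grp

variable {U : Type} [Group U] [Finite U]

/-- an abelian `r`-subgroup with an induced automorphism of prime order -/
theorem exists_aut (hs : IsSimpleGroup U) (hn : ¬ IsMulCommutative U) {r : ℕ} (hr : r.Prime) (hd : r ∣ Nat.card U) :
    ∃ A : Subgroup U, IsPGroup r A ∧ (∀ a ∈ A, ∀ b ∈ A, a * b = b * a) ∧ ∃ (v : U) (σ : MulAut A),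
      (orderOf σ).Prime ∧ ∀ a : A, (σ a : U) = v * a * v⁻¹ := by
  have : Fact r.Prime := ⟨hr⟩
  obtain ⟨A, -, hA⟩ := Finite.exists_le_maximal (p := fun A : Subgroup U => IsPGroup r A ∧ ∀ a ∈ A, ∀ b ∈ A,
    a * b = b * a) (a := ⊥) ⟨IsPGroup.of_bot, fun a ha b hb => by rw [mem_bot.1 ha, one_mul, mul_one]⟩
  have h1 : ¬ normalizer (A : Set U) ≤ centralizer (A : Set U) := by
    intro h
    obtain ⟨P, hP⟩ := hA.1.1.exists_le_sylow
    have h2 : (P : Subgroup U) ≤ A := by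
      have hN : Group.IsNilpotent P := P.2.isNilpotent
      have h3 := (normalizerCondition_iff_only_full_group_self_normalizing.1
        (Group.normalizerCondition_of_isNilpotent (G := P))) (A.subgroupOf P) (le_antisymm (fun x hx => ?_) le_normalizer)
      · exact subgroupOf_eq_top.1 h3
      rw [← subgroupOf_normalizer_eq hP] at hx
      have h4 : (x : U) ∈ centralizer (A : Set U) := h hx
      have h5 : ∀ a ∈ insert (x : U) (A : Set U), ∀ b ∈ insert (x : U) (A : Set U), a * b = b * a := by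
        rintro a (rfl | ha) b (rfl | hb)
        · rfl
        · exact (h4 b hb).symm
        · exact h4 a ha
        · exact hA.1.2 a ha b hb
      have h6 : closure (insert (x : U) (A : Set U)) ≤ A := by
        refine hA.2 ⟨P.2.to_le ((closure_le _).2 ?_), fun a ha b hb => ?_⟩ fun a ha => subset_closure (Or.inr ha)
        · rintro a (rfl | ha)
          · exact x.2
          · exact hP ha
        · have := Subgroup.isMulCommutative_closure h5
          exact setLike_mul_comm ha hb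
      exact h6 (subset_closure (Or.inl rfl))
    have h3 : (P : Subgroup U) = A := le_antisymm h2 hP
    exact H397.ZTwo.false_of_transfer' hn P (P.ne_bot_of_dvd_card hd) (by rw [h3]; exact h)
  have h2 : Nat.card A.normalizerMonoidHom.range ≠ 1 := by
    intro h
    rw [card_eq_one, MonoidHom.range_eq_bot_iff, ← MonoidHom.ker_eq_top_iff, normalizerMonoidHom_ker,
      subgroupOf_eq_top] at h
    exact h1 h
  obtain ⟨q, hq, h3⟩ := Nat.exists_prime_and_dvd h2
  have : Fact q.Prime := ⟨hq⟩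
  obtain ⟨⟨_, v, rfl⟩, h4⟩ := exists_prime_orderOf_dvd_card' q h3
  refine ⟨A, hA.1.1, hA.1.2, v, A.normalizerMonoidHom v, ?_, fun a => rfl⟩
  rw [← Subgroup.orderOf_coe] at h4
  exact h4 ▸ hq

/-- an element of order `r` with trivial norm -/
theorem exists_norm {A : Type} [CommGroup A] {r : ℕ} (hr : r.Prime) (hA : IsPGroup r A) {σ : MulAut A} {m : ℕ}
    (h1 : σ ≠ 1) (hm : σ ^ m = 1) : ∃ u : A, orderOf u = r ∧ ∏ i ∈ Finset.range m, (σ ^ i) u = 1 := by
  have : Fact r.Prime := ⟨hr⟩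
  obtain ⟨y, hy⟩ : ∃ y, σ y ≠ y := by
    by_contra h
    exact h1 (MulEquiv.ext fun y => by_contra fun h2 => h ⟨y, h2⟩)
  have h2 : ∏ i ∈ Finset.range m, (σ ^ i) (σ y / y) = 1 := by
    have h3 := Finset.prod_range_div (fun i => (σ ^ i) y) m
    rw [hm, pow_zero, div_self'] at h3
    rw [← h3]
    exact Finset.prod_congr rfl fun i _ => by rw [map_div, pow_succ, MulAut.mul_apply]
  obtain ⟨k, hk⟩ := IsPGroup.iff_orderOf.1 hA (σ y / y)
  have h3 : k ≠ 0 := by
    rintro rfl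
    rw [pow_zero, orderOf_eq_one_iff, div_eq_one] at hk
    exact hy hk
  obtain ⟨k, rfl⟩ := Nat.exists_eq_succ_of_ne_zero h3
  refine ⟨(σ y / y) ^ r ^ k, ?_, ?_⟩
  · rw [orderOf_pow_of_dvd (pow_ne_zero k hr.ne_zero) (by rw [hk]; exact pow_dvd_pow r k.le_succ), hk,
      Nat.pow_succ', Nat.mul_div_cancel _ (pow_pos hr.pos k)]
  · rw [Finset.prod_congr rfl fun i _ => map_pow (σ ^ i) _ _, Finset.prod_pow, h2, one_pow]

end grp

/-- a normalizing element is represented in the Weyl group -/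
theorem exists_w (hp : IsType D l M) {ι : Type} [Finite ι] {s t : ι → YY D p} (hs : ∀ i, s i ∈ TT D (kb p))
    (ht : ∀ i, t i ∈ TT D (kb p)) {c : YY D p} (e : ∀ i, c * s i * c⁻¹ = t i) :
    ∃ w, ∀ i a, Rt hp a → ch hp (wa hp w a) (t i) = ch hp a (s i) := by
  obtain ⟨m, -, w, k, hk, h1, -⟩ := DS.Nt.form₂ hp hs ht (c := c) fun i => by rw [← e i, inv_mul_cancel_right]
  refine ⟨w, fun i a ha => ?_⟩
  have h2 := ch_rp hk (hs i) ha
  rwa [h1 i, mul_inv_cancel_right] at h2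

/-- **The square of the order divides `|W|`.** -/
theorem sq_dvd (hp : IsType D l M) {A : Type} [Group A] [Finite A] {f g : A →* YY D p} (hf : Function.Injective f)
    (hg : Function.Injective g) (hfT : ∀ a, f a ∈ TT D (kb p)) (hgT : ∀ a, g a ∈ TT D (kb p)) (σ : MulAut A)
    {x y : YY D p} (hx : ∀ a, x * f a * x⁻¹ = f (σ a)) (hx' : ∀ a, x * g a * x⁻¹ = g a)
    (hy : ∀ a, y * f a * y⁻¹ = f a) (hy' : ∀ a, y * g a * y⁻¹ = g (σ a)) : orderOf σ ^ 2 ∣ Nat.card M.Group := by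
  have := finite_WW hp
  let Γ : Subgroup (M.Group × (MulAut A × MulAut A)) :=
    { carrier := {z | ∀ a c, Rt hp c → ch hp (wa hp z.1 c) (f (z.2.1 a)) = ch hp c (f a) ∧
        ch hp (wa hp z.1 c) (g (z.2.2 a)) = ch hp c (g a)}
      one_mem' := fun a c hc => by
        change ch hp (wa hp 1 c) (f a) = _ ∧ ch hp (wa hp 1 c) (g a) = _
        rw [wa_one]
        exact ⟨rfl, rfl⟩
      mul_mem' := fun {z z'} hz hz' a c hc => by
        change ch hp (wa hp (z.1 * z'.1) c) (f (z.2.1 (z'.2.1 a))) = _ ∧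
          ch hp (wa hp (z.1 * z'.1) c) (g (z.2.2 (z'.2.2 a))) = _
        rw [wa_mul]
        exact ⟨(hz _ _ (hc.wa' _)).1.trans (hz' a c hc).1, (hz _ _ (hc.wa' _)).2.trans (hz' a c hc).2⟩
      inv_mem' := fun {z} hz a c hc => by
        have h1 := (hz (z.2.1⁻¹ a) _ (hc.wa' z.1⁻¹)).1
        have h2 := (hz (z.2.2⁻¹ a) _ (hc.wa' z.1⁻¹)).2
        rw [wa_wa_inv, MulAut.apply_inv_self] at h1 h2
        exact ⟨h1.symm, h2.symm⟩ }
  have h1 : Nat.card Γ ∣ Nat.card M.Group := by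
    refine card_dvd_of_injective ((MonoidHom.fst _ _).comp Γ.subtype) ((injective_iff_map_eq_one _).2 ?_)
    rintro ⟨⟨w, ρ, ρ'⟩, hz⟩ h
    obtain rfl : w = 1 := h
    have h2 : ρ = 1 := MulEquiv.ext fun a => hf (chi_sep (hp := hp) (hfT _) (hfT _) fun c hc => by
      have h3 := (hz a c hc).1
      rwa [wa_one] at h3)
    have h3 : ρ' = 1 := MulEquiv.ext fun a => hg (chi_sep (hp := hp) (hgT _) (hgT _) fun c hc => by
      have h3 := (hz a c hc).2
      rwa [wa_one] at h3)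
    subst h2 h3
    rfl
  obtain ⟨v, hv⟩ := exists_w hp (ι := A ⊕ A) (s := Sum.elim f g) (t := Sum.elim (fun a => f (σ a)) g)
    (by rintro (a | a); exacts [hfT a, hgT a]) (by rintro (a | a); exacts [hfT _, hgT a]) (c := x)
    (by rintro (a | a); exacts [hx a, hx' a])
  obtain ⟨w, hw⟩ := exists_w hp (ι := A ⊕ A) (s := Sum.elim f g) (t := Sum.elim f fun a => g (σ a))
    (by rintro (a | a); exacts [hfT a, hgT a]) (by rintro (a | a); exacts [hfT _, hgT _]) (c := y)
    (by rintro (a | a); exacts [hy a, hy' a])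
  have h2 : (zpowers σ).prod (zpowers σ) ≤ Γ.map (MonoidHom.snd _ _) := by
    refine prod_le_iff.2 ⟨?_, ?_⟩
    · rw [map_le_iff_le_comap, zpowers_le]
      exact ⟨(v, σ, 1), fun a c hc => ⟨hv (Sum.inl a) c hc, hv (Sum.inr a) c hc⟩, rfl⟩
    · rw [map_le_iff_le_comap, zpowers_le]
      exact ⟨(w, 1, σ), fun a c hc => ⟨hw (Sum.inl a) c hc, hw (Sum.inr a) c hc⟩, rfl⟩
  have h3 := card_dvd_of_le h2
  rw [Nat.card_congr (prodEquiv _ _).toEquiv, Nat.card_prod, Nat.card_zpowers, ← sq] at h3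
  exact h3.trans ((card_map_dvd _ _).trans h1)

end Cfsg.Agent.Cam.Ex.Ub
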