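import Cfsg.Agent.Cam.Ex.CbE6
import Cfsg.Agent.Cam.Ex.CbE7
import Cfsg.Agent.Cam.Ex.Basic

/-!
# Exceptional rows, `BoxU`: the types of pairs of characters, rotations (helper53)

* `types_pair` : the normal form of the roots killed by two characters;
* `noG2`, `noF4`, `noD4`, `tyE6`, `tyE7` : the types with an eigenvalue of order three;
* `noE6` : the type `D₄` in `E₆` does not occur.
-/

set_option autoImplicit false
set_option linter.unusedVariables false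
set_option linter.unusedSectionVars false
set_option maxRecDepth 100000

namespace Cfsg.Agent.Cam.Ex.Cb.Ub

open CoxeterSystem Cfsg Cfsg.Lie
open Cfsg.Agent.ChevalleyStructure.CoxeterGeom Cfsg.Agent.ChevalleyStructure.CoxeterGeomTypes
open Cfsg.Agent.Tits.Roots Cfsg.Agent.Nodes.RGDChev Cfsg.Agent.Nodes.Coroot Cfsg.Agent.Nodes.SubComb
open Cfsg.Agent.H931.KC (hr psi psi_apply psi_sr eq_psi Kac exists_alcove dvd_iff)
open Cfsg.Agent.BpExc.Fr (repAut)

variable {D : ChevalleyDatum} {l : ℕ} {M : CoxeterMatrix (Fin l)} {hp : IsType D l M} {d : Dt} (hT : Tab hp d)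

include hT in
/-- the types for a modulus prime to six (the proof of `Tab.types`) -/
theorem types_mod {WT : List (V × List ℕ × V)}
    (hc : al (fun P => tchk l d WT 0 P && tchk l d WT 1 P) (pats [0, 1] l) = true) {r : ℕ} (hr' : 0 < r)
    (hr2 : ¬ (2 : ℤ) ∣ r) (hr3 : ¬ (3 : ℤ) ∣ r) {p : ℕ} {φ : Lat l →+ ZMod r} (h0 : φ ≠ 0)
    (hK : K1 hp p (Psi hp φ)) : ∃ w, ∃ t ∈ WT, Exa hp (cw hp φ w) t.2.2 := by
  classical
  have : NeZero r := ⟨hr'.ne'⟩
  obtain ⟨w, c, c0, hk, hw⟩ := exists_alcove hp hr' (psi fun i => ((φ (sr i)).val : ℤ))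
  have hb : ∀ x, ((psi (fun i => ((φ (sr i)).val : ℤ)) x : ℤ) : ZMod r) = φ x := by
    intro x
    rw [eq_sum φ x, psi_apply]
    push_cast
    exact Finset.sum_congr rfl fun i _ => by rw [ZMod.natCast_zmod_val]
  have h1 : ∀ x, φ (wa hp w x) = 0 ↔ (r : ℤ) ∣ ∑ i, x i * c i := by
    intro x
    rw [← hb, ZMod.intCast_zmod_eq_zero_iff_dvd]
    have h2 := hw x
    constructor
    · intro h3
      have := dvd_add h2 h3
      rwa [sub_add_cancel] at this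
    · intro h3
      have := dvd_sub h3 h2
      rwa [sub_sub_cancel] at this
  set f : Fin l → ℕ := fun i => if c i = 0 then 0 else 1 with hf
  set f0 : ℕ := if c0 = 0 then 0 else 1 with hf0
  set P : V := List.ofFn fun i => (f i : ℤ) with hP
  have hfz : ∀ i, f i = 0 ↔ c i = 0 := fun i => by by_cases h : c i = 0 <;> simp [hf, h]
  have hf0z : f0 = 0 ↔ c0 = 0 := by by_cases h : c0 = 0 <;> simp [hf0, h]
  have hPl : P.length = l := List.length_ofFn
  have hPg : ∀ i : Fin l, gt P i = f i := gt_ofFn _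
  have hPF : toF l P = fun i => (f i : ℤ) := toF_ofFn _
  have hmem : P ∈ pats [0, 1] l := mem_pats _ fun i => by by_cases h : c i = 0 <;> simp [hf, h]
  have h2 := Bool.and_eq_true_iff.1 (al_iff.1 hc P hmem)
  have h3 : tchk l d WT (f0 : ℤ) P = true := by
    by_cases h : c0 = 0
    · have : f0 = 0 := hf0z.2 h
      rw [this]; exact h2.1
    · have : f0 = 1 := by simp [hf0, h]
      rw [this]; exact h2.2
  have hgcd : ∀ m : ℤ, (ieq (f0 : ℤ) 0 && al (fun i => zr m (gt d.H i * gt P i)) (List.range l)) = true → m ∣ r := by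
    intro m hm
    obtain ⟨h4, h6⟩ := Bool.and_eq_true_iff.1 hm
    have h7 : c0 = 0 := hf0z.1 (by exact_mod_cast ieq_iff.1 h4)
    rw [← hk.sum, h7, Nat.cast_zero, zero_add]
    refine Finset.dvd_sum fun i _ => ?_
    by_cases h : c i = 0
    · rw [h, Nat.cast_zero, mul_zero]; exact dvd_zero _
    · have h8 := zr_iff.1 (al_iff.1 h6 i (List.mem_range.2 i.2))
      have h9 : f i = 1 := by simp [hf, h]
      rw [hPg, h9, Nat.cast_one, mul_one, ← toF_apply, hT.hi] at h8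
      exact h8.mul_right _
  unfold tchk at h3
  rcases Bool.or_eq_true_iff.1 h3 with h4 | h4
  · exact absurd (hgcd 2 h4) hr2
  rcases Bool.or_eq_true_iff.1 h4 with h4 | h4
  · exact absurd (hgcd 3 h4) hr3
  obtain ⟨hN, h4⟩ := Bool.and_eq_true_iff.1 h4
  rw [decide_eq_true_iff] at hN
  obtain ⟨N, hNe⟩ := Int.eq_ofNat_of_zero_le hN.le
  have hk' : Kac D l N f f0 := by
    refine ⟨by omega, ?_⟩
    rw [← hNe, dot_eq hPl, hT.hi, hPF]
    congr 1
    exact Finset.sum_congr rfl fun i _ => mul_comm _ _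
  have hE : ∀ a, Rt hp a → (φ (wa hp w a) = 0 ↔ (N : ℤ) ∣ psi (toF l P) a) := by
    refine hT.of_T (fun a h => by rw [wa_neg, map_neg, neg_eq_zero, map_neg, dvd_neg]; exact h) fun e he => ?_
    rw [h1, dvd_iff hp hk (hT.rt e he) (hT.pos e he), psi_apply, hPF, dvd_iff hp hk' (hT.rt e he) (hT.pos e he)]
    simp only [hfz, hf0z]
  rw [hNe] at h4
  rcases Bool.or_eq_true_iff.1 h4 with h4 | h4
  · exfalso
    refine cw_ne hp h0 w (AddMonoidHom.ext fun a => ?_)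
    rw [eq_sum (cw hp φ w) a]
    refine Finset.sum_eq_zero fun i _ => ?_
    have h6 : cw hp φ w (sr i) = 0 := by
      rw [cw_apply, hE _ (rt_sr hp i), psi_sr]
      exact zr_iff.1 (al_iff.1 h4 i (List.mem_range.2 i.2))
    rw [h6, mul_zero]
  rcases Bool.or_eq_true_iff.1 h4 with h4 | h4
  · obtain ⟨t, ht, h6⟩ := an_iff.1 h4
    have h7 := (Bool.and_eq_true_iff.1 h6).2
    refine ⟨w * wd M t.2.1, t, ht, ?_⟩
    refine hT.of_T (fun a h => by rw [map_neg, neg_eq_zero, map_neg, neg_eq_zero]; exact h) fun e he => ?_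
    rw [cw_apply, wa_mul, hE _ ((hT.rt e he).act _), ← hT.psi_fw _ hPl, hT.psi_b he, hT.psi_b he, ← zr_iff, ← ieq_iff,
      beq_iff_eq.1 (al_iff.1 h7 e he)]
  · exfalso
    obtain ⟨c', hc', h6⟩ := an_iff.1 h4
    refine hT.not_K1 hc' (fun e he h7 => ?_) p (K1_cw hp hK w)
    refine al_iff.1 h6 e (mem_fl.2 ⟨he, ?_⟩)
    rw [cw_apply, hE _ (hT.rt e he), hT.psi_b he] at h7
    exact zr_iff.2 h7

variable (hp) in
/-- `φ` has one of the types of the list -/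
def Ty {K : Type} [AddCommGroup K] (WT : List (V × List ℕ × V)) (φ : Lat l →+ K) : Prop :=
  ∃ w, ∃ t ∈ WT, Exa hp (cw hp φ w) t.2.2

theorem Ty.of {K K' : Type} [AddCommGroup K] [AddCommGroup K'] {WT : List (V × List ℕ × V)} {φ : Lat l →+ K}
    {ψ : Lat l →+ K'} (h : Ty hp WT φ) (e : ∀ a, ψ a = 0 ↔ φ a = 0) : Ty hp WT ψ := by
  obtain ⟨w, t, ht, h1⟩ := h
  exact ⟨w, t, ht, fun a ha => (e _).trans (h1 a ha)⟩

theorem cast_lift {r : ℕ} [NeZero r] (φ : Lat l →+ ZMod r) (x : Lat l) :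
    ((psi (fun i => ((φ (sr i)).val : ℤ)) x : ℤ) : ZMod r) = φ x := by
  rw [eq_sum φ x, psi_apply]
  push_cast
  exact Finset.sum_congr rfl fun i _ => by rw [ZMod.natCast_zmod_val]

theorem not_dvd_sq {r : ℕ} (hr' : r.Prime) (h5 : 5 ≤ r) {m : ℕ} (hm : m.Prime) (h : m ≤ 3) :
    ¬ (m : ℤ) ∣ ((r ^ 2 : ℕ) : ℤ) := fun h1 => by
  have := (Nat.prime_dvd_prime_iff_eq hm hr').1 (hm.dvd_of_dvd_pow (Int.natCast_dvd_natCast.1 h1))
  omega

include hT in
/-- **The types of pairs.** -/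
theorem types_pair {WT : List (V × List ℕ × V)}
    (hc : al (fun P => tchk l d WT 0 P && tchk l d WT 1 P) (pats [0, 1] l) = true)
    (h01 : ∀ t ∈ WT, ∀ i : Fin l, 0 ≤ gt t.2.2 i) {r : ℕ} (hr' : r.Prime) (h5 : 5 ≤ r) {p : ℕ}
    {X Y : Lat l →+ ZMod r} (h0 : X ≠ 0) (hK : K1 hp p (Psi hp (X.prod Y))) : Ty hp WT (X.prod Y) := by
  have : NeZero r := ⟨hr'.ne_zero⟩
  obtain ⟨w, t, ht, h1⟩ := hT.types hc hr' h5 (p := p) h0 fun c hc h =>
    hK c hc fun a ha => h a ⟨ha.1, congrArg Prod.fst ha.2⟩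
  set μ : Lat l := fun i => ((cw hp X w (sr i)).val : ℤ) with hμ
  set ν : Lat l := fun i => ((cw hp Y w (sr i)).val : ℤ) with hν
  have h2 : ∀ a, Rt hp a → cw hp X w a = 0 → psi μ a = 0 := by
    intro a ha h3
    have h4 := (h1 a ha).1 h3
    rw [psi_apply] at h4 ⊢
    have h6 : ∀ i, a i * toF l t.2.2 i = 0 := by
      rcases ha.pos_or_neg with h7 | h7
      · exact fun i => (Finset.sum_eq_zero_iff_of_nonneg fun i _ => mul_nonneg (h7 i) (h01 t ht i)).1 h4 i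
          (Finset.mem_univ i)
      · exact fun i => (Finset.sum_eq_zero_iff_of_nonpos fun i _ =>
          mul_nonpos_of_nonpos_of_nonneg (h7 i) (h01 t ht i)).1 h4 i (Finset.mem_univ i)
    refine Finset.sum_eq_zero fun i _ => ?_
    rcases mul_eq_zero.1 (h6 i) with h7 | h7
    · rw [h7, zero_mul]
    · have h8 := (h1 _ (rt_sr hp i)).2 (by rw [psi_sr, h7])
      rw [hμ]
      simp only [h8, ZMod.val_zero, Nat.cast_zero, mul_zero]
  have h3 : ∀ a, Rt hp a → (red (r ^ 2) (μ + (r : ℤ) • ν) a = 0 ↔ cw hp (X.prod Y) w a = 0) := by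
    intro a ha
    have e : psi (μ + (r : ℤ) • ν) a = psi μ a + r * psi ν a := by
      rw [show μ + (r : ℤ) • ν = μ - (-(r : ℤ)) • ν by rw [neg_smul, sub_neg_eq_add], psi_sub_smul]
      ring
    have e1 : cw hp X w a = 0 ↔ (r : ℤ) ∣ psi μ a := by rw [← cast_lift, ZMod.intCast_zmod_eq_zero_iff_dvd]
    have e2 : cw hp Y w a = 0 ↔ (r : ℤ) ∣ psi ν a := by rw [← cast_lift, ZMod.intCast_zmod_eq_zero_iff_dvd]
    have e3 : cw hp (X.prod Y) w a = 0 ↔ cw hp X w a = 0 ∧ cw hp Y w a = 0 := Prod.ext_iff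
    have e4 : (r : ℤ) ≠ 0 := by exact_mod_cast hr'.ne_zero
    rw [red_apply, ZMod.intCast_zmod_eq_zero_iff_dvd, e, e3, Nat.cast_pow, sq]
    constructor
    · intro h4
      have h6 := e1.2 ((dvd_add_left (dvd_mul_right _ _)).1 ((dvd_mul_right _ _).trans h4))
      rw [h2 a ha h6, zero_add] at h4
      exact ⟨h6, e2.2 ((mul_dvd_mul_iff_left e4).1 h4)⟩
    · rintro ⟨h4, h6⟩
      rw [h2 a ha h4, zero_add]
      exact mul_dvd_mul_left _ (e2.1 h6)
  obtain ⟨w', t', ht', h4⟩ := types_mod hT hc (pow_pos hr'.pos 2) (not_dvd_sq hr' h5 Nat.prime_two (by norm_num))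
    (not_dvd_sq hr' h5 Nat.prime_three le_rfl) (p := p) (φ := red (r ^ 2) (μ + (r : ℤ) • ν)) (fun h => by
      refine cw_ne hp h0 w (ext_rt (hp := hp) fun a ha => ?_)
      exact congrArg Prod.fst ((h3 a ha).1 (by rw [h]; rfl))) (fun c hc h =>
      K1_cw hp hK w c hc fun a ha => h a ⟨ha.1, (h3 a ha.1).2 ha.2⟩)
  refine ⟨w * w', t', ht', fun a ha => ?_⟩
  rw [← h4 a ha, cw_apply, cw_apply, wa_mul, h3 _ (ha.act w')]
  rfl

section field

variable {K : Type} [Field K] (h2 : (2 : K) ≠ 0) (h3 : (3 : K) ≠ 0)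

include h2 h3 in
theorem un6K {n : ℤ} (h : n ∣ 46656) : (n : K) ≠ 0 := by
  obtain ⟨k, hk⟩ := h
  intro h0
  have h1 : ((46656 : ℤ) : K) = 0 := by rw [hk, Int.cast_mul, h0, zero_mul]
  exact mul_ne_zero (pow_ne_zero 6 h2) (pow_ne_zero 6 h3) (by push_cast at h1; linear_combination h1)

variable (hp) in
/-- an eigenvector -/
def Eig (w : M.Group) (φ : Lat l →+ K) (e : K) : Prop := ∀ a, φ (wa hp w a) = e * φ a

theorem Eig.conj {v : M.Group} {φ : Lat l →+ K} {e : K} (h : Eig hp v φ e) (w : M.Group) :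
    Eig hp (w⁻¹ * v * w) (cw hp φ w) e := fun a => by
  rw [cw_apply, cw_apply, wa_mul, wa_mul, wa_inv', h]

include h3 in
theorem ne_one {e : K} (he : e ^ 2 + e + 1 = 0) : e - 1 ≠ 0 := fun h => h3 (by linear_combination he - (e + 2) * h)

theorem ne_neg_one {e : K} (he : e ^ 2 + e + 1 = 0) : e + 1 ≠ 0 := fun h =>
  one_ne_zero (α := K) (by linear_combination he - e * h)

include h3 in
theorem Eig.eq_zero {w : M.Group} {φ : Lat l →+ K} {e : K} (h : Eig hp w φ e) (he : e ^ 2 + e + 1 = 0) {a : Lat l}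
    (ha : φ (wa hp w a) = φ a ∨ φ (wa hp w a) = -φ a) : φ a = 0 := by
  rw [h] at ha
  rcases ha with h1 | h1
  · exact (mul_eq_zero.1 (by linear_combination h1)).resolve_left (ne_one h3 he)
  · exact (mul_eq_zero.1 (by linear_combination h1)).resolve_left (ne_neg_one he)

include h3 in
/-- an eigenvector for an element of `W(S)` does not kill `S` -/
theorem Eig.not_kill {w : M.Group} {φ : Lat l →+ K} {e : K} (h : Eig hp w φ e) (he : e ^ 2 + e + 1 = 0) (h0 : φ ≠ 0)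
    {S : Set (Lat l)} (hw : w ∈ WW hp S) : ¬ ∀ a ∈ S, φ a = 0 := fun h1 =>
  h0 (AddMonoidHom.ext fun a => h.eq_zero h3 he (Or.inl (fixs_of_mem hp h1 hw a)))

include h3 in
theorem not_ex1 {w : M.Group} {φ : Lat l →+ K} {e : K} (h : Eig hp w φ e) (he : e ^ 2 + e + 1 = 0) {κ : V}
    (hx : Exa hp φ κ) (j : Fin l) (hκ : toF l κ = sr j) : False := by
  rcases (hx.ex1 hκ).res (repAut M.toCoxeterSystem hp.isCartan w) (rt_wa hp w) h with h1 | h1
  · exact ne_one h3 he (by rw [h1.1, sub_self])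
  · exact ne_neg_one he (by rw [h1.1, neg_add_cancel])

/-- the candidates with `N (trace) (determinant) = 0` satisfy `P` -/
noncomputable def chkN (d : Dt) (i j : ℕ) (RR : List (ℤ × ℤ)) (N : ℤ → ℤ → ℤ) (P : ℤ × ℤ → ℤ × ℤ → Bool) : Bool :=
  al (fun p => al (fun q => !cand d i j RR p q || (zr (N (p.1 + q.2) (p.1 * q.2 - p.2 * q.1)) 46656 || P p q)) RR) RR

/-- the resultant with `X ^ 2 + X + 1` -/
def N3 (t s : ℤ) : ℤ := (s - 1) * (s - 1) + (s - 1) * (t + 1) + (t + 1) * (t + 1)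

/-- the value at two -/
def N2 (t s : ℤ) : ℤ := 4 - 2 * t + s

theorem hN3 {e : K} (he : e ^ 2 + e + 1 = 0) (t s : ℤ) (h : e ^ 2 - t * e + s = 0) : (N3 t s : K) = 0 := by
  have h1 : (s : K) - 1 = (t + 1) * e := by linear_combination h - he
  unfold N3
  push_cast
  rw [h1]
  linear_combination ((t : K) + 1) ^ 2 * he

theorem hN2 (t s : ℤ) (h : (2 : K) ^ 2 - t * 2 + s = 0) : (N2 t s : K) = 0 := by
  unfold N2
  push_cast
  linear_combination h

include hT h2 h3 in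
theorem rot {i j : Fin l} {RR : List (ℤ × ℤ)} (R : RROK hp i j RR) {N : ℤ → ℤ → ℤ} {P : ℤ × ℤ → ℤ × ℤ → Bool}
    (hc : chkN d i j RR N P = true) {φ : Lat l →+ K} (hx : Ex2 hp φ i j) (h : Lat l ≃+ Lat l)
    (hr : ∀ a, Rt hp (h a) ↔ Rt hp a) {e : K} (he : ∀ a, φ (h a) = e * φ a)
    (hN : ∀ t s : ℤ, e ^ 2 - t * e + s = 0 → (N t s : K) = 0) : ∃ p q, P p q = true ∧ Mx h i j p q := by
  obtain ⟨p, hp', q, hq, h1, h4, h5, h6⟩ := hT.res2 R hx h hr he
  have h7 := al_iff.1 (al_iff.1 hc p hp') q hq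
  rw [h1, Bool.not_true, Bool.false_or] at h7
  refine ⟨p, q, (Bool.or_eq_true_iff.1 h7).resolve_left fun h8 => un6K h2 h3 (zr_iff.1 h8) (hN _ _ ?_), h4⟩
  push_cast
  exact charpoly hx.ne1 h5 h6

include hT h2 h3 in
theorem not_ex2 {i j : Fin l} {RR : List (ℤ × ℤ)} (R : RROK hp i j RR)
    (hc : chkN d i j RR N3 (fun _ _ => false) = true) {w : M.Group} {φ : Lat l →+ K} {e : K} (h : Eig hp w φ e)
    (he : e ^ 2 + e + 1 = 0) (hx : Ex2 hp φ i j) : False := by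
  obtain ⟨p, q, h1, -⟩ := rot hT h2 h3 R hc hx (repAut M.toCoxeterSystem hp.isCartan w) (rt_wa hp w) h (hN3 he)
  exact Bool.false_ne_true h1

theorem noG2 {φ : Lat 2 →+ K} : ¬ Ty tG2 wtG2 φ := by
  rintro ⟨w, t, ht, -⟩
  exact List.not_mem_nil ht

include h2 h3

theorem noF4 {φ : Lat 4 →+ K} {v : CoxeterMatrix.F₄.Group} {e : K} (h : Eig tF4 v φ e) (he : e ^ 2 + e + 1 = 0) :
    ¬ Ty tF4 wtF4 φ := by
  rintro ⟨w, t, ht, hx⟩
  have h1 := tyF4' t ht
  simp only [List.mem_cons, List.not_mem_nil, or_false] at h1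
  rcases h1 with h1 | h1 | h1 <;> rw [h1] at hx
  · exact not_ex1 h3 (h.conj w) he hx 0 (toF_uv (l := 4) 0)
  · exact not_ex1 h3 (h.conj w) he hx 1 (toF_uv (l := 4) 1)
  · exact not_ex1 h3 (h.conj w) he hx 2 (toF_uv (l := 4) 2)

theorem noD4 {φ : Lat 4 →+ K} {v : coxeterD4.Group} {e : K} (h : Eig tD4 v φ e) (he : e ^ 2 + e + 1 = 0) :
    ¬ Ty tD4 wtD4 φ := by
  rintro ⟨w, t, ht, hx⟩
  have h1 := tyD4' t ht
  simp only [List.mem_cons, List.not_mem_nil, or_false] at h1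
  rcases h1 with h1 | h1 | h1 | h1 <;> rw [h1] at hx
  · exact not_ex1 h3 (h.conj w) he hx 0 (toF_uv (l := 4) 0)
  · exact not_ex1 h3 (h.conj w) he hx 2 (toF_uv (l := 4) 2)
  · exact not_ex1 h3 (h.conj w) he hx 3 (toF_uv (l := 4) 3)
  have e23 : toF 4 [0, 0, 1, 1] = sr 2 + sr 3 := by decide +kernel
  have R : RROK tD4 2 3 [(-1, -1), (-1, 0), (0, -1), (0, 1), (1, 0), (1, 1)] :=
    tabD4.rrok (by decide) (by decide +kernel)
  obtain ⟨p, q, h4, h5⟩ := rot tabD4 h2 h3 R (N := N3) (P := fun p q => !(zr 2 (p.1 - 1) && zr 2 p.2))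
    (by decide +kernel) (hx.ex2 e23) (repAut _ tD4.isCartan (w⁻¹ * v * w)) (rt_wa tD4 _) (h.conj w) (hN3 he)
  obtain ⟨y, hy⟩ := cg_wa tD4 (n := 2) (z := toF 4 [1, 0, 1, 0]) (fun k => by
    rw [← tabD4.car, psi_toF (by rfl), Nat.cast_ofNat, ← zr_iff]
    revert k
    decide +kernel) (w⁻¹ * v * w)
  obtain ⟨h6, h7⟩ := h5 (toF 4 [1, 0, 1, 0])
  have h8 : (1 : ℤ) + 2 * y 2 = 1 * p.1 + 0 * q.1 := (congrFun hy 2).symm.trans h6
  have h9 : (0 : ℤ) + 2 * y 3 = 1 * p.2 + 0 * q.2 := (congrFun hy 3).symm.trans h7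
  rw [zr_iff.2 (show (2 : ℤ) ∣ p.1 - 1 by omega), zr_iff.2 (show (2 : ℤ) ∣ p.2 by omega)] at h4
  exact Bool.false_ne_true h4

theorem tyE6r {φ : Lat 6 →+ K} {v : CoxeterMatrix.E₆.Group} {e : K} (h : Eig tE6 v φ e) (he : e ^ 2 + e + 1 = 0)
    (hty : Ty tE6 wtE6 φ) : ∃ w, Exa tE6 (cw tE6 φ w) [1, 0, 0, 0, 0, 1] := by
  obtain ⟨w, t, ht, hx⟩ := hty
  have h1 := tyE6' t ht
  simp only [List.mem_cons, List.not_mem_nil, or_false] at h1
  rcases h1 with h1 | h1 | h1 | h1 | h1 <;> rw [h1] at hx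
  · exact (not_ex1 h3 (h.conj w) he hx 0 (toF_uv (l := 6) 0)).elim
  · exact (not_ex1 h3 (h.conj w) he hx 2 (toF_uv (l := 6) 2)).elim
  · exact (not_ex1 h3 (h.conj w) he hx 3 (toF_uv (l := 6) 3)).elim
  · exact ⟨w, hx⟩
  · exact (not_ex2 tabE6 h2 h3 R24 (by decide +kernel) (h.conj w) he (hx.ex2 k24)).elim

theorem tyE7r {φ : Lat 7 →+ K} {v : CoxeterMatrix.E₇.Group} {e : K} (h : Eig tE7 v φ e) (he : e ^ 2 + e + 1 = 0)
    (hty : Ty tE7 wtE7 φ) : ∃ w, Exa tE7 (cw tE7 φ w) [0, 0, 0, 1, 0, 1, 0] := by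
  obtain ⟨w, t, ht, hx⟩ := hty
  have h1 := tyE7' t ht
  simp only [List.mem_cons, List.not_mem_nil, or_false] at h1
  rcases h1 with h1 | h1 | h1 | h1 | h1 | h1 | h1 | h1 | h1 <;> rw [h1] at hx
  · exact (not_ex1 h3 (h.conj w) he hx 6 (toF_uv (l := 7) 6)).elim
  · exact (not_ex1 h3 (h.conj w) he hx 5 (toF_uv (l := 7) 5)).elim
  · exact (not_ex1 h3 (h.conj w) he hx 1 (toF_uv (l := 7) 1)).elim
  · exact (not_ex1 h3 (h.conj w) he hx 2 (toF_uv (l := 7) 2)).elim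
  · exact (not_ex1 h3 (h.conj w) he hx 4 (toF_uv (l := 7) 4)).elim
  · exact (not_ex1 h3 (h.conj w) he hx 3 (toF_uv (l := 7) 3)).elim
  · exact (not_ex2 tabE7 h2 h3 R46 (by decide +kernel) (h.conj w) he (hx.ex2 k46)).elim
  · exact (not_ex2 tabE7 h2 h3 R36 (by decide +kernel) (h.conj w) he (hx.ex2 k36)).elim
  · exact ⟨w, hx⟩

/-! ### `E₆` -/

theorem four_key {a b c d : K} (h1 : a + b + c + d = 0) (h4 : a ^ 2 + b ^ 2 + c ^ 2 + d ^ 2 = 0)
    (h5 : a * b * c * d = 0) (h : a = b) : a = 0 ∧ b = 0 ∧ c = 0 ∧ d = 0 := by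
  subst h
  have k : ∀ {x y : K}, 2 * a + x + y = 0 → 2 * a ^ 2 + x ^ 2 + y ^ 2 = 0 → x = 0 → a = 0 ∧ y = 0 := by
    intro x y e1 e2 e3
    have e4 : a = 0 := pow_eq_zero_iff two_ne_zero |>.1 ((mul_eq_zero.1 (show (2 * 3) * a ^ 2 = 0 by
      linear_combination e2 + (2 * a - x - y) * e1 + (2 * y) * e3)).resolve_left (mul_ne_zero h2 h3))
    exact ⟨e4, by linear_combination e1 - 2 * e4 - e3⟩
  rcases mul_eq_zero.1 h5 with h6 | h6
  · rcases mul_eq_zero.1 h6 with h7 | h7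
    · have e1 : a = 0 := mul_self_eq_zero.1 h7
      have e2 : c = 0 := pow_eq_zero_iff two_ne_zero |>.1 ((mul_eq_zero.1 (show 2 * c ^ 2 = 0 by
        linear_combination h4 + (c - d) * h1 + (-2 * a - 2 * c + 2 * d) * e1)).resolve_left h2)
      exact ⟨e1, e1, e2, by linear_combination h1 - 2 * e1 - e2⟩
    · obtain ⟨e1, e2⟩ := k (x := c) (y := d) (by linear_combination h1) (by linear_combination h4) h7
      exact ⟨e1, e1, h7, e2⟩
  · obtain ⟨e1, e2⟩ := k (x := d) (y := c) (by linear_combination h1) (by linear_combination h4) h6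
    exact ⟨e1, e1, e2, h6⟩

theorem four_key' {a b c d : K} (h1 : a + b + c + d = 0) (h4 : a ^ 2 + b ^ 2 + c ^ 2 + d ^ 2 = 0)
    (h5 : a * b * c * d = 0) (h : a = b ∨ a = c ∨ a = d ∨ b = c ∨ b = d ∨ c = d) :
    a = 0 ∧ b = 0 ∧ c = 0 ∧ d = 0 := by
  rcases h with h | h | h | h | h | h
  · exact four_key h2 h3 h1 h4 h5 h
  · have := four_key h2 h3 (a := a) (b := c) (c := b) (d := d) (by linear_combination h1) (by linear_combination h4)
      (by linear_combination h5) h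
    tauto
  · have := four_key h2 h3 (a := a) (b := d) (c := b) (d := c) (by linear_combination h1) (by linear_combination h4)
      (by linear_combination h5) h
    tauto
  · have := four_key h2 h3 (a := b) (b := c) (c := a) (d := d) (by linear_combination h1) (by linear_combination h4)
      (by linear_combination h5) h
    tauto
  · have := four_key h2 h3 (a := b) (b := d) (c := a) (d := c) (by linear_combination h1) (by linear_combination h4)
      (by linear_combination h5) h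
    tauto
  · have := four_key h2 h3 (a := c) (b := d) (c := a) (d := b) (by linear_combination h1) (by linear_combination h4)
      (by linear_combination h5) h
    tauto

/-- eight roots of `E₆` -/
def L8 : List V := [[1, 0, 0, 0, 0, 0], [1, 0, 1, 0, 0, 0], [1, 0, 1, 1, 0, 0], [1, 0, 1, 1, 1, 0], [1, 1, 1, 1, 0, 0],
  [1, 1, 1, 1, 1, 0], [1, 1, 1, 2, 1, 0], [1, 1, 2, 2, 1, 0]]

/-- the positive roots of `D₄` -/
def L12 : List V := [[0, 0, 0, 0, 1, 0], [0, 0, 0, 1, 0, 0], [0, 0, 1, 0, 0, 0], [0, 1, 0, 0, 0, 0],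
  [0, 0, 0, 1, 1, 0], [0, 0, 1, 1, 0, 0], [0, 1, 0, 1, 0, 0], [0, 0, 1, 1, 1, 0],
  [0, 1, 0, 1, 1, 0], [0, 1, 1, 1, 0, 0], [0, 1, 1, 1, 1, 0], [0, 1, 1, 2, 1, 0]]

omit h2 h3 in
theorem mem_L8 {a : Lat 6} : a ∈ L8.map (toF 6) ↔ Rt tE6 a ∧ a 0 = 1 ∧ a 5 = 0 := by
  constructor
  · intro ha
    obtain ⟨v, hv, rfl⟩ := List.mem_map.1 ha
    obtain ⟨e, he, h1, h4, h5⟩ := (by decide +kernel : ∀ v ∈ L8, ∃ e ∈ dE6.T, e.b = v ∧ gt v 0 = 1 ∧ gt v 5 = 0) v hv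
    exact ⟨h1 ▸ tabE6.rt e he, h4, h5⟩
  · rintro ⟨ha, h1, h4⟩
    obtain ⟨e, he, rfl | rfl⟩ := tabE6.sur a ha
    · exact List.mem_map.2 ⟨_, (by decide +kernel : ∀ e ∈ dE6.T, gt e.b 0 = 1 → gt e.b 5 = 0 → e.b ∈ L8) e he h1 h4,
        rfl⟩
    · have h5 : (0 : ℤ) ≤ toF 6 e.b 0 := tabE6.pos e he 0
      rw [Pi.neg_apply] at h1
      omega

omit h2 h3 in
theorem prod_L8 {N : Type} [CommMonoid N] (f : Lat 6 → N) {w : CoxeterMatrix.E₆.Group}
    (h0 : ∀ a, wa tE6 w a 0 = a 0) (h5 : ∀ a, wa tE6 w a 5 = a 5) :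
    ((L8.map (toF 6)).map fun a => f (wa tE6 w a)).prod = ((L8.map (toF 6)).map f).prod := by
  classical
  have hn : (L8.map (toF 6)).Nodup := List.Nodup.map_on (fun x hx y hy h =>
    toF_inj ((by decide : ∀ v ∈ L8, v.length = 6) x hx) ((by decide : ∀ v ∈ L8, v.length = 6) y hy) h) (by decide)
  have hi : Set.InjOn (wa tE6 w) (L8.map (toF 6)).toFinset := fun a _ b _ h => wa_inj tE6 h
  have e : (L8.map (toF 6)).toFinset.image (wa tE6 w) = (L8.map (toF 6)).toFinset := by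
    refine Finset.eq_of_subset_of_card_le (fun a ha => ?_) (Finset.card_image_of_injOn hi).ge
    obtain ⟨b, hb, rfl⟩ := Finset.mem_image.1 ha
    rw [List.mem_toFinset, mem_L8] at hb ⊢
    exact ⟨hb.1.act w, (h0 b).trans hb.2.1, (h5 b).trans hb.2.2⟩
  rw [← List.prod_toFinset _ hn, ← List.prod_toFinset _ hn, ← Finset.prod_image hi, e]

omit h2 h3 in
theorem val6 (φ : Lat 6 →+ K) (a b c d e f : ℤ) : φ (toF 6 [a, b, c, d, e, f]) =
    a * φ (sr 0) + b * φ (sr 1) + c * φ (sr 2) + d * φ (sr 3) + e * φ (sr 4) + f * φ (sr 5) := by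
  rw [eq_sum, Fin.sum_univ_six]
  rfl

/-- no root of `D₄` is killed by an eigenvector -/
theorem e6_core {A B : Lat 6 →+ K} (hA : Exa tE6 A [1, 0, 0, 0, 0, 1]) {w : CoxeterMatrix.E₆.Group}
    (hw : w ∈ WW tE6 (Psi tE6 A)) {e : K} (he : e ^ 2 + e + 1 = 0) (hB : Eig tE6 w B e) (h0 : B ≠ 0) {a : Lat 6}
    (ha : a ∈ Psi tE6 A) : B a ≠ 0 := by
  intro hBa
  have hx := hA.ex2 k05
  have f0 : ∀ a, wa tE6 w a 0 = a 0 := fun a => by
    have := fixs_of_mem tE6 (φ := psi (sr 0)) (fun a ha => (psi_sr' 0 a).trans ((hx a ha.1).1 ha.2).1) hw a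
    rwa [psi_sr', psi_sr'] at this
  have f5 : ∀ a, wa tE6 w a 5 = a 5 := fun a => by
    have := fixs_of_mem tE6 (φ := psi (sr 5)) (fun a ha => (psi_sr' 5 a).trans ((hx a ha.1).1 ha.2).2) hw a
    rwa [psi_sr', psi_sr'] at this
  have p1 := congrArg Multiplicative.toAdd (prod_L8 (fun a => Multiplicative.ofAdd (B a)) f0 f5)
  have p2 := congrArg Multiplicative.toAdd (prod_L8 (fun a => Multiplicative.ofAdd (B a ^ 2)) f0 f5)
  have p4 := congrArg Multiplicative.toAdd (prod_L8 (fun a => Multiplicative.ofAdd (B a ^ 4)) f0 f5)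
  have p8 := prod_L8 (fun a => B a) f0 f5
  simp only [L8, List.map_cons, List.map_nil, List.prod_cons, List.prod_nil, toAdd_mul, toAdd_ofAdd, toAdd_one, hB _,
    val6, Int.cast_one, Int.cast_zero, Int.cast_ofNat, one_mul, zero_mul, add_zero] at p1 p2 p4 p8
  obtain ⟨s1, e1⟩ : ∃ s, B (sr 0) = s := ⟨_, rfl⟩
  obtain ⟨s2, e2⟩ : ∃ s, B (sr 2) = s - s1 := ⟨B (sr 2) + s1, by ring⟩
  obtain ⟨s3, e3⟩ : ∃ s, B (sr 3) = s - s2 := ⟨B (sr 3) + s2, by ring⟩
  obtain ⟨s4, e4⟩ : ∃ s, B (sr 4) = s - s3 := ⟨B (sr 4) + s3, by ring⟩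
  have n1 := ne_one h3 he
  have n2 : e ^ 2 - 1 ≠ 0 := fun h => mul_ne_zero n1 (ne_neg_one he) (by linear_combination h)
  have e3' : e ^ 3 = 1 := by linear_combination (e - 1) * he
  rw [e1, e2, e3, e4] at p1 p2 p4 p8
  have e5 : B (sr 1) = -s3 - s4 := by
    refine sub_eq_zero.1 ((mul_eq_zero.1 (?_ : (2 * 2 * (e - 1)) * _ = 0)).resolve_left
      (mul_ne_zero (mul_ne_zero h2 h2) n1))
    linear_combination p1
  rw [e5] at p2 p4 p8
  have q2 : s1 ^ 2 + s2 ^ 2 + s3 ^ 2 + s4 ^ 2 = 0 := by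
    refine (mul_eq_zero.1 (?_ : (2 * (e ^ 2 - 1)) * _ = 0)).resolve_left (mul_ne_zero h2 n2)
    linear_combination p2
  have q4 : (s1 ^ 2) ^ 2 + (s2 ^ 2) ^ 2 + (s3 ^ 2) ^ 2 + (s4 ^ 2) ^ 2 = 0 := by
    refine (mul_eq_zero.1 (?_ : (2 * (e - 1)) * _ = 0)).resolve_left (mul_ne_zero h2 n1)
    linear_combination p4 - 2 * e * (s1 ^ 4 + s2 ^ 4 + s3 ^ 4 + s4 ^ 4) * e3'
  have q8 : s1 ^ 2 * s2 ^ 2 * s3 ^ 2 * s4 ^ 2 = 0 := by
    refine (mul_eq_zero.1 (?_ : (e ^ 2 - 1) * _ = 0)).resolve_left n2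
    linear_combination p8 - e ^ 2 * (e ^ 3 + 1) * (s1 ^ 2 * s2 ^ 2 * s3 ^ 2 * s4 ^ 2) * e3'
  have h12 : ∀ b ∈ Psi tE6 A, ∃ v ∈ L12, b = toF 6 v ∨ b = -toF 6 v := by
    intro b hb
    obtain ⟨f, hf, h1⟩ := tabE6.sur b hb.1
    have h4 := (hx b hb.1).1 hb.2
    refine ⟨f.b, (by decide +kernel : ∀ e ∈ dE6.T, gt e.b 0 = 0 → gt e.b 5 = 0 → e.b ∈ L12) f hf ?_ ?_, h1⟩
    · rcases h1 with rfl | rfl
      exacts [h4.1, neg_eq_zero.1 h4.1]
    · rcases h1 with rfl | rfl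
      exacts [h4.2, neg_eq_zero.1 h4.2]
  obtain ⟨v, hv, h1⟩ := h12 a ha
  have h4 : B (toF 6 v) = 0 := by
    rcases h1 with rfl | rfl
    · exact hBa
    · rwa [map_neg, neg_eq_zero] at hBa
  have h5 := four_key' h2 h3 q2 q4 q8 (by
    simp only [L12, List.mem_cons, List.not_mem_nil, or_false] at hv
    rcases hv with rfl | rfl | rfl | rfl | rfl | rfl | rfl | rfl | rfl | rfl | rfl | rfl <;>
      rw [val6, e1, e2, e3, e4, e5] at h4 <;> push_cast at h4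
    · exact Or.inr (Or.inr (Or.inr (Or.inr (Or.inr (by linear_combination (-1 * s3 - 1 * s4) * h4)))))
    · exact Or.inr (Or.inr (Or.inr (Or.inl (by linear_combination (-1 * s2 - 1 * s3) * h4))))
    · exact Or.inl (by linear_combination (-1 * s1 - 1 * s2) * h4)
    · exact Or.inr (Or.inr (Or.inr (Or.inr (Or.inr (by linear_combination (-1 * s3 - (-1) * s4) * h4)))))
    · exact Or.inr (Or.inr (Or.inr (Or.inr (Or.inl (by linear_combination (-1 * s2 - 1 * s4) * h4)))))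
    · exact Or.inr (Or.inl (by linear_combination (-1 * s1 - 1 * s3) * h4))
    · exact Or.inr (Or.inr (Or.inr (Or.inr (Or.inl (by linear_combination (-1 * s2 - (-1) * s4) * h4)))))
    · exact Or.inr (Or.inr (Or.inl (by linear_combination (-1 * s1 - 1 * s4) * h4)))
    · exact Or.inr (Or.inr (Or.inr (Or.inl (by linear_combination (-1 * s2 - (-1) * s3) * h4))))
    · exact Or.inr (Or.inr (Or.inl (by linear_combination (-1 * s1 - (-1) * s4) * h4)))
    · exact Or.inr (Or.inl (by linear_combination (-1 * s1 - (-1) * s3) * h4))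
    · exact Or.inl (by linear_combination (-1 * s1 - (-1) * s2) * h4))
  obtain ⟨z1, z2, z3, z4⟩ := h5
  rw [pow_eq_zero_iff two_ne_zero] at z1 z2 z3 z4
  subst z1 z2 z3 z4
  refine hB.not_kill h3 he h0 hw fun b hb => ?_
  have h6 := (hx b hb.1).1 hb.2
  rw [eq_sum, Fin.sum_univ_six, e1, e2, e3, e4, e5, h6.2]
  simp

/-- **The type `D₄` in `E₆` does not occur.** -/
theorem noE6 {A B : Lat 6 →+ K} {v w : CoxeterMatrix.E₆.Group} {e : K} (he : e ^ 2 + e + 1 = 0)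
    (hA : Eig tE6 v A e) (hX : Eig tE6 v (A + B) e) (tA : Ty tE6 wtE6 A) (tX : Ty tE6 wtE6 (A + B))
    (hw : w ∈ WW tE6 (Psi tE6 A)) (hB : Eig tE6 w B e) (h0 : B ≠ 0) : False := by
  obtain ⟨u, h1⟩ := tyE6r h2 h3 hA he tA
  obtain ⟨u', h4⟩ := tyE6r h2 h3 hX he tX
  have c1 : (Psi tE6 A).ncard = 24 := by
    rw [← ncard_cw tE6 A u, tabE6.ncard_ex h1]
    decide +kernel
  have c2 : ∀ x, (Psi tE6 (cw tE6 (A + B) x)).ncard = 24 := fun x => by
    rw [ncard_cw, ← ncard_cw tE6 (A + B) u', tabE6.ncard_ex h4]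
    decide +kernel
  have c3 : (Psi tE6 (0 : Lat 6 →+ K)).ncard = 72 := by
    rw [tabE6.ncard_eq (0 : Lat 6 →+ K) (P := fun _ => true) fun e _ => ⟨fun _ => rfl, fun _ => rfl⟩]
    decide +kernel
  have k : ∀ a, Rt tE6 a → A a = 0 → B a ≠ 0 := fun a ha h5 => by
    have h6 := e6_core h2 h3 h1 (conj_mem_WW tE6 hw u) he (hB.conj u) (cw_ne tE6 h0 u) (a := wa tE6 u⁻¹ a)
      ((mem_cw tE6).2 (by rw [wa_inv']; exact ⟨ha, h5⟩))
    rwa [cw_apply, wa_inv'] at h6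
  have hf : ∀ a, A (wa tE6 w a) = A a := fixs_of_mem tE6 (fun a ha => ha.2) hw
  have v0 : ∀ a, cw tE6 (A + B) 1 a = A a + 1 * B a := fun a => by rw [cw_apply, wa_one, one_mul]; rfl
  have v1 : ∀ a, cw tE6 (A + B) w a = A a + e * B a := fun a => by
    rw [cw_apply, AddMonoidHom.add_apply, hf, hB]
  have v2 : ∀ a, cw tE6 (A + B) (w * w) a = A a + e ^ 2 * B a := fun a => by
    rw [cw_apply, AddMonoidHom.add_apply, wa_mul, hf, hf, hB, hB, ← mul_assoc, sq]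
  have n0 : e ≠ 0 := fun h => one_ne_zero (α := K) (by rw [h] at he; linear_combination he)
  have n1 := ne_one h3 he
  have n2 : e ^ 2 - 1 ≠ 0 := fun h => mul_ne_zero n1 (ne_neg_one he) (by linear_combination h)
  have n3 : e ^ 2 - e ≠ 0 := fun h => mul_ne_zero n0 n1 (by linear_combination h)
  have d1 : ∀ {x : CoxeterMatrix.E₆.Group} {s : K}, (∀ a, cw tE6 (A + B) x a = A a + s * B a) → s ≠ 0 →
      Disjoint (Psi tE6 A) (Psi tE6 (cw tE6 (A + B) x)) := fun hs h => Set.disjoint_left.2 fun a ha hb => by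
    have h5 := hb.2
    rw [hs, ha.2, zero_add] at h5
    exact k a ha.1 ha.2 ((mul_eq_zero.1 h5).resolve_left h)
  have d2 : ∀ {x y : CoxeterMatrix.E₆.Group} {s t : K}, (∀ a, cw tE6 (A + B) x a = A a + s * B a) →
      (∀ a, cw tE6 (A + B) y a = A a + t * B a) → t - s ≠ 0 →
      Disjoint (Psi tE6 (cw tE6 (A + B) x)) (Psi tE6 (cw tE6 (A + B) y)) :=
    fun {x y s t} hs ht h => Set.disjoint_left.2 fun a ha hb => by
    have h5 := ha.2
    have h6 := hb.2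
    rw [hs] at h5
    rw [ht] at h6
    have h7 : B a = 0 := (mul_eq_zero.1 (by linear_combination h6 - h5)).resolve_left h
    exact k a ha.1 (by linear_combination h5 - s * h7) h7
  have fin : ∀ φ : Lat 6 →+ K, (Psi tE6 φ).Finite := fun φ => (finite_Rt tE6).subset fun a ha => ha.1
  have h5 : (Psi tE6 A ∪ Psi tE6 (cw tE6 (A + B) 1) ∪ (Psi tE6 (cw tE6 (A + B) w) ∪
      Psi tE6 (cw tE6 (A + B) (w * w)))).ncard ≤ 72 := by
    rw [← c3]
    refine Set.ncard_le_ncard ?_ (fin 0)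
    rintro a ((ha | ha) | (ha | ha)) <;> exact ⟨ha.1, rfl⟩
  rw [Set.ncard_union_eq (Set.disjoint_union_left.2 ⟨Set.disjoint_union_right.2 ⟨d1 v1 n0, d1 v2 (pow_ne_zero 2 n0)⟩,
    Set.disjoint_union_right.2 ⟨d2 v0 v1 n1, d2 v0 v2 n2⟩⟩) ((fin _).union (fin _)) ((fin _).union (fin _)),
    Set.ncard_union_eq (d1 v0 one_ne_zero) (fin _) (fin _), Set.ncard_union_eq (d2 v1 v2 n3) (fin _) (fin _),
    c1, c2, c2, c2] at h5
  omega

end field

end Cfsg.Agent.Cam.Ex.Cb.Ub
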