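import Cfsg.Agent.Cam.Ex.Root

/-!
# Exceptional rows: `BoxU.rank` (helper65)

A direct power `U ^ n` of a non-abelian simple group inside the ambient group gives a toral subgroup `r ^ n`, `r ≠ p`.
-/

set_option autoImplicit false
set_option linter.unusedVariables false
set_option linter.unusedSectionVars false

namespace Cfsg.Agent.Cam.Ex.Urk

open CoxeterSystem Cfsg Cfsg.Lie Subgroup
open Cfsg.Agent.ChevalleyStructure.CoxeterGeom Cfsg.Agent.ChevalleyStructure.CoxeterGeomTypes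
open Cfsg.Agent.Tits.Roots Cfsg.Agent.Nodes.BNOf Cfsg.Agent.Nodes.RGDChev Cfsg.Agent.KFacts.RgdChevCoord
open Cfsg.Agent.H129.TorusChar Cfsg.Agent.Cam.Ex.S2
open scoped commutatorElement

variable {D : ChevalleyDatum} {l : ℕ} {M : CoxeterMatrix (Fin l)} {p : ℕ} [Fact p.Prime]

theorem cj_comm {G : Type*} [Group G] {z a b : G} (h : a * b = b * a) :
    z * a * z⁻¹ * (z * b * z⁻¹) = z * b * z⁻¹ * (z * a * z⁻¹) := by
  rw [conj_mul, conj_mul, h]

/-- a toral set of elements of order `r` and an element of order `r` of a perfect group centralizing it -/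
theorem tor_perf (hp : IsType D l M) {r : ℕ} (hr : r.Prime) (hrp : r ≠ p) {Z : Set (YY D p)} (hfin : Z.Finite)
    {z : YY D p} (hZ : ∀ t ∈ Z, z * t * z⁻¹ ∈ TT D (kb p) ∧ t ^ r = 1) {J : Subgroup (YY D p)} (hJ : ⁅J, J⁆ = J)
    (hc : ∀ j ∈ J, ∀ t ∈ Z, j * t = t * j) {x : YY D p} (hx : x ∈ J) (hxr : x ^ r = 1) :
    ∃ g : YY D p, (∀ t ∈ Z, g * t * g⁻¹ ∈ TT D (kb p)) ∧ g * x * g⁻¹ ∈ TT D (kb p) := by
  have hsq : ∀ y : YY D p, y ^ r = 1 → (z * y * z⁻¹) ^ r ^ 1 = 1 := fun y hy => by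
    rw [pow_one, conj_pow, hy, mul_one, mul_inv_cancel]
  have hT : (fun t => z * t * z⁻¹) '' Z ⊆ TT D (kb p) := by
    rintro _ ⟨t, ht, rfl⟩
    exact (hZ t ht).1
  have h1 := chi_perf hp hr (Q := (fun t => z * t * z⁻¹) '' Z) (by
    rintro _ ⟨t, ht, rfl⟩
    exact ⟨(hZ t ht).1, 1, hsq t (hZ t ht).2⟩) (J := J.map (MulAut.conj z).toMonoidHom)
    (by rw [← map_commutator, hJ]) (by
    rintro _ ⟨j, hj, rfl⟩
    rw [mem_centralizer_iff]
    rintro _ ⟨t, ht, rfl⟩
    exact cj_comm (hc j hj t ht).symm)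
  have hQ : IsPGroup r (closure (insert (z * x * z⁻¹) ((fun t => z * t * z⁻¹) '' Z))) := DS.Nt.isPGroup_of_comm (by
    rintro a (rfl | ⟨a, ha, rfl⟩) b (rfl | ⟨b, hb, rfl⟩)
    · rfl
    · exact cj_comm (hc x hx b hb)
    · exact cj_comm (hc x hx a ha).symm
    · exact T_comm hp (hZ a ha).1 (hZ b hb).1) (by
    rintro a (rfl | ⟨a, ha, rfl⟩)
    · exact ⟨1, hsq x hxr⟩
    · exact ⟨1, hsq a (hZ a ha).2⟩)
  obtain ⟨g, hg⟩ := DS.Nt.toral_step (n := 1) hr hrp (hfin.image _) hT (DS.Nt.Mz_le_DZ (h1 ⟨x, hx, rfl⟩))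
    (hsq x hxr) hQ le_rfl
  refine ⟨g * z, fun t ht => ?_, ?_⟩
  · have h3 := hg _ (subset_closure (Or.inr ⟨t, ht, rfl⟩))
    rwa [show g * (z * t * z⁻¹) * g⁻¹ = g * z * t * (g * z)⁻¹ by group] at h3
  · have h3 := hg _ (subset_closure (Or.inl rfl))
    rwa [show g * (z * x * z⁻¹) * g⁻¹ = g * z * x * (g * z)⁻¹ by group] at h3

/-- a finite non-abelian simple group is perfect and has an element of prime order `r ≠ p` -/
theorem exists_elt (p : ℕ) [Fact p.Prime] (U : Type) [Group U] [Finite U] [IsSimpleGroup U] (hU : ¬ IsMulCommutative U) :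
    ⁅(⊤ : Subgroup U), (⊤ : Subgroup U)⁆ = ⊤ ∧ ∃ r : ℕ, r.Prime ∧ r ≠ p ∧ ∃ u : U, orderOf u = r := by
  have h0 : ∀ H : Subgroup U, center U = H → H ≠ ⊤ := fun H e h => hU ⟨⟨fun a b => by
    have : b ∈ center U := by rw [e, h]; trivial
    exact mem_center_iff.1 this a⟩⟩
  refine ⟨((inferInstance : (commutator U).Normal).eq_bot_or_eq_top).resolve_left fun h => h0 _ rfl ?_, ?_⟩
  · rw [eq_top_iff]
    intro a _
    refine mem_center_iff.2 fun b => ?_
    have h1 : ⁅b, a⁆ ∈ commutator U := commutator_mem_commutator trivial trivial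
    rw [h, mem_bot] at h1
    exact commutatorElement_eq_one_iff_mul_comm.1 h1
  by_contra hcon
  have hP : IsPGroup p U := by
    obtain ⟨n, hn⟩ : ∃ n, Nat.card U = p ^ n := ⟨_, Nat.eq_prime_pow_of_unique_prime_dvd Nat.card_pos.ne' fun {r} hr hd => by
      by_contra hne
      have := Fact.mk hr
      exact hcon ⟨r, hr, hne, exists_prime_orderOf_dvd_card' r hd⟩⟩
    exact IsPGroup.of_card hn
  have h1 := hP.center_nontrivial
  rcases (inferInstance : (center U).Normal).eq_bot_or_eq_top with h | h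
  · rw [h] at h1
    exact not_nontrivial _ h1
  · exact h0 _ h rfl

/-- the rank bounds the number of commuting simple factors -/
theorem le_rank (hp : IsType D l M) {U : Type} [Group U] [Finite U] [IsSimpleGroup U] (hU : ¬ IsMulCommutative U)
    {n : ℕ} (f : (Fin n → U) →* YY D p) (hf : Function.Injective f) : n ≤ l := by
  classical
  obtain ⟨hperf, r, hr, hrp, u, hu⟩ := exists_elt p U hU
  have hur : ∀ i : Fin n, f (Pi.mulSingle i u) ^ r = 1 := fun i => by
    rw [← map_pow, ← Pi.mulSingle_pow, ← hu, pow_orderOf_eq_one, Pi.mulSingle_one, map_one]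
  obtain ⟨g, hg⟩ : ∃ g : YY D p, ∀ i ∈ (Finset.univ : Finset (Fin n)), g * f (Pi.mulSingle i u) * g⁻¹ ∈ TT D (kb p) := by
    induction (Finset.univ : Finset (Fin n)) using Finset.induction_on with
    | empty => exact ⟨1, fun i hi => absurd hi (Finset.notMem_empty i)⟩
    | insert j s hj ih =>
      obtain ⟨z, hz⟩ := ih
      obtain ⟨g, h1, h2⟩ := tor_perf hp hr hrp (Z := (fun i => f (Pi.mulSingle i u)) '' (s : Set (Fin n)))
        (s.finite_toSet.image _) (z := z) (by rintro _ ⟨i, hi, rfl⟩; exact ⟨hz i hi, hur i⟩)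
        (J := (⊤ : Subgroup U).map (f.comp (MonoidHom.mulSingle (fun _ => U) j))) (by rw [← map_commutator, hperf])
        (by
          rintro _ ⟨v, -, rfl⟩ _ ⟨i, hi, rfl⟩
          exact ((Pi.mulSingle_commute (f := fun _ => U) (i := j) (j := i) (fun e => hj (e ▸ hi)) v u).map f).eq)
        (x := f (Pi.mulSingle j u)) ⟨u, trivial, rfl⟩ (hur j)
      refine ⟨g, fun i hi => ?_⟩
      rcases Finset.mem_insert.1 hi with rfl | hi
      · exact h2
      · exact h1 _ ⟨i, hi, rfl⟩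
  have hK : pi Set.univ (fun _ : Fin n => zpowers u) ≤ (TT D (kb p)).comap ((MulAut.conj g).toMonoidHom.comp f) := by
    refine pi_le_iff.2 fun i => ?_
    rw [MonoidHom.map_zpowers, zpowers_le]
    exact hg i (Finset.mem_univ i)
  obtain ⟨ζ, hζ⟩ := exists_zeta p (m := r) ((Nat.coprime_primes hr Fact.out).2 hrp)
  have : NeZero r := ⟨hr.ne_zero⟩
  have h1 : ∀ y : Fin n → zpowers u, g * f (fun i => y i) * g⁻¹ ∈ TT D (kb p) := fun y => hK fun i _ => (y i).2
  have h2 : ∀ y : Fin n → zpowers u, ∃ φ : Lat l →+ ZMod r, Chi hp ζ (g * f (fun i => y i) * g⁻¹) φ := fun y =>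
    chi_ex hp hζ hr.pos (h1 y) (by
      have h3 : (fun i => (y i : U)) ^ r = 1 := funext fun i => by
        obtain ⟨k, hk⟩ := (y i).2
        rw [Pi.pow_apply, ← hk, ← zpow_natCast, ← zpow_mul, mul_comm, zpow_mul, zpow_natCast, ← hu,
          pow_orderOf_eq_one, one_zpow, Pi.one_apply]
      rw [conj_pow, ← map_pow, h3, map_one, mul_one, mul_inv_cancel])
  choose φ hφ using h2
  have h3 := Nat.card_le_card_of_injective (fun (y : Fin n → zpowers u) (i : Fin l) => φ y (sr i)) fun y y' e => by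
    have h4 := cX_inj hp (h1 y) (h1 y') fun i => by
      rw [cX_sr, cX_sr, (hφ y).2 _ (rt_sr hp i), (hφ y').2 _ (rt_sr hp i), show φ y (sr i) = φ y' (sr i) from congrFun e i]
    have h5 := hf (mul_left_cancel (mul_right_cancel h4))
    exact funext fun i => Subtype.ext (congrFun h5 i)
  rw [Nat.card_fun, Nat.card_fun, Nat.card_zpowers, hu, Nat.card_zmod, Nat.card_eq_fintype_card,
    Nat.card_eq_fintype_card, Fintype.card_fin, Fintype.card_fin] at h3
  exact (Nat.pow_le_pow_iff_right hr.one_lt).1 h3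

/-- **`BoxU.rank`.** -/
theorem rank : ∀ (D : ChevalleyDatum) (l : ℕ) (M : CoxeterMatrix (Fin l)) (hp : IsType D l M), l ≤ 7 →
    ∀ (p : ℕ) [Fact p.Prime] (d : ℕ) (g0 : Lat l ≃+ Lat l) (L : Type) [Group L] [Finite L] (E : Frame hp p d g0 L),
    Rank7 L := by
  intro D l M hp hl p _ d g0 L _ _ E U _ _ _ hU f hf
  have := le_rank hp hU (E.ι.comp f) (E.inj.comp hf)
  omega

end Cfsg.Agent.Cam.Ex.Urk
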